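import Cfsg.Agent.Lib.Helper94.UTrans

set_option autoImplicit false

namespace Cfsg.Agent.Lib.Helper94

open scoped Matrix
open Cfsg

set_option linter.unusedSectionVars false
set_option linter.unnecessarySimpa false
set_option linter.style.haveILetI false
set_option linter.unusedVariables false

variable {ι : Type} [Fintype ι] [DecidableEq ι] {F : Type*} [Field F]

/-- Gram matrix of a form -/
def gram (f : (ι → F) → (ι → F) → F) : Matrix ι ι F :=
  fun i j => f (fun k => if i = k then 1 else 0) (fun k => if j = k then 1 else 0)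

lemma mulVec_ite (A : Matrix ι ι F) (i k : ι) : (A *ᵥ (fun m => if i = m then (1 : F) else 0)) k = A k i := by
  simp [Matrix.mulVec, dotProduct]

section uwitt
variable {σ : F ≃+* F} {f : (ι → F) → (ι → F) → F} (hf : Geo.IsUnitaryForm σ f)
include hf

lemma uf_expand_left (x y : ι → F) : f x y = ∑ i, x i * f (fun k => if i = k then 1 else 0) y := by
  have h := LinearMap.pi_apply_eq_sum_univ (ufL hf y) x
  simp only [ufL_apply, smul_eq_mul] at h
  exact h

lemma uf_expand_right (x y : ι → F) : f x y = ∑ j, σ (y j) * f x (fun k => if j = k then 1 else 0) := by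
  rw [uf_herm hf, uf_expand_left hf y x, map_sum]
  refine Finset.sum_congr rfl fun j _ => ?_
  rw [map_mul, ← uf_herm hf]

lemma uf_gram (x y : ι → F) : f x y = ∑ i, ∑ j, x i * σ (y j) * gram f i j := by
  rw [uf_expand_left hf]
  refine Finset.sum_congr rfl fun i _ => ?_
  rw [uf_expand_right hf, Finset.mul_sum]
  refine Finset.sum_congr rfl fun j _ => ?_
  unfold gram
  ring

lemma gram_isom (g : Matrix.GeneralLinearGroup ι F) (hg : IsIsom f g) :
    (g : Matrix ι ι F)ᵀ * gram f * (g : Matrix ι ι F).map σ = gram f := by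
  ext i j
  have h : f ((g : Matrix ι ι F) *ᵥ (fun k => if i = k then 1 else 0))
      ((g : Matrix ι ι F) *ᵥ (fun k => if j = k then 1 else 0)) = gram f i j := hg _ _
  rw [uf_gram hf] at h
  rw [← h]
  simp only [Matrix.mul_apply, Matrix.transpose_apply, Matrix.map_apply, mulVec_ite, Finset.sum_mul]
  rw [Finset.sum_comm]
  refine Finset.sum_congr rfl fun k _ => ?_
  refine Finset.sum_congr rfl fun l _ => ?_
  ring

lemma gram_det_ne : (gram f).det ≠ 0 := by
  intro h0
  obtain ⟨v, hv, hAv⟩ := Matrix.exists_mulVec_eq_zero_iff.2 h0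
  apply hv
  have hy : (fun j => σ (v j)) = (0 : ι → F) := by
    apply uf_ext_right hf
    intro x
    rw [uf_zero_right hf, uf_gram hf]
    refine Finset.sum_eq_zero fun i _ => ?_
    have h1 : ∑ j, x i * σ (σ (v j)) * gram f i j = x i * (gram f *ᵥ v) i := by
      rw [Matrix.mulVec, dotProduct, Finset.mul_sum]
      refine Finset.sum_congr rfl fun j _ => ?_
      rw [uf_inv hf]
      ring
    rw [h1, hAv, Pi.zero_apply, mul_zero]
  funext j
  have := congrFun hy j
  simp only [Pi.zero_apply] at this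
  exact (map_eq_zero σ).1 this

/-- the determinant of an isometry has norm one -/
lemma isom_det_norm (g : Matrix.GeneralLinearGroup ι F) (hg : IsIsom f g) :
    (g : Matrix ι ι F).det * σ (g : Matrix ι ι F).det = 1 := by
  have h := congrArg Matrix.det (gram_isom hf g hg)
  rw [Matrix.det_mul, Matrix.det_mul, Matrix.det_transpose] at h
  have h2 : ((g : Matrix ι ι F).map σ).det = σ (g : Matrix ι ι F).det :=
    (RingHom.map_det (σ : F →+* F) (g : Matrix ι ι F)).symm
  rw [h2] at h
  have h3 := gram_det_ne hf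
  have h4 : (gram f).det * ((g : Matrix ι ι F).det * σ (g : Matrix ι ι F).det - 1) = 0 := by
    linear_combination h
  rcases mul_eq_zero.1 h4 with h5 | h5
  · exact absurd h5 h3
  · exact sub_eq_zero.1 h5

/-- quasi-reflections -/
lemma exists_QR (v : ι → F) (ε : F) (hv : f v v ≠ 0) (hε : ε * σ ε = 1) :
    ∃ g : Matrix.GeneralLinearGroup ι F, (g : Matrix ι ι F).det = ε ∧ IsIsom f g ∧
      ∀ x, f x v = 0 → (g : Matrix ι ι F) *ᵥ x = x := by
  have hε0 : ε ≠ 0 := left_ne_zero_of_mul_eq_one hε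
  obtain ⟨μ, hμ⟩ : ∃ μ : F, μ = (ε - 1) / f v v := ⟨_, rfl⟩
  have h1 : 1 + (μ • ufL hf v) v = ε := by
    rw [LinearMap.smul_apply, ufL_apply, smul_eq_mul, hμ]
    field_simp
    ring
  obtain ⟨g, hg1, hg2⟩ := exists_rank_one (μ • ufL hf v) v (by rw [h1]; exact hε0)
  have hσμ : σ μ = (σ ε - 1) / f v v := by
    rw [hμ, map_div₀, map_sub, map_one, uf_self_fixed hf]
  refine ⟨g, by rw [hg1, h1], ?_, ?_⟩
  · intro x y
    rw [hg2, hg2]
    simp only [LinearMap.smul_apply, ufL_apply, smul_eq_mul]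
    rw [uf_add_left hf, uf_add_right hf, uf_add_right hf, uf_smul_left hf, uf_smul_left hf,
      uf_smul_right hf, uf_smul_right hf, map_mul, ← uf_herm hf v y, hσμ, hμ]
    field_simp
    linear_combination (f x v * f v y) * hε
  · intro x hx
    rw [hg2, LinearMap.smul_apply, ufL_apply, hx, smul_zero, zero_smul, add_zero]

/-- Witt's lemma for pairs, with determinant one -/
lemma witt_pair (hn : 4 < Fintype.card ι) (w a w' a' : ι → F) (h1 : LinearIndependent F ![w, a])
    (h2 : LinearIndependent F ![w', a']) (hww : f w' w' = f w w) (haa : f a' a' = f a a)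
    (hwa : f w' a' = f w a) :
    ∃ g : Matrix.GeneralLinearGroup ι F, IsIsom f g ∧ (g : Matrix ι ι F).det = 1 ∧
      (g : Matrix ι ι F) *ᵥ w = w' ∧ (g : Matrix ι ι F) *ᵥ a = a' := by
  have haw : f a' w' = f a w := by rw [uf_herm hf, hwa, ← uf_herm hf]
  obtain ⟨e, he, hxy⟩ := Cfsg.Agent.Lib.Helper8.witt_family_herm (σ : F →+* F) (uf_sigma_ne hf) (uf_inv hf)
    (ufB hf) (ufB_symm hf) (ufB_nondeg hf) 2 ![w, a] ![w', a'] h1 h2 (by
      intro i j
      fin_cases i <;> fin_cases j <;> simp [ufB_apply, hww, haa, hwa, haw])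
  have hg0 : IsIsom f (glOfLin e) := by
    intro x y
    rw [glOfLin_mulVec, glOfLin_mulVec]
    exact he y x
  have hd := isom_det_norm hf _ hg0
  obtain ⟨δ, hδ⟩ : ∃ δ : F, δ = (glOfLin e : Matrix ι ι F).det := ⟨_, rfl⟩
  rw [← hδ] at hd
  have hδ0 : δ ≠ 0 := left_ne_zero_of_mul_eq_one hd
  obtain ⟨v, hv, hvv⟩ := exists_nonisotropic_orth hf ![w', a'] (by simp; omega)
  have hvw : f v w' = 0 := by simpa using hv 0
  have hva : f v a' = 0 := by simpa using hv 1
  obtain ⟨r, hr1, hr2, hr3⟩ := exists_QR hf v δ⁻¹ hvv (by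
    rw [map_inv₀, ← mul_inv, hd, inv_one])
  refine ⟨r * glOfLin e, hr2.mul hg0, ?_, ?_, ?_⟩
  · rw [Units.val_mul, Matrix.det_mul, hr1, ← hδ, inv_mul_cancel₀ hδ0]
  · rw [Units.val_mul, ← Matrix.mulVec_mulVec, glOfLin_mulVec]
    have := hxy 0
    simp only [Matrix.cons_val_zero] at this
    rw [this]
    exact hr3 w' (uf_eq_zero_comm hf hvw)
  · rw [Units.val_mul, ← Matrix.mulVec_mulVec, glOfLin_mulVec]
    have := hxy 1
    simp only [Matrix.cons_val_one, Matrix.cons_val_zero] at this
    rw [this]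
    exact hr3 a' (uf_eq_zero_comm hf hva)

end uwitt

end Cfsg.Agent.Lib.Helper94
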