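import Cfsg.Agent.Lib.Helper94.OTrans
import Cfsg.Agent.Lib.Helper94.UWitt

set_option autoImplicit false

namespace Cfsg.Agent.Lib.Helper94

open scoped Matrix
open Cfsg

set_option linter.unusedSectionVars false
set_option linter.unnecessarySimpa false
set_option linter.style.haveILetI false
set_option linter.unusedVariables false

variable {ι : Type} [Fintype ι] [DecidableEq ι] {F : Type*} [Field F]

section owitt
variable {Q : (ι → F) → F} (hQ : Geo.IsNondegenerateQuadraticForm Q)
include hQ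

lemma pol_expand_left (x y : ι → F) :
    pol Q x y = ∑ i, x i * pol Q (fun k => if i = k then 1 else 0) y := by
  have h := LinearMap.pi_apply_eq_sum_univ (polL hQ y) x
  simp only [polL_apply, smul_eq_mul] at h
  exact h

lemma pol_expand_right (x y : ι → F) :
    pol Q x y = ∑ j, y j * pol Q x (fun k => if j = k then 1 else 0) := by
  rw [pol_comm, pol_expand_left hQ y x]
  refine Finset.sum_congr rfl fun j _ => ?_
  rw [pol_comm]

lemma pol_gram (x y : ι → F) : pol Q x y = ∑ i, ∑ j, x i * y j * gram (pol Q) i j := by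
  rw [pol_expand_left hQ]
  refine Finset.sum_congr rfl fun i _ => ?_
  rw [pol_expand_right hQ, Finset.mul_sum]
  refine Finset.sum_congr rfl fun j _ => ?_
  unfold gram
  ring

lemma pgram_isom (g : Matrix.GeneralLinearGroup ι F) (hg : g ∈ isometryGroup F Q) :
    (g : Matrix ι ι F)ᵀ * gram (pol Q) * (g : Matrix ι ι F) = gram (pol Q) := by
  ext i j
  have h : pol Q ((g : Matrix ι ι F) *ᵥ (fun k => if i = k then 1 else 0))
      ((g : Matrix ι ι F) *ᵥ (fun k => if j = k then 1 else 0)) = gram (pol Q) i j := isom_pol hg _ _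
  rw [pol_gram hQ] at h
  rw [← h]
  simp only [Matrix.mul_apply, Matrix.transpose_apply, mulVec_ite, Finset.sum_mul]
  rw [Finset.sum_comm]
  refine Finset.sum_congr rfl fun k _ => ?_
  refine Finset.sum_congr rfl fun l _ => ?_
  ring

lemma pgram_det_ne : (gram (pol Q)).det ≠ 0 := by
  intro h0
  obtain ⟨v, hv, hAv⟩ := Matrix.exists_mulVec_eq_zero_iff.2 h0
  apply hv
  apply pol_ext_right hQ
  intro x
  rw [pol_zero_right hQ, pol_gram hQ]
  refine Finset.sum_eq_zero fun i _ => ?_
  have h1 : ∑ j, x i * v j * gram (pol Q) i j = x i * (gram (pol Q) *ᵥ v) i := by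
    rw [Matrix.mulVec, dotProduct, Finset.mul_sum]
    refine Finset.sum_congr rfl fun j _ => ?_
    ring
  rw [h1, hAv, Pi.zero_apply, mul_zero]

/-- the determinant of an isometry is `±1` -/
lemma isom_det_sq (g : Matrix.GeneralLinearGroup ι F) (hg : g ∈ isometryGroup F Q) :
    (g : Matrix ι ι F).det = 1 ∨ (g : Matrix ι ι F).det = -1 := by
  have h := congrArg Matrix.det (pgram_isom hQ g hg)
  rw [Matrix.det_mul, Matrix.det_mul, Matrix.det_transpose] at h
  have h3 := pgram_det_ne hQ
  have h4 : (gram (pol Q)).det * (((g : Matrix ι ι F).det - 1) * ((g : Matrix ι ι F).det + 1)) = 0 := by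
    linear_combination h
  rcases mul_eq_zero.1 h4 with h5 | h5
  · exact absurd h5 h3
  · rcases mul_eq_zero.1 h5 with h6 | h6
    · left; exact sub_eq_zero.1 h6
    · right; exact eq_neg_of_add_eq_zero_left h6

/-- reflections have determinant `-1` -/
lemma rGL_det (h2 : (2 : F) ≠ 0) (u : ι → F) (hu : Q u ≠ 0) : (rGL hQ u hu : Matrix ι ι F).det = -1 := by
  have h1 : 1 + ((-(Q u)⁻¹) • polL hQ u) u = -1 := by
    rw [LinearMap.smul_apply, polL_apply, smul_eq_mul, pol_self hQ]
    field_simp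
    ring
  obtain ⟨g, hg1, hg2⟩ := exists_rank_one ((-(Q u)⁻¹) • polL hQ u) u (by
    rw [h1]; exact neg_ne_zero.2 one_ne_zero)
  have e : rGL hQ u hu = g := by
    apply GL_ext
    intro x
    rw [rGL_mulVec, hg2, LinearMap.smul_apply, polL_apply, smul_eq_mul, neg_mul, neg_smul, sub_eq_add_neg]
  rw [e, hg1, h1]

/-- Witt's lemma for small families, with determinant one -/
lemma witt_fin_det1 (h2 : (2 : F) ≠ 0) {k : ℕ} (hk : 2 * k < Fintype.card ι) (x y : Fin k → (ι → F))
    (hx : LinearIndependent F x) (hy : LinearIndependent F y) (hQxy : ∀ i, Q (y i) = Q (x i))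
    (hxy : ∀ i j, pol Q (y i) (y j) = pol Q (x i) (x j)) :
    ∃ g : Matrix.GeneralLinearGroup ι F, g ∈ isometryGroup F Q ∧ (g : Matrix ι ι F).det = 1 ∧
      ∀ i, (g : Matrix ι ι F) *ᵥ (x i) = y i := by
  obtain ⟨e, he, hexy⟩ := Cfsg.Agent.Lib.Helper8.witt_family_quad (QF hQ) (QF_nondeg hQ) k x y hx hy hQxy hxy
  have hg0 : glOfLin e ∈ isometryGroup F Q := by
    rw [mem_isom]
    intro u
    rw [glOfLin_mulVec]
    exact he u
  rcases isom_det_sq hQ _ hg0 with hd | hd
  · refine ⟨glOfLin e, hg0, hd, fun i => ?_⟩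
    rw [glOfLin_mulVec]; exact hexy i
  · obtain ⟨v, hv, hvQ⟩ := exists_nonsingular_orth_fin hQ y hk
    refine ⟨rGL hQ v hvQ * glOfLin e, (isometryGroup F Q).mul_mem (rGL_mem_isom hQ v hvQ) hg0, ?_, fun i => ?_⟩
    · rw [Units.val_mul, Matrix.det_mul, rGL_det hQ h2, hd]; ring
    · rw [Units.val_mul, ← Matrix.mulVec_mulVec, glOfLin_mulVec, hexy i, rGL_mulVec, pol_comm, hv i, mul_zero,
        zero_smul, sub_zero]

end owitt

end Cfsg.Agent.Lib.Helper94
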