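import Mathlib
import Cfsg.Prelude.Def_Classical

/-!
# Element orders in the standard orthogonal groups: the predicates `HasPlus` and `HasMinus`
-/

set_option autoImplicit false

namespace Cfsg.Agent.Lib.Helper94.Iso8

/-- the isometry group of the standard plus-type form in dimension `2k` has an element of
order `N` -/
def HasPlus (F : Type*) [Field F] (k N : ℕ) : Prop :=
  ∃ g : ↥(Cfsg.isometryGroup F (Cfsg.quadFormPlus k F)), orderOf g = N

/-- the isometry group of the form `Σ x_i y_i + (z₁² + a z₁ z₂ + b z₂²)` in dimension `2m+2` has an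
element of order `N` -/
def HasMinus (F : Type*) [Field F] (a b : F) (m N : ℕ) : Prop :=
  ∃ g : ↥(Cfsg.isometryGroup F (Cfsg.quadFormMinus m F a b)), orderOf g = N

end Cfsg.Agent.Lib.Helper94.Iso8
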