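import Mathlib
import Cfsg.Agent.Lib.Helper43.OrthCard
import Cfsg.Agent.Lib.Helper94.Iso8Defs

/-!
# Orthogonal transvections in characteristic 2, fixed spaces, and the data tracked for the
Dickson invariant
-/

set_option autoImplicit false

namespace Cfsg.Agent.Lib.Helper94.Iso8

open Module QuadraticMap Cfsg.Agent.Lib.Helper43

section abs
variable {F : Type*} [Field F] {V : Type*} [AddCommGroup V] [Module F V]

/-- the fixed space of a linear automorphism -/
def fixSub (g : V ≃ₗ[F] V) : Submodule F V := LinearMap.ker ((g : V →ₗ[F] V) - LinearMap.id)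

theorem mem_fixSub (g : V ≃ₗ[F] V) (x : V) : x ∈ fixSub g ↔ g x = x := by
  unfold fixSub
  rw [LinearMap.mem_ker, LinearMap.sub_apply, LinearMap.id_apply, sub_eq_zero]
  rfl

/-- the orthogonal transvection `x ↦ x + Q(v)⁻¹ B(v, x) v` as a linear map -/
noncomputable def otvLin (Q : QuadraticForm F V) (v : V) : V →ₗ[F] V :=
  LinearMap.id + ((Q v)⁻¹ • polarBilin Q v).smulRight v

theorem otvLin_apply (Q : QuadraticForm F V) (v x : V) :
    otvLin Q v x = x + ((Q v)⁻¹ * polar Q v x) • v := by
  simp [otvLin]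

theorem otvLin_otvLin (h2 : (2 : F) = 0) (Q : QuadraticForm F V) (v x : V) :
    otvLin Q v (otvLin Q v x) = x := by
  have hvv : polar Q v v = 0 := by
    rw [polar_self, two_smul, ← two_mul, h2, zero_mul]
  rw [otvLin_apply, otvLin_apply, polar_add_right, polar_smul_right, hvv, smul_eq_mul, mul_zero,
    add_zero, add_assoc, ← add_smul, ← two_mul, h2, zero_mul, zero_smul, add_zero]

theorem otvLin_isometry (h2 : (2 : F) = 0) (Q : QuadraticForm F V) (v : V) (hv : Q v ≠ 0) (x : V) :
    Q (otvLin Q v x) = Q x := by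
  rw [otvLin_apply, QuadraticMap.map_add (⇑Q), QuadraticMap.map_smul, polar_smul_right, smul_eq_mul,
    smul_eq_mul, polar_comm Q x v]
  field_simp
  linear_combination (polar Q v x ^ 2) * h2

/-- the orthogonal transvection as an element of the isometry group -/
noncomputable def otv (h2 : (2 : F) = 0) (Q : QuadraticForm F V) (v : V) (hv : Q v ≠ 0) : OG Q :=
  ⟨LinearEquiv.ofBijective (otvLin Q v)
      (Function.Involutive.bijective (otvLin_otvLin h2 Q v)),
    fun x => otvLin_isometry h2 Q v hv x⟩

theorem otv_apply (h2 : (2 : F) = 0) (Q : QuadraticForm F V) (v : V) (hv : Q v ≠ 0) (x : V) :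
    (otv h2 Q v hv).1 x = x + ((Q v)⁻¹ * polar Q v x) • v :=
  otvLin_apply Q v x

/-- the set of orthogonal transvections -/
def reflSet (h2 : (2 : F) = 0) (Q : QuadraticForm F V) : Set (OG Q) :=
  {t | ∃ (v : V) (hv : Q v ≠ 0), t = otv h2 Q v hv}

end abs

section mat
variable {F : Type*} [Field F] {ι : Type} [Fintype ι] [DecidableEq ι]

/-- the dimension of the fixed space of a matrix -/
noncomputable def fixdim (A : Matrix ι ι F) : ℕ :=
  finrank F (LinearMap.ker (Matrix.toLin' A - 1))

/-- the norm sum `1 + A + ... + A^(n-1)` -/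
def nsum (A : Matrix ι ι F) (n : ℕ) : Matrix ι ι F := ∑ i ∈ Finset.range n, A ^ i

/-- the matrix of an element of an isometry group -/
def matOf {Q : (ι → F) → F} (g : ↥(Cfsg.isometryGroup F Q)) : Matrix ι ι F :=
  ((g : Matrix.GeneralLinearGroup ι F) : Matrix ι ι F)

end mat

end Cfsg.Agent.Lib.Helper94.Iso8
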