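import Cfsg.Prelude.Def_GeometricClasses

set_option autoImplicit false

namespace Cfsg.Agent.Lib.Helper94

open scoped Matrix
open Cfsg

set_option linter.unusedSectionVars false
set_option linter.unnecessarySimpa false
set_option linter.style.haveILetI false
set_option linter.unusedVariables false

variable {ι : Type} [Fintype ι] [DecidableEq ι] {F : Type*} [Field F]

/-- the polar form -/
abbrev pol (Q : (ι → F) → F) (x y : ι → F) : F := QuadraticMap.polar Q x y

lemma pol_def (Q : (ι → F) → F) (x y : ι → F) : pol Q x y = Q (x + y) - Q x - Q y := rfl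

lemma Q_add (Q : (ι → F) → F) (x y : ι → F) : Q (x + y) = Q x + Q y + pol Q x y := by
  rw [pol_def]; ring

lemma pol_comm (Q : (ι → F) → F) (x y : ι → F) : pol Q x y = pol Q y x :=
  QuadraticMap.polar_comm Q x y

section basic
variable {Q : (ι → F) → F} (hQ : Geo.IsNondegenerateQuadraticForm Q)
include hQ

lemma pol_add_left (x y v : ι → F) : pol Q (x + y) v = pol Q x v + pol Q y v :=
  hQ.polar_bilinear.add_left x y v

lemma pol_smul_left (c : F) (x v : ι → F) : pol Q (c • x) v = c * pol Q x v :=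
  hQ.polar_bilinear.smul_left c x v

lemma pol_add_right (v x y : ι → F) : pol Q v (x + y) = pol Q v x + pol Q v y :=
  hQ.polar_bilinear.add_right v x y

lemma pol_smul_right (c : F) (v x : ι → F) : pol Q v (c • x) = c * pol Q v x :=
  hQ.polar_bilinear.smul_right c v x

lemma pol_zero_left (v : ι → F) : pol Q 0 v = 0 := by
  have := pol_smul_left hQ 0 v v
  simpa using this

lemma pol_zero_right (v : ι → F) : pol Q v 0 = 0 := by
  rw [pol_comm]; exact pol_zero_left hQ v

lemma pol_neg_left (x v : ι → F) : pol Q (-x) v = - pol Q x v := by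
  have := pol_smul_left hQ (-1) x v
  simpa using this

lemma pol_neg_right (v x : ι → F) : pol Q v (-x) = - pol Q v x := by
  rw [pol_comm, pol_neg_left hQ, pol_comm]

lemma pol_sub_left (x y v : ι → F) : pol Q (x - y) v = pol Q x v - pol Q y v := by
  rw [sub_eq_add_neg, pol_add_left hQ, pol_neg_left hQ, sub_eq_add_neg]

lemma pol_sub_right (v x y : ι → F) : pol Q v (x - y) = pol Q v x - pol Q v y := by
  rw [sub_eq_add_neg, pol_add_right hQ, pol_neg_right hQ, sub_eq_add_neg]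

lemma Q_smul (c : F) (v : ι → F) : Q (c • v) = c ^ 2 * Q v := hQ.smul c v

lemma Q_zero : Q 0 = 0 := by
  have := hQ.smul 0 0
  simpa using this

lemma Q_neg (v : ι → F) : Q (-v) = Q v := by
  have := hQ.smul (-1) v
  simpa using this

lemma pol_self (v : ι → F) : pol Q v v = 2 * Q v := by
  have h1 := Q_add Q v v
  have h2 := hQ.smul 2 v
  rw [two_smul] at h2
  rw [h2] at h1
  linear_combination -h1

lemma Q_sub (x y : ι → F) : Q (x - y) = Q x + Q y - pol Q x y := by
  rw [sub_eq_add_neg, Q_add Q, Q_neg hQ, pol_neg_right hQ]; ring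

/-- the reflection in `u` as a linear map -/
noncomputable def refl (u : ι → F) : (ι → F) →ₗ[F] (ι → F) where
  toFun x := x - ((Q u)⁻¹ * pol Q x u) • u
  map_add' x y := by
    rw [pol_add_left hQ, mul_add, add_smul]; abel
  map_smul' c x := by
    simp only [RingHom.id_apply]
    rw [pol_smul_left hQ, smul_sub, smul_smul]
    congr 2
    ring

lemma refl_apply (u x : ι → F) : refl hQ u x = x - ((Q u)⁻¹ * pol Q x u) • u := rfl

lemma refl_refl {u : ι → F} (hu : Q u ≠ 0) (x : ι → F) : refl hQ u (refl hQ u x) = x := by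
  rw [refl_apply hQ u (refl hQ u x), refl_apply, pol_sub_left hQ, pol_smul_left hQ, pol_self hQ]
  have : (Q u)⁻¹ * (pol Q x u - (Q u)⁻¹ * pol Q x u * (2 * Q u)) = - ((Q u)⁻¹ * pol Q x u) := by
    field_simp
    ring
  rw [this, neg_smul]
  abel

lemma Q_refl {u : ι → F} (hu : Q u ≠ 0) (x : ι → F) : Q (refl hQ u x) = Q x := by
  rw [refl_apply, Q_sub hQ, Q_smul hQ, pol_smul_right hQ]
  field_simp
  ring

/-- the reflection as an invertible matrix -/
noncomputable def rGL (u : ι → F) (hu : Q u ≠ 0) : Matrix.GeneralLinearGroup ι F :=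
  ⟨LinearMap.toMatrix' (refl hQ u), LinearMap.toMatrix' (refl hQ u),
    by rw [← LinearMap.toMatrix'_mul, ← LinearMap.toMatrix'_one]; congr 1
       exact LinearMap.ext fun x => refl_refl hQ hu x,
    by rw [← LinearMap.toMatrix'_mul, ← LinearMap.toMatrix'_one]; congr 1
       exact LinearMap.ext fun x => refl_refl hQ hu x⟩

lemma rGL_mulVec (u : ι → F) (hu : Q u ≠ 0) (x : ι → F) :
    (rGL hQ u hu : Matrix ι ι F) *ᵥ x = x - ((Q u)⁻¹ * pol Q x u) • u := by
  show LinearMap.toMatrix' (refl hQ u) *ᵥ x = _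
  rw [LinearMap.toMatrix'_mulVec, refl_apply]

lemma rGL_inv (u : ι → F) (hu : Q u ≠ 0) : (rGL hQ u hu)⁻¹ = rGL hQ u hu := rfl

end basic

lemma mem_isom {Q : (ι → F) → F} (g : Matrix.GeneralLinearGroup ι F) :
    g ∈ isometryGroup F Q ↔ ∀ u, Q ((g : Matrix ι ι F) *ᵥ u) = Q u := by
  constructor
  · intro hg u; exact hg u u
  · intro hg u _; exact hg u

lemma GL_ext (g h : Matrix.GeneralLinearGroup ι F)
    (H : ∀ x, (g : Matrix ι ι F) *ᵥ x = (h : Matrix ι ι F) *ᵥ x) : g = h := by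
  apply Units.ext
  apply Matrix.toLin'.injective
  apply LinearMap.ext
  intro x
  rw [Matrix.toLin'_apply, Matrix.toLin'_apply]
  exact H x

lemma inv_mulVec_mulVec (g : Matrix.GeneralLinearGroup ι F) (x : ι → F) :
    ((g⁻¹ : Matrix.GeneralLinearGroup ι F) : Matrix ι ι F) *ᵥ ((g : Matrix ι ι F) *ᵥ x) = x := by
  rw [Matrix.mulVec_mulVec, ← Units.val_mul, inv_mul_cancel, Units.val_one, Matrix.one_mulVec]

lemma mulVec_inv_mulVec (g : Matrix.GeneralLinearGroup ι F) (x : ι → F) :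
    (g : Matrix ι ι F) *ᵥ (((g⁻¹ : Matrix.GeneralLinearGroup ι F) : Matrix ι ι F) *ᵥ x) = x := by
  rw [Matrix.mulVec_mulVec, ← Units.val_mul, mul_inv_cancel, Units.val_one, Matrix.one_mulVec]

section omega
variable {Q : (ι → F) → F} (hQ : Geo.IsNondegenerateQuadraticForm Q)
include hQ

lemma rGL_mem_isom (u : ι → F) (hu : Q u ≠ 0) : rGL hQ u hu ∈ isometryGroup F Q := by
  rw [mem_isom]
  intro x
  rw [rGL_mulVec, ← refl_apply hQ, Q_refl hQ hu]

omit hQ in
lemma isom_pol {g : Matrix.GeneralLinearGroup ι F} (hg : g ∈ isometryGroup F Q) (x y : ι → F) :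
    pol Q ((g : Matrix ι ι F) *ᵥ x) ((g : Matrix ι ι F) *ᵥ y) = pol Q x y := by
  rw [mem_isom] at hg
  rw [pol_def, pol_def, ← Matrix.mulVec_add, hg, hg, hg]

lemma conj_rGL {g : Matrix.GeneralLinearGroup ι F} (hg : g ∈ isometryGroup F Q) (u : ι → F) (hu : Q u ≠ 0)
    (hgu : Q ((g : Matrix ι ι F) *ᵥ u) ≠ 0) :
    g * rGL hQ u hu * g⁻¹ = rGL hQ ((g : Matrix ι ι F) *ᵥ u) hgu := by
  apply GL_ext
  intro x
  rw [Units.val_mul, Units.val_mul, ← Matrix.mulVec_mulVec, ← Matrix.mulVec_mulVec, rGL_mulVec, rGL_mulVec,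
    Matrix.mulVec_sub, Matrix.mulVec_smul, mulVec_inv_mulVec, (mem_isom g).1 hg u]
  congr 3
  rw [← isom_pol hg, mulVec_inv_mulVec]

omit hQ in
lemma omega_le_isom : Geo.omegaGL Q ≤ isometryGroup F Q := by
  unfold Geo.omegaGL
  exact Subgroup.map_subtype_le _

omit hQ in
lemma comm_mem_omega {g h : Matrix.GeneralLinearGroup ι F} (hg : g ∈ isometryGroup F Q)
    (hh : h ∈ isometryGroup F Q) : g * h * g⁻¹ * h⁻¹ ∈ Geo.omegaGL Q := by
  unfold Geo.omegaGL
  let a : isometryGroup F Q := ⟨g, hg⟩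
  let b : isometryGroup F Q := ⟨h, hh⟩
  refine ⟨a * b * a⁻¹ * b⁻¹, ?_, ?_⟩
  · have := Subgroup.commutator_mem_commutator (Subgroup.mem_top a) (Subgroup.mem_top b)
    rwa [commutatorElement_def] at this
  · simp [a, b]

lemma rr_mem_omega (u w : ι → F) (hu : Q u ≠ 0) (hw : Q w ≠ 0) (huw : Q w = Q u) (hd : Q (u - w) ≠ 0) :
    rGL hQ u hu * rGL hQ w hw ∈ Geo.omegaGL Q := by
  have h1 : (rGL hQ (u - w) hd : Matrix ι ι F) *ᵥ u = w := by
    rw [rGL_mulVec, pol_sub_right hQ, pol_self hQ, Q_sub hQ, huw]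
    have : (Q u + Q u - pol Q u w)⁻¹ * (2 * Q u - pol Q u w) = 1 := by
      have hne : Q u + Q u - pol Q u w ≠ 0 := by
        have := hd; rw [Q_sub hQ, huw] at this; exact this
      rw [two_mul]; exact inv_mul_cancel₀ hne
    rw [this, one_smul]; abel
  have h2 := conj_rGL hQ (rGL_mem_isom hQ (u - w) hd) u hu (by rw [h1]; exact hw)
  have h3 : rGL hQ w hw = rGL hQ (u - w) hd * rGL hQ u hu * (rGL hQ (u - w) hd)⁻¹ := by
    rw [h2]; congr 1; exact h1.symm
  have h4 := comm_mem_omega (rGL_mem_isom hQ u hu) (rGL_mem_isom hQ (u - w) hd)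
  rw [rGL_inv hQ u hu] at h4
  rw [h3, ← mul_assoc, ← mul_assoc]
  exact h4

end omega

end Cfsg.Agent.Lib.Helper94
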