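import Mathlib
import Cfsg.Agent.Lib.Helper20.SuGrp
import Cfsg.Prelude.Def_Classical
import Cfsg.Agent.Lib.Helper44.SURegUnip

set_option autoImplicit false
set_option linter.style.haveILetI false
set_option linter.unusedSimpArgs false
set_option linter.unusedSectionVars false

/-!
# SU-A : the special unitary group of the antidiagonal form covers `PSU_n(q)`
-/

namespace Cfsg.Agent.Lib.Helper20.SuF

open Matrix Subgroup Cfsg.Agent.Lib.Helper20.PslF Cfsg.Agent.Lib.Helper44
  Cfsg.Agent.Lib.Helper44.SUReg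

section

variable {K : Type*} [Field K] [Fintype K] {q : ℕ}

/-- the Frobenius `x ↦ x ^ q` as a ring homomorphism -/
noncomputable def a_frob (hK : Fintype.card K = q ^ 2) : K →+* K where
  toFun x := x ^ q
  map_one' := one_pow q
  map_mul' x y := mul_pow x y q
  map_zero' := zero_pow (q_ne_zero hK)
  map_add' := frobK_add hK

theorem a_frob_apply (hK : Fintype.card K = q ^ 2) (x : K) : a_frob hK x = x ^ q := rfl

/-- the involution datum of a field with `q²` elements -/
noncomputable def a_Inv (hK : Fintype.card K = q ^ 2) : Inv K where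
  sg := a_frob hK
  invol x := by rw [a_frob_apply, a_frob_apply]; exact frobK_frobK hK x
  nontriv := by
    obtain ⟨t, ht⟩ := exists_pow_ne (K := K) hK
    exact ⟨t, by rw [a_frob_apply]; exact ht⟩
  tr_surj x hx := by
    rw [a_frob_apply] at hx
    obtain ⟨l, hl⟩ := exists_trace_one (K := K) hK
    refine ⟨x * l, ?_⟩
    rw [a_frob_apply, mul_pow, hx, ← mul_add, hl, mul_one]
  nm_surj x hx0 hx := by
    rw [a_frob_apply] at hx
    obtain ⟨c, hc⟩ := exists_norm_eq hK x hx0 hx
    refine ⟨c, ?_⟩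
    rw [a_frob_apply, ← pow_succ', hc]

theorem a_Inv_sg (hK : Fintype.card K = q ^ 2) (x : K) : (a_Inv hK).sg x = x ^ q := rfl

/-- the adjoint is the `Jm`-twisted conjugate transpose -/
theorem a_adj_eq (hK : Fintype.card K = q ^ 2) {n : ℕ} (M : Matrix (Fin n) (Fin n) K) :
    adj (a_Inv hK) M = Jm K n * dag q M * Jm K n := by
  ext i j
  rw [adj_apply, a_Inv_sg, mul_Jm, Jm_mul, dag_apply]

theorem a_Jm_mul_Jm {n : ℕ} : Jm K n * Jm K n = 1 := by
  ext i j
  rw [mul_Jm, Matrix.one_apply]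
  unfold Jm
  rw [Matrix.of_apply, Fin.rev_rev]

/-- a Witt matrix: `dag P * P = Jm` -/
theorem a_exists_witt (hK : Fintype.card K = q ^ 2) (n : ℕ) :
    ∃ P P' : Matrix (Fin n) (Fin n) K, P * P' = 1 ∧ P' * P = 1 ∧ dag q P * P = Jm K n := by
  have hq := q_ne_zero hK
  obtain ⟨Θ, hΘ⟩ := exists_herm_coords hK (Fin n → K) (HJ q n) (isHermSpace_HJ hK) n
    (by rw [Module.finrank_fintype_fun_eq_card, Fintype.card_fin])
  set P := LinearMap.toMatrix' (Θ : (Fin n → K) →ₗ[K] (Fin n → K)) with hP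
  set P' := LinearMap.toMatrix' (Θ.symm : (Fin n → K) →ₗ[K] (Fin n → K)) with hP'
  have hPP' : P * P' = 1 := by
    rw [hP, hP', ← LinearMap.toMatrix'_comp]
    have : (Θ : (Fin n → K) →ₗ[K] (Fin n → K)) ∘ₗ (Θ.symm : (Fin n → K) →ₗ[K] (Fin n → K)) =
        LinearMap.id := by
      ext x
      simp
    rw [this, LinearMap.toMatrix'_id]
  have hP'P : P' * P = 1 := mul_eq_one_comm.mp hPP'
  have hPmul : ∀ x : Fin n → K, P *ᵥ x = Θ x := by
    intro x
    rw [hP, LinearMap.toMatrix'_mulVec]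
    rfl
  refine ⟨P, P', hPP', hP'P, ?_⟩
  ext i j
  have h1 := hΘ (Pi.single j 1) (Pi.single i 1)
  rw [← hPmul, ← hPmul, Matrix.mulVec_single_one, Matrix.mulVec_single_one] at h1
  rw [Matrix.mul_apply]
  have h2 : ∑ k, dag q P i k * P k j = Cfsg.hermForm n K q (P.col j) (P.col i) := by
    unfold Cfsg.hermForm
    refine Finset.sum_congr rfl fun k _ => ?_
    rw [dag_apply, mul_comm]
    rfl
  rw [h2, h1]
  unfold HJ
  rw [Finset.sum_eq_single j]
  · simp only [Pi.single_eq_same, one_mul, Jm, Matrix.of_apply]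
    by_cases h : i = Fin.rev j
    · rw [if_pos h, h, Pi.single_eq_same, one_pow]
    · rw [if_neg h, Pi.single_eq_of_ne (Ne.symm h), zero_pow hq]
  · intro k _ hk
    rw [Pi.single_eq_of_ne hk, zero_mul]
  · intro h'; exact absurd (Finset.mem_univ _) h'

/-- membership in `SUJ` as `dag g * Jm * g = Jm` -/
theorem a_mem_SUJ_iff (hK : Fintype.card K = q ^ 2) {n : ℕ} (g : SLn n K) :
    g ∈ SUJ (n := n) (a_Inv hK) ↔ dag q (mt g) * Jm K n * mt g = Jm K n := by
  rw [mem_SUJ, a_adj_eq]
  constructor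
  · intro h
    calc dag q (mt g) * Jm K n * mt g
        = (Jm K n * Jm K n) * (dag q (mt g) * Jm K n * mt g) := by rw [a_Jm_mul_Jm, Matrix.one_mul]
      _ = Jm K n * (Jm K n * dag q (mt g) * Jm K n * mt g) := by noncomm_ring
      _ = Jm K n := by rw [h, Matrix.mul_one]
  · intro h
    calc Jm K n * dag q (mt g) * Jm K n * mt g
        = Jm K n * (dag q (mt g) * Jm K n * mt g) := by noncomm_ring
      _ = 1 := by rw [h, a_Jm_mul_Jm]

/-- membership in `SU` as `dag g * g = 1` -/
theorem a_mem_SU_iff (hK : Fintype.card K = q ^ 2) {n : ℕ} (g : SLn n K) :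
    g ∈ Cfsg.SU n K q ↔ dag q (mt g) * mt g = 1 := by
  rw [← crit_iff_dag, ← GUFA.isHermIso_iff_crit hK]
  rfl

/-- conjugation by an invertible matrix on `SL_n` -/
def a_conj {n : ℕ} (P P' : Matrix (Fin n) (Fin n) K) (h : P * P' = 1) : SLn n K →* SLn n K where
  toFun g := ⟨P * mt g * P', by
    rw [Matrix.det_mul, Matrix.det_mul, mt_det, mul_one, ← Matrix.det_mul, h, Matrix.det_one]⟩
  map_one' := by
    apply mt_ext
    show P * mt (1 : SLn n K) * P' = 1
    rw [mt_one, Matrix.mul_one, h]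
  map_mul' g g' := by
    apply mt_ext
    show P * mt (g * g') * P' = (P * mt g * P') * (P * mt g' * P')
    have h' : P' * P = 1 := mul_eq_one_comm.mp h
    rw [mt_mul]
    calc P * (mt g * mt g') * P' = P * mt g * 1 * mt g' * P' := by noncomm_ring
      _ = P * mt g * (P' * P) * mt g' * P' := by rw [h']
      _ = _ := by noncomm_ring

theorem a_mt_conj {n : ℕ} (P P' : Matrix (Fin n) (Fin n) K) (h : P * P' = 1) (g : SLn n K) :
    mt (a_conj P P' h g) = P * mt g * P' := rfl

theorem a_conj_conj {n : ℕ} (P P' : Matrix (Fin n) (Fin n) K) (h : P * P' = 1) (h' : P' * P = 1)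
    (g : SLn n K) : a_conj P' P h' (a_conj P P' h g) = g := by
  apply mt_ext
  rw [a_mt_conj, a_mt_conj]
  calc P' * (P * mt g * P') * P = (P' * P) * mt g * (P' * P) := by noncomm_ring
    _ = mt g := by rw [h', Matrix.one_mul, Matrix.mul_one]

theorem a_conj_mem_SU (hK : Fintype.card K = q ^ 2) {n : ℕ} (P P' : Matrix (Fin n) (Fin n) K)
    (h : P * P' = 1) (hJ : dag q P * P = Jm K n) {g : SLn n K}
    (hg : g ∈ SUJ (n := n) (a_Inv hK)) : a_conj P P' h g ∈ Cfsg.SU n K q := by
  rw [a_mem_SU_iff hK, a_mt_conj]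
  rw [a_mem_SUJ_iff hK] at hg
  rw [dag_mul hK, dag_mul hK]
  calc dag q P' * (dag q (mt g) * dag q P) * (P * mt g * P')
      = dag q P' * (dag q (mt g) * (dag q P * P) * mt g) * P' := by noncomm_ring
    _ = dag q P' * (dag q P * P) * P' := by rw [hJ, hg]
    _ = dag q (P * P') * (P * P') := by rw [dag_mul hK]; noncomm_ring
    _ = 1 := by rw [h, dag_one (q_ne_zero hK), Matrix.one_mul]

theorem a_conj_mem_SUJ (hK : Fintype.card K = q ^ 2) {n : ℕ} (P P' : Matrix (Fin n) (Fin n) K)
    (h : P * P' = 1) (h' : P' * P = 1) (hJ : dag q P * P = Jm K n) {g : SLn n K}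
    (hg : g ∈ Cfsg.SU n K q) : a_conj P' P h' g ∈ SUJ (n := n) (a_Inv hK) := by
  rw [a_mem_SUJ_iff hK, a_mt_conj]
  rw [a_mem_SU_iff hK] at hg
  rw [dag_mul hK, dag_mul hK, ← hJ]
  calc dag q P * (dag q (mt g) * dag q P') * (dag q P * P) * (P' * mt g * P)
      = dag q P * dag q (mt g) * (dag q P' * dag q P) * (P * P') * mt g * P := by noncomm_ring
    _ = dag q P * (dag q (mt g) * mt g) * P := by
        have e : dag q P' * dag q P = 1 := by rw [← dag_mul hK, h, dag_one (q_ne_zero hK)]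
        rw [e, h]; noncomm_ring
    _ = dag q P * P := by rw [hg, Matrix.mul_one]

end

/-- SU-A -/
theorem exists_inv_cover {K : Type*} [Field K] [Fintype K] {q : ℕ}
    (hK : Fintype.card K = q ^ 2) (n : ℕ) :
    ∃ (F : Inv K) (f : ↥(SUJ (n := n) F) →* Cfsg.PSU n K q), Function.Surjective f ∧
      f.ker = Subgroup.center ↥(SUJ (n := n) F) := by
  obtain ⟨P, P', h, h', hJ⟩ := a_exists_witt hK n
  -- the isomorphism SUJ → SU
  let ψ : ↥(SUJ (n := n) (a_Inv hK)) →* ↥(Cfsg.SU n K q) :=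
    { toFun := fun g => ⟨a_conj P P' h g.1, a_conj_mem_SU hK P P' h hJ g.2⟩
      map_one' := by
        apply Subtype.ext
        show a_conj P P' h (1 : SLn n K) = 1
        exact map_one _
      map_mul' := fun g g' => by
        apply Subtype.ext
        show a_conj P P' h (g.1 * g'.1) = a_conj P P' h g.1 * a_conj P P' h g'.1
        exact map_mul _ _ _ }
  have hψinj : Function.Injective ψ := by
    intro g g' hgg
    have h1 : a_conj P P' h g.1 = a_conj P P' h g'.1 := congrArg Subtype.val hgg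
    apply Subtype.ext
    rw [← a_conj_conj P P' h h' g.1, ← a_conj_conj P P' h h' g'.1, h1]
  have hψsurj : Function.Surjective ψ := by
    intro y
    refine ⟨⟨a_conj P' P h' y.1, a_conj_mem_SUJ hK P P' h h' hJ y.2⟩, ?_⟩
    apply Subtype.ext
    show a_conj P P' h (a_conj P' P h' y.1) = y.1
    exact a_conj_conj P' P h' h y.1
  refine ⟨a_Inv hK, (QuotientGroup.mk' (Subgroup.center ↥(Cfsg.SU n K q))).comp ψ, ?_, ?_⟩
  · exact (QuotientGroup.mk'_surjective _).comp hψsurj
  · ext g
    rw [MonoidHom.mem_ker, MonoidHom.comp_apply, QuotientGroup.mk'_apply,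
      QuotientGroup.eq_one_iff, Subgroup.mem_center_iff, Subgroup.mem_center_iff]
    constructor
    · intro hc y
      apply hψinj
      rw [map_mul, map_mul]
      exact hc (ψ y)
    · intro hc y
      obtain ⟨x, rfl⟩ := hψsurj y
      rw [← map_mul, ← map_mul, hc x]

end Cfsg.Agent.Lib.Helper20.SuF
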