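import Mathlib
import Cfsg.Agent.Lib.Helper43.Witt
import Cfsg.Agent.Lib.Helper8.Eichler2

set_option autoImplicit false

namespace Cfsg.Agent.Lib.Helper94

open Matrix Module QuadraticMap

set_option linter.unusedSectionVars false
set_option linter.unusedVariables false

variable {ι : Type} [Fintype ι] [DecidableEq ι] {F : Type*} [Field F]

lemma finrank_span_single_le (x : ι → F) : finrank F (Submodule.span F {x}) ≤ 1 := by
  by_cases hx : x = 0
  · subst hx
    rw [Submodule.span_zero_singleton, finrank_bot]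
    exact Nat.zero_le 1
  · rw [finrank_span_singleton hx]

section kgeom
variable (Q : QuadraticForm F (ι → F))

/-- orthogonal complement with respect to the polar form of a quadratic form -/
noncomputable def qorth (S : Submodule F (ι → F)) : Submodule F (ι → F) :=
  LinearMap.BilinForm.orthogonal (QuadraticMap.polarBilin Q) S

lemma mem_qorth {S : Submodule F (ι → F)} {v : ι → F} :
    v ∈ qorth Q S ↔ ∀ w ∈ S, polar (⇑Q) w v = 0 := Iff.rfl

lemma polarBilin_isRefl : (QuadraticMap.polarBilin Q).IsRefl := by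
  intro x y h
  rw [QuadraticMap.polarBilin_apply_apply] at h ⊢
  rw [polar_comm]; exact h

variable (hQ : (QuadraticMap.polarBilin Q).Nondegenerate)
include hQ

lemma finrank_qorth (S : Submodule F (ι → F)) :
    finrank F (qorth Q S) + finrank F S = finrank F (ι → F) := by
  have h1 := LinearMap.BilinForm.finrank_orthogonal hQ S
  have h2 : finrank F S ≤ finrank F (ι → F) := Submodule.finrank_le S
  unfold qorth
  omega

lemma qorth_qorth (S : Submodule F (ι → F)) : qorth Q (qorth Q S) = S :=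
  LinearMap.BilinForm.orthogonal_orthogonal hQ (polarBilin_isRefl Q) S

/-- a vector outside `S` is not orthogonal to all of `S^⊥` -/
lemma exists_qorth_polar_ne (S : Submodule F (ι → F)) (x : ι → F) (hx : x ∉ S) :
    ∃ z ∈ qorth Q S, polar (⇑Q) z x ≠ 0 := by
  by_contra hcon
  push Not at hcon
  apply hx
  rw [← qorth_qorth Q hQ S, mem_qorth]
  exact hcon

/-- a singular vector in `S^⊥` outside `S` -/
theorem exists_sing_orth_notMem [Fintype F] (S : Submodule F (ι → F))
    (hS : 2 * finrank F S + 3 ≤ finrank F (ι → F)) :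
    ∃ e : ι → F, Q e = 0 ∧ (∀ x ∈ S, polar (⇑Q) x e = 0) ∧ e ∉ S := by
  set Z := qorth Q S with hZ
  set R := S ⊓ Z with hR
  obtain ⟨W₀, hW₀⟩ := Submodule.exists_isCompl R
  set W := Z ⊓ W₀ with hW
  have hsup : W ⊔ R = Z := by
    rw [hW, inf_sup_assoc_of_le W₀ (inf_le_right : R ≤ Z), sup_comm, hW₀.sup_eq_top, inf_top_eq]
  have hinf : W ⊓ R = ⊥ := by
    apply le_antisymm _ bot_le
    rw [← hW₀.inf_eq_bot]
    exact le_inf inf_le_right (le_trans inf_le_left inf_le_right)
  have hWS : ∀ w ∈ W, w ∈ S → w = 0 := by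
    intro w hw hwS
    have h1 : w ∈ W ⊓ R := ⟨hw, hwS, hw.1⟩
    rw [hinf] at h1
    exact (Submodule.mem_bot F).1 h1
  have hdim : 3 ≤ finrank F W := by
    have h1 := Submodule.finrank_sup_add_finrank_inf_eq W R
    rw [hsup, hinf, finrank_bot] at h1
    have h2 : finrank F Z + finrank F S = finrank F (ι → F) := finrank_qorth Q hQ S
    have h3 : finrank F R ≤ finrank F S := Submodule.finrank_mono inf_le_left
    omega
  have hnd : (QuadraticMap.polarBilin (Q.comp W.subtype)).Nondegenerate := by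
    apply Cfsg.Agent.Lib.Helper43.nondegenerate_comp_subtype Q W
    intro w hw hww
    apply hWS w hw
    rw [← qorth_qorth Q hQ S, mem_qorth]
    intro z hz
    rw [← hZ, ← hsup] at hz
    obtain ⟨w', hw', r, hr, rfl⟩ := Submodule.mem_sup.1 hz
    rw [polar_add_left, polar_comm (⇑Q) w' w, hww w' hw', zero_add]
    have : w ∈ qorth Q S := hw.1
    rw [mem_qorth] at this
    exact this r hr.1
  obtain ⟨w, hw0, hw⟩ := Cfsg.Agent.Lib.Helper43.exists_singular (Q.comp W.subtype) hnd hdim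
  refine ⟨(w : ι → F), ?_, ?_, ?_⟩
  · exact hw
  · have : (w : ι → F) ∈ qorth Q S := w.2.1
    rw [mem_qorth] at this
    exact this
  · intro hwS
    apply hw0
    exact Subtype.ext (hWS _ w.2 hwS)

/-- a hyperbolic pair in `S^⊥` -/
theorem exists_hyp_pair_orth [Fintype F] (S : Submodule F (ι → F))
    (hS : 2 * finrank F S + 3 ≤ finrank F (ι → F)) :
    ∃ e f : ι → F, Q e = 0 ∧ Q f = 0 ∧ polar (⇑Q) e f = 1 ∧ (∀ x ∈ S, polar (⇑Q) x e = 0) ∧
      (∀ x ∈ S, polar (⇑Q) x f = 0) := by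
  obtain ⟨e, he, heS, heN⟩ := exists_sing_orth_notMem Q hQ S hS
  obtain ⟨z, hz, hze⟩ := exists_qorth_polar_ne Q hQ S e heN
  rw [mem_qorth] at hz
  obtain ⟨f₀, hf₀⟩ : ∃ f₀ : ι → F, f₀ = (polar (⇑Q) z e)⁻¹ • z := ⟨_, rfl⟩
  have hf₀e : polar (⇑Q) e f₀ = 1 := by
    rw [hf₀, polar_smul_right, polar_comm (⇑Q) e z, smul_eq_mul, inv_mul_cancel₀ hze]
  have hee : polar (⇑Q) e e = 0 := by rw [polar_self, he, smul_zero]
  refine ⟨e, f₀ - Q f₀ • e, he, ?_, ?_, heS, ?_⟩
  · rw [sub_eq_add_neg, QuadraticMap.map_add (⇑Q), QuadraticMap.map_neg, QuadraticMap.map_smul, he,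
      polar_neg_right, polar_smul_right, polar_comm (⇑Q) f₀ e, hf₀e]
    simp
  · rw [polar_sub_right, polar_smul_right, hf₀e, hee]
    simp
  · intro x hx
    rw [polar_sub_right, polar_smul_right, heS x hx, hf₀, polar_smul_right, hz x hx]
    simp

/-- a singular vector with the same products with `S` as a given vector -/
theorem exists_sing_affine [Fintype F] (S : Submodule F (ι → F))
    (hS : 2 * finrank F S + 3 ≤ finrank F (ι → F)) (b₀ : ι → F) :
    ∃ b : ι → F, Q b = 0 ∧ ∀ x ∈ S, polar (⇑Q) x b = polar (⇑Q) x b₀ := by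
  obtain ⟨e, f, he, hf, hef, heS, hfS⟩ := exists_hyp_pair_orth Q hQ S hS
  obtain ⟨α, hα⟩ : ∃ α : F, α = polar (⇑Q) b₀ e := ⟨_, rfl⟩
  obtain ⟨β, hβ⟩ : ∃ β : F, β = polar (⇑Q) b₀ f := ⟨_, rfl⟩
  obtain ⟨γ, hγ⟩ : ∃ γ : F, γ = Q b₀ := ⟨_, rfl⟩
  refine ⟨b₀ + ((1 - β) • e + (α * β - γ - α) • f), ?_, ?_⟩
  · rw [QuadraticMap.map_add (⇑Q), QuadraticMap.map_add (⇑Q), QuadraticMap.map_smul,
      QuadraticMap.map_smul, he, hf, polar_add_right, polar_smul_right, polar_smul_right,
      polar_smul_left, polar_smul_right, hef, ← hα, ← hβ, ← hγ]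
    simp only [smul_eq_mul]
    ring
  · intro x hx
    rw [polar_add_right, polar_add_right, polar_smul_right, polar_smul_right, heS x hx, hfS x hx]
    simp only [smul_zero, add_zero]

/-- a singular vector orthogonal to `S` with prescribed nonzero product with `x ∉ S` -/
theorem exists_sing_orth_pair1 [Fintype F] (S : Submodule F (ι → F)) (x : ι → F) (hx : x ∉ S)
    (hS : 2 * (finrank F S + 1) + 3 ≤ finrank F (ι → F)) :
    ∃ b : ι → F, Q b = 0 ∧ (∀ s ∈ S, polar (⇑Q) s b = 0) ∧ polar (⇑Q) x b = 1 := by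
  obtain ⟨z, hz, hzx⟩ := exists_qorth_polar_ne Q hQ S x hx
  rw [mem_qorth] at hz
  obtain ⟨b₀, hb₀⟩ : ∃ b₀ : ι → F, b₀ = (polar (⇑Q) z x)⁻¹ • z := ⟨_, rfl⟩
  have hS' : 2 * finrank F (S ⊔ Submodule.span F {x} : Submodule F (ι → F)) + 3
      ≤ finrank F (ι → F) := by
    have h1 := Submodule.finrank_add_le_finrank_add_finrank S (Submodule.span F {x})
    have h2 := finrank_span_single_le (F := F) x
    omega
  obtain ⟨b, hb, hbS⟩ := exists_sing_affine Q hQ _ hS' b₀
  refine ⟨b, hb, ?_, ?_⟩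
  · intro s hs
    rw [hbS s (Submodule.mem_sup_left hs), hb₀, polar_smul_right, hz s hs, smul_zero]
  · rw [hbS x (Submodule.mem_sup_right (Submodule.mem_span_singleton_self x)), hb₀, polar_smul_right,
      polar_comm (⇑Q) x z, smul_eq_mul, inv_mul_cancel₀ hzx]

/-- a singular vector orthogonal to `S` with nonzero products with `x, y ∉ S` -/
theorem exists_sing_orth_pair2 [Fintype F] (S : Submodule F (ι → F)) (x y : ι → F) (hx : x ∉ S)
    (hy : y ∉ S) (hS : 2 * (finrank F S + 2) + 3 ≤ finrank F (ι → F)) :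
    ∃ b : ι → F, Q b = 0 ∧ (∀ s ∈ S, polar (⇑Q) s b = 0) ∧ polar (⇑Q) x b ≠ 0 ∧
      polar (⇑Q) y b ≠ 0 := by
  obtain ⟨z₁, hz₁, hz₁x⟩ := exists_qorth_polar_ne Q hQ S x hx
  obtain ⟨z₂, hz₂, hz₂y⟩ := exists_qorth_polar_ne Q hQ S y hy
  have key : ∃ b₀ ∈ qorth Q S, polar (⇑Q) b₀ x ≠ 0 ∧ polar (⇑Q) b₀ y ≠ 0 := by
    by_cases h1 : polar (⇑Q) z₁ y = 0
    · by_cases h2 : polar (⇑Q) z₂ x = 0
      · refine ⟨z₁ + z₂, Submodule.add_mem _ hz₁ hz₂, ?_, ?_⟩
        · rw [polar_add_left, h2, add_zero]; exact hz₁x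
        · rw [polar_add_left, h1, zero_add]; exact hz₂y
      · exact ⟨z₂, hz₂, h2, hz₂y⟩
    · exact ⟨z₁, hz₁, hz₁x, h1⟩
  obtain ⟨b₀, hb₀, hb₀x, hb₀y⟩ := key
  rw [mem_qorth] at hb₀
  have hS' : 2 * finrank F (S ⊔ (Submodule.span F {x} ⊔ Submodule.span F {y}) :
      Submodule F (ι → F)) + 3 ≤ finrank F (ι → F) := by
    have h1 := Submodule.finrank_add_le_finrank_add_finrank S
      (Submodule.span F {x} ⊔ Submodule.span F {y})
    have h2 := Submodule.finrank_add_le_finrank_add_finrank (Submodule.span F {x})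
      (Submodule.span F {y})
    have h3 := finrank_span_single_le (F := F) x
    have h4 := finrank_span_single_le (F := F) y
    omega
  obtain ⟨b, hb, hbS⟩ := exists_sing_affine Q hQ _ hS' b₀
  refine ⟨b, hb, ?_, ?_, ?_⟩
  · intro s hs
    rw [hbS s (Submodule.mem_sup_left hs), hb₀ s hs]
  · rw [hbS x (Submodule.mem_sup_right (Submodule.mem_sup_left (Submodule.mem_span_singleton_self x))),
      polar_comm]
    exact hb₀x
  · rw [hbS y (Submodule.mem_sup_right (Submodule.mem_sup_right (Submodule.mem_span_singleton_self y))),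
      polar_comm]
    exact hb₀y

/-- every vector is the sum of two singular vectors -/
theorem exists_sing_add_sing [Fintype F] (hn : 5 ≤ finrank F (ι → F)) (x : ι → F) :
    ∃ w₁ w₂ : ι → F, Q w₁ = 0 ∧ Q w₂ = 0 ∧ x = w₁ + w₂ := by
  by_cases hx : x = 0
  · exact ⟨0, 0, by simp, by simp, by simp [hx]⟩
  · have hx' : x ∉ (⊥ : Submodule F (ι → F)) := by
      rw [Submodule.mem_bot]; exact hx
    obtain ⟨e, he, -, hxe⟩ := exists_sing_orth_pair1 Q hQ ⊥ x hx' (by rw [finrank_bot]; omega)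
    refine ⟨Q x • e, x - Q x • e, ?_, ?_, by abel⟩
    · rw [QuadraticMap.map_smul, he, smul_zero]
    · rw [sub_eq_add_neg, QuadraticMap.map_add (⇑Q), QuadraticMap.map_neg, QuadraticMap.map_smul, he,
        polar_neg_right, polar_smul_right, hxe]
      simp

end kgeom

end Cfsg.Agent.Lib.Helper94
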