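import Mathlib
import Cfsg.Agent.Lib.Helper94.KGeom

set_option autoImplicit false

namespace Cfsg.Agent.Lib.Helper94

open Matrix Module QuadraticMap

set_option linter.unusedSectionVars false
set_option linter.unusedVariables false

variable {ι : Type} [Fintype ι] [DecidableEq ι] {F : Type*} [Field F]

/-- the data of a quadratic field extension `F[κ]` acting on a quadratic space by similitudes,
with adjoint `t - κ` and `κ² = tκ - N` -/
structure KData (Q : QuadraticForm F (ι → F)) (κ : Matrix ι ι F) (t N : F) : Prop where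
  adj : ∀ x y, polar (⇑Q) (κ *ᵥ x) y = t * polar (⇑Q) x y - polar (⇑Q) x (κ *ᵥ y)
  quad : ∀ x, Q (κ *ᵥ x) = N * Q x
  self : ∀ x, polar (⇑Q) x (κ *ᵥ x) = t * Q x
  sq : ∀ x, κ *ᵥ (κ *ᵥ x) = t • (κ *ᵥ x) - N • x
  irr : ∀ x, x ≠ 0 → ∀ a : F, κ *ᵥ x ≠ a • x

/-- the `F`-span of `p` and `κ p` -/
def ksub (κ : Matrix ι ι F) (p : ι → F) : Submodule F (ι → F) := Submodule.span F {p, κ *ᵥ p}

lemma mem_ksub {κ : Matrix ι ι F} {p x : ι → F} :
    x ∈ ksub κ p ↔ ∃ a b : F, x = a • p + b • κ *ᵥ p := by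
  unfold ksub
  rw [Submodule.mem_span_pair]
  constructor
  · rintro ⟨a, b, h⟩; exact ⟨a, b, h.symm⟩
  · rintro ⟨a, b, h⟩; exact ⟨a, b, h.symm⟩

lemma self_mem_ksub (κ : Matrix ι ι F) (p : ι → F) : p ∈ ksub κ p :=
  Submodule.subset_span (by simp)

lemma k_mem_ksub (κ : Matrix ι ι F) (p : ι → F) : κ *ᵥ p ∈ ksub κ p :=
  Submodule.subset_span (by simp)

lemma finrank_ksub_le (κ : Matrix ι ι F) (p : ι → F) : finrank F (ksub κ p) ≤ 2 := by
  have h1 : ksub κ p = Submodule.span F {p} ⊔ Submodule.span F {κ *ᵥ p} := by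
    unfold ksub
    rw [← Submodule.span_union]
    rfl
  rw [h1]
  have h2 := Submodule.finrank_add_le_finrank_add_finrank (Submodule.span F {p})
    (Submodule.span F {κ *ᵥ p})
  have h3 := finrank_span_single_le (F := F) p
  have h4 := finrank_span_single_le (F := F) (κ *ᵥ p)
  omega

lemma ksub_le {κ : Matrix ι ι F} {p : ι → F} {S : Submodule F (ι → F)} (hp : p ∈ S)
    (hkp : κ *ᵥ p ∈ S) : ksub κ p ≤ S := by
  unfold ksub
  rw [Submodule.span_le]
  intro x hx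
  rcases hx with rfl | hx
  · exact hp
  · rw [Set.mem_singleton_iff] at hx; rw [hx]; exact hkp

namespace KData

variable {Q : QuadraticForm F (ι → F)} {κ : Matrix ι ι F} {t N : F} (h : KData Q κ t N)
include h

lemma adj' (x y : ι → F) :
    polar (⇑Q) x (κ *ᵥ y) = t * polar (⇑Q) x y - polar (⇑Q) (κ *ᵥ x) y := by
  rw [h.adj]; ring

lemma polar_kk (x y : ι → F) : polar (⇑Q) (κ *ᵥ x) (κ *ᵥ y) = N * polar (⇑Q) x y := by
  unfold polar
  rw [← Matrix.mulVec_add, h.quad, h.quad, h.quad]; ring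

lemma sing {u : ι → F} (hu : Q u = 0) : Q (κ *ᵥ u) = 0 := by rw [h.quad, hu, mul_zero]

lemma orth_self {u : ι → F} (hu : Q u = 0) : polar (⇑Q) u (κ *ᵥ u) = 0 := by
  rw [h.self, hu, mul_zero]

lemma key_id (x : ι → F) (a b : F) :
    (a + b * t) • (a • x + b • κ *ᵥ x) - b • κ *ᵥ (a • x + b • κ *ᵥ x)
      = (a * a + a * b * t + b * b * N) • x := by
  rw [Matrix.mulVec_add, Matrix.mulVec_smul, Matrix.mulVec_smul, h.sq]
  module

lemma key_id' (x : ι → F) (a b : F) :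
    a • ((a + b * t) • x - b • κ *ᵥ x) + b • κ *ᵥ ((a + b * t) • x - b • κ *ᵥ x)
      = (a * a + a * b * t + b * b * N) • x := by
  rw [Matrix.mulVec_sub, Matrix.mulVec_smul, Matrix.mulVec_smul, h.sq]
  module

/-- the norm form is anisotropic -/
lemma norm_aniso {x : ι → F} (hx : x ≠ 0) (a b : F)
    (hab : a * a + a * b * t + b * b * N = 0) : a = 0 ∧ b = 0 := by
  by_cases hb : b = 0
  · subst hb
    simp only [mul_zero, zero_mul, add_zero] at hab
    exact ⟨mul_self_eq_zero.1 hab, rfl⟩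
  · exfalso
    have h1 := h.key_id' x a b
    rw [hab, zero_smul] at h1
    by_cases hz : (a + b * t) • x - b • κ *ᵥ x = 0
    · apply h.irr x hx ((a + b * t) / b)
      have : b • κ *ᵥ x = (a + b * t) • x := (sub_eq_zero.1 hz).symm
      calc κ *ᵥ x = b⁻¹ • (b • κ *ᵥ x) := by rw [smul_smul, inv_mul_cancel₀ hb, one_smul]
        _ = ((a + b * t) / b) • x := by rw [this, smul_smul]; congr 1; field_simp
    · apply h.irr _ hz (-a / b)
      have : b • κ *ᵥ ((a + b * t) • x - b • κ *ᵥ x) = -(a • ((a + b * t) • x - b • κ *ᵥ x)) := by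
        rw [eq_neg_iff_add_eq_zero, add_comm]; exact h1
      calc κ *ᵥ ((a + b * t) • x - b • κ *ᵥ x)
          = b⁻¹ • (b • κ *ᵥ ((a + b * t) • x - b • κ *ᵥ x)) := by
            rw [smul_smul, inv_mul_cancel₀ hb, one_smul]
        _ = (-a / b) • ((a + b * t) • x - b • κ *ᵥ x) := by
            rw [this, ← neg_smul, smul_smul]; congr 1; field_simp

lemma ksub_inv {p x : ι → F} (hx : x ∈ ksub κ p) : κ *ᵥ x ∈ ksub κ p := by
  obtain ⟨a, b, rfl⟩ := mem_ksub.1 hx
  rw [mem_ksub]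
  refine ⟨-(b * N), a + b * t, ?_⟩
  rw [Matrix.mulVec_add, Matrix.mulVec_smul, Matrix.mulVec_smul, h.sq]
  module

lemma sup_inv {S T : Submodule F (ι → F)} (hS : ∀ x ∈ S, κ *ᵥ x ∈ S) (hT : ∀ x ∈ T, κ *ᵥ x ∈ T) :
    ∀ x ∈ S ⊔ T, κ *ᵥ x ∈ S ⊔ T := by
  intro x hx
  obtain ⟨a, ha, b, hb, rfl⟩ := Submodule.mem_sup.1 hx
  rw [Matrix.mulVec_add]
  exact Submodule.add_mem _ (Submodule.mem_sup_left (hS a ha)) (Submodule.mem_sup_right (hT b hb))

/-- independence over `F[κ]` from a `κ`-invariant subspace -/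
lemma ind {S : Submodule F (ι → F)} (hS : ∀ x ∈ S, κ *ᵥ x ∈ S) {y : ι → F} (hy : y ∉ S) (a b : F)
    (hab : a • y + b • κ *ᵥ y ∈ S) : a = 0 ∧ b = 0 := by
  have hy0 : y ≠ 0 := by
    rintro rfl; exact hy S.zero_mem
  have h1 : (a * a + a * b * t + b * b * N) • y ∈ S := by
    rw [← h.key_id y a b]
    exact S.sub_mem (S.smul_mem _ hab) (S.smul_mem _ (hS _ hab))
  by_cases hν : a * a + a * b * t + b * b * N = 0
  · exact h.norm_aniso hy0 a b hν
  · exfalso
    apply hy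
    have := S.smul_mem (a * a + a * b * t + b * b * N)⁻¹ h1
    rwa [smul_smul, inv_mul_cancel₀ hν, one_smul] at this

lemma ksub_symm {p s : ι → F} (hs : s ∈ ksub κ p) (hs0 : s ≠ 0) : p ∈ ksub κ s := by
  obtain ⟨a, b, rfl⟩ := mem_ksub.1 hs
  have hp0 : p ≠ 0 := by
    rintro rfl
    apply hs0
    simp
  have hν : a * a + a * b * t + b * b * N ≠ 0 := by
    intro hν
    obtain ⟨rfl, rfl⟩ := h.norm_aniso hp0 a b hν
    apply hs0
    simp
  have h1 := h.key_id p a b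
  have hmem : (a * a + a * b * t + b * b * N)⁻¹ •
      ((a + b * t) • (a • p + b • κ *ᵥ p) - b • κ *ᵥ (a • p + b • κ *ᵥ p))
        ∈ ksub κ (a • p + b • κ *ᵥ p) := by
    apply Submodule.smul_mem
    apply Submodule.sub_mem
    · exact Submodule.smul_mem _ _ (self_mem_ksub κ _)
    · exact Submodule.smul_mem _ _ (k_mem_ksub κ _)
  rw [h1, smul_smul, inv_mul_cancel₀ hν, one_smul] at hmem
  exact hmem

/-- vectors orthogonal to `p` and `κ p` are orthogonal to the whole of `ksub κ p` -/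
lemma polar_ksub {p y : ι → F} (h1 : polar (⇑Q) p y = 0) (h2 : polar (⇑Q) (κ *ᵥ p) y = 0) :
    ∀ x ∈ ksub κ p, polar (⇑Q) x y = 0 := by
  intro x hx
  obtain ⟨a, b, rfl⟩ := mem_ksub.1 hx
  rw [polar_add_left, polar_smul_left, polar_smul_left, h1, h2]
  simp

/-- singular vectors of `ksub κ p` for singular `p`: everything -/
lemma Q_ksub {p : ι → F} (hp : Q p = 0) : ∀ x ∈ ksub κ p, Q x = 0 := by
  intro x hx
  obtain ⟨a, b, rfl⟩ := mem_ksub.1 hx
  rw [QuadraticMap.map_add (⇑Q), QuadraticMap.map_smul, QuadraticMap.map_smul, hp, h.sing hp,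
    polar_smul_left, polar_smul_right, h.orth_self hp]
  simp

end KData

end Cfsg.Agent.Lib.Helper94
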