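import Mathlib
import Cfsg.Agent.Lib.Helper94.KStruct
import Cfsg.Agent.Lib.Helper37.ParabolicMax

set_option autoImplicit false

namespace Cfsg.Agent.Lib.Helper94

open Matrix Module QuadraticMap
open Cfsg.Agent.Lib.Helper8 Cfsg.Agent.Lib.Helper37
open scoped commutatorElement

set_option linter.unusedSectionVars false
set_option linter.unusedVariables false

variable {ι : Type} [Fintype ι] [DecidableEq ι] {F : Type*} [Field F]

section em
variable (Q : QuadraticForm F (ι → F)) (hQ : (QuadraticMap.polarBilin Q).Nondegenerate)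
  (M : Subgroup ↥(Cfsg.isometryGroup F ⇑Q))

/-- the Eichler transformation `E(u, y)` belongs to `M` -/
def EM (u y : ι → F) : Prop :=
  ∀ (hu : Q u = 0) (huy : polar (⇑Q) u y = 0), eichlerElt Q hQ u y hu huy ∈ M

variable {Q hQ M}

lemma EM_zero (u : ι → F) : EM Q hQ M u 0 := by
  intro hu huy
  have := eichlerElt_zero Q hQ u hu
  rw [this]
  exact M.one_mem

lemma EM_congr {u y y' : ι → F} (h : y = y') : EM Q hQ M u y → EM Q hQ M u y' := by
  subst h; exact id

lemma EM_add {u y y' : ι → F} (huy : polar (⇑Q) u y = 0) (huy' : polar (⇑Q) u y' = 0)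
    (h1 : EM Q hQ M u y) (h2 : EM Q hQ M u y') : EM Q hQ M u (y + y') := by
  intro hu h
  have := M.mul_mem (h1 hu huy) (h2 hu huy')
  rw [eichlerElt_mul] at this
  exact this

lemma EM_neg {u y : ι → F} (h1 : EM Q hQ M u y) : EM Q hQ M u (-y) := by
  intro hu h
  have huy : polar (⇑Q) u y = 0 := by
    rw [polar_neg_right, neg_eq_zero] at h; exact h
  have := M.inv_mem (h1 hu huy)
  rw [eichlerElt_inv] at this
  exact this

lemma EM_sub {u y y' : ι → F} (huy : polar (⇑Q) u y = 0) (huy' : polar (⇑Q) u y' = 0)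
    (h1 : EM Q hQ M u y) (h2 : EM Q hQ M u y') : EM Q hQ M u (y - y') := by
  rw [sub_eq_add_neg]
  exact EM_add huy (by rw [polar_neg_right, huy', neg_zero]) h1 (EM_neg h2)

lemma EM_conj {m : ↥(Cfsg.isometryGroup F ⇑Q)} (hm : m ∈ M) {u y : ι → F}
    (h1 : EM Q hQ M u y) : EM Q hQ M (act Q m u) (act Q m y) := by
  intro hu' huy'
  have hu : Q u = 0 := by rw [← Q_act Q m u]; exact hu'
  have huy : polar (⇑Q) u y = 0 := by rw [← polar_act Q m]; exact huy'
  have h2 : eichlerElt Q hQ (act Q m u) (act Q m y) hu' huy'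
      = m * eichlerElt Q hQ u y hu huy * m⁻¹ := (conj_eichlerElt Q hQ m u y hu huy).symm
  rw [h2]
  exact M.mul_mem (M.mul_mem hm (h1 hu huy)) (M.inv_mem hm)

lemma eichlerElt_swap (u y : ι → F) (hu : Q u = 0) (hy : Q y = 0) (huy : polar (⇑Q) u y = 0) :
    eichlerElt Q hQ u y hu huy
      = eichlerElt Q hQ y (-u) hy (by rw [polar_neg_right, polar_comm, huy, neg_zero]) := by
  apply iso_ext
  intro x
  rw [eichlerElt_mulVec, eichlerElt_mulVec, hy, QuadraticMap.map_neg, hu, polar_neg_left]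
  module

lemma EM_swap {u y : ι → F} (hu : Q u = 0) (hy : Q y = 0) (huy : polar (⇑Q) u y = 0)
    (h1 : EM Q hQ M u y) : EM Q hQ M y u := by
  have h2 : EM Q hQ M y (-u) := by
    intro hy' h
    have := h1 hu huy
    rw [eichlerElt_swap u y hu hy huy] at this
    exact this
  exact EM_congr (neg_neg u) (EM_neg h2)

lemma EM_smul_left {u y : ι → F} (hu : Q u = 0) (huy : polar (⇑Q) u y = 0) (c : F)
    (h1 : EM Q hQ M u (c • y)) : EM Q hQ M (c • u) y := by
  intro hu' huy'
  have := h1 hu (by rw [polar_smul_right, huy, smul_zero])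
  rw [← eichlerElt_smul_left Q hQ u y hu huy c] at this
  exact this

lemma EM_add_smul {u y : ι → F} (hu : Q u = 0) (huy : polar (⇑Q) u y = 0) (c : F)
    (h1 : EM Q hQ M u y) : EM Q hQ M u (y + c • u) := by
  intro hu' h
  have := h1 hu huy
  rw [← eichlerElt_add_smul Q hQ u y hu huy c] at this
  exact this

end em

section kmax
variable {Q : QuadraticForm F (ι → F)} {hQ : (QuadraticMap.polarBilin Q).Nondegenerate}
  {M : Subgroup ↥(Cfsg.isometryGroup F ⇑Q)} {κ : Matrix ι ι F} {t N : F}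

/-- the basic closure step: conjugating `E(p, y)` by the `K`-transvection at `a` -/
lemma EM_step (h : KData Q κ t N)
    (hH : ∀ u : ι → F, Q u = 0 → ∀ b : F, EM Q hQ M u (b • κ *ᵥ u))
    {p y a : ι → F} (hp : Q p = 0) (hpy : polar (⇑Q) p y = 0) (hEM : EM Q hQ M p y)
    (ha : Q a = 0) (hap : polar (⇑Q) a p = 0) (hakp : polar (⇑Q) a (κ *ᵥ p) = 0)
    (hay : polar (⇑Q) a y = 0) (hkay : polar (⇑Q) (κ *ᵥ a) y ≠ 0) (b : F) :
    EM Q hQ M p (b • a) := by
  obtain ⟨c, hc⟩ : ∃ c : F, c = -b / polar (⇑Q) (κ *ᵥ a) y := ⟨_, rfl⟩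
  have hac : polar (⇑Q) a (c • κ *ᵥ a) = 0 := by
    rw [polar_smul_right, h.orth_self ha, smul_zero]
  have hm : eichlerElt Q hQ a (c • κ *ᵥ a) ha hac ∈ M := hH a ha c ha hac
  have hkap : polar (⇑Q) (κ *ᵥ a) p = 0 := by rw [h.adj, hap, hakp]; ring
  have h1 : act Q (eichlerElt Q hQ a (c • κ *ᵥ a) ha hac) p = p := by
    rw [act_eichlerElt, polar_smul_left, hkap, hap]
    simp
  have h2 : act Q (eichlerElt Q hQ a (c • κ *ᵥ a) ha hac) y = y + b • a := by
    rw [act_eichlerElt, polar_smul_left, hay]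
    have : c * polar (⇑Q) (κ *ᵥ a) y = -b := by
      rw [hc]; field_simp
    simp only [smul_eq_mul, zero_smul, add_zero, mul_zero, sub_zero, this]
    module
  have h3 := EM_conj hm hEM
  rw [h1, h2] at h3
  have hpa : polar (⇑Q) p (b • a) = 0 := by
    rw [polar_smul_right, polar_comm, hap, smul_zero]
  have h4 := EM_sub (by rw [polar_add_right, hpy, hpa, add_zero]) hpy h3 hEM
  exact EM_congr (by abel) h4

/-- `FullH p`: all `E(p, y)` with `y` singular and hermitian-orthogonal to `p` lie in `M` -/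
def FullH (Q : QuadraticForm F (ι → F)) (hQ : (QuadraticMap.polarBilin Q).Nondegenerate)
    (M : Subgroup ↥(Cfsg.isometryGroup F ⇑Q)) (κ : Matrix ι ι F) (p : ι → F) : Prop :=
  ∀ y : ι → F, Q y = 0 → polar (⇑Q) y p = 0 → polar (⇑Q) y (κ *ᵥ p) = 0 → EM Q hQ M p y

lemma finrank_ksub_sup_le (κ : Matrix ι ι F) (p s : ι → F) :
    finrank F (ksub κ p ⊔ ksub κ s : Submodule F (ι → F)) ≤ 4 := by
  have h1 := Submodule.finrank_add_le_finrank_add_finrank (ksub κ p) (ksub κ s)
  have h2 := finrank_ksub_le κ p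
  have h3 := finrank_ksub_le κ s
  omega

lemma EM_ii [Fintype F] (h : KData Q κ t N) (hn : 13 ≤ finrank F (ι → F))
    (hH : ∀ u : ι → F, Q u = 0 → ∀ b : F, EM Q hQ M u (b • κ *ᵥ u))
    {p s y : ι → F} (hp : Q p = 0) (hs : Q s = 0) (hps : polar (⇑Q) p s = 0)
    (hskp : polar (⇑Q) s (κ *ᵥ p) = 0) (hsp : s ∉ ksub κ p)
    (hEMs : ∀ c : F, EM Q hQ M p (c • s))
    (hy : Q y = 0) (hyp : polar (⇑Q) y p = 0) (hykp : polar (⇑Q) y (κ *ᵥ p) = 0)
    (hys : polar (⇑Q) y s = 0) (hyn : y ∉ ksub κ p ⊔ ksub κ s) (c : F) :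
    EM Q hQ M p (c • y) := by
  by_cases hc : c = 0
  · subst hc; rw [zero_smul]; exact EM_zero p
  obtain ⟨y', hy'⟩ : ∃ y' : ι → F, y' = c • y := ⟨_, rfl⟩
  rw [← hy']
  have hQy' : Q y' = 0 := by rw [hy', QuadraticMap.map_smul, hy, smul_zero]
  have hy'p : polar (⇑Q) y' p = 0 := by rw [hy', polar_smul_left, hyp, smul_zero]
  have hy'kp : polar (⇑Q) y' (κ *ᵥ p) = 0 := by rw [hy', polar_smul_left, hykp, smul_zero]
  have hy's : polar (⇑Q) y' s = 0 := by rw [hy', polar_smul_left, hys, smul_zero]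
  have hy'n : y' ∉ ksub κ p ⊔ ksub κ s := by
    intro hmem
    apply hyn
    have := Submodule.smul_mem _ c⁻¹ hmem
    rwa [hy', smul_smul, inv_mul_cancel₀ hc, one_smul] at this
  have hEMs1 : EM Q hQ M p s := by
    have := hEMs 1; rwa [one_smul] at this
  have hsp' : polar (⇑Q) s p = 0 := by rw [polar_comm]; exact hps
  by_cases hk : polar (⇑Q) (κ *ᵥ y') s = 0
  · -- decompose `y'` as a sum of two vectors of the first kind
    have hκs : κ *ᵥ s ∉ ksub κ p ⊔ (Submodule.span F {s} ⊔ Submodule.span F {y'}) := by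
      intro hmem
      obtain ⟨k, hkm, r, hr, hkr⟩ := Submodule.mem_sup.1 hmem
      obtain ⟨r1, hr1, r2, hr2, rfl⟩ := Submodule.mem_sup.1 hr
      obtain ⟨α, rfl⟩ := Submodule.mem_span_singleton.1 hr1
      obtain ⟨β, rfl⟩ := Submodule.mem_span_singleton.1 hr2
      by_cases hβ : β = 0
      · subst hβ
        have h1 : (-α) • s + (1 : F) • κ *ᵥ s ∈ ksub κ p := by
          have : (-α) • s + (1 : F) • κ *ᵥ s = k := by
            rw [← hkr]; module
          rw [this]; exact hkm
        have := (h.ind (fun x hx => h.ksub_inv hx) hsp (-α) 1 h1).2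
        exact one_ne_zero this
      · apply hy'n
        have h1 : y' = β⁻¹ • ((-α) • s + (1 : F) • κ *ᵥ s) + (-β⁻¹) • k := by
          rw [← hkr]
          have : β⁻¹ * β = 1 := inv_mul_cancel₀ hβ
          calc y' = (β⁻¹ * β) • y' := by rw [this, one_smul]
            _ = _ := by module
        rw [h1]
        apply Submodule.add_mem
        · apply Submodule.smul_mem
          apply Submodule.mem_sup_right
          apply Submodule.add_mem
          · exact Submodule.smul_mem _ _ (self_mem_ksub κ s)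
          · exact Submodule.smul_mem _ _ (k_mem_ksub κ s)
        · exact Submodule.smul_mem _ _ (Submodule.mem_sup_left hkm)
    have hdim : 2 * (finrank F (ksub κ p ⊔ (Submodule.span F {s} ⊔ Submodule.span F {y'}) :
        Submodule F (ι → F)) + 1) + 3 ≤ finrank F (ι → F) := by
      have h1 := Submodule.finrank_add_le_finrank_add_finrank (ksub κ p)
        (Submodule.span F {s} ⊔ Submodule.span F {y'})
      have h2 := Submodule.finrank_add_le_finrank_add_finrank (Submodule.span F {s})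
        (Submodule.span F {y'})
      have h3 := finrank_ksub_le κ p
      have h4 := finrank_span_single_le (F := F) s
      have h5 := finrank_span_single_le (F := F) y'
      omega
    obtain ⟨a₁, ha₁, ha₁S, ha₁x⟩ := exists_sing_orth_pair1 Q hQ _ (κ *ᵥ s) hκs hdim
    have ha₁p : polar (⇑Q) a₁ p = 0 := by
      rw [polar_comm]; exact ha₁S p (Submodule.mem_sup_left (self_mem_ksub κ p))
    have ha₁kp : polar (⇑Q) a₁ (κ *ᵥ p) = 0 := by
      rw [polar_comm]; exact ha₁S _ (Submodule.mem_sup_left (k_mem_ksub κ p))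
    have ha₁s : polar (⇑Q) a₁ s = 0 := by
      rw [polar_comm]
      exact ha₁S s (Submodule.mem_sup_right (Submodule.mem_sup_left
        (Submodule.mem_span_singleton_self s)))
    have ha₁y : polar (⇑Q) a₁ y' = 0 := by
      rw [polar_comm]
      exact ha₁S y' (Submodule.mem_sup_right (Submodule.mem_sup_right
        (Submodule.mem_span_singleton_self y')))
    have hka₁s : polar (⇑Q) (κ *ᵥ a₁) s = -1 := by
      rw [h.adj, ha₁s, polar_comm (⇑Q) a₁, ha₁x]; ring
    have hE1 : EM Q hQ M p ((1 : F) • a₁) :=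
      EM_step h hH hp hps hEMs1 ha₁ ha₁p ha₁kp ha₁s (by rw [hka₁s]; simp) 1
    have ha₂ : Q (y' - a₁) = 0 := by
      rw [sub_eq_add_neg, QuadraticMap.map_add (⇑Q), QuadraticMap.map_neg, hQy', ha₁,
        polar_neg_right, polar_comm, ha₁y]
      simp
    have hE2 : EM Q hQ M p ((1 : F) • (y' - a₁)) := by
      apply EM_step h hH hp hps hEMs1 ha₂
      · rw [polar_sub_left, hy'p, ha₁p, sub_zero]
      · rw [polar_sub_left, hy'kp, ha₁kp, sub_zero]
      · rw [polar_sub_left, hy's, ha₁s, sub_zero]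
      · rw [Matrix.mulVec_sub, polar_sub_left, hk, hka₁s]; simp
    have hpa₁ : polar (⇑Q) p ((1 : F) • a₁) = 0 := by
      rw [polar_smul_right, polar_comm, ha₁p, smul_zero]
    have hpa₂ : polar (⇑Q) p ((1 : F) • (y' - a₁)) = 0 := by
      rw [polar_smul_right, polar_sub_right, polar_comm (⇑Q) p y', hy'p, polar_comm (⇑Q) p a₁, ha₁p]
      simp
    exact EM_congr (by module) (EM_add hpa₁ hpa₂ hE1 hE2)
  · have := EM_step h hH hp hps hEMs1 hQy' hy'p hy'kp hy's hk 1
    rwa [one_smul] at this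

/-- from one hermitian-orthogonal root element outside the `K`-line, all of them -/
theorem fullH_of_II [Fintype F] (h : KData Q κ t N) (hn : 13 ≤ finrank F (ι → F))
    (hH : ∀ u : ι → F, Q u = 0 → ∀ b : F, EM Q hQ M u (b • κ *ᵥ u))
    {p s : ι → F} (hp : Q p = 0) (hs : Q s = 0) (hps : polar (⇑Q) p s = 0)
    (hskp : polar (⇑Q) s (κ *ᵥ p) = 0) (hsp : s ∉ ksub κ p)
    (hEMs : ∀ c : F, EM Q hQ M p (c • s)) : FullH Q hQ M κ p := by
  intro y hy hyp hykp
  have hinv : ∀ x ∈ ksub κ p ⊔ ksub κ s, κ *ᵥ x ∈ ksub κ p ⊔ ksub κ s :=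
    h.sup_inv (fun x hx => h.ksub_inv hx) (fun x hx => h.ksub_inv hx)
  have hsp' : polar (⇑Q) s p = 0 := by rw [polar_comm]; exact hps
  have hkps : polar (⇑Q) (κ *ᵥ p) s = 0 := by rw [polar_comm]; exact hskp
  by_cases hyK : y ∈ ksub κ p
  · obtain ⟨a, b, rfl⟩ := mem_ksub.1 hyK
    have h1 := hH p hp b
    have h2 := EM_add_smul hp (by rw [polar_smul_right, h.orth_self hp, smul_zero]) a h1
    exact EM_congr (by module) h2
  by_cases hyS : y ∈ ksub κ p ⊔ ksub κ s
  · -- use an auxiliary `s'`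
    obtain ⟨s', hs', hs'S, hs'N⟩ := exists_sing_orth_notMem Q hQ (ksub κ p ⊔ ksub κ s)
      (by have := finrank_ksub_sup_le κ p s; omega)
    have hs'p : polar (⇑Q) s' p = 0 := by
      rw [polar_comm]; exact hs'S p (Submodule.mem_sup_left (self_mem_ksub κ p))
    have hs'kp : polar (⇑Q) s' (κ *ᵥ p) = 0 := by
      rw [polar_comm]; exact hs'S _ (Submodule.mem_sup_left (k_mem_ksub κ p))
    have hs's : polar (⇑Q) s' s = 0 := by
      rw [polar_comm]; exact hs'S s (Submodule.mem_sup_right (self_mem_ksub κ s))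
    have hE' : ∀ c : F, EM Q hQ M p (c • s') :=
      fun c => EM_ii h hn hH hp hs hps hskp hsp hEMs hs' hs'p hs'kp hs's hs'N c
    have hs'np : s' ∉ ksub κ p := fun hm => hs'N (Submodule.mem_sup_left hm)
    have hys' : polar (⇑Q) y s' = 0 := hs'S y hyS
    have hyn : y ∉ ksub κ p ⊔ ksub κ s' := by
      intro hmem
      obtain ⟨k, hkm, r, hr, hkr⟩ := Submodule.mem_sup.1 hmem
      obtain ⟨α, β, rfl⟩ := mem_ksub.1 hr
      have h1 : α • s' + β • κ *ᵥ s' ∈ ksub κ p ⊔ ksub κ s := by
        have : α • s' + β • κ *ᵥ s' = y - k := by rw [← hkr]; abel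
        rw [this]
        exact Submodule.sub_mem _ hyS (Submodule.mem_sup_left hkm)
      obtain ⟨rfl, rfl⟩ := h.ind hinv hs'N α β h1
      apply hyK
      rw [← hkr]
      simpa using hkm
    have := EM_ii h hn hH hp hs' (by rw [polar_comm]; exact hs'p) hs'kp hs'np hE' hy hyp hykp hys'
      hyn 1
    rwa [one_smul] at this
  by_cases hys : polar (⇑Q) y s = 0
  · have := EM_ii h hn hH hp hs hps hskp hsp hEMs hy hyp hykp hys hyS 1
    rwa [one_smul] at this
  · -- `y` not orthogonal to `s`: pass through `s'` orthogonal to everything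
    have hdim : 2 * finrank F (ksub κ p ⊔ ksub κ s ⊔ Submodule.span F {y} :
        Submodule F (ι → F)) + 3 ≤ finrank F (ι → F) := by
      have h1 := Submodule.finrank_add_le_finrank_add_finrank (ksub κ p ⊔ ksub κ s)
        (Submodule.span F {y})
      have h2 := finrank_ksub_sup_le κ p s
      have h3 := finrank_span_single_le (F := F) y
      omega
    obtain ⟨s', hs', hs'S, hs'N⟩ := exists_sing_orth_notMem Q hQ _ hdim
    have hs'p : polar (⇑Q) s' p = 0 := by
      rw [polar_comm]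
      exact hs'S p (Submodule.mem_sup_left (Submodule.mem_sup_left (self_mem_ksub κ p)))
    have hs'kp : polar (⇑Q) s' (κ *ᵥ p) = 0 := by
      rw [polar_comm]
      exact hs'S _ (Submodule.mem_sup_left (Submodule.mem_sup_left (k_mem_ksub κ p)))
    have hs's : polar (⇑Q) s' s = 0 := by
      rw [polar_comm]
      exact hs'S s (Submodule.mem_sup_left (Submodule.mem_sup_right (self_mem_ksub κ s)))
    have hs'ks : polar (⇑Q) s' (κ *ᵥ s) = 0 := by
      rw [polar_comm]
      exact hs'S _ (Submodule.mem_sup_left (Submodule.mem_sup_right (k_mem_ksub κ s)))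
    have hs'N' : s' ∉ ksub κ p ⊔ ksub κ s := fun hm => hs'N (Submodule.mem_sup_left hm)
    have hE' : ∀ c : F, EM Q hQ M p (c • s') :=
      fun c => EM_ii h hn hH hp hs hps hskp hsp hEMs hs' hs'p hs'kp hs's hs'N' c
    have hs'np : s' ∉ ksub κ p := fun hm => hs'N' (Submodule.mem_sup_left hm)
    have hys' : polar (⇑Q) y s' = 0 :=
      hs'S y (Submodule.mem_sup_right (Submodule.mem_span_singleton_self y))
    have hyn : y ∉ ksub κ p ⊔ ksub κ s' := by
      intro hmem
      apply hys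
      obtain ⟨k, hkm, r, hr, hkr⟩ := Submodule.mem_sup.1 hmem
      obtain ⟨α, β, rfl⟩ := mem_ksub.1 hr
      rw [← hkr, polar_add_left, polar_add_left, polar_smul_left, polar_smul_left,
        h.polar_ksub hps hkps k hkm, hs's, h.adj, hs's, hs'ks]
      simp
    have := EM_ii h hn hH hp hs' (by rw [polar_comm]; exact hs'p) hs'kp hs'np hE' hy hyp hykp hys'
      hyn 1
    rwa [one_smul] at this

end kmax

end Cfsg.Agent.Lib.Helper94
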