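import Mathlib
import Cfsg.Agent.Lib.Helper94.KMax

set_option autoImplicit false

namespace Cfsg.Agent.Lib.Helper94

open Matrix Module QuadraticMap
open Cfsg.Agent.Lib.Helper8 Cfsg.Agent.Lib.Helper37
open scoped commutatorElement

set_option linter.unusedSectionVars false
set_option linter.unusedVariables false

variable {ι : Type} [Fintype ι] [DecidableEq ι] {F : Type*} [Field F]

section kmax2
variable {Q : QuadraticForm F (ι → F)} {hQ : (QuadraticMap.polarBilin Q).Nondegenerate}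
  {M : Subgroup ↥(Cfsg.isometryGroup F ⇑Q)} {κ : Matrix ι ι F} {t N : F}

/-- elements of `ksub κ p` are orthogonal to `κ p` when `p` is singular -/
lemma polar_ksub_k (h : KData Q κ t N) {p : ι → F} (hp : Q p = 0) :
    ∀ x ∈ ksub κ p, polar (⇑Q) x (κ *ᵥ p) = 0 := by
  intro x hx
  obtain ⟨a, b, rfl⟩ := mem_ksub.1 hx
  rw [polar_add_left, polar_smul_left, polar_smul_left, h.orth_self hp, h.polar_kk, polar_self, hp]
  simp

/-- from a root element not hermitian-orthogonal, pass to the hermitian-orthogonal case -/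
theorem fullH_of_III [Fintype F] (h : KData Q κ t N) (hn : 13 ≤ finrank F (ι → F))
    (hH : ∀ u : ι → F, Q u = 0 → ∀ b : F, EM Q hQ M u (b • κ *ᵥ u))
    {p s : ι → F} (hp : Q p = 0) (hs : Q s = 0) (hps : polar (⇑Q) p s = 0)
    (hskp : polar (⇑Q) s (κ *ᵥ p) ≠ 0)
    (hEMs : ∀ c : F, EM Q hQ M p (c • s)) : FullH Q hQ M κ p := by
  have hsp : s ∉ ksub κ p := fun hm => hskp (polar_ksub_k h hp s hm)
  obtain ⟨x₀, -, hx₀S, hx₀N⟩ := exists_sing_orth_notMem Q hQ (ksub κ p ⊔ ksub κ s)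
    (by have := finrank_ksub_sup_le κ p s; omega)
  have hκs : κ *ᵥ s ∉ ksub κ p ⊔ Submodule.span F {s} := by
    intro hmem
    obtain ⟨k, hkm, r, hr, hkr⟩ := Submodule.mem_sup.1 hmem
    obtain ⟨α, rfl⟩ := Submodule.mem_span_singleton.1 hr
    have h1 : (-α) • s + (1 : F) • κ *ᵥ s ∈ ksub κ p := by
      have : (-α) • s + (1 : F) • κ *ᵥ s = k := by
        rw [← hkr]; module
      rw [this]; exact hkm
    have := (h.ind (fun x hx => h.ksub_inv hx) hsp (-α) 1 h1).2
    exact one_ne_zero this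
  have hx₀' : x₀ ∉ ksub κ p ⊔ Submodule.span F {s} := by
    intro hmem
    apply hx₀N
    have hle : ksub κ p ⊔ Submodule.span F {s} ≤ ksub κ p ⊔ ksub κ s := by
      apply sup_le_sup_left
      rw [Submodule.span_singleton_le_iff_mem]
      exact self_mem_ksub κ s
    exact hle hmem
  have hdim : 2 * (finrank F (ksub κ p ⊔ Submodule.span F {s} : Submodule F (ι → F)) + 2) + 3
      ≤ finrank F (ι → F) := by
    have h1 := Submodule.finrank_add_le_finrank_add_finrank (ksub κ p) (Submodule.span F {s})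
    have h2 := finrank_ksub_le κ p
    have h3 := finrank_span_single_le (F := F) s
    omega
  obtain ⟨b, hb, hbS, hbks, hbx₀⟩ := exists_sing_orth_pair2 Q hQ _ (κ *ᵥ s) x₀ hκs hx₀' hdim
  have hpb : polar (⇑Q) p b = 0 := hbS p (Submodule.mem_sup_left (self_mem_ksub κ p))
  have hkpb : polar (⇑Q) (κ *ᵥ p) b = 0 := hbS _ (Submodule.mem_sup_left (k_mem_ksub κ p))
  have hsb : polar (⇑Q) s b = 0 :=
    hbS s (Submodule.mem_sup_right (Submodule.mem_span_singleton_self s))
  have hbs : polar (⇑Q) b s = 0 := by rw [polar_comm]; exact hsb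
  have hbp : polar (⇑Q) b p = 0 := by rw [polar_comm]; exact hpb
  have hbkp : polar (⇑Q) b (κ *ᵥ p) = 0 := by rw [polar_comm]; exact hkpb
  have hpkb : polar (⇑Q) p (κ *ᵥ b) = 0 := by rw [h.adj', hpb, hkpb]; ring
  have hkbs : polar (⇑Q) (κ *ᵥ b) s = -polar (⇑Q) (κ *ᵥ s) b := by
    rw [h.adj, hbs, polar_comm (⇑Q) b]; ring
  have hEs1 : EM Q hQ M p s := by
    have := hEMs 1; rwa [one_smul] at this
  -- all multiples of `b` at `p`
  have hEb : ∀ d : F, EM Q hQ M p (d • b) := by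
    intro d hp' hpdb
    obtain ⟨c', hc'⟩ : ∃ c' : F, c' = d / polar (⇑Q) (κ *ᵥ s) b := ⟨_, rfl⟩
    have hbc : polar (⇑Q) b (c' • κ *ᵥ b) = 0 := by
      rw [polar_smul_right, h.orth_self hb, smul_zero]
    have hpc : polar (⇑Q) p (c' • κ *ᵥ b) = 0 := by
      rw [polar_smul_right, hpkb, smul_zero]
    have hcomm := eichler_commutator Q hQ p b s (c' • κ *ᵥ b) hp hb hpb hps hbs hpc hbc
    have h1 : ⁅eichlerElt Q hQ b (c' • κ *ᵥ b) hb hbc, eichlerElt Q hQ p s hp hps⁆ ∈ M := by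
      rw [commutatorElement_def]
      have hx := hH b hb c' hb hbc
      have hy := hEs1 hp hps
      exact M.mul_mem (M.mul_mem (M.mul_mem hx hy) (M.inv_mem hx)) (M.inv_mem hy)
    rw [hcomm] at h1
    have h2 : (-polar (⇑Q) (c' • κ *ᵥ b) s) • b = d • b := by
      rw [polar_smul_left, hkbs, hc']
      congr 1
      simp only [smul_eq_mul]
      field_simp
    rw [eichlerElt_congr Q hQ p _ p (d • b) hp _ hp hpdb rfl h2] at h1
    exact h1
  have hbnp : b ∉ ksub κ p := by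
    intro hm
    apply hbx₀
    rw [polar_comm]
    exact hx₀S b (Submodule.mem_sup_left hm)
  exact fullH_of_II h hn hH hp hb hpb hbkp hbnp hEb

/-- propagation of `FullH` along hermitian-orthogonal pairs -/
theorem fullH_step [Fintype F] (h : KData Q κ t N) (hn : 13 ≤ finrank F (ι → F))
    (hH : ∀ u : ι → F, Q u = 0 → ∀ b : F, EM Q hQ M u (b • κ *ᵥ u))
    {p y : ι → F} (hp : Q p = 0) (hp0 : p ≠ 0) (hfull : FullH Q hQ M κ p)
    (hy : Q y = 0) (hyp : polar (⇑Q) y p = 0) (hykp : polar (⇑Q) y (κ *ᵥ p) = 0)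
    (hyn : y ∉ ksub κ p) : FullH Q hQ M κ y := by
  have hpy : polar (⇑Q) p y = 0 := by rw [polar_comm]; exact hyp
  have hE : ∀ c : F, EM Q hQ M y (c • p) := by
    intro c
    have h1 : EM Q hQ M p (c • y) := by
      apply hfull
      · rw [QuadraticMap.map_smul, hy, smul_zero]
      · rw [polar_smul_left, hyp, smul_zero]
      · rw [polar_smul_left, hykp, smul_zero]
    have h2 : EM Q hQ M (c • y) p := by
      apply EM_swap hp (by rw [QuadraticMap.map_smul, hy, smul_zero])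
        (by rw [polar_smul_right, hpy, smul_zero]) h1
    -- `E(c y, p) = E(y, c p)`
    intro hy' hycp
    have := h2 (by rw [QuadraticMap.map_smul, hy, smul_zero]) (by rw [polar_smul_left, hyp, smul_zero])
    rw [eichlerElt_smul_left Q hQ y p hy hyp c] at this
    exact this
  have hy0 : y ≠ 0 := by
    rintro rfl; exact hyn (Submodule.zero_mem _)
  have hpky : polar (⇑Q) p (κ *ᵥ y) = 0 := by
    rw [h.adj', hpy, polar_comm (⇑Q) _ y, hykp]; ring
  have hpn : p ∉ ksub κ y := fun hm => hyn (h.ksub_symm hm hp0)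
  exact fullH_of_II h hn hH hy hp hyp hpky hpn hE

theorem fullH_all [Fintype F] (h : KData Q κ t N) (hn : 13 ≤ finrank F (ι → F))
    (hH : ∀ u : ι → F, Q u = 0 → ∀ b : F, EM Q hQ M u (b • κ *ᵥ u))
    {p : ι → F} (hp : Q p = 0) (hp0 : p ≠ 0) (hfull : FullH Q hQ M κ p)
    (u : ι → F) (hu : Q u = 0) (hu0 : u ≠ 0) : FullH Q hQ M κ u := by
  obtain ⟨y, hy, hyS, hyN⟩ := exists_sing_orth_notMem Q hQ (ksub κ p ⊔ ksub κ u)
    (by have := finrank_ksub_sup_le κ p u; omega)
  have hyp : polar (⇑Q) y p = 0 := by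
    rw [polar_comm]; exact hyS p (Submodule.mem_sup_left (self_mem_ksub κ p))
  have hykp : polar (⇑Q) y (κ *ᵥ p) = 0 := by
    rw [polar_comm]; exact hyS _ (Submodule.mem_sup_left (k_mem_ksub κ p))
  have hynp : y ∉ ksub κ p := fun hm => hyN (Submodule.mem_sup_left hm)
  have hynu : y ∉ ksub κ u := fun hm => hyN (Submodule.mem_sup_right hm)
  have hfy := fullH_step h hn hH hp hp0 hfull hy hyp hykp hynp
  have hy0 : y ≠ 0 := by
    rintro rfl; exact hynp (Submodule.zero_mem _)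
  have huy : polar (⇑Q) u y = 0 := hyS u (Submodule.mem_sup_right (self_mem_ksub κ u))
  have hkuy : polar (⇑Q) (κ *ᵥ u) y = 0 := hyS _ (Submodule.mem_sup_right (k_mem_ksub κ u))
  have huky : polar (⇑Q) u (κ *ᵥ y) = 0 := by rw [h.adj', huy, hkuy]; ring
  have hun : u ∉ ksub κ y := fun hm => hynu (h.ksub_symm hm hu0)
  exact fullH_step h hn hH hy hy0 hfy hu huy huky hun

/-- all long root elements -/
theorem longRoot_mem_of_fullH [Fintype F] (h : KData Q κ t N) (hn : 13 ≤ finrank F (ι → F))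
    (hfull : ∀ u : ι → F, Q u = 0 → u ≠ 0 → FullH Q hQ M κ u)
    (a b : ι → F) (ha : Q a = 0) (hb : Q b = 0) (hab : polar (⇑Q) a b = 0) :
    EM Q hQ M a b := by
  by_cases ha0 : a = 0
  · subst ha0
    intro h1 h2
    rw [eichlerElt_zero_left]
    exact M.one_mem
  by_cases hbk : polar (⇑Q) b (κ *ᵥ a) = 0
  · exact hfull a ha ha0 b hb (by rw [polar_comm]; exact hab) hbk
  have hb0 : b ≠ 0 := by
    rintro rfl; apply hbk; simp
  obtain ⟨c₁, hc₁, hc₁S, hc₁N⟩ := exists_sing_orth_notMem Q hQ (ksub κ a ⊔ ksub κ b)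
    (by have := finrank_ksub_sup_le κ a b; omega)
  have hc₁N' : c₁ ∉ ksub κ b ⊔ Submodule.span F {a} := by
    intro hmem
    apply hc₁N
    rw [sup_comm]
    have hle : ksub κ b ⊔ Submodule.span F {a} ≤ ksub κ b ⊔ ksub κ a := by
      apply sup_le_sup_left
      rw [Submodule.span_singleton_le_iff_mem]
      exact self_mem_ksub κ a
    exact hle hmem
  have hdim : 2 * (finrank F (ksub κ b ⊔ Submodule.span F {a} : Submodule F (ι → F)) + 1) + 3
      ≤ finrank F (ι → F) := by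
    have h1 := Submodule.finrank_add_le_finrank_add_finrank (ksub κ b) (Submodule.span F {a})
    have h2 := finrank_ksub_le κ b
    have h3 := finrank_span_single_le (F := F) a
    omega
  obtain ⟨c₂, hc₂, hc₂S, hc₂x⟩ := exists_sing_orth_pair1 Q hQ _ c₁ hc₁N' hdim
  -- facts on c₁
  have hac₁ : polar (⇑Q) a c₁ = 0 := hc₁S a (Submodule.mem_sup_left (self_mem_ksub κ a))
  have hkac₁ : polar (⇑Q) (κ *ᵥ a) c₁ = 0 := hc₁S _ (Submodule.mem_sup_left (k_mem_ksub κ a))
  have hbc₁ : polar (⇑Q) b c₁ = 0 := hc₁S b (Submodule.mem_sup_right (self_mem_ksub κ b))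
  -- facts on c₂
  have hbc₂ : polar (⇑Q) b c₂ = 0 := hc₂S b (Submodule.mem_sup_left (self_mem_ksub κ b))
  have hkbc₂ : polar (⇑Q) (κ *ᵥ b) c₂ = 0 := hc₂S _ (Submodule.mem_sup_left (k_mem_ksub κ b))
  have hac₂ : polar (⇑Q) a c₂ = 0 :=
    hc₂S a (Submodule.mem_sup_right (Submodule.mem_span_singleton_self a))
  have hE1 : EM Q hQ M a c₁ :=
    hfull a ha ha0 c₁ hc₁ (by rw [polar_comm]; exact hac₁) (by rw [polar_comm]; exact hkac₁)
  have hE2 : EM Q hQ M b (-c₂) :=
    hfull b hb hb0 (-c₂) (by rw [QuadraticMap.map_neg]; exact hc₂)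
      (by rw [polar_neg_left, polar_comm, hbc₂, neg_zero])
      (by rw [polar_neg_left, polar_comm, hkbc₂, neg_zero])
  have hbc₂' : polar (⇑Q) b (-c₂) = 0 := by rw [polar_neg_right, hbc₂, neg_zero]
  have hac₂' : polar (⇑Q) a (-c₂) = 0 := by rw [polar_neg_right, hac₂, neg_zero]
  intro ha' hab'
  have hcomm := eichler_commutator Q hQ a b c₁ (-c₂) ha hb hab hac₁ hbc₁ hac₂' hbc₂'
  have h1 : ⁅eichlerElt Q hQ b (-c₂) hb hbc₂', eichlerElt Q hQ a c₁ ha hac₁⁆ ∈ M := by
    rw [commutatorElement_def]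
    have hx := hE2 hb hbc₂'
    have hy := hE1 ha hac₁
    exact M.mul_mem (M.mul_mem (M.mul_mem hx hy) (M.inv_mem hx)) (M.inv_mem hy)
  rw [hcomm] at h1
  have h2 : (-polar (⇑Q) (-c₂) c₁) • b = b := by
    rw [polar_neg_left, neg_neg, polar_comm, hc₂x, one_smul]
  rw [eichlerElt_congr Q hQ a _ a b ha _ ha hab' rfl h2] at h1
  exact h1

/-- the main generation theorem: `M` contains `Ω` -/
theorem omega_le_of_kdata [Fintype F] (h : KData Q κ t N) (hn : 13 ≤ finrank F (ι → F))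
    (hH : ∀ u : ι → F, Q u = 0 → ∀ b : F, EM Q hQ M u (b • κ *ᵥ u))
    {p s : ι → F} (hp : Q p = 0) (hp0 : p ≠ 0) (hs : Q s = 0) (hps : polar (⇑Q) p s = 0)
    (hsp : s ∉ ksub κ p) (hEMs : ∀ c : F, EM Q hQ M p (c • s)) :
    commutator ↥(Cfsg.isometryGroup F ⇑Q) ≤ M := by
  have hfp : FullH Q hQ M κ p := by
    by_cases hskp : polar (⇑Q) s (κ *ᵥ p) = 0
    · exact fullH_of_II h hn hH hp hs hps hskp hsp hEMs
    · exact fullH_of_III h hn hH hp hs hps hskp hEMs
  have hfull : ∀ u : ι → F, Q u = 0 → u ≠ 0 → FullH Q hQ M κ u :=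
    fun u hu hu0 => fullH_all h hn hH hp hp0 hfp u hu hu0
  rw [omega_eq_closure_longRoot Q hQ (by omega) (fun _ => by omega), Subgroup.closure_le]
  rintro g ⟨u, v, hu, huv, hv, rfl⟩
  exact longRoot_mem_of_fullH h hn hfull u v hu hv huv hu huv

end kmax2

end Cfsg.Agent.Lib.Helper94
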