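import Mathlib
import Cfsg.Prelude.Def_GeometricClasses
import Cfsg.Agent.Lib.Helper94.Quad
import Cfsg.Agent.Lib.Helper94.KMax2
import Cfsg.Agent.Lib.Helper37.ParabolicBridge
import Cfsg.Agent.Lib.Helper8.OmegaPoints

set_option autoImplicit false

namespace Cfsg.Agent.Lib.Helper94

open Matrix Module QuadraticMap
open Cfsg.Agent.Lib.Helper8 Cfsg.Agent.Lib.Helper37

set_option linter.unusedSectionVars false
set_option linter.unusedVariables false

variable {ι : Type} [Fintype ι] [DecidableEq ι] {F : Type*} [Field F]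

/-- maximality in `Ω` of the intersection with an arbitrary subgroup of `GL` -/
theorem isMaximalIn_inf_omega_of (Q : QuadraticForm F (ι → F))
    (S : Subgroup (Matrix.GeneralLinearGroup ι F))
    (hproper : ∃ g ∈ commutator ↥(Cfsg.isometryGroup F ⇑Q), (g : Matrix.GeneralLinearGroup ι F) ∉ S)
    (hmax : ∀ M : Subgroup ↥(Cfsg.isometryGroup F ⇑Q),
      (∀ a : ↥(Cfsg.isometryGroup F ⇑Q), (a : Matrix.GeneralLinearGroup ι F) ∈ S →
        a ∈ commutator ↥(Cfsg.isometryGroup F ⇑Q) → a ∈ M) →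
      ∀ g ∈ M, (g : Matrix.GeneralLinearGroup ι F) ∉ S →
        commutator ↥(Cfsg.isometryGroup F ⇑Q) ≤ M) :
    Cfsg.Geo.IsMaximalIn (Cfsg.Geo.omegaGL ⇑Q) (S ⊓ Cfsg.Geo.omegaGL ⇑Q) := by
  have hmemΩ : ∀ x : Matrix.GeneralLinearGroup ι F, x ∈ Cfsg.Geo.omegaGL ⇑Q ↔
      ∃ g : ↥(Cfsg.isometryGroup F ⇑Q), g ∈ commutator ↥(Cfsg.isometryGroup F ⇑Q) ∧
        (g : Matrix.GeneralLinearGroup ι F) = x := by
    intro x
    unfold Cfsg.Geo.omegaGL
    rw [Subgroup.mem_map]
    rfl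
  refine ⟨lt_of_le_of_ne inf_le_right ?_, ?_⟩
  · intro heq
    obtain ⟨g, hgΩ, hg⟩ := hproper
    have h1 : (g : Matrix.GeneralLinearGroup ι F) ∈ Cfsg.Geo.omegaGL ⇑Q :=
      (hmemΩ _).2 ⟨g, hgΩ, rfl⟩
    rw [← heq] at h1
    exact hg h1.1
  · intro M hHM hMK
    by_cases hMH : M ≤ S ⊓ Cfsg.Geo.omegaGL ⇑Q
    · exact Or.inl (le_antisymm hMH hHM)
    · right
      apply le_antisymm hMK
      obtain ⟨x, hxM, hxH⟩ := SetLike.not_le_iff_exists.1 hMH
      obtain ⟨g, hgΩ, rfl⟩ := (hmemΩ x).1 (hMK hxM)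
      have hgS : (g : Matrix.GeneralLinearGroup ι F) ∉ S := by
        intro h
        exact hxH ⟨h, hMK hxM⟩
      have h2 := hmax (M.comap (Cfsg.isometryGroup F ⇑Q).subtype) (by
        intro a haS haΩ
        rw [Subgroup.mem_comap]
        apply hHM
        exact ⟨haS, (hmemΩ _).2 ⟨a, haΩ, rfl⟩⟩) g
        (by rw [Subgroup.mem_comap]; exact hxM) hgS
      intro y hy
      obtain ⟨a, haΩ, rfl⟩ := (hmemΩ y).1 hy
      exact h2 haΩ

/-- extraction of the quadratic-extension data from a field subalgebra acting by similitudes -/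
theorem exists_kdata [Nonempty ι] (Q : QuadraticForm F (ι → F))
    (hQ : (QuadraticMap.polarBilin Q).Nondegenerate)
    (K : Subalgebra F (Matrix ι ι F)) (hK : Cfsg.Geo.IsFieldSubalgebra 2 K)
    (hsc : ∀ k ∈ K, ∃ c : F, ∀ v : ι → F, Q (k *ᵥ v) = c * Q v) :
    ∃ (κ : Matrix ι ι F) (t N : F), κ ∈ K ∧ KData Q κ t N ∧ (∀ a : F, κ ≠ a • (1 : Matrix ι ι F)) ∧
      ∀ k ∈ K, ∃ a b : F, k = a • (1 : Matrix ι ι F) + b • κ := by
  -- a non-scalar element
  have hex : ∃ κ ∈ K, ∀ a : F, κ ≠ a • (1 : Matrix ι ι F) := by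
    by_contra hcon
    push Not at hcon
    have hle : K ≤ ⊥ := by
      intro k hk
      obtain ⟨a, ha⟩ := hcon k hk
      rw [Algebra.mem_bot]
      exact ⟨a, by rw [Algebra.algebraMap_eq_smul_one, ha]⟩
    have h1 : K = ⊥ := le_antisymm hle bot_le
    have h2 := hK.finrank_eq
    rw [h1, Subalgebra.finrank_bot] at h2
    omega
  obtain ⟨κ, hκK, hκ⟩ := hex
  have hone : (1 : Matrix ι ι F) ≠ 0 := one_ne_zero
  -- spanning
  have hli : LinearIndependent F ![(1 : Matrix ι ι F), κ] := by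
    rw [LinearIndependent.pair_iff]
    intro s u hsu
    by_cases hu : u = 0
    · subst hu
      rw [zero_smul, add_zero] at hsu
      rcases smul_eq_zero.1 hsu with h | h
      · exact ⟨h, rfl⟩
      · exact absurd h hone
    · exfalso
      apply hκ (-s / u)
      have : u • κ = -(s • (1 : Matrix ι ι F)) := by
        rw [eq_neg_iff_add_eq_zero, add_comm]; exact hsu
      calc κ = u⁻¹ • (u • κ) := by rw [smul_smul, inv_mul_cancel₀ hu, one_smul]
        _ = (-s / u) • (1 : Matrix ι ι F) := by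
            rw [this, ← neg_smul, smul_smul]; congr 1; field_simp
  have hspan : Submodule.span F {(1 : Matrix ι ι F), κ} = Subalgebra.toSubmodule K := by
    apply Submodule.eq_of_le_of_finrank_eq
    · rw [Submodule.span_le]
      intro x hx
      rcases hx with rfl | hx
      · exact K.one_mem
      · rw [Set.mem_singleton_iff] at hx; rw [hx]; exact hκK
    · have h1 := finrank_span_eq_card hli
      have h2 : Set.range ![(1 : Matrix ι ι F), κ] = {(1 : Matrix ι ι F), κ} := by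
        simp [Matrix.range_cons, Set.pair_comm]
      rw [h2] at h1
      rw [h1, Subalgebra.finrank_toSubmodule, hK.finrank_eq]
      simp
  have hdecomp : ∀ k ∈ K, ∃ a b : F, k = a • (1 : Matrix ι ι F) + b • κ := by
    intro k hk
    have : k ∈ Submodule.span F {(1 : Matrix ι ι F), κ} := by
      rw [hspan]; exact hk
    obtain ⟨a, b, hab⟩ := Submodule.mem_span_pair.1 this
    exact ⟨a, b, hab.symm⟩
  obtain ⟨N, hN⟩ := hsc κ hκK
  obtain ⟨c₁, hc₁⟩ := hsc (1 + κ) (K.add_mem K.one_mem hκK)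
  have hc₁' : ∀ v : ι → F, Q (v + κ *ᵥ v) = c₁ * Q v := by
    intro v
    have := hc₁ v
    rwa [Matrix.add_mulVec, Matrix.one_mulVec] at this
  have hpolkk : ∀ x y : ι → F, polar (⇑Q) (κ *ᵥ x) (κ *ᵥ y) = N * polar (⇑Q) x y := by
    intro x y
    unfold polar
    rw [← Matrix.mulVec_add, hN, hN, hN]; ring
  have hadj : ∀ x y : ι → F,
      polar (⇑Q) (κ *ᵥ x) y = (c₁ - 1 - N) * polar (⇑Q) x y - polar (⇑Q) x (κ *ᵥ y) := by
    intro x y
    have h1 : polar (⇑Q) (x + κ *ᵥ x) (y + κ *ᵥ y) = c₁ * polar (⇑Q) x y := by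
      unfold polar
      have : x + κ *ᵥ x + (y + κ *ᵥ y) = (x + y) + κ *ᵥ (x + y) := by
        rw [Matrix.mulVec_add]; abel
      rw [this, hc₁', hc₁', hc₁']; ring
    rw [polar_add_left, polar_add_right, polar_add_right, hpolkk] at h1
    linear_combination h1
  have hself : ∀ x : ι → F, polar (⇑Q) x (κ *ᵥ x) = (c₁ - 1 - N) * Q x := by
    intro x
    have h1 := hc₁' x
    rw [QuadraticMap.map_add (⇑Q), hN] at h1
    linear_combination h1
  have hsq : ∀ x : ι → F, κ *ᵥ (κ *ᵥ x) = (c₁ - 1 - N) • (κ *ᵥ x) - N • x := by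
    intro x
    have h0 : κ *ᵥ (κ *ᵥ x) - ((c₁ - 1 - N) • (κ *ᵥ x) - N • x) = 0 := by
      apply hQ.2
      intro z
      rw [QuadraticMap.polarBilin_apply_apply, polar_sub_right, polar_sub_right, polar_smul_right,
        polar_smul_right]
      have h1 := hadj z (κ *ᵥ x)
      rw [hpolkk] at h1
      simp only [smul_eq_mul]
      linear_combination h1
    exact sub_eq_zero.1 h0
  have hirr : ∀ x : ι → F, x ≠ 0 → ∀ a : F, κ *ᵥ x ≠ a • x := by
    intro x hx a hax
    have hmem : κ - a • (1 : Matrix ι ι F) ∈ K := K.sub_mem hκK (K.smul_mem K.one_mem a)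
    have hne : κ - a • (1 : Matrix ι ι F) ≠ 0 := by
      intro h0; exact hκ a (sub_eq_zero.1 h0)
    obtain ⟨y, hyK, hy⟩ := hK.inv _ hmem hne
    have hy' : y * (κ - a • (1 : Matrix ι ι F)) = 1 := by
      rw [hK.comm y hyK _ hmem]; exact hy
    apply hx
    have h1 : (y * (κ - a • (1 : Matrix ι ι F))) *ᵥ x = x := by rw [hy', Matrix.one_mulVec]
    rw [← Matrix.mulVec_mulVec, Matrix.sub_mulVec, Matrix.smul_mulVec, Matrix.one_mulVec, hax,
      sub_self, Matrix.mulVec_zero] at h1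
    exact h1.symm
  exact ⟨κ, c₁ - 1 - N, N, hκK, ⟨hadj, hN, hself, hsq, hirr⟩, hκ, hdecomp⟩

end Cfsg.Agent.Lib.Helper94
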