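import Mathlib
import Cfsg.Agent.Lib.Helper94.KBridge

set_option autoImplicit false

namespace Cfsg.Agent.Lib.Helper94

open Matrix Module QuadraticMap
open Cfsg.Agent.Lib.Helper8 Cfsg.Agent.Lib.Helper37

set_option linter.unusedSectionVars false
set_option linter.unusedVariables false

variable {ι : Type} [Fintype ι] [DecidableEq ι] {F : Type*} [Field F]

lemma GL_mul_inv (g : Matrix.GeneralLinearGroup ι F) :
    (g : Matrix ι ι F) * ((g⁻¹ : Matrix.GeneralLinearGroup ι F) : Matrix ι ι F) = 1 := by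
  rw [← Units.val_mul, mul_inv_cancel, Units.val_one]

lemma GL_inv_mul (g : Matrix.GeneralLinearGroup ι F) :
    ((g⁻¹ : Matrix.GeneralLinearGroup ι F) : Matrix ι ι F) * (g : Matrix ι ι F) = 1 := by
  rw [← Units.val_mul, inv_mul_cancel, Units.val_one]

/-- a matrix conjugating the generator into the subalgebra normalises it -/
theorem mem_normalizer_of_conj (K : Subalgebra F (Matrix ι ι F)) (κ : Matrix ι ι F) (hκK : κ ∈ K)
    (hκ : ∀ a : F, κ ≠ a • (1 : Matrix ι ι F))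
    (hdec : ∀ k ∈ K, ∃ a b : F, k = a • (1 : Matrix ι ι F) + b • κ)
    (g : Matrix.GeneralLinearGroup ι F) (α β : F)
    (hg : (g : Matrix ι ι F) * κ * ((g⁻¹ : Matrix.GeneralLinearGroup ι F) : Matrix ι ι F)
      = α • (1 : Matrix ι ι F) + β • κ) :
    g ∈ Cfsg.Geo.subalgebraNormalizer K := by
  have hβ : β ≠ 0 := by
    rintro rfl
    apply hκ α
    rw [zero_smul, add_zero] at hg
    calc κ = ((g⁻¹ : Matrix.GeneralLinearGroup ι F) : Matrix ι ι F) *
          ((g : Matrix ι ι F) * κ * ((g⁻¹ : Matrix.GeneralLinearGroup ι F) : Matrix ι ι F)) *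
            (g : Matrix ι ι F) := by
          simp only [← mul_assoc, GL_inv_mul, one_mul]
          rw [mul_assoc, GL_inv_mul, mul_one]
      _ = α • (1 : Matrix ι ι F) := by
          rw [hg, Matrix.mul_smul, Matrix.smul_mul, mul_one, GL_inv_mul]
  have hinv : ((g⁻¹ : Matrix.GeneralLinearGroup ι F) : Matrix ι ι F) * κ * (g : Matrix ι ι F)
      = β⁻¹ • (κ - α • (1 : Matrix ι ι F)) := by
    have h1 : κ = α • (1 : Matrix ι ι F) +
        β • (((g⁻¹ : Matrix.GeneralLinearGroup ι F) : Matrix ι ι F) * κ * (g : Matrix ι ι F)) := by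
      calc κ = ((g⁻¹ : Matrix.GeneralLinearGroup ι F) : Matrix ι ι F) *
            ((g : Matrix ι ι F) * κ * ((g⁻¹ : Matrix.GeneralLinearGroup ι F) : Matrix ι ι F)) *
              (g : Matrix ι ι F) := by
            simp only [← mul_assoc, GL_inv_mul, one_mul]
            rw [mul_assoc, GL_inv_mul, mul_one]
        _ = _ := by
            rw [hg, Matrix.mul_add, Matrix.add_mul, Matrix.mul_smul, Matrix.smul_mul, mul_one,
              GL_inv_mul, Matrix.mul_smul, Matrix.smul_mul]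
    have h2 : β • (((g⁻¹ : Matrix.GeneralLinearGroup ι F) : Matrix ι ι F) * κ * (g : Matrix ι ι F))
        = κ - α • (1 : Matrix ι ι F) := by
      rw [eq_sub_iff_add_eq, add_comm]; exact h1.symm
    rw [← h2, smul_smul, inv_mul_cancel₀ hβ, one_smul]
  intro k
  constructor
  · intro hk
    obtain ⟨a, b, rfl⟩ := hdec k hk
    have : (g : Matrix ι ι F) * (a • (1 : Matrix ι ι F) + b • κ) *
        ((g⁻¹ : Matrix.GeneralLinearGroup ι F) : Matrix ι ι F)
        = a • (1 : Matrix ι ι F) + b • (α • (1 : Matrix ι ι F) + β • κ) := by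
      rw [Matrix.mul_add, Matrix.add_mul, Matrix.mul_smul, Matrix.smul_mul, mul_one, GL_mul_inv,
        Matrix.mul_smul, Matrix.smul_mul, hg]
    rw [this]
    exact K.add_mem (K.smul_mem K.one_mem a)
      (K.smul_mem (K.add_mem (K.smul_mem K.one_mem α) (K.smul_mem hκK β)) b)
  · intro hk
    obtain ⟨a, b, hab⟩ := hdec _ hk
    have : k = a • (1 : Matrix ι ι F) + b • (β⁻¹ • (κ - α • (1 : Matrix ι ι F))) := by
      calc k = ((g⁻¹ : Matrix.GeneralLinearGroup ι F) : Matrix ι ι F) *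
            ((g : Matrix ι ι F) * k * ((g⁻¹ : Matrix.GeneralLinearGroup ι F) : Matrix ι ι F)) *
              (g : Matrix ι ι F) := by
            simp only [← mul_assoc, GL_inv_mul, one_mul]
            rw [mul_assoc, GL_inv_mul, mul_one]
        _ = _ := by
            rw [hab, Matrix.mul_add, Matrix.add_mul, Matrix.mul_smul, Matrix.smul_mul, mul_one,
              GL_inv_mul, Matrix.mul_smul, Matrix.smul_mul, hinv]
    rw [this]
    exact K.add_mem (K.smul_mem K.one_mem a)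
      (K.smul_mem (K.smul_mem (K.sub_mem hκK (K.smul_mem K.one_mem α)) β⁻¹) b)

/-- elements of the normaliser conjugate the generator into the subalgebra -/
theorem conj_of_mem_normalizer (K : Subalgebra F (Matrix ι ι F)) (κ : Matrix ι ι F) (hκK : κ ∈ K)
    (hdec : ∀ k ∈ K, ∃ a b : F, k = a • (1 : Matrix ι ι F) + b • κ)
    (g : Matrix.GeneralLinearGroup ι F) (hg : g ∈ Cfsg.Geo.subalgebraNormalizer K) :
    ∃ α β : F, (g : Matrix ι ι F) * κ * ((g⁻¹ : Matrix.GeneralLinearGroup ι F) : Matrix ι ι F)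
      = α • (1 : Matrix ι ι F) + β • κ :=
  hdec _ ((hg κ).1 hκK)

section step1
variable {Q : QuadraticForm F (ι → F)} {hQ : (QuadraticMap.polarBilin Q).Nondegenerate}
  {κ : Matrix ι ι F} {t N : F}

/-- the `K`-transvections commute with `κ` -/
lemma kE_comm (h : KData Q κ t N) (u : ι → F) (hu : Q u = 0) (b : F)
    (hub : polar (⇑Q) u (b • κ *ᵥ u) = 0) (x : ι → F) :
    act Q (eichlerElt Q hQ u (b • κ *ᵥ u) hu hub) (κ *ᵥ x)
      = κ *ᵥ act Q (eichlerElt Q hQ u (b • κ *ᵥ u) hu hub) x := by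
  rw [act_eichlerElt, act_eichlerElt]
  have h1 : Q (b • κ *ᵥ u) = 0 := by rw [QuadraticMap.map_smul, h.sing hu, smul_zero]
  rw [h1, polar_smul_left, polar_smul_left, h.polar_kk, h.adj u x]
  simp only [Matrix.mulVec_add, Matrix.mulVec_sub, Matrix.mulVec_smul, h.sq, smul_eq_mul, zero_mul,
    zero_smul, sub_zero, Matrix.mulVec_zero]
  module

lemma kE_conj (h : KData Q κ t N) (u : ι → F) (hu : Q u = 0) (b : F)
    (hub : polar (⇑Q) u (b • κ *ᵥ u) = 0) :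
    (((eichlerElt Q hQ u (b • κ *ᵥ u) hu hub : ↥(Cfsg.isometryGroup F ⇑Q)) :
        Matrix.GeneralLinearGroup ι F) : Matrix ι ι F) * κ *
      ((((eichlerElt Q hQ u (b • κ *ᵥ u) hu hub : ↥(Cfsg.isometryGroup F ⇑Q)) :
        Matrix.GeneralLinearGroup ι F)⁻¹ : Matrix.GeneralLinearGroup ι F) : Matrix ι ι F)
      = (0 : F) • (1 : Matrix ι ι F) + (1 : F) • κ := by
  have hc : (((eichlerElt Q hQ u (b • κ *ᵥ u) hu hub : ↥(Cfsg.isometryGroup F ⇑Q)) :
        Matrix.GeneralLinearGroup ι F) : Matrix ι ι F) * κ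
      = κ * (((eichlerElt Q hQ u (b • κ *ᵥ u) hu hub : ↥(Cfsg.isometryGroup F ⇑Q)) :
        Matrix.GeneralLinearGroup ι F) : Matrix ι ι F) := by
    rw [Matrix.ext_iff_mulVec]
    intro x
    rw [← Matrix.mulVec_mulVec, ← Matrix.mulVec_mulVec]
    exact kE_comm h u hu b hub x
  rw [hc, mul_assoc, GL_mul_inv, mul_one, zero_smul, zero_add, one_smul]

/-- an isometry not conjugating `κ` into `F[κ]` moves some singular `K`-line off `K`-lines -/
theorem exists_moved_kline [Fintype F] (hQ' : (QuadraticMap.polarBilin Q).Nondegenerate)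
    (h : KData Q κ t N) (hn : 13 ≤ finrank F (ι → F))
    (g : ↥(Cfsg.isometryGroup F ⇑Q))
    (hg : ¬ ∃ α β : F, ((g : Matrix.GeneralLinearGroup ι F) : Matrix ι ι F) * κ *
      (((g : Matrix.GeneralLinearGroup ι F)⁻¹ : Matrix.GeneralLinearGroup ι F) : Matrix ι ι F)
        = α • (1 : Matrix ι ι F) + β • κ) :
    ∃ u : ι → F, Q u = 0 ∧ u ≠ 0 ∧ act Q g (κ *ᵥ u) ∉ ksub κ (act Q g u) := by
  by_contra hcon
  push Not at hcon
  apply hg
  -- the conjugated map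
  have hf : ∀ w : ι → F, Q w = 0 → w ≠ 0 →
      ∃ α β : F, act Q g (κ *ᵥ act Q g⁻¹ w) = α • w + β • κ *ᵥ w := by
    intro w hw hw0
    have h1 : Q (act Q g⁻¹ w) = 0 := by rw [Q_act]; exact hw
    have h2 : act Q g⁻¹ w ≠ 0 := fun h0 => hw0 (act_eq_zero Q g⁻¹ w h0)
    have h3 := hcon _ h1 h2
    have h4 : act Q g (act Q g⁻¹ w) = w := by rw [← act_mul, mul_inv_cancel, act_one]
    rw [h4] at h3
    exact mem_ksub.1 h3
  have hadd : ∀ w₁ w₂ : ι → F, act Q g (κ *ᵥ act Q g⁻¹ (w₁ + w₂))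
      = act Q g (κ *ᵥ act Q g⁻¹ w₁) + act Q g (κ *ᵥ act Q g⁻¹ w₂) := by
    intro w₁ w₂
    rw [act_add, Matrix.mulVec_add, act_add]
  have hbot : ∀ x ∈ (⊥ : Submodule F (ι → F)), κ *ᵥ x ∈ (⊥ : Submodule F (ι → F)) := by
    intro x hx
    rw [Submodule.mem_bot] at hx ⊢
    rw [hx, Matrix.mulVec_zero]
  -- pair lemma
  have hpair : ∀ (w₁ w₂ : ι → F) (α₁ β₁ : F), Q w₁ = 0 → Q w₂ = 0 → w₁ ≠ 0 →
      polar (⇑Q) w₁ w₂ = 0 → w₂ ∉ ksub κ w₁ →
      act Q g (κ *ᵥ act Q g⁻¹ w₁) = α₁ • w₁ + β₁ • κ *ᵥ w₁ →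
      act Q g (κ *ᵥ act Q g⁻¹ w₂) = α₁ • w₂ + β₁ • κ *ᵥ w₂ := by
    intro w₁ w₂ α₁ β₁ hw₁ hw₂ hw₁0 h12 hw₂n hf₁
    have hw₂0 : w₂ ≠ 0 := by
      rintro rfl; exact hw₂n (Submodule.zero_mem _)
    obtain ⟨α₂, β₂, hf₂⟩ := hf w₂ hw₂ hw₂0
    have hsum : Q (w₁ + w₂) = 0 := by
      rw [QuadraticMap.map_add (⇑Q), hw₁, hw₂, h12]; simp
    have hsum0 : w₁ + w₂ ≠ 0 := by
      intro h0
      apply hw₂n
      have : w₂ = (-1 : F) • w₁ := by
        rw [neg_one_smul]; exact eq_neg_of_add_eq_zero_right h0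
      rw [this]
      exact Submodule.smul_mem _ _ (self_mem_ksub κ w₁)
    obtain ⟨α, β, hf₁₂⟩ := hf _ hsum hsum0
    rw [hadd, hf₁, hf₂, Matrix.mulVec_add] at hf₁₂
    have h1 : (α - α₂) • w₂ + (β - β₂) • κ *ᵥ w₂ ∈ ksub κ w₁ := by
      have : (α - α₂) • w₂ + (β - β₂) • κ *ᵥ w₂ = (α₁ - α) • w₁ + (β₁ - β) • κ *ᵥ w₁ := by
        linear_combination (norm := module) (-1 : F) • hf₁₂
      rw [this]
      exact Submodule.add_mem _ (Submodule.smul_mem _ _ (self_mem_ksub κ w₁))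
        (Submodule.smul_mem _ _ (k_mem_ksub κ w₁))
    obtain ⟨ha, hb⟩ := h.ind (fun x hx => h.ksub_inv hx) hw₂n _ _ h1
    have h2 : (α₁ - α) • w₁ + (β₁ - β) • κ *ᵥ w₁ ∈ (⊥ : Submodule F (ι → F)) := by
      rw [Submodule.mem_bot]
      have : (α₁ - α) • w₁ + (β₁ - β) • κ *ᵥ w₁ = (α - α₂) • w₂ + (β - β₂) • κ *ᵥ w₂ := by
        linear_combination (norm := module) hf₁₂
      rw [this, ha, hb]
      simp
    have hw₁b : w₁ ∉ (⊥ : Submodule F (ι → F)) := by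
      rw [Submodule.mem_bot]; exact hw₁0
    obtain ⟨ha', hb'⟩ := h.ind hbot hw₁b _ _ h2
    have e1 : α₂ = α₁ := by
      rw [sub_eq_zero] at ha ha'; rw [← ha, ← ha']
    have e2 : β₂ = β₁ := by
      rw [sub_eq_zero] at hb hb'; rw [← hb, ← hb']
    rw [hf₂, e1, e2]
  -- base point
  obtain ⟨w₀, hw₀, -, hw₀N⟩ := exists_sing_orth_notMem Q hQ' ⊥ (by rw [finrank_bot]; omega)
  have hw₀0 : w₀ ≠ 0 := by
    intro h0; apply hw₀N; rw [h0]; exact Submodule.zero_mem _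
  obtain ⟨α₀, β₀, hf₀⟩ := hf w₀ hw₀ hw₀0
  have hall : ∀ w : ι → F, Q w = 0 →
      act Q g (κ *ᵥ act Q g⁻¹ w) = α₀ • w + β₀ • κ *ᵥ w := by
    intro w hw
    by_cases hw0 : w = 0
    · subst hw0
      rw [act_zero, Matrix.mulVec_zero, act_zero]
      simp
    obtain ⟨w'', hw'', hw''S, hw''N⟩ := exists_sing_orth_notMem Q hQ' (ksub κ w₀ ⊔ ksub κ w)
      (by have := finrank_ksub_sup_le κ w₀ w; omega)
    have h1 : w'' ∉ ksub κ w₀ := fun hm => hw''N (Submodule.mem_sup_left hm)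
    have h2 : w'' ∉ ksub κ w := fun hm => hw''N (Submodule.mem_sup_right hm)
    have h3 : polar (⇑Q) w₀ w'' = 0 := hw''S w₀ (Submodule.mem_sup_left (self_mem_ksub κ w₀))
    have h4 : polar (⇑Q) w w'' = 0 := hw''S w (Submodule.mem_sup_right (self_mem_ksub κ w))
    have h5 := hpair w₀ w'' α₀ β₀ hw₀ hw'' hw₀0 h3 h1 hf₀
    have hw''0 : w'' ≠ 0 := by
      rintro rfl; exact h1 (Submodule.zero_mem _)
    have h6 : w ∉ ksub κ w'' := fun hm => h2 (h.ksub_symm hm hw0)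
    exact hpair w'' w α₀ β₀ hw'' hw hw''0 (by rw [polar_comm]; exact h4) h6 h5
  refine ⟨α₀, β₀, ?_⟩
  rw [Matrix.ext_iff_mulVec]
  intro x
  obtain ⟨w₁, w₂, hw₁, hw₂, rfl⟩ := exists_sing_add_sing Q hQ' (by omega) x
  have h1 := hadd w₁ w₂
  rw [hall w₁ hw₁, hall w₂ hw₂] at h1
  rw [← Matrix.mulVec_mulVec, ← Matrix.mulVec_mulVec, Matrix.add_mulVec, Matrix.smul_mulVec,
    Matrix.smul_mulVec, Matrix.one_mulVec]
  have h2 : ((g : Matrix.GeneralLinearGroup ι F) : Matrix ι ι F) *ᵥ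
      (κ *ᵥ ((((g : Matrix.GeneralLinearGroup ι F)⁻¹ : Matrix.GeneralLinearGroup ι F) :
        Matrix ι ι F) *ᵥ (w₁ + w₂))) = act Q g (κ *ᵥ act Q g⁻¹ (w₁ + w₂)) := rfl
  rw [h2, h1, Matrix.mulVec_add]
  module

end step1

end Cfsg.Agent.Lib.Helper94
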