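import Mathlib
import Cfsg.Agent.Lib.Helper94.KBridge2

set_option autoImplicit false

namespace Cfsg.Agent.Lib.Helper94

open Matrix Module QuadraticMap
open Cfsg.Agent.Lib.Helper8 Cfsg.Agent.Lib.Helper37

set_option linter.unusedSectionVars false
set_option linter.unusedVariables false

variable {ι : Type} [Fintype ι] [DecidableEq ι] {F : Type*} [Field F]

/-- there is an element of `Ω` outside the normaliser of the field subalgebra -/
theorem exists_omega_not_normalizer [Fintype F] (Q : QuadraticForm F (ι → F))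
    (hQ : (QuadraticMap.polarBilin Q).Nondegenerate) (hn : 13 ≤ finrank F (ι → F))
    (K : Subalgebra F (Matrix ι ι F)) {κ : Matrix ι ι F} {t N : F} (h : KData Q κ t N)
    (hκK : κ ∈ K) (hdec : ∀ k ∈ K, ∃ a b : F, k = a • (1 : Matrix ι ι F) + b • κ) :
    ∃ g ∈ commutator ↥(Cfsg.isometryGroup F ⇑Q),
      (g : Matrix.GeneralLinearGroup ι F) ∉ Cfsg.Geo.subalgebraNormalizer K := by
  obtain ⟨p, hp, -, hpN⟩ := exists_sing_orth_notMem Q hQ ⊥ (by rw [finrank_bot]; omega)
  have hp0 : p ≠ 0 := by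
    intro h0; apply hpN; rw [h0]; exact Submodule.zero_mem _
  obtain ⟨s, hs, hsS, hsN⟩ := exists_sing_orth_notMem Q hQ (ksub κ p)
    (by have := finrank_ksub_le κ p; omega)
  have hps : polar (⇑Q) p s = 0 := hsS p (self_mem_ksub κ p)
  have hkps : polar (⇑Q) (κ *ᵥ p) s = 0 := hsS _ (k_mem_ksub κ p)
  refine ⟨eichlerElt Q hQ p s hp hps,
    eichlerElt_mem_omega Q hQ (by omega) (fun _ => by omega) p s hp hps, ?_⟩
  intro hg
  obtain ⟨α, β, hαβ⟩ := conj_of_mem_normalizer K κ hκK hdec _ hg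
  have hrel : ∀ x : ι → F, act Q (eichlerElt Q hQ p s hp hps) (κ *ᵥ x)
      = α • act Q (eichlerElt Q hQ p s hp hps) x
        + β • κ *ᵥ act Q (eichlerElt Q hQ p s hp hps) x := by
    intro x
    have h1 := congrArg (fun A : Matrix ι ι F =>
      A *ᵥ (act Q (eichlerElt Q hQ p s hp hps) x)) hαβ
    beta_reduce at h1
    rw [← Matrix.mulVec_mulVec, ← Matrix.mulVec_mulVec, Matrix.add_mulVec, Matrix.smul_mulVec,
      Matrix.smul_mulVec, Matrix.one_mulVec] at h1
    have h2 : ((((eichlerElt Q hQ p s hp hps : ↥(Cfsg.isometryGroup F ⇑Q)) :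
        Matrix.GeneralLinearGroup ι F)⁻¹ : Matrix.GeneralLinearGroup ι F) : Matrix ι ι F) *ᵥ
        act Q (eichlerElt Q hQ p s hp hps) x = x := inv_mulVec_mulVec _ x
    rw [h2] at h1
    exact h1
  have hbot : ∀ x ∈ (⊥ : Submodule F (ι → F)), κ *ᵥ x ∈ (⊥ : Submodule F (ι → F)) := by
    intro x hx
    rw [Submodule.mem_bot] at hx ⊢
    rw [hx, Matrix.mulVec_zero]
  -- a vector fixed together with its `κ`-image
  obtain ⟨x₁, -, hx₁S, hx₁N⟩ := exists_sing_orth_notMem Q hQ (ksub κ p ⊔ ksub κ s)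
    (by have := finrank_ksub_sup_le κ p s; omega)
  have hx₁0 : x₁ ∉ (⊥ : Submodule F (ι → F)) := by
    rw [Submodule.mem_bot]
    intro h0; apply hx₁N; rw [h0]; exact Submodule.zero_mem _
  have h1 : polar (⇑Q) p x₁ = 0 := hx₁S p (Submodule.mem_sup_left (self_mem_ksub κ p))
  have h2 : polar (⇑Q) s x₁ = 0 := hx₁S s (Submodule.mem_sup_right (self_mem_ksub κ s))
  have h3 : polar (⇑Q) (κ *ᵥ p) x₁ = 0 := hx₁S _ (Submodule.mem_sup_left (k_mem_ksub κ p))
  have h4 : polar (⇑Q) (κ *ᵥ s) x₁ = 0 := hx₁S _ (Submodule.mem_sup_right (k_mem_ksub κ s))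
  have h5 : polar (⇑Q) p (κ *ᵥ x₁) = 0 := by rw [h.adj', h1, h3]; ring
  have h6 : polar (⇑Q) s (κ *ᵥ x₁) = 0 := by rw [h.adj', h2, h4]; ring
  have hfix1 : act Q (eichlerElt Q hQ p s hp hps) x₁ = x₁ := by
    rw [act_eichlerElt, h1, h2]; simp
  have hfix2 : act Q (eichlerElt Q hQ p s hp hps) (κ *ᵥ x₁) = κ *ᵥ x₁ := by
    rw [act_eichlerElt, h5, h6]; simp
  have hr1 := hrel x₁
  rw [hfix1, hfix2] at hr1
  have hr2 : (-α) • x₁ + (1 - β) • κ *ᵥ x₁ ∈ (⊥ : Submodule F (ι → F)) := by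
    rw [Submodule.mem_bot]
    linear_combination (norm := module) hr1
  obtain ⟨hα, hβ⟩ := h.ind hbot hx₁0 _ _ hr2
  have hα0 : α = 0 := neg_eq_zero.1 hα
  have hβ1 : β = 1 := (sub_eq_zero.1 hβ).symm
  subst hα0; subst hβ1
  -- now a vector moved by the transvection
  have hpn : p ∉ Submodule.span F {s} := by
    intro hm
    obtain ⟨c, hc⟩ := Submodule.mem_span_singleton.1 hm
    have hc0 : c ≠ 0 := by
      rintro rfl; rw [zero_smul] at hc; exact hp0 hc.symm
    apply hsN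
    have : s = c⁻¹ • p := by rw [← hc, smul_smul, inv_mul_cancel₀ hc0, one_smul]
    rw [this]
    exact Submodule.smul_mem _ _ (self_mem_ksub κ p)
  obtain ⟨b, hb, hbS, hbp⟩ := exists_sing_orth_pair1 Q hQ (Submodule.span F {s}) p hpn
    (by have := finrank_span_single_le (F := F) s; omega)
  have hsb : polar (⇑Q) s b = 0 := hbS s (Submodule.mem_span_singleton_self s)
  have hgb : act Q (eichlerElt Q hQ p s hp hps) b = b + s := by
    rw [act_eichlerElt, hbp, hsb, hs]; simp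
  have hr3 := hrel b
  rw [hgb, act_eichlerElt, hs, Matrix.mulVec_add] at hr3
  have hr4 : (-polar (⇑Q) p (κ *ᵥ b)) • s + (1 : F) • κ *ᵥ s ∈ ksub κ p := by
    have : (-polar (⇑Q) p (κ *ᵥ b)) • s + (1 : F) • κ *ᵥ s
        = (-polar (⇑Q) s (κ *ᵥ b)) • p + (0 : F) • κ *ᵥ p := by
      linear_combination (norm := module) (-1 : F) • hr3
    rw [this]
    exact Submodule.add_mem _ (Submodule.smul_mem _ _ (self_mem_ksub κ p))
      (Submodule.smul_mem _ _ (k_mem_ksub κ p))
  have := (h.ind (fun x hx => h.ksub_inv hx) hsN _ _ hr4).2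
  exact one_ne_zero this

/-- the normaliser of a quadratic field subalgebra of similitudes is maximal in `Ω` -/
theorem kfield_maximal [Fintype F] (Q : QuadraticForm F (ι → F))
    (hQ : (QuadraticMap.polarBilin Q).Nondegenerate) (hn : 13 ≤ finrank F (ι → F))
    (K : Subalgebra F (Matrix ι ι F)) (hK : Cfsg.Geo.IsFieldSubalgebra 2 K)
    (hsc : ∀ k ∈ K, ∃ c : F, ∀ v : ι → F, Q (k *ᵥ v) = c * Q v) :
    Cfsg.Geo.IsMaximalIn (Cfsg.Geo.omegaGL ⇑Q)
      (Cfsg.Geo.subalgebraNormalizer K ⊓ Cfsg.Geo.omegaGL ⇑Q) := by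
  have hne : Nonempty ι := by
    by_contra hcon
    rw [not_nonempty_iff] at hcon
    have : finrank F (ι → F) = 0 := by
      rw [Module.finrank_fintype_fun_eq_card]; exact Fintype.card_eq_zero
    omega
  obtain ⟨κ, t, N, hκK, h, hκ, hdec⟩ := exists_kdata Q hQ K hK hsc
  apply isMaximalIn_inf_omega_of Q
  · exact exists_omega_not_normalizer Q hQ hn K h hκK hdec
  · intro M hHM g hgM hgN
    have hH : ∀ u : ι → F, Q u = 0 → ∀ b : F, EM Q hQ M u (b • κ *ᵥ u) := by
      intro u hu b hu' hub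
      apply hHM
      · exact mem_normalizer_of_conj K κ hκK hκ hdec _ 0 1 (kE_conj h u hu' b hub)
      · exact eichlerElt_mem_omega Q hQ (by omega) (fun _ => by omega) u _ hu' hub
    have hg' : ¬ ∃ α β : F, ((g : Matrix.GeneralLinearGroup ι F) : Matrix ι ι F) * κ *
        (((g : Matrix.GeneralLinearGroup ι F)⁻¹ : Matrix.GeneralLinearGroup ι F) : Matrix ι ι F)
          = α • (1 : Matrix ι ι F) + β • κ := by
      rintro ⟨α, β, hαβ⟩
      exact hgN (mem_normalizer_of_conj K κ hκK hκ hdec _ α β hαβ)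
    obtain ⟨u, hu, hu0, hmoved⟩ := exists_moved_kline hQ h hn g hg'
    have hp : Q (act Q g u) = 0 := by rw [Q_act]; exact hu
    have hp0 : act Q g u ≠ 0 := fun h0 => hu0 (act_eq_zero Q g u h0)
    have hs : Q (act Q g (κ *ᵥ u)) = 0 := by rw [Q_act]; exact h.sing hu
    have hps : polar (⇑Q) (act Q g u) (act Q g (κ *ᵥ u)) = 0 := by
      rw [polar_act]; exact h.orth_self hu
    apply omega_le_of_kdata h hn hH hp hp0 hs hps hmoved
    intro c
    have h1 := EM_conj hgM (hH u hu c)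
    rw [act_smul] at h1
    exact h1

end Cfsg.Agent.Lib.Helper94
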