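import Mathlib
import Cfsg.Agent.Lib.Helper94.KBridge3

set_option autoImplicit false

/-!
A matrix mapping every singular `K`-line into itself lies in `F[κ]`.
-/

namespace Cfsg.Agent.Lib.Helper94

open Matrix Module QuadraticMap

set_option linter.unusedSectionVars false
set_option linter.unusedVariables false

variable {ι : Type} [Fintype ι] [DecidableEq ι] {F : Type*} [Field F]

section spk1
variable {Q : QuadraticForm F (ι → F)} {κ : Matrix ι ι F} {t N : F}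

/-- a matrix mapping each singular vector into its `K`-line is an element of `F[κ]` -/
theorem kmat_of_klines [Fintype F] (hQ' : (QuadraticMap.polarBilin Q).Nondegenerate)
    (h : KData Q κ t N) (hn : 13 ≤ finrank F (ι → F)) (κ' : Matrix ι ι F)
    (hf : ∀ w : ι → F, Q w = 0 → w ≠ 0 → κ' *ᵥ w ∈ ksub κ w) :
    ∃ α β : F, κ' = α • (1 : Matrix ι ι F) + β • κ := by
  have hf : ∀ w : ι → F, Q w = 0 → w ≠ 0 → ∃ α β : F, κ' *ᵥ w = α • w + β • κ *ᵥ w := by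
    intro w hw hw0
    exact mem_ksub.1 (hf w hw hw0)
  have hbot : ∀ x ∈ (⊥ : Submodule F (ι → F)), κ *ᵥ x ∈ (⊥ : Submodule F (ι → F)) := by
    intro x hx
    rw [Submodule.mem_bot] at hx ⊢
    rw [hx, Matrix.mulVec_zero]
  -- pair lemma
  have hpair : ∀ (w₁ w₂ : ι → F) (α₁ β₁ : F), Q w₁ = 0 → Q w₂ = 0 → w₁ ≠ 0 →
      polar (⇑Q) w₁ w₂ = 0 → w₂ ∉ ksub κ w₁ →
      κ' *ᵥ w₁ = α₁ • w₁ + β₁ • κ *ᵥ w₁ →
      κ' *ᵥ w₂ = α₁ • w₂ + β₁ • κ *ᵥ w₂ := by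
    intro w₁ w₂ α₁ β₁ hw₁ hw₂ hw₁0 h12 hw₂n hf₁
    have hw₂0 : w₂ ≠ 0 := by
      rintro rfl; exact hw₂n (Submodule.zero_mem _)
    obtain ⟨α₂, β₂, hf₂⟩ := hf w₂ hw₂ hw₂0
    have hsum : Q (w₁ + w₂) = 0 := by
      rw [QuadraticMap.map_add (⇑Q), hw₁, hw₂, h12]; simp
    have hsum0 : w₁ + w₂ ≠ 0 := by
      intro h0
      apply hw₂n
      have : w₂ = (-1 : F) • w₁ := by
        rw [neg_one_smul]; exact eq_neg_of_add_eq_zero_right h0
      rw [this]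
      exact Submodule.smul_mem _ _ (self_mem_ksub κ w₁)
    obtain ⟨α, β, hf₁₂⟩ := hf _ hsum hsum0
    rw [Matrix.mulVec_add, hf₁, hf₂, Matrix.mulVec_add] at hf₁₂
    have h1 : (α - α₂) • w₂ + (β - β₂) • κ *ᵥ w₂ ∈ ksub κ w₁ := by
      have : (α - α₂) • w₂ + (β - β₂) • κ *ᵥ w₂ = (α₁ - α) • w₁ + (β₁ - β) • κ *ᵥ w₁ := by
        linear_combination (norm := module) (-1 : F) • hf₁₂
      rw [this]
      exact Submodule.add_mem _ (Submodule.smul_mem _ _ (self_mem_ksub κ w₁))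
        (Submodule.smul_mem _ _ (k_mem_ksub κ w₁))
    obtain ⟨ha, hb⟩ := h.ind (fun x hx => h.ksub_inv hx) hw₂n _ _ h1
    have h2 : (α₁ - α) • w₁ + (β₁ - β) • κ *ᵥ w₁ ∈ (⊥ : Submodule F (ι → F)) := by
      rw [Submodule.mem_bot]
      have : (α₁ - α) • w₁ + (β₁ - β) • κ *ᵥ w₁ = (α - α₂) • w₂ + (β - β₂) • κ *ᵥ w₂ := by
        linear_combination (norm := module) hf₁₂
      rw [this, ha, hb]
      simp
    have hw₁b : w₁ ∉ (⊥ : Submodule F (ι → F)) := by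
      rw [Submodule.mem_bot]; exact hw₁0
    obtain ⟨ha', hb'⟩ := h.ind hbot hw₁b _ _ h2
    have e1 : α₂ = α₁ := by
      rw [sub_eq_zero] at ha ha'; rw [← ha, ← ha']
    have e2 : β₂ = β₁ := by
      rw [sub_eq_zero] at hb hb'; rw [← hb, ← hb']
    rw [hf₂, e1, e2]
  -- base point
  obtain ⟨w₀, hw₀, -, hw₀N⟩ := exists_sing_orth_notMem Q hQ' ⊥ (by rw [finrank_bot]; omega)
  have hw₀0 : w₀ ≠ 0 := by
    intro h0; apply hw₀N; rw [h0]; exact Submodule.zero_mem _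
  obtain ⟨α₀, β₀, hf₀⟩ := hf w₀ hw₀ hw₀0
  have hall : ∀ w : ι → F, Q w = 0 → κ' *ᵥ w = α₀ • w + β₀ • κ *ᵥ w := by
    intro w hw
    by_cases hw0 : w = 0
    · subst hw0
      rw [Matrix.mulVec_zero, Matrix.mulVec_zero]
      simp
    obtain ⟨w'', hw'', hw''S, hw''N⟩ := exists_sing_orth_notMem Q hQ' (ksub κ w₀ ⊔ ksub κ w)
      (by have := finrank_ksub_sup_le κ w₀ w; omega)
    have h1 : w'' ∉ ksub κ w₀ := fun hm => hw''N (Submodule.mem_sup_left hm)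
    have h2 : w'' ∉ ksub κ w := fun hm => hw''N (Submodule.mem_sup_right hm)
    have h3 : polar (⇑Q) w₀ w'' = 0 := hw''S w₀ (Submodule.mem_sup_left (self_mem_ksub κ w₀))
    have h4 : polar (⇑Q) w w'' = 0 := hw''S w (Submodule.mem_sup_right (self_mem_ksub κ w))
    have h5 := hpair w₀ w'' α₀ β₀ hw₀ hw'' hw₀0 h3 h1 hf₀
    have hw''0 : w'' ≠ 0 := by
      rintro rfl; exact h1 (Submodule.zero_mem _)
    have h6 : w ∉ ksub κ w'' := fun hm => h2 (h.ksub_symm hm hw0)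
    exact hpair w'' w α₀ β₀ hw'' hw hw''0 (by rw [polar_comm]; exact h4) h6 h5
  refine ⟨α₀, β₀, ?_⟩
  rw [Matrix.ext_iff_mulVec]
  intro x
  obtain ⟨w₁, w₂, hw₁, hw₂, rfl⟩ := exists_sing_add_sing Q hQ' (by omega) x
  rw [Matrix.mulVec_add, hall w₁ hw₁, hall w₂ hw₂, Matrix.add_mulVec, Matrix.smul_mulVec,
    Matrix.smul_mulVec, Matrix.one_mulVec, Matrix.mulVec_add]
  module

end spk1

end Cfsg.Agent.Lib.Helper94
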