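import Mathlib
import Cfsg.Agent.Lib.Helper94.SpK1
import Cfsg.Agent.Lib.Helper99.SpPair1

set_option autoImplicit false

/-!
A quadratic field subalgebra closed under the symplectic adjoint but not self-adjoint:
skew-adjoint generator and the associated quadratic form `x ↦ f(x, κ x)`.
-/

namespace Cfsg.Agent.Lib.Helper94

open Matrix Module QuadraticMap
open Cfsg.Agent.Lib

set_option linter.unusedSectionVars false
set_option linter.unusedVariables false

section spk2

variable {F : Type*} [Field F] (m : ℕ)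

local notation "V" => (Fin m ⊕ Fin m → F)
local notation "Mat" => Matrix (Fin m ⊕ Fin m) (Fin m ⊕ Fin m) F

/-- a skew-adjoint generator `κ` with `κ² = D` acting irreducibly -/
structure SkewGen (κ : Mat) (D : F) : Prop where
  skew : ∀ x y : V, Cfsg.sympForm m F (κ *ᵥ x) y = - Cfsg.sympForm m F x (κ *ᵥ y)
  sq : ∀ x : V, κ *ᵥ (κ *ᵥ x) = D • x
  irr : ∀ x : V, x ≠ 0 → ∀ a : F, κ *ᵥ x ≠ a • x

/-- decomposition of a two-dimensional subalgebra along a non-scalar element -/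
theorem dec_of_nonscalar {ι : Type} [Fintype ι] [DecidableEq ι] [Nonempty ι]
    (K : Subalgebra F (Matrix ι ι F)) (hK : Cfsg.Geo.IsFieldSubalgebra 2 K)
    (κ : Matrix ι ι F) (hκK : κ ∈ K) (hκ : ∀ a : F, κ ≠ a • (1 : Matrix ι ι F)) :
    ∀ k ∈ K, ∃ a b : F, k = a • (1 : Matrix ι ι F) + b • κ := by
  have hone : (1 : Matrix ι ι F) ≠ 0 := one_ne_zero
  have hli : LinearIndependent F ![(1 : Matrix ι ι F), κ] := by
    rw [LinearIndependent.pair_iff]
    intro s u hsu
    by_cases hu : u = 0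
    · subst hu
      rw [zero_smul, add_zero] at hsu
      rcases smul_eq_zero.1 hsu with h | h
      · exact ⟨h, rfl⟩
      · exact absurd h hone
    · exfalso
      apply hκ (-s / u)
      have : u • κ = -(s • (1 : Matrix ι ι F)) := by
        rw [eq_neg_iff_add_eq_zero, add_comm]; exact hsu
      calc κ = u⁻¹ • (u • κ) := by rw [smul_smul, inv_mul_cancel₀ hu, one_smul]
        _ = (-s / u) • (1 : Matrix ι ι F) := by
            rw [this, ← neg_smul, smul_smul]; congr 1; field_simp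
  have hspan : Submodule.span F {(1 : Matrix ι ι F), κ} = Subalgebra.toSubmodule K := by
    apply Submodule.eq_of_le_of_finrank_eq
    · rw [Submodule.span_le]
      intro x hx
      rcases hx with rfl | hx
      · exact K.one_mem
      · rw [Set.mem_singleton_iff] at hx; rw [hx]; exact hκK
    · have h1 := finrank_span_eq_card hli
      have h2 : Set.range ![(1 : Matrix ι ι F), κ] = {(1 : Matrix ι ι F), κ} := by
        simp [Matrix.range_cons, Set.pair_comm]
      rw [h2] at h1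
      rw [h1, Subalgebra.finrank_toSubmodule, hK.finrank_eq]
      simp
  intro k hk
  have : k ∈ Submodule.span F {(1 : Matrix ι ι F), κ} := by
    rw [hspan]; exact hk
  obtain ⟨a, b, hab⟩ := Submodule.mem_span_pair.1 this
  exact ⟨a, b, hab.symm⟩

/-- a non-scalar element of a field subalgebra has no eigenvectors -/
theorem irr_of_nonscalar {ι : Type} [Fintype ι] [DecidableEq ι] {r : ℕ}
    (K : Subalgebra F (Matrix ι ι F)) (hK : Cfsg.Geo.IsFieldSubalgebra r K)
    (κ : Matrix ι ι F) (hκK : κ ∈ K) (hκ : ∀ a : F, κ ≠ a • (1 : Matrix ι ι F)) :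
    ∀ x : ι → F, x ≠ 0 → ∀ a : F, κ *ᵥ x ≠ a • x := by
  intro x hx a hax
  have hmem : κ - a • (1 : Matrix ι ι F) ∈ K := K.sub_mem hκK (K.smul_mem K.one_mem a)
  have hne : κ - a • (1 : Matrix ι ι F) ≠ 0 := by
    intro h0; exact hκ a (sub_eq_zero.1 h0)
  obtain ⟨y, hyK, hy⟩ := hK.inv _ hmem hne
  have hy' : y * (κ - a • (1 : Matrix ι ι F)) = 1 := by
    rw [hK.comm y hyK _ hmem]; exact hy
  apply hx
  have h1 : (y * (κ - a • (1 : Matrix ι ι F))) *ᵥ x = x := by rw [hy', Matrix.one_mulVec]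
  rw [← Matrix.mulVec_mulVec, Matrix.sub_mulVec, Matrix.smul_mulVec, Matrix.one_mulVec, hax,
    sub_self, Matrix.mulVec_zero] at h1
  exact h1.symm

/-- existence of a non-scalar element -/
theorem exists_nonscalar {ι : Type} [Fintype ι] [DecidableEq ι] [Nonempty ι]
    (K : Subalgebra F (Matrix ι ι F)) (hK : Cfsg.Geo.IsFieldSubalgebra 2 K) :
    ∃ κ ∈ K, ∀ a : F, κ ≠ a • (1 : Matrix ι ι F) := by
  by_contra hcon
  push Not at hcon
  have hle : K ≤ ⊥ := by
    intro k hk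
    obtain ⟨a, ha⟩ := hcon k hk
    rw [Algebra.mem_bot]
    exact ⟨a, by rw [Algebra.algebraMap_eq_smul_one, ha]⟩
  have h1 : K = ⊥ := le_antisymm hle bot_le
  have h2 := hK.finrank_eq
  rw [h1, Subalgebra.finrank_bot] at h2
  omega

/-- a matrix killing the symplectic form vanishes on vectors -/
lemma sympForm_ext_left {x x' : V} (h : ∀ y : V, Cfsg.sympForm m F x y = Cfsg.sympForm m F x' y) :
    x = x' := by
  by_contra hne
  have h0 : x - x' ≠ 0 := sub_ne_zero.2 hne
  obtain ⟨a, ha⟩ := Helper13.exists_sympForm_ne_zero m (x - x') h0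
  apply ha
  rw [Helper13.sympForm_sub_left, h a, sub_self]

theorem exists_skewGen (hm : 1 ≤ m) (h2 : (2 : F) ≠ 0) (K : Subalgebra F Mat)
    (hK : Cfsg.Geo.IsFieldSubalgebra 2 K)
    (hac : Cfsg.Geo.IsAdjointClosedFor (Cfsg.sympForm m F) K)
    (hnsa : ¬ Cfsg.Geo.IsSelfAdjointFor (Cfsg.sympForm m F) K) :
    ∃ (κ : Mat) (D : F), κ ∈ K ∧ SkewGen m κ D ∧ (∀ a : F, κ ≠ a • (1 : Mat)) ∧
      ∀ k ∈ K, ∃ a b : F, k = a • (1 : Mat) + b • κ := by
  have hne : Nonempty (Fin m ⊕ Fin m) := ⟨Sum.inl ⟨0, by omega⟩⟩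
  -- a pair of vectors with non-zero product
  obtain ⟨x₀, y₀, hxy₀⟩ : ∃ x₀ y₀ : V, Cfsg.sympForm m F x₀ y₀ ≠ 0 := by
    have h1 : (Pi.single (Sum.inl ⟨0, by omega⟩) 1 : V) ≠ 0 := by
      intro h0
      have := congrFun h0 (Sum.inl ⟨0, by omega⟩)
      simp at this
    obtain ⟨a, ha⟩ := Helper13.exists_sympForm_ne_zero m _ h1
    exact ⟨_, a, ha⟩
  obtain ⟨κ₀, hκ₀K, hκ₀⟩ := exists_nonscalar K hK
  have hdec₀ := dec_of_nonscalar K hK κ₀ hκ₀K hκ₀
  obtain ⟨κ₁, hκ₁K, hadj⟩ := hac κ₀ hκ₀K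
  have hadj' : ∀ x y : V, Cfsg.sympForm m F (κ₁ *ᵥ x) y = Cfsg.sympForm m F x (κ₀ *ᵥ y) := by
    intro x y
    rw [Helper13.sympForm_swap, ← hadj, Helper13.sympForm_swap, neg_neg]
  obtain ⟨κ, hκdef⟩ : ∃ κ : Mat, κ = κ₀ - κ₁ := ⟨_, rfl⟩
  have hκK : κ ∈ K := by rw [hκdef]; exact K.sub_mem hκ₀K hκ₁K
  have hskew : ∀ x y : V, Cfsg.sympForm m F (κ *ᵥ x) y = - Cfsg.sympForm m F x (κ *ᵥ y) := by
    intro x y
    rw [hκdef, Matrix.sub_mulVec, Matrix.sub_mulVec, Helper13.sympForm_sub_left,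
      Helper13.sympForm_sub_right, hadj, hadj']
    ring
  have hκ : ∀ a : F, κ ≠ a • (1 : Mat) := by
    intro c hc
    have h1 := hskew x₀ y₀
    rw [hc, Matrix.smul_mulVec, Matrix.smul_mulVec, Matrix.one_mulVec, Matrix.one_mulVec,
      Helper13.sympForm_smul_left, Helper13.sympForm_smul_right] at h1
    have h3 : 2 * c * Cfsg.sympForm m F x₀ y₀ = 0 := by linear_combination h1
    have hc0 : c = 0 := by
      rcases mul_eq_zero.1 h3 with h | h
      · rcases mul_eq_zero.1 h with h | h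
        · exact absurd h h2
        · exact h
      · exact absurd h hxy₀
    rw [hc0, zero_smul] at hc
    have h01 : κ₀ = κ₁ := by
      rw [hκdef] at hc; exact sub_eq_zero.1 hc
    apply hnsa
    intro k hk u v
    obtain ⟨a, b, rfl⟩ := hdec₀ k hk
    rw [Matrix.add_mulVec, Matrix.add_mulVec, Matrix.smul_mulVec, Matrix.smul_mulVec,
      Matrix.smul_mulVec, Matrix.smul_mulVec, Matrix.one_mulVec, Matrix.one_mulVec,
      Helper13.sympForm_add_left, Helper13.sympForm_add_right, Helper13.sympForm_smul_left,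
      Helper13.sympForm_smul_left, Helper13.sympForm_smul_right, Helper13.sympForm_smul_right,
      hadj, ← h01]
  have hdec := dec_of_nonscalar K hK κ hκK hκ
  have hirr := irr_of_nonscalar K hK κ hκK hκ
  obtain ⟨α, β, hαβ⟩ := hdec (κ * κ) (K.mul_mem hκK hκK)
  have hβ : β = 0 := by
    have hx₀ : x₀ ≠ 0 := by
      rintro rfl
      exact hxy₀ (Helper13.sympForm_zero_left m y₀)
    have hκx₀ : κ *ᵥ x₀ ≠ 0 := by
      intro h0
      apply hirr x₀ hx₀ 0
      rw [h0, zero_smul]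
    obtain ⟨y₁, hy₁⟩ := Helper13.exists_sympForm_ne_zero m _ hκx₀
    have h1 : Cfsg.sympForm m F ((κ * κ) *ᵥ x₀) y₁ = Cfsg.sympForm m F x₀ ((κ * κ) *ᵥ y₁) := by
      rw [← Matrix.mulVec_mulVec, ← Matrix.mulVec_mulVec, hskew, hskew, neg_neg]
    have hsk : Cfsg.sympForm m F x₀ (κ *ᵥ y₁) = - Cfsg.sympForm m F (κ *ᵥ x₀) y₁ := by
      rw [hskew]; ring
    rw [hαβ, Matrix.add_mulVec, Matrix.add_mulVec, Matrix.smul_mulVec, Matrix.smul_mulVec,
      Matrix.smul_mulVec, Matrix.smul_mulVec, Matrix.one_mulVec, Matrix.one_mulVec,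
      Helper13.sympForm_add_left, Helper13.sympForm_add_right, Helper13.sympForm_smul_left,
      Helper13.sympForm_smul_left, Helper13.sympForm_smul_right, Helper13.sympForm_smul_right,
      hsk] at h1
    have h3 : 2 * β * Cfsg.sympForm m F (κ *ᵥ x₀) y₁ = 0 := by linear_combination h1
    rcases mul_eq_zero.1 h3 with h | h
    · rcases mul_eq_zero.1 h with h | h
      · exact absurd h h2
      · exact h
    · exact absurd h hy₁
  refine ⟨κ, α, hκK, ⟨hskew, ?_, hirr⟩, hκ, hdec⟩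
  intro x
  rw [Matrix.mulVec_mulVec, hαβ, hβ, zero_smul, add_zero, Matrix.smul_mulVec, Matrix.one_mulVec]

end spk2

end Cfsg.Agent.Lib.Helper94
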