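import Mathlib
import Cfsg.Agent.Lib.Helper94.SpK2

set_option autoImplicit false

/-!
The quadratic form `x ↦ f(x, κ x)` of a skew-adjoint generator, and the elements of the
normaliser used in the maximality proof: unitary transvections and Eichler elements.
-/

namespace Cfsg.Agent.Lib.Helper94

open Matrix Module QuadraticMap
open Cfsg.Agent.Lib

set_option linter.unusedSectionVars false
set_option linter.unusedVariables false

section spk3

variable {F : Type*} [Field F] (m : ℕ)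

local notation "V" => (Fin m ⊕ Fin m → F)
local notation "Mat" => Matrix (Fin m ⊕ Fin m) (Fin m ⊕ Fin m) F
local notation "sf" => Cfsg.sympForm m F

/-- the quadratic form `x ↦ f(x, κ x)` -/
noncomputable def kQ (κ : Mat) : QuadraticForm F V :=
  (Matrix.toBilin' (Matrix.J (Fin m) F * κ)).toQuadraticMap

lemma kQ_apply (κ : Mat) (x : V) : kQ m κ x = sf x (κ *ᵥ x) := by
  unfold kQ
  rw [LinearMap.BilinMap.toQuadraticMap_apply, Matrix.toBilin'_apply', Helper13.sympForm_def,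
    Matrix.mulVec_mulVec]

lemma kQ_polar' (κ : Mat) (x y : V) :
    polar (⇑(kQ m κ)) x y = sf x (κ *ᵥ y) + sf y (κ *ᵥ x) := by
  unfold kQ
  rw [LinearMap.BilinMap.polar_toQuadraticMap, Matrix.toBilin'_apply', Matrix.toBilin'_apply',
    Helper13.sympForm_def, Helper13.sympForm_def, Matrix.mulVec_mulVec, Matrix.mulVec_mulVec]

end spk3

section spk3b

variable {F : Type*} [Field F] {m : ℕ}

local notation "V" => (Fin m ⊕ Fin m → F)
local notation "Mat" => Matrix (Fin m ⊕ Fin m) (Fin m ⊕ Fin m) F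
local notation "sf" => Cfsg.sympForm m F

namespace SkewGen

variable {κ : Matrix (Fin m ⊕ Fin m) (Fin m ⊕ Fin m) F} {D : F} (h : SkewGen m κ D)
include h

lemma skew' (x y : V) : sf x (κ *ᵥ y) = - sf (κ *ᵥ x) y := by
  rw [h.skew]; ring

lemma kk (x y : V) : sf (κ *ᵥ x) (κ *ᵥ y) = - (D * sf x y) := by
  rw [h.skew, h.sq, Helper13.sympForm_smul_right]

lemma self_k (x : V) : sf (κ *ᵥ x) x = - sf x (κ *ᵥ x) := Helper13.sympForm_swap m _ _

lemma kQ_polar (x y : V) : polar (⇑(kQ m κ)) x y = 2 * sf x (κ *ᵥ y) := by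
  rw [kQ_polar', Helper13.sympForm_swap m y, h.skew]
  ring

lemma k_ne_zero {x : V} (hx : x ≠ 0) : κ *ᵥ x ≠ 0 := by
  intro h0
  apply h.irr x hx 0
  rw [h0, zero_smul]

lemma D_ne {x : V} (hx : x ≠ 0) : D ≠ 0 := by
  intro hD
  have h1 := h.sq x
  rw [hD, zero_smul] at h1
  exact h.k_ne_zero (h.k_ne_zero hx) h1

lemma kdata : KData (kQ m κ) κ 0 (-D) := by
  refine ⟨?_, ?_, ?_, ?_, h.irr⟩
  · intro x y
    rw [h.kQ_polar, h.kQ_polar, h.kQ_polar, h.skew]
    ring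
  · intro x
    rw [kQ_apply, kQ_apply, h.sq, Helper13.sympForm_smul_right, h.self_k]
    ring
  · intro x
    rw [h.kQ_polar, h.sq, Helper13.sympForm_smul_right, Helper13.sympForm_self]
    ring
  · intro x
    rw [h.sq]
    module

lemma kQ_nondeg (h2 : (2 : F) ≠ 0) (x₀ : V) (hx₀ : x₀ ≠ 0) :
    (QuadraticMap.polarBilin (kQ m κ)).Nondegenerate := by
  have hD := h.D_ne hx₀
  refine ⟨?_, ?_⟩
  · intro x hx
    apply sympForm_ext_left m
    intro y
    have h1 := hx (κ *ᵥ y)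
    rw [QuadraticMap.polarBilin_apply_apply, h.kQ_polar, h.sq, Helper13.sympForm_smul_right] at h1
    rw [Helper13.sympForm_zero_left]
    rcases mul_eq_zero.1 h1 with h3 | h3
    · exact absurd h3 h2
    · rcases mul_eq_zero.1 h3 with h4 | h4
      · exact absurd h4 hD
      · exact h4
  · intro y hy
    by_contra hy0
    have hky := h.k_ne_zero hy0
    obtain ⟨a, ha⟩ := Helper13.exists_sympForm_ne_zero m _ hky
    apply ha
    have h1 := hy a
    rw [QuadraticMap.polarBilin_apply_apply, h.kQ_polar] at h1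
    rw [Helper13.sympForm_swap]
    rcases mul_eq_zero.1 h1 with h3 | h3
    · exact absurd h3 h2
    · rw [h3, neg_zero]

/-- the norm form `a² - D b²` is anisotropic -/
lemma aniso {x : V} (hx : x ≠ 0) (a b : F) (hab : a * a - D * (b * b) = 0) : a = 0 ∧ b = 0 := by
  apply h.kdata.norm_aniso hx a b
  linear_combination hab

end SkewGen

end spk3b

section spk3c

variable {F : Type*} [Field F] (m : ℕ)

local notation "V" => (Fin m ⊕ Fin m → F)
local notation "Mat" => Matrix (Fin m ⊕ Fin m) (Fin m ⊕ Fin m) F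
local notation "sf" => Cfsg.sympForm m F

/-! ### elements commuting with `κ` -/

theorem mem_normalizer_of_comm (K : Subalgebra F Mat) (κ : Mat) (hκK : κ ∈ K)
    (hκ : ∀ a : F, κ ≠ a • (1 : Mat))
    (hdec : ∀ k ∈ K, ∃ a b : F, k = a • (1 : Mat) + b • κ)
    (g : Matrix.GeneralLinearGroup (Fin m ⊕ Fin m) F)
    (hg : ∀ x : V, (g : Mat) *ᵥ (κ *ᵥ x) = κ *ᵥ ((g : Mat) *ᵥ x)) :
    g ∈ Cfsg.Geo.subalgebraNormalizer K := by
  apply mem_normalizer_of_conj K κ hκK hκ hdec g 0 1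
  have hc : (g : Mat) * κ = κ * (g : Mat) := by
    rw [Matrix.ext_iff_mulVec]
    intro x
    rw [← Matrix.mulVec_mulVec, ← Matrix.mulVec_mulVec]
    exact hg x
  rw [hc, mul_assoc, GL_mul_inv, mul_one, zero_smul, zero_add, one_smul]

/-- the unitary transvection `x ↦ x + c f(x, κ a) κ a - c D f(x, a) a` -/
noncomputable def ut (κ : Mat) (D : F) (a : V) (c : F) :
    Matrix.GeneralLinearGroup (Fin m ⊕ Fin m) F :=
  Helper99.stv m (κ *ᵥ a) c * Helper99.stv m a (-(c * D))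

lemma ut_mem_spGL (κ : Mat) (D : F) (a : V) (c : F) : ut m κ D a c ∈ Cfsg.spGL m F :=
  Subgroup.mul_mem _ (Helper99.stv_mem_spGL m _ _) (Helper99.stv_mem_spGL m _ _)

lemma ut_mulVec {κ : Mat} {D : F} (a : V) (ha : sf a (κ *ᵥ a) = 0) (c : F) (x : V) :
    ((ut m κ D a c : Matrix.GeneralLinearGroup (Fin m ⊕ Fin m) F) : Mat) *ᵥ x
      = x + (c * sf x (κ *ᵥ a)) • κ *ᵥ a - (c * D * sf x a) • a := by
  unfold ut
  rw [Units.val_mul, ← Matrix.mulVec_mulVec, Helper99.stv_mulVec, Helper99.stv_mulVec,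
    Helper13.sympForm_add_left, Helper13.sympForm_smul_left, ha]
  module

lemma ut_comm {κ : Mat} {D : F} (h : SkewGen m κ D) (a : V) (ha : sf a (κ *ᵥ a) = 0) (c : F)
    (x : V) :
    ((ut m κ D a c : Matrix.GeneralLinearGroup (Fin m ⊕ Fin m) F) : Mat) *ᵥ (κ *ᵥ x)
      = κ *ᵥ (((ut m κ D a c : Matrix.GeneralLinearGroup (Fin m ⊕ Fin m) F) : Mat) *ᵥ x) := by
  rw [ut_mulVec m a ha, ut_mulVec m a ha, h.kk, h.skew, Matrix.mulVec_sub, Matrix.mulVec_add,
    Matrix.mulVec_smul, Matrix.mulVec_smul, h.sq]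
  module

/-- the Eichler element attached to a hermitian-orthogonal singular pair -/
noncomputable def Ei (κ : Mat) (b d : V) : Matrix.GeneralLinearGroup (Fin m ⊕ Fin m) F :=
  Helper99.rootElt m b (κ *ᵥ d) * Helper99.rootElt m (κ *ᵥ b) (-d)

lemma Ei_mem_spGL (κ : Mat) (b d : V) : Ei m κ b d ∈ Cfsg.spGL m F :=
  Subgroup.mul_mem _ (Helper99.rootElt_mem_spGL m _ _) (Helper99.rootElt_mem_spGL m _ _)

lemma Ei_mulVec {κ : Mat} {D : F} (h : SkewGen m κ D) (b d : V) (hb : sf b (κ *ᵥ b) = 0)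
    (hd : sf d (κ *ᵥ d) = 0) (hbd : sf b d = 0) (hbkd : sf b (κ *ᵥ d) = 0) (x : V) :
    ((Ei m κ b d : Matrix.GeneralLinearGroup (Fin m ⊕ Fin m) F) : Mat) *ᵥ x
      = x + sf x (κ *ᵥ d) • b + sf x b • κ *ᵥ d - sf x d • κ *ᵥ b - sf x (κ *ᵥ b) • d := by
  have h1 : sf (κ *ᵥ b) (-d) = 0 := by
    rw [← neg_one_smul F d, Helper13.sympForm_smul_right, h.skew, hbkd]; ring
  have h2 : sf (κ *ᵥ b) b = 0 := by rw [h.self_k, hb, neg_zero]
  have h3 : sf d b = 0 := by rw [Helper13.sympForm_swap, hbd, neg_zero]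
  have h4 : sf (-d) (κ *ᵥ d) = 0 := by
    rw [← neg_one_smul F d, Helper13.sympForm_smul_left, hd, mul_zero]
  have h5 : sf (-d) b = 0 := by
    rw [← neg_one_smul F d, Helper13.sympForm_smul_left, h3, mul_zero]
  have h6 : sf (κ *ᵥ b) (κ *ᵥ d) = 0 := by rw [h.kk, hbd]; ring
  have h7 : sf x (-d) = - sf x d := by
    rw [← neg_one_smul F d, Helper13.sympForm_smul_right]; ring
  unfold Ei
  rw [Units.val_mul, ← Matrix.mulVec_mulVec, Helper99.rootElt_mulVec m _ _ h1,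
    Helper99.rootElt_mulVec m _ _ hbkd]
  simp only [Helper13.sympForm_add_left, Helper13.sympForm_smul_left, h2, h4, h5, h6, h7]
  module

lemma Ei_comm {κ : Mat} {D : F} (h : SkewGen m κ D) (b d : V) (hb : sf b (κ *ᵥ b) = 0)
    (hd : sf d (κ *ᵥ d) = 0) (hbd : sf b d = 0) (hbkd : sf b (κ *ᵥ d) = 0) (x : V) :
    ((Ei m κ b d : Matrix.GeneralLinearGroup (Fin m ⊕ Fin m) F) : Mat) *ᵥ (κ *ᵥ x)
      = κ *ᵥ (((Ei m κ b d : Matrix.GeneralLinearGroup (Fin m ⊕ Fin m) F) : Mat) *ᵥ x) := by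
  rw [Ei_mulVec m h b d hb hd hbd hbkd, Ei_mulVec m h b d hb hd hbd hbkd, h.kk, h.kk,
    h.skew x d, h.skew x b]
  simp only [Matrix.mulVec_sub, Matrix.mulVec_add, Matrix.mulVec_smul, h.sq]
  module

end spk3c

end Cfsg.Agent.Lib.Helper94
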