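import Cfsg.Agent.Lib.Helper94.OQMax
import Cfsg.Agent.Lib.Helper8.OrthIndexTwo

set_option autoImplicit false

namespace Cfsg.Agent.Lib.Helper94

open scoped Matrix
open Cfsg

set_option linter.unusedSectionVars false
set_option linter.unnecessarySimpa false
set_option linter.style.haveILetI false
set_option linter.unusedVariables false

variable {ι : Type} [Fintype ι] [DecidableEq ι] {F : Type*} [Field F]

section oform
variable {Q : (ι → F) → F} (hQ : Geo.IsNondegenerateQuadraticForm Q)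
include hQ

lemma pol_ext_right {a b : ι → F} (h : ∀ x, pol Q x a = pol Q x b) : a = b := by
  by_contra hne
  have hne' : a - b ≠ 0 := sub_ne_zero.2 hne
  obtain ⟨⟨x, hx⟩, _⟩ := hQ.nondegenerate (a - b) hne'
  apply hx
  show pol Q x (a - b) = 0
  rw [pol_sub_right hQ, h x, sub_self]

lemma pol_exists_ne (u : ι → F) (hu : u ≠ 0) : ∃ z, pol Q z u ≠ 0 := (hQ.nondegenerate u hu).1

/-- Riesz representation for the polar form -/
lemma pol_riesz (φ : (ι → F) →ₗ[F] F) : ∃ a : ι → F, ∀ x, pol Q x a = φ x := by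
  refine ⟨((polB hQ).toDual (polB_nondeg hQ)).symm φ, fun x => ?_⟩
  rw [pol_comm, ← polB_apply hQ]
  exact LinearMap.BilinForm.apply_toDual_symm_apply (hB := polB_nondeg hQ) φ x

/-- separation by the orthogonal complement -/
lemma pol_exists_orth (X : Submodule F (ι → F)) (x : ι → F) (hx : x ∉ X) :
    ∃ u : ι → F, (∀ x' ∈ X, pol Q x' u = 0) ∧ pol Q x u ≠ 0 := by
  by_contra hcon
  push_neg at hcon
  apply hx
  rw [← orth_orth hQ X, mem_orth]
  intro w hw
  rw [pol_comm]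
  exact hcon w ((mem_orth hQ).1 hw)

/-- the functional `x ↦ pol Q x a` -/
noncomputable def polL (a : ι → F) : (ι → F) →ₗ[F] F where
  toFun x := pol Q x a
  map_add' x y := pol_add_left hQ x y a
  map_smul' c x := by
    simp only [RingHom.id_apply, smul_eq_mul]
    exact pol_smul_left hQ c x a

lemma polL_apply (a x : ι → F) : polL hQ a x = pol Q x a := rfl

lemma orth_span_fin {k : ℕ} (b : Fin k → (ι → F)) (y : ι → F) (h : ∀ i, pol Q y (b i) = 0) :
    y ∈ orth hQ (Submodule.span F (Set.range b)) := by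
  rw [mem_orth]
  intro w hw
  induction hw using Submodule.span_induction with
  | mem x hx =>
    obtain ⟨i, rfl⟩ := hx
    rw [pol_comm]; exact h i
  | zero => exact pol_zero_left hQ y
  | add x z _ _ hx hz => rw [pol_add_left hQ, hx, hz, add_zero]
  | smul c x _ hx => rw [pol_smul_left hQ, hx, mul_zero]

omit hQ in
lemma finrank_span_fin_le {k : ℕ} (b : Fin k → (ι → F)) :
    Module.finrank F (Submodule.span F (Set.range b)) ≤ k := by
  have := finrank_range_le_card (R := F) b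
  rw [Fintype.card_fin] at this
  exact this

/-- a nonsingular vector orthogonal to a small family -/
lemma exists_nonsingular_orth_fin {k : ℕ} (b : Fin k → (ι → F)) (hk : 2 * k < Fintype.card ι) :
    ∃ y, (∀ i, pol Q y (b i) = 0) ∧ Q y ≠ 0 := by
  have h1 := finrank_span_fin_le (F := F) b
  obtain ⟨y, hy, hyQ⟩ := exists_nonsingular_in_orth hQ (Submodule.span F (Set.range b)) (by omega)
  refine ⟨y, fun i => ?_, hyQ⟩
  rw [pol_comm]
  exact (mem_orth hQ).1 hy _ (Submodule.subset_span ⟨i, rfl⟩)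

section odd
variable [Fintype F] (h2 : (2 : F) ≠ 0)
include h2

omit [Fintype F] in
lemma Q_half (x : ι → F) : Q x = pol Q x x / 2 := by
  rw [pol_self hQ]
  field_simp

/-- a vector of prescribed norm orthogonal to a small family -/
lemma exists_norm_orth_q {k : ℕ} (b : Fin k → (ι → F)) (hk : 2 * (k + 1) < Fintype.card ι) (t : F) :
    ∃ y, (∀ i, pol Q y (b i) = 0) ∧ Q y = t := by
  obtain ⟨y0, hy0, hy0Q⟩ := exists_nonsingular_orth_fin hQ b (by omega)
  obtain ⟨y1, hy1, hy1Q⟩ := exists_nonsingular_orth_fin hQ (Fin.cons y0 b : Fin (k + 1) → (ι → F)) hk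
  have h01 : pol Q y1 y0 = 0 := by simpa using hy1 0
  have h1b : ∀ i, pol Q y1 (b i) = 0 := by
    intro i
    simpa using hy1 i.succ
  obtain ⟨x, y, hxy⟩ := Cfsg.Agent.Lib.Helper8.exists_sq_add_sq_fin h2 (Q y0) (Q y1) t hy0Q hy1Q
  refine ⟨x • y0 + y • y1, fun i => ?_, ?_⟩
  · rw [pol_add_left hQ, pol_smul_left hQ, pol_smul_left hQ, hy0 i, h1b i, mul_zero, mul_zero, add_zero]
  · rw [Q_add Q, Q_smul hQ, Q_smul hQ, pol_smul_left hQ, pol_smul_right hQ, pol_comm Q y0 y1, h01]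
    linear_combination hxy

/-- every vector orthogonal to `b` is a sum of two singular vectors orthogonal to `b` -/
lemma sing_sum (hn : 6 < Fintype.card ι) (b x : ι → F) (hxb : pol Q x b = 0) :
    ∃ x1 x2 : ι → F, Q x1 = 0 ∧ Q x2 = 0 ∧ pol Q x1 b = 0 ∧ pol Q x2 b = 0 ∧ x = x1 + x2 := by
  by_cases hs : Q x = 0
  · exact ⟨x, 0, hs, Q_zero hQ, hxb, pol_zero_left hQ b, (add_zero x).symm⟩
  · obtain ⟨y, hy, hyy⟩ := exists_norm_orth_q hQ h2 ![b, x] (by simp; omega) (-(Q x))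
    have hyb : pol Q y b = 0 := by simpa using hy 0
    have hyx : pol Q y x = 0 := by simpa using hy 1
    have hxy : pol Q x y = 0 := by rw [pol_comm]; exact hyx
    refine ⟨(2 : F)⁻¹ • (x + y), (2 : F)⁻¹ • (x - y), ?_, ?_, ?_, ?_, ?_⟩
    · rw [Q_smul hQ, Q_add Q, hxy, hyy]; ring
    · rw [Q_smul hQ, Q_sub hQ, hxy, hyy]; ring
    · rw [pol_smul_left hQ, pol_add_left hQ, hxb, hyb, add_zero, mul_zero]
    · rw [pol_smul_left hQ, pol_sub_left hQ, hxb, hyb, sub_zero, mul_zero]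
    · rw [← smul_add, add_add_sub_cancel, ← two_smul F x, smul_smul, inv_mul_cancel₀ h2, one_smul]

/-- a singular vector orthogonal to `b1` and not orthogonal to `b2` -/
lemma exists_sing_orth_ne (hn : 8 < Fintype.card ι) (b1 b2 : ι → F) (h : b2 ∉ Submodule.span F {b1}) :
    ∃ u : ι → F, Q u = 0 ∧ pol Q u b1 = 0 ∧ pol Q u b2 ≠ 0 := by
  obtain ⟨u0, hu0, hne⟩ := pol_exists_orth hQ (Submodule.span F {b1}) b2 h
  have hub1 : pol Q u0 b1 = 0 := by
    rw [pol_comm]; exact hu0 b1 (Submodule.mem_span_singleton_self b1)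
  have hub2 : pol Q u0 b2 ≠ 0 := by
    rw [pol_comm]; exact hne
  by_cases hs : Q u0 = 0
  · exact ⟨u0, hs, hub1, hub2⟩
  · obtain ⟨y, hy, hyy⟩ := exists_norm_orth_q hQ h2 ![b1, b2, u0] (by simp; omega) (-(Q u0))
    have hyb1 : pol Q y b1 = 0 := by simpa using hy 0
    have hyb2 : pol Q y b2 = 0 := by simpa using hy 1
    have hyu : pol Q y u0 = 0 := by simpa using hy 2
    refine ⟨u0 + y, ?_, ?_, ?_⟩
    · rw [Q_add Q, pol_comm Q u0 y, hyu, hyy]; ring
    · rw [pol_add_left hQ, hub1, hyb1, add_zero]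
    · rw [pol_add_left hQ, hyb2, add_zero]; exact hub2

/-- a singular vector orthogonal to a small family, with a witness that it lies outside the span -/
lemma exists_sing_orth_k {k : ℕ} (b : Fin k → (ι → F)) (hk : 2 * (k + 2) < Fintype.card ι) :
    ∃ z y1 : ι → F, Q z = 0 ∧ (∀ i, pol Q z (b i) = 0) ∧ (∀ i, pol Q (b i) y1 = 0) ∧ pol Q z y1 ≠ 0 := by
  obtain ⟨y1, hy1, hy1Q⟩ := exists_norm_orth_q hQ h2 b (by omega) 1
  obtain ⟨y2, hy2, hy2Q⟩ := exists_norm_orth_q hQ h2 (Fin.cons y1 b : Fin (k + 1) → (ι → F)) (by omega) (-1)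
  have h21 : pol Q y2 y1 = 0 := by simpa using hy2 0
  have h2b : ∀ i, pol Q y2 (b i) = 0 := by
    intro i
    simpa using hy2 i.succ
  refine ⟨y1 + y2, y1, ?_, fun i => ?_, fun i => ?_, ?_⟩
  · rw [Q_add Q, pol_comm Q y1 y2, h21, hy1Q, hy2Q]; ring
  · rw [pol_add_left hQ, hy1 i, h2b i, add_zero]
  · rw [pol_comm]; exact hy1 i
  · rw [pol_add_left hQ, h21, add_zero, pol_self hQ, hy1Q, mul_one]
    exact h2

/-- a singular vector not orthogonal to either of two nonzero vectors -/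
lemma exists_sing_both (hn : 10 < Fintype.card ι) (u u' : ι → F) (hu : u ≠ 0) (hu' : u' ≠ 0) :
    ∃ z : ι → F, Q z = 0 ∧ pol Q z u ≠ 0 ∧ pol Q z u' ≠ 0 := by
  have h0 : ∀ v : ι → F, v ≠ 0 → v ∉ Submodule.span F {(0 : ι → F)} := by
    intro v hv hmem
    rw [Submodule.span_zero_singleton, Submodule.mem_bot] at hmem
    exact hv hmem
  obtain ⟨z1, hz1, _, h1⟩ := exists_sing_orth_ne hQ h2 (by omega) 0 u (h0 u hu)
  obtain ⟨z2, hz2, _, h2'⟩ := exists_sing_orth_ne hQ h2 (by omega) 0 u' (h0 u' hu')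
  by_cases h3 : pol Q z1 u' = 0
  · by_cases h4 : pol Q z2 u = 0
    · obtain ⟨y, hy, hyy⟩ := exists_norm_orth_q hQ h2 ![z1, z2, u, u'] (by simp; omega) (-(pol Q z1 z2))
      have hy1 : pol Q y z1 = 0 := by simpa using hy 0
      have hy2 : pol Q y z2 = 0 := by simpa using hy 1
      have hy3 : pol Q y u = 0 := by simpa using hy 2
      have hy4 : pol Q y u' = 0 := by simpa using hy 3
      refine ⟨z1 + z2 + y, ?_, ?_, ?_⟩
      · rw [Q_add Q, Q_add Q, pol_add_left hQ, pol_comm Q z1 y, pol_comm Q z2 y, hy1, hy2, hz1, hz2, hyy]; ring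
      · rw [pol_add_left hQ, pol_add_left hQ, h4, hy3, add_zero, add_zero]; exact h1
      · rw [pol_add_left hQ, pol_add_left hQ, h3, hy4, add_zero, zero_add]; exact h2'
    · exact ⟨z2, hz2, h4, h2'⟩
  · exact ⟨z1, hz1, h1, h3⟩

end odd

end oform

end Cfsg.Agent.Lib.Helper94
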