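import Mathlib
import Cfsg.Prelude.Def_RootSubgroups
import Cfsg.Agent.Lib.Helper8.Eichler2
import Cfsg.Agent.Lib.Helper94.KGeom

set_option autoImplicit false

namespace Cfsg.Agent.Lib.Helper94.Sg

open Matrix Module QuadraticMap
open Cfsg.Agent.Lib.Helper8 Cfsg.Agent.Lib.Helper13 Cfsg.Agent.Lib.Helper94

set_option linter.unusedSectionVars false
set_option linter.unusedVariables false

variable {ι : Type} [Fintype ι] [DecidableEq ι] {F : Type*} [Field F]

local notation:73 g:73 " ⬝ " x:74 => Matrix.mulVec (Units.val (Subtype.val g)) x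

/-- a pair of vectors spanning a totally singular line -/
structure TSPair (Q : QuadraticForm F (ι → F)) where
  p : ι → F
  r : ι → F
  hp : Q p = 0
  hr : Q r = 0
  hpr : polar (⇑Q) p r = 0
  li : ∀ s t : F, s • p + t • r = 0 → s = 0 ∧ t = 0

variable (Q : QuadraticForm F (ι → F))

omit [Fintype ι] [DecidableEq ι] in
theorem polar_self_sing (x : ι → F) (hx : Q x = 0) : polar (⇑Q) x x = 0 := by
  rw [polar_self, hx, smul_zero]

namespace TSPair

variable {Q}
variable (P : TSPair Q)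

omit [Fintype ι] [DecidableEq ι] in
theorem hrp : polar (⇑Q) P.r P.p = 0 := by rw [polar_comm]; exact P.hpr

omit [Fintype ι] [DecidableEq ι] in
theorem hpp : polar (⇑Q) P.p P.p = 0 := polar_self_sing Q _ P.hp

omit [Fintype ι] [DecidableEq ι] in
theorem hrr : polar (⇑Q) P.r P.r = 0 := polar_self_sing Q _ P.hr

omit [Fintype ι] [DecidableEq ι] in
theorem p_ne : P.p ≠ 0 := by
  intro h
  have := P.li 1 0 (by rw [h]; simp)
  exact one_ne_zero this.1

omit [Fintype ι] [DecidableEq ι] in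
theorem r_ne : P.r ≠ 0 := by
  intro h
  have := P.li 0 1 (by rw [h]; simp)
  exact one_ne_zero this.2

omit [Fintype ι] [DecidableEq ι] in
theorem p_notMem : P.p ∉ Submodule.span F {P.r} := by
  intro h
  obtain ⟨a, ha⟩ := Submodule.mem_span_singleton.1 h
  have := P.li 1 (-a) (by rw [← ha]; module)
  exact one_ne_zero this.1

omit [Fintype ι] [DecidableEq ι] in
theorem r_notMem : P.r ∉ Submodule.span F {P.p} := by
  intro h
  obtain ⟨a, ha⟩ := Submodule.mem_span_singleton.1 h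
  have := P.li (-a) 1 (by rw [← ha]; module)
  exact one_ne_zero this.2

/-- the swapped pair -/
def swap : TSPair Q where
  p := P.r
  r := P.p
  hp := P.hr
  hr := P.hp
  hpr := P.hrp
  li := fun s t h => by
    have := P.li t s (by rw [← h]; module)
    exact ⟨this.2, this.1⟩

end TSPair

/-- the set of isometries fixing the orthogonal complement of the line pointwise -/
def Tset (p r : ι → F) : Set ↥(Cfsg.isometryGroup F (⇑Q)) :=
  {σ | ∀ v : ι → F, polar (⇑Q) v p = 0 → polar (⇑Q) v r = 0 → σ ⬝ v = v}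

variable (hQ : (QuadraticMap.polarBilin Q).Nondegenerate)
include hQ

theorem exists_dual_p (P : TSPair Q) :
    ∃ v : ι → F, polar (⇑Q) P.p v = 1 ∧ polar (⇑Q) P.r v = 0 := by
  obtain ⟨z, hz, hzp⟩ := exists_qorth_polar_ne Q hQ _ P.p P.p_notMem
  refine ⟨(polar (⇑Q) z P.p)⁻¹ • z, ?_, ?_⟩
  · rw [polar_smul_right, polar_comm (⇑Q) P.p z, smul_eq_mul, inv_mul_cancel₀ hzp]
  · rw [polar_smul_right, (mem_qorth Q).1 hz P.r (Submodule.mem_span_singleton_self _), smul_zero]

theorem exists_dual_r (P : TSPair Q) :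
    ∃ v : ι → F, polar (⇑Q) P.p v = 0 ∧ polar (⇑Q) P.r v = 1 := by
  obtain ⟨v, h1, h2⟩ := exists_dual_p Q hQ P.swap
  exact ⟨v, h2, h1⟩

/-- Siegel transformation attached to a totally singular pair -/
noncomputable def sg (P : TSPair Q) (c : F) : ↥(Cfsg.isometryGroup F (⇑Q)) :=
  eichlerElt Q hQ P.p (c • P.r) P.hp (by rw [polar_smul_right, P.hpr, smul_zero])

theorem sg_act (P : TSPair Q) (c : F) (x : ι → F) :
    sg Q hQ P c ⬝ x
      = x + (c * polar (⇑Q) P.p x) • P.r - (c * polar (⇑Q) P.r x) • P.p := by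
  unfold sg
  rw [eichlerElt_mulVec, QuadraticMap.map_smul, P.hr, polar_smul_left]
  simp only [smul_eq_mul, mul_zero, zero_mul, zero_smul, sub_zero, smul_smul]
  rw [mul_comm (polar (⇑Q) P.p x) c]

theorem sg_add (P : TSPair Q) (c d : F) :
    sg Q hQ P c * sg Q hQ P d = sg Q hQ P (c + d) := by
  unfold sg
  rw [eichlerElt_mul]
  exact eichlerElt_congr Q hQ _ _ _ _ _ _ _ _ rfl (by rw [add_smul])

theorem sg_zero (P : TSPair Q) : sg Q hQ P 0 = 1 := by
  apply iso_ext
  intro x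
  rw [sg_act]
  simp

theorem sg_inv (P : TSPair Q) (c : F) : (sg Q hQ P c)⁻¹ = sg Q hQ P (-c) := by
  rw [inv_eq_iff_mul_eq_one, sg_add, add_neg_cancel, sg_zero]

theorem sg_comm (P : TSPair Q) (c d : F) :
    sg Q hQ P c * sg Q hQ P d = sg Q hQ P d * sg Q hQ P c := by
  rw [sg_add, sg_add, add_comm]

theorem sg_eq_one_iff (P : TSPair Q) (c : F) : sg Q hQ P c = 1 ↔ c = 0 := by
  constructor
  · intro h
    obtain ⟨v, h1, h2⟩ := exists_dual_p Q hQ P
    have := sg_act Q hQ P c v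
    rw [h, h1, h2] at this
    simp only [OneMemClass.coe_one, Units.val_one, one_mulVec, mul_one, mul_zero, zero_smul,
      sub_zero] at this
    have h3 : c • P.r = 0 := by
      have h4 : v + c • P.r = v + 0 := by rw [add_zero]; exact this.symm
      exact add_left_cancel h4
    rcases smul_eq_zero.1 h3 with h | h
    · exact h
    · exact absurd h P.r_ne
  · rintro rfl
    exact sg_zero Q hQ P

/-- the Siegel transvection group of a pair -/
noncomputable def T (P : TSPair Q) : Subgroup ↥(Cfsg.isometryGroup F (⇑Q)) where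
  carrier := {g | ∃ c : F, g = sg Q hQ P c}
  mul_mem' := by
    rintro _ _ ⟨c, rfl⟩ ⟨d, rfl⟩
    exact ⟨c + d, sg_add Q hQ P c d⟩
  one_mem' := ⟨0, (sg_zero Q hQ P).symm⟩
  inv_mem' := by
    rintro _ ⟨c, rfl⟩
    exact ⟨-c, sg_inv Q hQ P c⟩

theorem mem_T (P : TSPair Q) (g : ↥(Cfsg.isometryGroup F (⇑Q))) :
    g ∈ T Q hQ P ↔ ∃ c : F, g = sg Q hQ P c := Iff.rfl

theorem sg_mem_T (P : TSPair Q) (c : F) : sg Q hQ P c ∈ T Q hQ P := ⟨c, rfl⟩

theorem sg_mem_Tset (P : TSPair Q) (c : F) : sg Q hQ P c ∈ Tset Q P.p P.r := by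
  intro v h1 h2
  rw [sg_act, polar_comm (⇑Q) P.p v, polar_comm (⇑Q) P.r v, h1, h2]
  simp

theorem mem_Tset_imp (P : TSPair Q) (σ : ↥(Cfsg.isometryGroup F (⇑Q)))
    (hσ : σ ∈ Tset Q P.p P.r) : ∃ c : F, σ = sg Q hQ P c := by
  obtain ⟨v₁, h11, h12⟩ := exists_dual_p Q hQ P
  obtain ⟨v₂, h21, h22⟩ := exists_dual_r Q hQ P
  -- differences lie in the line
  have hd : ∀ v : ι → F, σ ⬝ v - v ∈ Submodule.span F {P.p, P.r} := by
    intro v
    rw [← qorth_qorth Q hQ (Submodule.span F {P.p, P.r}), mem_qorth]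
    intro w hw
    have hwp : polar (⇑Q) w P.p = 0 := by
      rw [polar_comm]
      exact (mem_qorth Q).1 hw P.p (Submodule.subset_span (by simp))
    have hwr : polar (⇑Q) w P.r = 0 := by
      rw [polar_comm]
      exact (mem_qorth Q).1 hw P.r (Submodule.subset_span (by simp))
    have hfix := hσ w hwp hwr
    rw [polar_sub_right]
    nth_rewrite 1 [← hfix]
    rw [iso_polar, sub_self]
  obtain ⟨a₁, b₁, e1⟩ := Submodule.mem_span_pair.1 (hd v₁)
  obtain ⟨a₂, b₂, e2⟩ := Submodule.mem_span_pair.1 (hd v₂)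
  have e1' : σ ⬝ v₁ = v₁ + a₁ • P.p + b₁ • P.r := by
    rw [add_assoc, e1]; abel
  have e2' : σ ⬝ v₂ = v₂ + a₂ • P.p + b₂ • P.r := by
    rw [add_assoc, e2]; abel
  -- general formula
  have hgen : ∀ v : ι → F, σ ⬝ v = v + polar (⇑Q) P.p v • (a₁ • P.p + b₁ • P.r)
      + polar (⇑Q) P.r v • (a₂ • P.p + b₂ • P.r) := by
    intro v
    have hw := hσ (v - polar (⇑Q) P.p v • v₁ - polar (⇑Q) P.r v • v₂)
      (by
        rw [polar_sub_left, polar_sub_left, polar_smul_left, polar_smul_left,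
          polar_comm (⇑Q) v₁ P.p, polar_comm (⇑Q) v₂ P.p, h11, h21, polar_comm (⇑Q) v P.p]
        simp)
      (by
        rw [polar_sub_left, polar_sub_left, polar_smul_left, polar_smul_left,
          polar_comm (⇑Q) v₁ P.r, polar_comm (⇑Q) v₂ P.r, h12, h22, polar_comm (⇑Q) v P.r]
        simp)
    rw [Matrix.mulVec_sub, Matrix.mulVec_sub, Matrix.mulVec_smul, Matrix.mulVec_smul, e1', e2']
      at hw
    have : σ ⬝ v = (v - polar (⇑Q) P.p v • v₁ - polar (⇑Q) P.r v • v₂)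
        + polar (⇑Q) P.p v • (v₁ + a₁ • P.p + b₁ • P.r)
        + polar (⇑Q) P.r v • (v₂ + a₂ • P.p + b₂ • P.r) := by
      rw [← hw]; abel
    rw [this]; module
  -- use preservation of Q
  have hq1 := isoElt_preserves Q σ v₁
  rw [e1', quad_expand, P.hp, P.hr, P.hpr, polar_comm (⇑Q) v₁ P.p, polar_comm (⇑Q) v₁ P.r,
    h11, h12] at hq1
  have ha₁ : a₁ = 0 := by linear_combination hq1
  have hq2 := isoElt_preserves Q σ v₂
  rw [e2', quad_expand, P.hp, P.hr, P.hpr, polar_comm (⇑Q) v₂ P.p, polar_comm (⇑Q) v₂ P.r,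
    h21, h22] at hq2
  have hb₂ : b₂ = 0 := by linear_combination hq2
  have hq3 := isoElt_preserves Q σ (v₁ + v₂)
  have e3 : σ ⬝ (v₁ + v₂) = (v₁ + v₂) + (a₁ + a₂) • P.p + (b₁ + b₂) • P.r := by
    rw [Matrix.mulVec_add, e1', e2']; module
  rw [e3, quad_expand, P.hp, P.hr, P.hpr, polar_add_left, polar_add_left,
    polar_comm (⇑Q) v₁ P.p, polar_comm (⇑Q) v₁ P.r, polar_comm (⇑Q) v₂ P.p,
    polar_comm (⇑Q) v₂ P.r, h11, h12, h21, h22, ha₁, hb₂] at hq3
  have ha₂ : a₂ = -b₁ := by linear_combination hq3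
  refine ⟨b₁, ?_⟩
  apply iso_ext
  intro x
  rw [hgen x, sg_act, ha₁, hb₂, ha₂]
  module

theorem mem_Tset_iff (P : TSPair Q) (σ : ↥(Cfsg.isometryGroup F (⇑Q))) :
    σ ∈ Tset Q P.p P.r ↔ ∃ c : F, σ = sg Q hQ P c := by
  constructor
  · exact mem_Tset_imp Q hQ P σ
  · rintro ⟨c, rfl⟩
    exact sg_mem_Tset Q hQ P c

theorem closure_Tset (P : TSPair Q) : Subgroup.closure (Tset Q P.p P.r) = T Q hQ P := by
  apply le_antisymm
  · rw [Subgroup.closure_le]
    intro σ hσ
    exact (mem_Tset_iff Q hQ P σ).1 hσ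
  · intro g hg
    obtain ⟨c, rfl⟩ := hg
    exact Subgroup.subset_closure (sg_mem_Tset Q hQ P c)

theorem T_coe (P : TSPair Q) : (T Q hQ P : Set ↥(Cfsg.isometryGroup F (⇑Q))) = Tset Q P.p P.r := by
  ext σ
  exact ((mem_Tset_iff Q hQ P σ)).symm

end Cfsg.Agent.Lib.Helper94.Sg
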