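import Mathlib
import Cfsg.Prelude.Def_RootSubgroups
import Cfsg.Agent.Lib.Helper94.Sg1
import Cfsg.Agent.Lib.Helper99.RootRestrict

set_option autoImplicit false

namespace Cfsg.Agent.Lib.Helper94.Sg

open Matrix Module QuadraticMap
open Cfsg.Agent.Lib.Helper8 Cfsg.Agent.Lib.Helper13 Cfsg.Agent.Lib.Helper94
open Cfsg.Agent.Lib.Helper99.RootRestrict
open scoped commutatorElement

set_option linter.unusedSectionVars false
set_option linter.unusedVariables false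

variable {ι : Type} [Fintype ι] [DecidableEq ι] {F : Type*} [Field F]

local notation:73 g:73 " ⬝ " x:74 => Matrix.mulVec (Units.val (Subtype.val g)) x

variable (Q : QuadraticForm F (ι → F))

namespace TSPair

variable {Q}
variable (P : TSPair Q)

omit [Fintype ι] [DecidableEq ι] in
theorem Q_comb (a b : F) : Q (a • P.p + b • P.r) = 0 := by
  rw [QuadraticMap.map_add (⇑Q), QuadraticMap.map_smul, QuadraticMap.map_smul, polar_smul_left,
    polar_smul_right, P.hp, P.hr, P.hpr]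
  simp

omit [Fintype ι] [DecidableEq ι] in
theorem polar_comb (a b c d : F) : polar (⇑Q) (a • P.p + b • P.r) (c • P.p + d • P.r) = 0 := by
  simp only [polar_add_left, polar_add_right, polar_smul_left, polar_smul_right, P.hpp, P.hrr,
    P.hpr, P.hrp, smul_zero, add_zero]

/-- image of a pair under an isometry -/
def map (g : ↥(Cfsg.isometryGroup F (⇑Q))) : TSPair Q where
  p := g ⬝ P.p
  r := g ⬝ P.r
  hp := by rw [isoElt_preserves]; exact P.hp
  hr := by rw [isoElt_preserves]; exact P.hr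
  hpr := by rw [iso_polar]; exact P.hpr
  li := fun s t h => by
    have h1 : g ⬝ (s • P.p + t • P.r) = 0 := by
      rw [Matrix.mulVec_add, Matrix.mulVec_smul, Matrix.mulVec_smul]; exact h
    have h2 := congrArg (fun x => g⁻¹ ⬝ x) h1
    simp only [coe_inv_mulVec', Matrix.mulVec_zero] at h2
    exact P.li s t h2

/-- change of basis of the line -/
def change (x₁ y₁ x₂ y₂ : F) (hdet : x₁ * y₂ - x₂ * y₁ ≠ 0) : TSPair Q where
  p := x₁ • P.p + y₁ • P.r
  r := x₂ • P.p + y₂ • P.r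
  hp := P.Q_comb x₁ y₁
  hr := P.Q_comb x₂ y₂
  hpr := P.polar_comb x₁ y₁ x₂ y₂
  li := fun s t h => by
    have h1 := P.li (s * x₁ + t * x₂) (s * y₁ + t * y₂) (by rw [← h]; module)
    have hs : s * (x₁ * y₂ - x₂ * y₁) = 0 := by linear_combination y₂ * h1.1 - x₂ * h1.2
    have ht : t * (x₁ * y₂ - x₂ * y₁) = 0 := by linear_combination x₁ * h1.2 - y₁ * h1.1
    exact ⟨(mul_eq_zero.1 hs).resolve_right hdet, (mul_eq_zero.1 ht).resolve_right hdet⟩

end TSPair

variable (hQ : (QuadraticMap.polarBilin Q).Nondegenerate)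
include hQ

theorem sg_congr (P P' : TSPair Q) (h1 : P.p = P'.p) (h2 : P.r = P'.r) (c : F) :
    sg Q hQ P c = sg Q hQ P' c := by
  apply iso_ext
  intro x
  rw [sg_act, sg_act, h1, h2]

theorem conj_sg (P : TSPair Q) (g : ↥(Cfsg.isometryGroup F (⇑Q))) (c : F) :
    g * sg Q hQ P c * g⁻¹ = sg Q hQ (P.map g) c := by
  unfold sg
  rw [conj_eichlerElt]
  exact eichlerElt_congr Q hQ _ _ _ _ _ _ _ _ rfl (by rw [Matrix.mulVec_smul]; rfl)

theorem conjBy_T (P : TSPair Q) (g : ↥(Cfsg.isometryGroup F (⇑Q))) :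
    conjBy (T Q hQ P) g = T Q hQ (P.map g) := by
  ext x
  rw [mem_conjBy_iff]
  constructor
  · rintro ⟨a, ⟨c, rfl⟩, rfl⟩
    exact ⟨c, conj_sg Q hQ P g c⟩
  · rintro ⟨c, rfl⟩
    exact ⟨sg Q hQ P c, sg_mem_T Q hQ P c, conj_sg Q hQ P g c⟩

theorem T_eq_of (P P' : TSPair Q)
    (h : ∀ v : ι → F, (polar (⇑Q) v P.p = 0 ∧ polar (⇑Q) v P.r = 0) ↔
      (polar (⇑Q) v P'.p = 0 ∧ polar (⇑Q) v P'.r = 0)) : T Q hQ P = T Q hQ P' := by
  rw [← closure_Tset, ← closure_Tset]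
  congr 1
  ext σ
  constructor
  · intro hσ v h1 h2
    exact hσ v ((h v).2 ⟨h1, h2⟩).1 ((h v).2 ⟨h1, h2⟩).2
  · intro hσ v h1 h2
    exact hσ v ((h v).1 ⟨h1, h2⟩).1 ((h v).1 ⟨h1, h2⟩).2

theorem T_change (P : TSPair Q) (x₁ y₁ x₂ y₂ : F) (hdet : x₁ * y₂ - x₂ * y₁ ≠ 0) :
    T Q hQ (P.change x₁ y₁ x₂ y₂ hdet) = T Q hQ P := by
  apply T_eq_of
  intro v
  show (polar (⇑Q) v (x₁ • P.p + y₁ • P.r) = 0 ∧ polar (⇑Q) v (x₂ • P.p + y₂ • P.r) = 0) ↔ _
  simp only [polar_add_right, polar_smul_right, smul_eq_mul]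
  constructor
  · rintro ⟨h1, h2⟩
    have e1 : (x₁ * y₂ - x₂ * y₁) * polar (⇑Q) v P.p = 0 := by
      linear_combination y₂ * h1 - y₁ * h2
    have e2 : (x₁ * y₂ - x₂ * y₁) * polar (⇑Q) v P.r = 0 := by
      linear_combination x₁ * h2 - x₂ * h1
    exact ⟨(mul_eq_zero.1 e1).resolve_left hdet, (mul_eq_zero.1 e2).resolve_left hdet⟩
  · rintro ⟨h1, h2⟩
    rw [h1, h2]; simp

/-- a basis of the line starting with a prescribed non-zero combination -/
theorem exists_change_first (P : TSPair Q) (α β : F) (h : α ≠ 0 ∨ β ≠ 0) :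
    ∃ P₁ : TSPair Q, T Q hQ P₁ = T Q hQ P ∧ P₁.p = α • P.p + β • P.r ∧
      ∃ x y : F, P₁.r = x • P.p + y • P.r := by
  by_cases hα : α = 0
  · have hβ : β ≠ 0 := h.resolve_left (fun h' => h' hα)
    refine ⟨P.change α β 1 0 (by rw [hα]; simpa using hβ), T_change Q hQ P _ _ _ _ _, rfl,
      1, 0, rfl⟩
  · refine ⟨P.change α β 0 1 (by simpa using hα), T_change Q hQ P _ _ _ _ _, rfl, 0, 1, rfl⟩

omit hQ in
theorem exists_kernel (a b c d : F) (h : a * d - b * c = 0) :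
    ∃ x y : F, (x ≠ 0 ∨ y ≠ 0) ∧ x * a + y * c = 0 ∧ x * b + y * d = 0 := by
  by_cases h1 : c ≠ 0 ∨ a ≠ 0
  · refine ⟨c, -a, ?_, by ring, by linear_combination -h⟩
    rcases h1 with h1 | h1
    · exact Or.inl h1
    · exact Or.inr (neg_ne_zero.2 h1)
  · push Not at h1
    by_cases h2 : d ≠ 0 ∨ b ≠ 0
    · refine ⟨d, -b, ?_, by linear_combination h, by ring⟩
      rcases h2 with h2 | h2
      · exact Or.inl h2
      · exact Or.inr (neg_ne_zero.2 h2)
    · push Not at h2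
      exact ⟨1, 0, Or.inl one_ne_zero, by rw [h1.1, h1.2]; ring, by rw [h2.1, h2.2]; ring⟩

/-- normal form of a pair of lines with singular Gram matrix -/
theorem normalize_singular (P P' : TSPair Q)
    (hdet : polar (⇑Q) P.p P'.p * polar (⇑Q) P.r P'.r
      - polar (⇑Q) P.p P'.r * polar (⇑Q) P.r P'.p = 0) :
    ∃ P₁ P₁' : TSPair Q, T Q hQ P₁ = T Q hQ P ∧ T Q hQ P₁' = T Q hQ P' ∧
      polar (⇑Q) P₁.p P₁'.p = 0 ∧ polar (⇑Q) P₁.p P₁'.r = 0 ∧ polar (⇑Q) P₁.r P₁'.p = 0 := by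
  obtain ⟨α, β, hαβ, hk1, hk2⟩ := exists_kernel
    (polar (⇑Q) P.p P'.p) (polar (⇑Q) P.p P'.r) (polar (⇑Q) P.r P'.p) (polar (⇑Q) P.r P'.r) hdet
  obtain ⟨γ, δ, hγδ, hk3, hk4⟩ := exists_kernel
    (polar (⇑Q) P.p P'.p) (polar (⇑Q) P.r P'.p) (polar (⇑Q) P.p P'.r) (polar (⇑Q) P.r P'.r)
    (by linear_combination hdet)
  obtain ⟨P₁, hT1, hp1, x, y, hr1⟩ := exists_change_first Q hQ P α β hαβ
  obtain ⟨P₁', hT1', hp1', x', y', hr1'⟩ := exists_change_first Q hQ P' γ δ hγδ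
  refine ⟨P₁, P₁', hT1, hT1', ?_, ?_, ?_⟩
  · rw [hp1, hp1']
    simp only [polar_add_left, polar_add_right, polar_smul_left, polar_smul_right, smul_eq_mul]
    linear_combination γ * hk1 + δ * hk2
  · rw [hp1, hr1']
    simp only [polar_add_left, polar_add_right, polar_smul_left, polar_smul_right, smul_eq_mul]
    linear_combination x' * hk1 + y' * hk2
  · rw [hr1, hp1']
    simp only [polar_add_left, polar_add_right, polar_smul_left, polar_smul_right, smul_eq_mul]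
    linear_combination x * hk3 + y * hk4

theorem sg_fix (P : TSPair Q) (c : F) (x : ι → F) (h1 : polar (⇑Q) P.p x = 0)
    (h2 : polar (⇑Q) P.r x = 0) : sg Q hQ P c ⬝ x = x := by
  rw [sg_act, h1, h2]; simp

theorem sg_commute_of_fix (P P' : TSPair Q) (c d : F)
    (h1 : sg Q hQ P c ⬝ P'.p = P'.p) (h2 : sg Q hQ P c ⬝ P'.r = P'.r) :
    sg Q hQ P c * sg Q hQ P' d = sg Q hQ P' d * sg Q hQ P c := by
  have := conj_sg Q hQ P' (sg Q hQ P c) d
  rw [sg_congr Q hQ (P'.map (sg Q hQ P c)) P' h1 h2] at this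
  exact mul_inv_eq_iff_eq_mul.1 this

/-- all four products vanish: the groups commute -/
theorem commute_of_orth (P P' : TSPair Q) (h11 : polar (⇑Q) P.p P'.p = 0)
    (h12 : polar (⇑Q) P.p P'.r = 0) (h21 : polar (⇑Q) P.r P'.p = 0)
    (h22 : polar (⇑Q) P.r P'.r = 0) (c d : F) :
    sg Q hQ P c * sg Q hQ P' d = sg Q hQ P' d * sg Q hQ P c :=
  sg_commute_of_fix Q hQ P P' c d (sg_fix Q hQ P c _ h11 h21) (sg_fix Q hQ P c _ h12 h22)

/-- common point: the groups commute -/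
theorem commute_of_smul (P P' : TSPair Q) (l : F) (hl : P'.p = l • P.p)
    (h21 : polar (⇑Q) P.r P'.p = 0) (c d : F) :
    sg Q hQ P c * sg Q hQ P' d = sg Q hQ P' d * sg Q hQ P c := by
  have hpr' : polar (⇑Q) P.p P'.r = 0 := by
    have := P'.hpr
    rw [hl, polar_smul_left, smul_eq_mul] at this
    rcases mul_eq_zero.1 this with h | h
    · exfalso
      apply P'.p_ne
      rw [hl, h, zero_smul]
    · exact h
  have key : sg Q hQ P' d = eichlerElt Q hQ P.p ((l * d) • P'.r) P.hp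
      (by rw [polar_smul_right, hpr', smul_zero]) := by
    apply iso_ext
    intro x
    rw [sg_act, eichlerElt_mulVec, QuadraticMap.map_smul, P'.hr, polar_smul_left, hl,
      polar_smul_left]
    simp only [smul_eq_mul, mul_zero, zero_mul, zero_smul, sub_zero, smul_smul]
    module
  rw [key]
  unfold sg
  exact eichlerElt_comm Q hQ _ _ _ _ _ _

theorem commutator_eq_bot_of_commute (A B : Subgroup ↥(Cfsg.isometryGroup F (⇑Q)))
    (h : ∀ a ∈ A, ∀ b ∈ B, a * b = b * a) : ⁅A, B⁆ = ⊥ := by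
  rw [Subgroup.commutator_eq_bot_iff_le_centralizer]
  intro a ha
  rw [Subgroup.mem_centralizer_iff]
  intro b hb
  exact (h a ha b hb).symm

omit hQ in
theorem conjBy_eq_self_of_commute {G : Type*} [Group G] (A : Subgroup G) (g : G)
    (h : ∀ a ∈ A, g * a = a * g) : conjBy A g = A := by
  ext x
  rw [mem_conjBy_iff]
  constructor
  · rintro ⟨a, ha, rfl⟩
    rw [h a ha, mul_assoc, mul_inv_cancel, mul_one]
    exact ha
  · intro hx
    exact ⟨x, hx, by rw [h x hx, mul_assoc, mul_inv_cancel, mul_one]⟩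

omit hQ in
theorem not_rankOne_of_commute {G : Type*} [Group G] (A B : Subgroup G) (hA : A ≠ ⊥)
    (h : ∀ a ∈ A, ∀ b ∈ B, a * b = b * a) : ¬ IsRankOnePair A B := by
  intro hpair
  obtain ⟨⟨a, ha⟩, ha1'⟩ := (Subgroup.ne_bot_iff_exists_ne_one).1 hA
  have ha1 : a ≠ 1 := fun h0 => ha1' (Subtype.ext h0)
  obtain ⟨b, hb, -, hEq⟩ := hpair.cond_left a ha ha1
  rw [conjBy_eq_self_of_commute A b⁻¹ (fun a' ha' => by
      have := h a' ha' b hb
      rw [inv_mul_eq_iff_eq_mul, ← mul_assoc, ← this, mul_assoc, mul_inv_cancel, mul_one]),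
    conjBy_eq_self_of_commute B a⁻¹ (fun b' hb' => by
      have := h a ha b' hb'
      rw [inv_mul_eq_iff_eq_mul, ← mul_assoc, this, mul_assoc, mul_inv_cancel, mul_one])]
    at hEq
  exact hpair.ne hEq

theorem T_ne_bot (P : TSPair Q) : T Q hQ P ≠ ⊥ := by
  intro h
  have h1 : sg Q hQ P 1 ∈ T Q hQ P := sg_mem_T Q hQ P 1
  rw [h, Subgroup.mem_bot, sg_eq_one_iff] at h1
  exact one_ne_zero h1

theorem T_commutative (P : TSPair Q) : IsMulCommutative (T Q hQ P) := by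
  refine ⟨⟨?_⟩⟩
  rintro ⟨_, c, rfl⟩ ⟨_, d, rfl⟩
  apply Subtype.ext
  exact sg_comm Q hQ P c d

end Cfsg.Agent.Lib.Helper94.Sg
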