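import Mathlib
import Cfsg.Prelude.Def_RootSubgroups
import Cfsg.Agent.Lib.Helper94.Sg2

set_option autoImplicit false

namespace Cfsg.Agent.Lib.Helper94.Sg

open Matrix Module QuadraticMap
open Cfsg.Agent.Lib.Helper8 Cfsg.Agent.Lib.Helper13 Cfsg.Agent.Lib.Helper94
open Cfsg.Agent.Lib.Helper99.RootRestrict
open scoped commutatorElement

set_option linter.unusedSectionVars false
set_option linter.unusedVariables false

variable {ι : Type} [Fintype ι] [DecidableEq ι] {F : Type*} [Field F]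

local notation:73 g:73 " ⬝ " x:74 => Matrix.mulVec (Units.val (Subtype.val g)) x

variable (Q : QuadraticForm F (ι → F))
variable (hQ : (QuadraticMap.polarBilin Q).Nondegenerate)
include hQ

theorem sg_commutator (P P' PP : TSPair Q) (h11 : polar (⇑Q) P.p P'.p = 0)
    (h12 : polar (⇑Q) P.p P'.r = 0) (h21 : polar (⇑Q) P.r P'.p = 0)
    (hPPp : PP.p = P'.p) (hPPr : PP.r = P.p) (c d : F) :
    ⁅sg Q hQ P c, sg Q hQ P' d⁆ = sg Q hQ PP (-(c * d * polar (⇑Q) P.r P'.r)) := by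
  have := eichler_commutator Q hQ P'.p P.p (d • P'.r) (c • P.r) P'.hp P.hp
    (by rw [polar_comm]; exact h11) (by rw [polar_smul_right, P'.hpr, smul_zero])
    (by rw [polar_smul_right, h12, smul_zero])
    (by rw [polar_smul_right, polar_comm, h21, smul_zero])
    (by rw [polar_smul_right, P.hpr, smul_zero])
  unfold sg
  rw [this]
  apply eichlerElt_congr Q hQ _ _ _ _ _ _ _ _ hPPp.symm
  rw [hPPr, polar_smul_left, polar_smul_right, smul_eq_mul, smul_eq_mul]
  congr 1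
  ring

/-- the pair `(p', p)` in the commutator configuration -/
def commPair (P P' : TSPair Q) (h11 : polar (⇑Q) P.p P'.p = 0)
    (hind : ¬ ∃ l : F, P'.p = l • P.p) : TSPair Q where
  p := P'.p
  r := P.p
  hp := P'.hp
  hr := P.hp
  hpr := by rw [polar_comm]; exact h11
  li := fun s t h => by
    have hs : s = 0 := by
      by_contra hs
      apply hind
      refine ⟨-(s⁻¹ * t), ?_⟩
      have h2 : s • P'.p = -(t • P.p) := eq_neg_of_add_eq_zero_left h
      have h3 : P'.p = s⁻¹ • (s • P'.p) := by rw [smul_smul, inv_mul_cancel₀ hs, one_smul]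
      rw [h3, h2]; module
    refine ⟨hs, ?_⟩
    rw [hs, zero_smul, zero_add] at h
    rcases smul_eq_zero.1 h with h | h
    · exact h
    · exact absurd h P.p_ne

theorem commutator_case (S : Set (Subgroup ↥(Cfsg.isometryGroup F (⇑Q))))
    (hS : ∀ P : TSPair Q, T Q hQ P ∈ S) (P P' : TSPair Q)
    (h11 : polar (⇑Q) P.p P'.p = 0) (h12 : polar (⇑Q) P.p P'.r = 0)
    (h21 : polar (⇑Q) P.r P'.p = 0) (ht : polar (⇑Q) P.r P'.r ≠ 0)
    (hind : ¬ ∃ l : F, P'.p = l • P.p) :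
    RootCommutatorCase S (T Q hQ P) (T Q hQ P') ∧ ¬ IsRankOnePair (T Q hQ P) (T Q hQ P') := by
  obtain ⟨t, ht_def⟩ : ∃ t : F, t = polar (⇑Q) P.r P'.r := ⟨_, rfl⟩
  have ht0 : t ≠ 0 := by rw [ht_def]; exact ht
  obtain ⟨PP, hPP⟩ : ∃ PP : TSPair Q, PP = commPair Q P P' h11 hind := ⟨_, rfl⟩
  have hPPp : PP.p = P'.p := by rw [hPP]; rfl
  have hPPr : PP.r = P.p := by rw [hPP]; rfl
  have hform : ∀ c d : F, ⁅sg Q hQ P c, sg Q hQ P' d⁆ = sg Q hQ PP (-(c * d * t)) := by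
    intro c d
    rw [ht_def]
    exact sg_commutator Q hQ P P' PP h11 h12 h21 hPPp hPPr c d
  have h11' : polar (⇑Q) P'.p P.p = 0 := by rw [polar_comm]; exact h11
  have h12' : polar (⇑Q) P'.r P.p = 0 := by rw [polar_comm]; exact h12
  -- the commutator subgroup
  have hcomm : ⁅T Q hQ P, T Q hQ P'⁆ = T Q hQ PP := by
    apply le_antisymm
    · rw [Subgroup.commutator_le]
      rintro _ ⟨c, rfl⟩ _ ⟨d, rfl⟩
      rw [hform]
      exact sg_mem_T Q hQ PP _
    · rintro _ ⟨s, rfl⟩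
      have h1 := hform 1 (-(s * t⁻¹))
      have h2 : -(1 * -(s * t⁻¹) * t) = s := by field_simp
      rw [h2] at h1
      rw [← h1]
      exact Subgroup.commutator_mem_commutator (sg_mem_T Q hQ P 1) (sg_mem_T Q hQ P' _)
  -- centrality
  have hcentA : ∀ c s : F, sg Q hQ P c * sg Q hQ PP s = sg Q hQ PP s * sg Q hQ P c := by
    intro c s
    apply sg_commute_of_fix
    · rw [hPPp]; exact sg_fix Q hQ P c _ h11 h21
    · rw [hPPr]; exact sg_fix Q hQ P c _ P.hpp P.hrp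
  have hcentB : ∀ d s : F, sg Q hQ P' d * sg Q hQ PP s = sg Q hQ PP s * sg Q hQ P' d := by
    intro d s
    apply sg_commute_of_fix
    · rw [hPPp]; exact sg_fix Q hQ P' d _ P'.hpp P'.hrp
    · rw [hPPr]; exact sg_fix Q hQ P' d _ h11' h12'
  refine ⟨⟨?_, ?_, ?_, ?_⟩, ?_⟩
  · rw [hcomm]; exact hS PP
  · rw [hcomm]
    intro z hz x hx
    have hle : T Q hQ P ⊔ T Q hQ P' ≤ Subgroup.centralizer (T Q hQ PP : Set _) := by
      apply sup_le
      · rintro _ ⟨c, rfl⟩
        rw [Subgroup.mem_centralizer_iff]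
        rintro _ ⟨s, rfl⟩
        exact (hcentA c s).symm
      · rintro _ ⟨d, rfl⟩
        rw [Subgroup.mem_centralizer_iff]
        rintro _ ⟨s, rfl⟩
        exact (hcentB d s).symm
    exact (Subgroup.mem_centralizer_iff.1 (hle hx)) z hz
  · rintro _ ⟨c, rfl⟩ hc1
    have hc : c ≠ 0 := fun h => hc1 (by rw [h]; exact sg_zero Q hQ P)
    rw [hcomm]
    apply le_antisymm
    · rw [Subgroup.closure_le]
      rintro _ ⟨_, ⟨d, rfl⟩, rfl⟩
      show sg Q hQ P c * sg Q hQ P' d * (sg Q hQ P c)⁻¹ * (sg Q hQ P' d)⁻¹ ∈ T Q hQ PP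
      rw [← commutatorElement_def, hform]
      exact sg_mem_T Q hQ PP _
    · rintro _ ⟨s, rfl⟩
      apply Subgroup.subset_closure
      refine ⟨sg Q hQ P' (-(s * (c * t)⁻¹)), sg_mem_T Q hQ P' _, ?_⟩
      show sg Q hQ P c * sg Q hQ P' _ * (sg Q hQ P c)⁻¹ * (sg Q hQ P' _)⁻¹ = _
      rw [← commutatorElement_def, hform]
      congr 1
      field_simp
  · rintro _ ⟨d, rfl⟩ hd1
    have hd : d ≠ 0 := fun h => hd1 (by rw [h]; exact sg_zero Q hQ P')
    rw [hcomm]
    apply le_antisymm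
    · rw [Subgroup.closure_le]
      rintro _ ⟨_, ⟨c, rfl⟩, rfl⟩
      show sg Q hQ P c * sg Q hQ P' d * (sg Q hQ P c)⁻¹ * (sg Q hQ P' d)⁻¹ ∈ T Q hQ PP
      rw [← commutatorElement_def, hform]
      exact sg_mem_T Q hQ PP _
    · rintro _ ⟨s, rfl⟩
      apply Subgroup.subset_closure
      refine ⟨sg Q hQ P (-(s * (d * t)⁻¹)), sg_mem_T Q hQ P _, ?_⟩
      show sg Q hQ P _ * sg Q hQ P' d * (sg Q hQ P _)⁻¹ * (sg Q hQ P' d)⁻¹ = _
      rw [← commutatorElement_def, hform]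
      congr 1
      field_simp
  · intro hpair
    have ha1 : sg Q hQ P 1 ≠ 1 := by
      rw [Ne, sg_eq_one_iff]; exact one_ne_zero
    obtain ⟨b, ⟨d, rfl⟩, -, hEq⟩ := hpair.cond_left _ (sg_mem_T Q hQ P 1) ha1
    have hmem : (sg Q hQ P' d)⁻¹ * sg Q hQ P 1 * ((sg Q hQ P' d)⁻¹)⁻¹
        ∈ conjBy (T Q hQ P) (sg Q hQ P' d)⁻¹ :=
      (mem_conjBy_iff _ _ _).2 ⟨_, sg_mem_T Q hQ P 1, rfl⟩
    rw [hEq, mem_conjBy_iff] at hmem
    obtain ⟨b', ⟨d', rfl⟩, hb'⟩ := hmem
    rw [inv_inv, inv_inv] at hb'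
    have e1 : sg Q hQ P 1 ⬝ (P'.r + t • P.p) = P'.r := by
      rw [sg_act, ht_def]
      simp only [polar_add_right, polar_smul_right, h12, P.hpp, P.hrp, smul_eq_mul, mul_zero,
        add_zero, zero_smul, one_mul]
      module
    have e2 : ∀ d : F, sg Q hQ P' d ⬝ P'.r = P'.r := fun d =>
      sg_fix Q hQ P' d _ P'.hpr P'.hrr
    have e3 : (sg Q hQ P 1)⁻¹ ⬝ P'.r = P'.r + t • P.p := by
      rw [sg_inv, sg_act, ht_def, h12]
      module
    have e4 : sg Q hQ P' d ⬝ (P'.r + t • P.p) = P'.r + t • P.p := by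
      apply sg_fix
      · rw [polar_add_right, polar_smul_right, P'.hpr, h11']; simp
      · rw [polar_add_right, polar_smul_right, P'.hrr, h12']; simp
    have e5 : (sg Q hQ P' d)⁻¹ ⬝ P'.r = P'.r := by
      rw [sg_inv]; exact e2 _
    have := congrArg (fun g => g ⬝ (P'.r + t • P.p)) hb'
    simp only [coe_mul_mulVec] at this
    rw [e1, e2, e3, e4, e1, e5] at this
    have h0 : t • P.p = 0 := by
      have h4 : P'.r + t • P.p = P'.r + 0 := by rw [add_zero]; exact this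
      exact add_left_cancel h4
    rcases smul_eq_zero.1 h0 with h | h
    · exact ht0 h
    · exact P.p_ne h

end Cfsg.Agent.Lib.Helper94.Sg
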