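import Mathlib
import Cfsg.Prelude.Def_RootSubgroups
import Cfsg.Agent.Lib.Helper94.Sg3
import Cfsg.Agent.Lib.Helper99.SpRoot2

set_option autoImplicit false

namespace Cfsg.Agent.Lib.Helper94.Sg

open Matrix Module QuadraticMap
open Cfsg.Agent.Lib.Helper8 Cfsg.Agent.Lib.Helper13 Cfsg.Agent.Lib.Helper94
open Cfsg.Agent.Lib.Helper99.RootRestrict
open scoped commutatorElement

set_option linter.unusedSectionVars false
set_option linter.unusedVariables false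
set_option linter.unusedSimpArgs false

variable {ι : Type} [Fintype ι] [DecidableEq ι] {F : Type*} [Field F]

local notation:73 g:73 " ⬝ " x:74 => Matrix.mulVec (Units.val (Subtype.val g)) x

/-- a hyperbolic frame spanning two opposite totally singular lines -/
structure Frame (Q : QuadraticForm F (ι → F)) where
  e₁ : ι → F
  e₂ : ι → F
  f₁ : ι → F
  f₂ : ι → F
  he₁ : Q e₁ = 0
  he₂ : Q e₂ = 0
  hf₁ : Q f₁ = 0
  hf₂ : Q f₂ = 0
  hee : polar (⇑Q) e₁ e₂ = 0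
  hff : polar (⇑Q) f₁ f₂ = 0
  h11 : polar (⇑Q) e₁ f₁ = 1
  h12 : polar (⇑Q) e₁ f₂ = 0
  h21 : polar (⇑Q) e₂ f₁ = 0
  h22 : polar (⇑Q) e₂ f₂ = 1

variable (Q : QuadraticForm F (ι → F))

namespace Frame

variable {Q}
variable (fr : Frame Q)

omit [Fintype ι] [DecidableEq ι] in
theorem hee' : polar (⇑Q) fr.e₂ fr.e₁ = 0 := by rw [polar_comm]; exact fr.hee
omit [Fintype ι] [DecidableEq ι] in
theorem hff' : polar (⇑Q) fr.f₂ fr.f₁ = 0 := by rw [polar_comm]; exact fr.hff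
omit [Fintype ι] [DecidableEq ι] in
theorem h11' : polar (⇑Q) fr.f₁ fr.e₁ = 1 := by rw [polar_comm]; exact fr.h11
omit [Fintype ι] [DecidableEq ι] in
theorem h12' : polar (⇑Q) fr.f₂ fr.e₁ = 0 := by rw [polar_comm]; exact fr.h12
omit [Fintype ι] [DecidableEq ι] in
theorem h21' : polar (⇑Q) fr.f₁ fr.e₂ = 0 := by rw [polar_comm]; exact fr.h21
omit [Fintype ι] [DecidableEq ι] in
theorem h22' : polar (⇑Q) fr.f₂ fr.e₂ = 1 := by rw [polar_comm]; exact fr.h22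
omit [Fintype ι] [DecidableEq ι] in
theorem he₁₁ : polar (⇑Q) fr.e₁ fr.e₁ = 0 := polar_self_sing Q _ fr.he₁
omit [Fintype ι] [DecidableEq ι] in
theorem he₂₂ : polar (⇑Q) fr.e₂ fr.e₂ = 0 := polar_self_sing Q _ fr.he₂
omit [Fintype ι] [DecidableEq ι] in
theorem hf₁₁ : polar (⇑Q) fr.f₁ fr.f₁ = 0 := polar_self_sing Q _ fr.hf₁
omit [Fintype ι] [DecidableEq ι] in
theorem hf₂₂ : polar (⇑Q) fr.f₂ fr.f₂ = 0 := polar_self_sing Q _ fr.hf₂

/-- the frame with the two lines exchanged -/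
def swap : Frame Q where
  e₁ := fr.f₁
  e₂ := fr.f₂
  f₁ := fr.e₁
  f₂ := fr.e₂
  he₁ := fr.hf₁
  he₂ := fr.hf₂
  hf₁ := fr.he₁
  hf₂ := fr.he₂
  hee := fr.hff
  hff := fr.hee
  h11 := fr.h11'
  h12 := fr.h21'
  h21 := fr.h12'
  h22 := fr.h22'

/-- the first line -/
def E : TSPair Q where
  p := fr.e₁
  r := fr.e₂
  hp := fr.he₁
  hr := fr.he₂
  hpr := fr.hee
  li := fun s t h => by
    have h1 := congrArg (fun x => polar (⇑Q) x fr.f₁) h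
    have h2 := congrArg (fun x => polar (⇑Q) x fr.f₂) h
    simp only [polar_add_left, polar_smul_left, fr.h11, fr.h12, fr.h21, fr.h22, smul_eq_mul,
      mul_one, mul_zero, add_zero, zero_add, polar_zero_left] at h1 h2
    exact ⟨h1, h2⟩

/-- the second line -/
def Fp : TSPair Q := fr.swap.E

omit [Fintype ι] [DecidableEq ι] in
@[simp] theorem E_p : fr.E.p = fr.e₁ := rfl
omit [Fintype ι] [DecidableEq ι] in
@[simp] theorem E_r : fr.E.r = fr.e₂ := rfl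
omit [Fintype ι] [DecidableEq ι] in
@[simp] theorem Fp_p : fr.Fp.p = fr.f₁ := rfl
omit [Fintype ι] [DecidableEq ι] in
@[simp] theorem Fp_r : fr.Fp.r = fr.f₂ := rfl

/-- orthogonality to the whole frame -/
def Perp (v : ι → F) : Prop :=
  polar (⇑Q) v fr.e₁ = 0 ∧ polar (⇑Q) v fr.e₂ = 0 ∧ polar (⇑Q) v fr.f₁ = 0 ∧
    polar (⇑Q) v fr.f₂ = 0

omit [Fintype ι] [DecidableEq ι] in
theorem exists_decomp (v : ι → F) :
    ∃ v₀ : ι → F, fr.Perp v₀ ∧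
      v = v₀ + polar (⇑Q) fr.f₁ v • fr.e₁ + polar (⇑Q) fr.f₂ v • fr.e₂
        + polar (⇑Q) fr.e₁ v • fr.f₁ + polar (⇑Q) fr.e₂ v • fr.f₂ := by
  refine ⟨v - polar (⇑Q) fr.f₁ v • fr.e₁ - polar (⇑Q) fr.f₂ v • fr.e₂
        - polar (⇑Q) fr.e₁ v • fr.f₁ - polar (⇑Q) fr.e₂ v • fr.f₂, ⟨?_, ?_, ?_, ?_⟩, by abel⟩
  · simp only [polar_sub_left, polar_smul_left, fr.he₁₁, fr.hee', fr.h11', fr.h12', smul_eq_mul,
      mul_zero, mul_one, sub_zero]
    rw [polar_comm (⇑Q) v fr.e₁]; ring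
  · simp only [polar_sub_left, polar_smul_left, fr.he₂₂, fr.hee, fr.h21', fr.h22', smul_eq_mul,
      mul_zero, mul_one, sub_zero]
    rw [polar_comm (⇑Q) v fr.e₂]; ring
  · simp only [polar_sub_left, polar_smul_left, fr.hf₁₁, fr.hff', fr.h11, fr.h21, smul_eq_mul,
      mul_zero, mul_one, sub_zero]
    rw [polar_comm (⇑Q) v fr.f₁]; ring
  · simp only [polar_sub_left, polar_smul_left, fr.hf₂₂, fr.hff, fr.h12, fr.h22, smul_eq_mul,
      mul_zero, mul_one, sub_zero]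
    rw [polar_comm (⇑Q) v fr.f₂]; ring

omit [Fintype ι] [DecidableEq ι] in
theorem Q_comb (v₀ : ι → F) (h0 : fr.Perp v₀) (s₁ s₂ t₁ t₂ : F) :
    Q (v₀ + s₁ • fr.e₁ + s₂ • fr.e₂ + t₁ • fr.f₁ + t₂ • fr.f₂)
      = Q v₀ + s₁ * t₁ + s₂ * t₂ := by
  obtain ⟨h1, h2, h3, h4⟩ := h0
  simp only [QuadraticMap.map_add (⇑Q), QuadraticMap.map_smul, polar_add_left, polar_add_right,
    polar_smul_left, polar_smul_right, fr.he₁, fr.he₂, fr.hf₁, fr.hf₂, fr.hee, fr.hff, fr.h11,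
    fr.h12, fr.h21, fr.h22, h1, h2, h3, h4, smul_eq_mul, mul_zero, mul_one, add_zero]
  ring

/-- the linear map induced by a `2 × 2` matrix acting on the two lines -/
noncomputable def lin (a b c d : F) : (ι → F) →ₗ[F] (ι → F) :=
  LinearMap.id + (QuadraticMap.polarBilin Q fr.f₁).smulRight ((a - 1) • fr.e₁ + c • fr.f₂)
    + (QuadraticMap.polarBilin Q fr.e₂).smulRight (b • fr.e₁ + (d - 1) • fr.f₂)
    + (QuadraticMap.polarBilin Q fr.f₂).smulRight ((a - 1) • fr.e₂ - c • fr.f₁)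
    + (QuadraticMap.polarBilin Q fr.e₁).smulRight ((-b) • fr.e₂ + (d - 1) • fr.f₁)

omit [Fintype ι] [DecidableEq ι] in
theorem lin_apply (a b c d : F) (v : ι → F) :
    fr.lin a b c d v = v + polar (⇑Q) fr.f₁ v • ((a - 1) • fr.e₁ + c • fr.f₂)
      + polar (⇑Q) fr.e₂ v • (b • fr.e₁ + (d - 1) • fr.f₂)
      + polar (⇑Q) fr.f₂ v • ((a - 1) • fr.e₂ - c • fr.f₁)
      + polar (⇑Q) fr.e₁ v • ((-b) • fr.e₂ + (d - 1) • fr.f₁) := by
  simp only [lin, LinearMap.add_apply, LinearMap.id_apply, LinearMap.smulRight_apply,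
    QuadraticMap.polarBilin_apply_apply]

omit [Fintype ι] [DecidableEq ι] in
theorem lin_comb (a b c d : F) (v₀ : ι → F) (h0 : fr.Perp v₀) (s₁ s₂ t₁ t₂ : F) :
    fr.lin a b c d (v₀ + s₁ • fr.e₁ + s₂ • fr.e₂ + t₁ • fr.f₁ + t₂ • fr.f₂)
      = v₀ + (s₁ * a + t₂ * b) • fr.e₁ + (s₂ * a - t₁ * b) • fr.e₂
        + (-(s₂ * c) + t₁ * d) • fr.f₁ + (s₁ * c + t₂ * d) • fr.f₂ := by
  obtain ⟨h1, h2, h3, h4⟩ := h0
  have h1' : polar (⇑Q) fr.e₁ v₀ = 0 := by rw [polar_comm]; exact h1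
  have h2' : polar (⇑Q) fr.e₂ v₀ = 0 := by rw [polar_comm]; exact h2
  have h3' : polar (⇑Q) fr.f₁ v₀ = 0 := by rw [polar_comm]; exact h3
  have h4' : polar (⇑Q) fr.f₂ v₀ = 0 := by rw [polar_comm]; exact h4
  rw [lin_apply]
  simp only [polar_add_right, polar_smul_right, fr.he₁₁, fr.he₂₂, fr.hf₁₁, fr.hf₂₂, fr.hee,
    fr.hee', fr.hff, fr.hff', fr.h11, fr.h11', fr.h12, fr.h12', fr.h21, fr.h21', fr.h22, fr.h22',
    h1', h2', h3', h4', smul_eq_mul, mul_zero, mul_one, add_zero, zero_add]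
  module

omit [Fintype ι] [DecidableEq ι] in
theorem lin_preserves (a b c d : F) (hdet : a * d - b * c = 1) (v : ι → F) :
    Q (fr.lin a b c d v) = Q v := by
  obtain ⟨v₀, h0, hv⟩ := fr.exists_decomp v
  obtain ⟨s₁, hs₁⟩ : ∃ s, s = polar (⇑Q) fr.f₁ v := ⟨_, rfl⟩
  obtain ⟨s₂, hs₂⟩ : ∃ s, s = polar (⇑Q) fr.f₂ v := ⟨_, rfl⟩
  obtain ⟨t₁, ht₁⟩ : ∃ s, s = polar (⇑Q) fr.e₁ v := ⟨_, rfl⟩
  obtain ⟨t₂, ht₂⟩ : ∃ s, s = polar (⇑Q) fr.e₂ v := ⟨_, rfl⟩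
  rw [← hs₁, ← hs₂, ← ht₁, ← ht₂] at hv
  rw [hv, lin_comb _ _ _ _ _ _ h0, Q_comb _ _ h0, Q_comb _ _ h0]
  linear_combination (s₁ * t₁ + s₂ * t₂) * hdet

omit [Fintype ι] [DecidableEq ι] in
theorem lin_one (v : ι → F) : fr.lin 1 0 0 1 v = v := by
  rw [lin_apply]; simp

omit [Fintype ι] [DecidableEq ι] in
theorem lin_mul (a b c d a' b' c' d' : F) (v : ι → F) :
    fr.lin a b c d (fr.lin a' b' c' d' v)
      = fr.lin (a * a' + b * c') (a * b' + b * d') (c * a' + d * c') (c * b' + d * d') v := by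
  obtain ⟨v₀, h0, hv⟩ := fr.exists_decomp v
  obtain ⟨s₁, hs₁⟩ : ∃ s, s = polar (⇑Q) fr.f₁ v := ⟨_, rfl⟩
  obtain ⟨s₂, hs₂⟩ : ∃ s, s = polar (⇑Q) fr.f₂ v := ⟨_, rfl⟩
  obtain ⟨t₁, ht₁⟩ : ∃ s, s = polar (⇑Q) fr.e₁ v := ⟨_, rfl⟩
  obtain ⟨t₂, ht₂⟩ : ∃ s, s = polar (⇑Q) fr.e₂ v := ⟨_, rfl⟩
  rw [← hs₁, ← hs₂, ← ht₁, ← ht₂] at hv
  rw [hv, lin_comb _ _ _ _ _ _ h0, lin_comb _ _ _ _ _ _ h0, lin_comb _ _ _ _ _ _ h0]
  module

end Frame

variable (hQ : (QuadraticMap.polarBilin Q).Nondegenerate)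
include hQ

/-- the isometry induced by a matrix of determinant one -/
noncomputable def sl2Elt (fr : Frame Q) (a b c d : F) (hdet : a * d - b * c = 1) :
    ↥(Cfsg.isometryGroup F (⇑Q)) :=
  isoOfEquiv Q (quadEquiv Q hQ (fr.lin a b c d) (fr.lin_preserves a b c d hdet))
    (by intro x; rw [quadEquiv_apply]; exact fr.lin_preserves a b c d hdet x)

theorem sl2Elt_act (fr : Frame Q) (a b c d : F) (hdet : a * d - b * c = 1) (x : ι → F) :
    sl2Elt Q hQ fr a b c d hdet ⬝ x = fr.lin a b c d x := by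
  unfold sl2Elt
  rw [isoOfEquiv_mulVec, quadEquiv_apply]

open Cfsg.Agent.Lib.Helper99.SpRoot in
/-- the homomorphism from `SL₂(F)` attached to a frame -/
noncomputable def sl2Hom (fr : Frame Q) :
    Matrix.SpecialLinearGroup (Fin 2) F →* ↥(Cfsg.isometryGroup F (⇑Q)) where
  toFun g := sl2Elt Q hQ fr ((g : Matrix (Fin 2) (Fin 2) F) 0 0)
    ((g : Matrix (Fin 2) (Fin 2) F) 0 1) ((g : Matrix (Fin 2) (Fin 2) F) 1 0)
    ((g : Matrix (Fin 2) (Fin 2) F) 1 1) (sl2_det g)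
  map_one' := by
    apply iso_ext
    intro x
    rw [sl2Elt_act]
    simp only [Matrix.SpecialLinearGroup.coe_one, Matrix.one_apply_eq, ne_eq, zero_ne_one,
      not_false_eq_true, Matrix.one_apply_ne, one_ne_zero]
    rw [fr.lin_one]
    simp
  map_mul' g h := by
    apply iso_ext
    intro x
    rw [coe_mul_mulVec, sl2Elt_act, sl2Elt_act, sl2Elt_act, fr.lin_mul]
    simp only [Matrix.SpecialLinearGroup.coe_mul, Matrix.mul_apply, Fin.sum_univ_two]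

theorem sl2Hom_act (fr : Frame Q) (g : Matrix.SpecialLinearGroup (Fin 2) F) (x : ι → F) :
    sl2Hom Q hQ fr g ⬝ x = fr.lin ((g : Matrix (Fin 2) (Fin 2) F) 0 0)
    ((g : Matrix (Fin 2) (Fin 2) F) 0 1) ((g : Matrix (Fin 2) (Fin 2) F) 1 0)
    ((g : Matrix (Fin 2) (Fin 2) F) 1 1) x := by
  show sl2Elt Q hQ fr _ _ _ _ (Cfsg.Agent.Lib.Helper99.SpRoot.sl2_det g) ⬝ x = _
  rw [sl2Elt_act]

theorem sl2Hom_upper (fr : Frame Q) (g : Matrix.SpecialLinearGroup (Fin 2) F)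
    (h10 : (g : Matrix (Fin 2) (Fin 2) F) 1 0 = 0)
    (h00 : (g : Matrix (Fin 2) (Fin 2) F) 0 0 = 1) (h11 : (g : Matrix (Fin 2) (Fin 2) F) 1 1 = 1) :
    sl2Hom Q hQ fr g = sg Q hQ fr.E (-(g : Matrix (Fin 2) (Fin 2) F) 0 1) := by
  apply iso_ext
  intro x
  rw [sl2Hom_act, fr.lin_apply, sg_act, h10, h00, h11]
  simp only [Frame.E_p, Frame.E_r]
  module

theorem sl2Hom_lower (fr : Frame Q) (g : Matrix.SpecialLinearGroup (Fin 2) F)
    (h01 : (g : Matrix (Fin 2) (Fin 2) F) 0 1 = 0)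
    (h00 : (g : Matrix (Fin 2) (Fin 2) F) 0 0 = 1) (h11 : (g : Matrix (Fin 2) (Fin 2) F) 1 1 = 1) :
    sl2Hom Q hQ fr g = sg Q hQ fr.Fp ((g : Matrix (Fin 2) (Fin 2) F) 1 0) := by
  apply iso_ext
  intro x
  rw [sl2Hom_act, fr.lin_apply, sg_act, h01, h00, h11]
  simp only [Frame.Fp_p, Frame.Fp_r]
  module

open Cfsg.Agent.Lib.Helper99.SpRoot in
theorem map_upper (fr : Frame Q) :
    (Cfsg.upperUnipotentSL2 F).map (sl2Hom Q hQ fr) = T Q hQ fr.E := by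
  apply le_antisymm
  · rw [Subgroup.map_le_iff_le_comap]
    unfold Cfsg.upperUnipotentSL2
    rw [Subgroup.closure_le]
    rintro g ⟨h10, h00, h11⟩
    change sl2Hom Q hQ fr g ∈ T Q hQ fr.E
    rw [sl2Hom_upper Q hQ fr g h10 h00 h11]
    exact sg_mem_T Q hQ _ _
  · rintro _ ⟨c, rfl⟩
    refine ⟨upperElt (-c), upperElt_mem _, ?_⟩
    rw [sl2Hom_upper Q hQ fr _ (by simp [upperElt]) (by simp [upperElt]) (by simp [upperElt])]
    simp [upperElt]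

open Cfsg.Agent.Lib.Helper99.SpRoot in
theorem map_lower (fr : Frame Q) :
    (Cfsg.lowerUnipotentSL2 F).map (sl2Hom Q hQ fr) = T Q hQ fr.Fp := by
  apply le_antisymm
  · rw [Subgroup.map_le_iff_le_comap]
    unfold Cfsg.lowerUnipotentSL2
    rw [Subgroup.closure_le]
    rintro g ⟨h01, h00, h11⟩
    change sl2Hom Q hQ fr g ∈ T Q hQ fr.Fp
    rw [sl2Hom_lower Q hQ fr g h01 h00 h11]
    exact sg_mem_T Q hQ _ _
  · rintro _ ⟨c, rfl⟩
    refine ⟨lowerElt c, lowerElt_mem _, ?_⟩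
    rw [sl2Hom_lower Q hQ fr _ (by simp [lowerElt]) (by simp [lowerElt]) (by simp [lowerElt])]
    simp [lowerElt]

open Cfsg.Agent.Lib.Helper99.SpRoot in
theorem sl2Hom_range (fr : Frame Q) :
    (sl2Hom Q hQ fr).range = T Q hQ fr.E ⊔ T Q hQ fr.Fp := by
  rw [MonoidHom.range_eq_map, ← upper_sup_lower, Subgroup.map_sup, map_upper, map_lower]

theorem sl2Hom_ker (fr : Frame Q) : (sl2Hom Q hQ fr).ker = ⊥ := by
  rw [eq_bot_iff]
  intro g hg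
  rw [MonoidHom.mem_ker] at hg
  have e1 := sl2Hom_act Q hQ fr g fr.e₁
  have e2 := sl2Hom_act Q hQ fr g fr.f₂
  rw [hg] at e1 e2
  simp only [OneMemClass.coe_one, Units.val_one, one_mulVec] at e1 e2
  have c1 := fr.lin_comb ((g : Matrix (Fin 2) (Fin 2) F) 0 0)
    ((g : Matrix (Fin 2) (Fin 2) F) 0 1) ((g : Matrix (Fin 2) (Fin 2) F) 1 0)
    ((g : Matrix (Fin 2) (Fin 2) F) 1 1) 0 ⟨by simp, by simp, by simp, by simp⟩ 1 0 0 0
  have c2 := fr.lin_comb ((g : Matrix (Fin 2) (Fin 2) F) 0 0)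
    ((g : Matrix (Fin 2) (Fin 2) F) 0 1) ((g : Matrix (Fin 2) (Fin 2) F) 1 0)
    ((g : Matrix (Fin 2) (Fin 2) F) 1 1) 0 ⟨by simp, by simp, by simp, by simp⟩ 0 0 0 1
  simp only [zero_add, one_smul, zero_smul, add_zero, one_mul, zero_mul, mul_zero, sub_zero,
    neg_zero] at c1 c2
  rw [← e1] at c1
  rw [← e2] at c2
  have a1 := congrArg (fun v => polar (⇑Q) v fr.f₁) c1
  have a2 := congrArg (fun v => polar (⇑Q) v fr.e₂) c1
  have a3 := congrArg (fun v => polar (⇑Q) v fr.f₁) c2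
  have a4 := congrArg (fun v => polar (⇑Q) v fr.e₂) c2
  simp only [polar_add_left, polar_smul_left, fr.h11, fr.hff', fr.hee, fr.h22', fr.hf₁₁,
    fr.he₂₂, fr.h21, fr.h21', fr.hee', smul_eq_mul, mul_one, mul_zero, add_zero, zero_add]
    at a1 a2 a3 a4
  rw [Subgroup.mem_bot]
  apply Matrix.SpecialLinearGroup.ext
  intro i j
  fin_cases i <;> fin_cases j
  · simpa using a1.symm
  · simpa using a3.symm
  · simpa using a2.symm
  · simpa using a4.symm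

theorem isPSL2PairOver_frame (fr : Frame Q) :
    Cfsg.IsPSL2PairOver F (T Q hQ fr.E) (T Q hQ fr.Fp) := by
  refine ⟨sl2Hom Q hQ fr, sl2Hom_range Q hQ fr, ?_, map_upper Q hQ fr, map_lower Q hQ fr⟩
  rw [sl2Hom_ker]
  exact bot_le

theorem rankOneCondition_frame (fr : Frame Q) :
    RankOneCondition (T Q hQ fr.E) (T Q hQ fr.Fp) := by
  rintro _ ⟨c, rfl⟩ hc1
  have hc : c ≠ 0 := fun h => hc1 (by rw [h]; exact sg_zero Q hQ _)
  refine ⟨sg Q hQ fr.Fp (-c⁻¹), sg_mem_T Q hQ _ _, ?_, ?_⟩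
  · rw [Ne, sg_eq_one_iff]
    exact neg_ne_zero.2 (inv_ne_zero hc)
  · rw [conjBy_T, conjBy_T]
    apply T_eq_of
    intro v
    show (polar (⇑Q) v ((sg Q hQ fr.Fp (-c⁻¹))⁻¹ ⬝ fr.e₁) = 0 ∧
      polar (⇑Q) v ((sg Q hQ fr.Fp (-c⁻¹))⁻¹ ⬝ fr.e₂) = 0) ↔
      (polar (⇑Q) v ((sg Q hQ fr.E c)⁻¹ ⬝ fr.f₁) = 0 ∧
      polar (⇑Q) v ((sg Q hQ fr.E c)⁻¹ ⬝ fr.f₂) = 0)
    rw [sg_inv, sg_inv, sg_act, sg_act, sg_act, sg_act]
    simp only [Frame.E_p, Frame.E_r, Frame.Fp_p, Frame.Fp_r, fr.h11, fr.h11', fr.h12, fr.h12',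
      fr.h21, fr.h21', fr.h22, fr.h22', neg_neg, mul_one, mul_zero, zero_smul, add_zero, sub_zero,
      polar_add_right, polar_sub_right, polar_smul_right, smul_eq_mul]
    constructor
    · rintro ⟨h1, h2⟩
      constructor
      · have : polar (⇑Q) v fr.f₁ + -c * polar (⇑Q) v fr.e₂
          = -c * (polar (⇑Q) v fr.e₂ - c⁻¹ * polar (⇑Q) v fr.f₁) := by field_simp; ring
        linear_combination (exp := 1) this + (-c) * h2
      · have : polar (⇑Q) v fr.f₂ - -c * polar (⇑Q) v fr.e₁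
          = c * (polar (⇑Q) v fr.e₁ + c⁻¹ * polar (⇑Q) v fr.f₂) := by field_simp; ring
        linear_combination (exp := 1) this + c * h1
    · rintro ⟨h1, h2⟩
      constructor
      · have : polar (⇑Q) v fr.e₁ + c⁻¹ * polar (⇑Q) v fr.f₂
          = c⁻¹ * (polar (⇑Q) v fr.f₂ - -c * polar (⇑Q) v fr.e₁) := by field_simp; ring
        linear_combination (exp := 1) this + c⁻¹ * h2
      · have : polar (⇑Q) v fr.e₂ - c⁻¹ * polar (⇑Q) v fr.f₁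
          = -c⁻¹ * (polar (⇑Q) v fr.f₁ + -c * polar (⇑Q) v fr.e₂) := by field_simp; ring
        linear_combination (exp := 1) this + (-c⁻¹) * h1

theorem T_frame_ne (fr : Frame Q) : T Q hQ fr.E ≠ T Q hQ fr.Fp := by
  intro h
  have h1 : sg Q hQ fr.E 1 ∈ T Q hQ fr.Fp := by rw [← h]; exact sg_mem_T Q hQ _ _
  obtain ⟨d, hd⟩ := h1
  have h2 := congrArg (fun g => g ⬝ fr.f₁) hd
  simp only [sg_act, Frame.E_p, Frame.E_r, Frame.Fp_p, Frame.Fp_r, fr.h11, fr.h21, fr.hf₁₁,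
    fr.hff', mul_one, mul_zero, zero_smul, sub_zero, add_zero, one_smul] at h2
  have h3 : fr.e₂ = 0 := by
    have h4 : fr.f₁ + fr.e₂ = fr.f₁ + 0 := by rw [add_zero]; exact h2
    exact add_left_cancel h4
  exact fr.E.r_ne h3

theorem T_nilpotent (P : TSPair Q) : Group.IsNilpotent (T Q hQ P) :=
  ⟨⟨1, Subgroup.upperCentralSeries_one_eq_top_iff.mpr (T_commutative Q hQ P)⟩⟩

theorem isRankOnePair_frame (fr : Frame Q) :
    IsRankOnePair (T Q hQ fr.E) (T Q hQ fr.Fp) where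
  ne := T_frame_ne Q hQ fr
  nilpotent_left := T_nilpotent Q hQ _
  nilpotent_right := T_nilpotent Q hQ _
  cond_left := rankOneCondition_frame Q hQ fr
  cond_right := rankOneCondition_frame Q hQ fr.swap

end Cfsg.Agent.Lib.Helper94.Sg
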