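import Mathlib
import Cfsg.Prelude.Def_RootSubgroups
import Cfsg.Agent.Lib.Helper94.Sg3
import Cfsg.Agent.Lib.Helper94.Sg4

set_option autoImplicit false

namespace Cfsg.Agent.Lib.Helper94.Sg

open Matrix Module QuadraticMap
open Cfsg.Agent.Lib.Helper8 Cfsg.Agent.Lib.Helper13 Cfsg.Agent.Lib.Helper94
open Cfsg.Agent.Lib.Helper99.RootRestrict
open scoped commutatorElement

set_option linter.unusedSectionVars false
set_option linter.unusedVariables false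
set_option linter.unusedSimpArgs false

variable {ι : Type} [Fintype ι] [DecidableEq ι] {F : Type*} [Field F]

local notation:73 g:73 " ⬝ " x:74 => Matrix.mulVec (Units.val (Subtype.val g)) x

variable (Q : QuadraticForm F (ι → F))

/-- the determinant of the Gram matrix between two lines -/
def gramDet (P P' : TSPair Q) : F :=
  polar (⇑Q) P.p P'.p * polar (⇑Q) P.r P'.r - polar (⇑Q) P.p P'.r * polar (⇑Q) P.r P'.p

omit [Fintype ι] [DecidableEq ι] in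
theorem gramDet_symm (P P' : TSPair Q) : gramDet Q P' P = gramDet Q P P' := by
  unfold gramDet
  rw [polar_comm (⇑Q) P'.p P.p, polar_comm (⇑Q) P'.r P.r, polar_comm (⇑Q) P'.p P.r,
    polar_comm (⇑Q) P'.r P.p]
  ring

variable (hQ : (QuadraticMap.polarBilin Q).Nondegenerate)
include hQ

/-- opposite lines carry a hyperbolic frame -/
theorem exists_frame (P P' : TSPair Q) (hΔ : gramDet Q P P' ≠ 0) :
    ∃ fr : Frame Q, T Q hQ fr.E = T Q hQ P ∧ T Q hQ fr.Fp = T Q hQ P' := by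
  obtain ⟨Δ, hΔdef⟩ : ∃ Δ : F, Δ = gramDet Q P P' := ⟨_, rfl⟩
  have hΔ0 : Δ ≠ 0 := by rw [hΔdef]; exact hΔ
  obtain ⟨m₁₁, h₁₁⟩ : ∃ m : F, m = polar (⇑Q) P.p P'.p := ⟨_, rfl⟩
  obtain ⟨m₁₂, h₁₂⟩ : ∃ m : F, m = polar (⇑Q) P.p P'.r := ⟨_, rfl⟩
  obtain ⟨m₂₁, h₂₁⟩ : ∃ m : F, m = polar (⇑Q) P.r P'.p := ⟨_, rfl⟩
  obtain ⟨m₂₂, h₂₂⟩ : ∃ m : F, m = polar (⇑Q) P.r P'.r := ⟨_, rfl⟩
  have hΔm : Δ = m₁₁ * m₂₂ - m₁₂ * m₂₁ := by
    rw [hΔdef, h₁₁, h₁₂, h₂₁, h₂₂]; rfl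
  have hdet : (m₂₂ / Δ) * (m₁₁ / Δ) - (-m₁₂ / Δ) * (-m₂₁ / Δ) ≠ 0 := by
    have : (m₂₂ / Δ) * (m₁₁ / Δ) - (-m₁₂ / Δ) * (-m₂₁ / Δ) = Δ⁻¹ := by
      field_simp
      rw [hΔm]; ring
    rw [this]
    exact inv_ne_zero hΔ0
  obtain ⟨P₂, hP₂⟩ : ∃ P₂ : TSPair Q,
      P₂ = P'.change (m₂₂ / Δ) (-m₂₁ / Δ) (-m₁₂ / Δ) (m₁₁ / Δ) hdet := ⟨_, rfl⟩
  have hp₂ : P₂.p = (m₂₂ / Δ) • P'.p + (-m₂₁ / Δ) • P'.r := by rw [hP₂]; rfl
  have hr₂ : P₂.r = (-m₁₂ / Δ) • P'.p + (m₁₁ / Δ) • P'.r := by rw [hP₂]; rfl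
  have hT₂ : T Q hQ P₂ = T Q hQ P' := by rw [hP₂]; exact T_change Q hQ P' _ _ _ _ _
  have e11 : polar (⇑Q) P.p P₂.p = 1 := by
    rw [hp₂, polar_add_right, polar_smul_right, polar_smul_right, ← h₁₁, ← h₁₂]
    simp only [smul_eq_mul]
    field_simp
    rw [hΔm]; ring
  have e12 : polar (⇑Q) P.p P₂.r = 0 := by
    rw [hr₂, polar_add_right, polar_smul_right, polar_smul_right, ← h₁₁, ← h₁₂]
    simp only [smul_eq_mul]
    field_simp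
    ring
  have e21 : polar (⇑Q) P.r P₂.p = 0 := by
    rw [hp₂, polar_add_right, polar_smul_right, polar_smul_right, ← h₂₁, ← h₂₂]
    simp only [smul_eq_mul]
    field_simp
    ring
  have e22 : polar (⇑Q) P.r P₂.r = 1 := by
    rw [hr₂, polar_add_right, polar_smul_right, polar_smul_right, ← h₂₁, ← h₂₂]
    simp only [smul_eq_mul]
    field_simp
    rw [hΔm]; ring
  refine ⟨⟨P.p, P.r, P₂.p, P₂.r, P.hp, P.hr, P₂.hp, P₂.hr, P.hpr, P₂.hpr, e11, e12, e21, e22⟩,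
    ?_, ?_⟩
  · apply T_eq_of
    intro v
    exact Iff.rfl
  · rw [← hT₂]
    apply T_eq_of
    intro v
    exact Iff.rfl

/-- the trichotomy for two lines, together with exclusivity of the rank one case -/
theorem pair_analysis (S : Set (Subgroup ↥(Cfsg.isometryGroup F (⇑Q))))
    (hS : ∀ P : TSPair Q, T Q hQ P ∈ S) (P P' : TSPair Q) :
    (gramDet Q P P' ≠ 0 ∧ IsRankOnePair (T Q hQ P) (T Q hQ P') ∧
        Cfsg.IsPSL2PairOver F (T Q hQ P) (T Q hQ P')) ∨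
      (gramDet Q P P' = 0 ∧ ¬ IsRankOnePair (T Q hQ P) (T Q hQ P') ∧
        (⁅T Q hQ P, T Q hQ P'⁆ = ⊥ ∨ RootCommutatorCase S (T Q hQ P) (T Q hQ P'))) := by
  by_cases hΔ : gramDet Q P P' = 0
  · right
    refine ⟨hΔ, ?_⟩
    obtain ⟨P₁, P₁', hT, hT', h11, h12, h21⟩ := normalize_singular Q hQ P P' hΔ
    rw [← hT, ← hT']
    by_cases h22 : polar (⇑Q) P₁.r P₁'.r = 0
    · have hc : ∀ a ∈ T Q hQ P₁, ∀ b ∈ T Q hQ P₁', a * b = b * a := by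
        rintro _ ⟨c, rfl⟩ _ ⟨d, rfl⟩
        exact commute_of_orth Q hQ P₁ P₁' h11 h12 h21 h22 c d
      exact ⟨not_rankOne_of_commute _ _ (T_ne_bot Q hQ P₁) hc,
        Or.inl (commutator_eq_bot_of_commute Q hQ _ _ hc)⟩
    · by_cases hind : ∃ l : F, P₁'.p = l • P₁.p
      · obtain ⟨l, hl⟩ := hind
        have hc : ∀ a ∈ T Q hQ P₁, ∀ b ∈ T Q hQ P₁', a * b = b * a := by
          rintro _ ⟨c, rfl⟩ _ ⟨d, rfl⟩
          exact commute_of_smul Q hQ P₁ P₁' l hl h21 c d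
        exact ⟨not_rankOne_of_commute _ _ (T_ne_bot Q hQ P₁) hc,
          Or.inl (commutator_eq_bot_of_commute Q hQ _ _ hc)⟩
      · obtain ⟨hcase, hnot⟩ := commutator_case Q hQ S hS P₁ P₁' h11 h12 h21 h22 hind
        exact ⟨hnot, Or.inr hcase⟩
  · left
    obtain ⟨fr, hE, hF⟩ := exists_frame Q hQ P P' hΔ
    rw [← hE, ← hF]
    exact ⟨hΔ, isRankOnePair_frame Q hQ fr, isPSL2PairOver_frame Q hQ fr⟩

end Cfsg.Agent.Lib.Helper94.Sg
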