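import Mathlib
import Cfsg.Prelude.Def_RootSubgroups
import Cfsg.Agent.Lib.Helper94.Sg5

set_option autoImplicit false

namespace Cfsg.Agent.Lib.Helper94.Sg

open Matrix Module QuadraticMap
open Cfsg.Agent.Lib.Helper8 Cfsg.Agent.Lib.Helper13 Cfsg.Agent.Lib.Helper94

set_option linter.unusedSectionVars false
set_option linter.unusedVariables false
set_option linter.unusedSimpArgs false

variable {ι : Type} [Fintype ι] [DecidableEq ι] {F : Type*} [Field F]

variable (Q : QuadraticForm F (ι → F))
variable (hQ : (QuadraticMap.polarBilin Q).Nondegenerate)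
include hQ

/-- a singular vector dual to `u` and orthogonal to `W` -/
theorem exists_sing_dual (W : Submodule F (ι → F)) (u : ι → F) (hu : Q u = 0) (huW : u ∉ W)
    (horth : ∀ w ∈ W, polar (⇑Q) u w = 0) :
    ∃ f : ι → F, Q f = 0 ∧ polar (⇑Q) u f = 1 ∧ ∀ w ∈ W, polar (⇑Q) w f = 0 := by
  obtain ⟨z, hz, hzu⟩ := exists_qorth_polar_ne Q hQ W u huW
  obtain ⟨v, hv⟩ : ∃ v : ι → F, v = (polar (⇑Q) z u)⁻¹ • z := ⟨_, rfl⟩
  have hvu : polar (⇑Q) v u = 1 := by
    rw [hv, polar_smul_left, smul_eq_mul, inv_mul_cancel₀ hzu]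
  have hvW : ∀ w ∈ W, polar (⇑Q) w v = 0 := by
    intro w hw
    rw [hv, polar_smul_right, (mem_qorth Q).1 hz w hw, smul_zero]
  have huu : polar (⇑Q) u u = 0 := polar_self_sing Q u hu
  refine ⟨v + (-(Q v)) • u, ?_, ?_, ?_⟩
  · rw [quad_add_smul, hu, hvu]; ring
  · rw [polar_add_right, polar_smul_right, huu, polar_comm (⇑Q) u v, hvu]; simp
  · intro w hw
    rw [polar_add_right, polar_smul_right, hvW w hw, polar_comm (⇑Q) w u, horth w hw]; simp

/-- a non-singular vector orthogonal to a hyperbolic pair and a third vector -/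
theorem exists_nonsing_orth (hn : 6 ≤ finrank F (ι → F)) (u w x : ι → F)
    (huw : polar (⇑Q) u w ≠ 0) (hu : Q u = 0) (hw : Q w = 0) (hux : polar (⇑Q) u x = 0)
    (hwx : polar (⇑Q) w x = 0) :
    ∃ z : ι → F, Q z ≠ 0 ∧ polar (⇑Q) z u = 0 ∧ polar (⇑Q) z w = 0 ∧ polar (⇑Q) z x = 0 := by
  by_contra hcon
  push Not at hcon
  obtain ⟨W, hW⟩ : ∃ W : Submodule F (ι → F), W = Submodule.span F {u, w, x} := ⟨_, rfl⟩
  have huW : u ∈ W := by rw [hW]; exact Submodule.subset_span (by simp)
  have hwW : w ∈ W := by rw [hW]; exact Submodule.subset_span (by simp)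
  have hxW : x ∈ W := by rw [hW]; exact Submodule.subset_span (by simp)
  have hsing : ∀ z ∈ qorth Q W, Q z = 0 := by
    intro z hz
    by_contra hz0
    have h1 := (mem_qorth Q).1 hz
    apply hcon z hz0
    · rw [polar_comm]; exact h1 u huW
    · rw [polar_comm]; exact h1 w hwW
    · rw [polar_comm]; exact h1 x hxW
  have hle : qorth Q W ≤ Submodule.span F {x} := by
    intro z hz
    have hzW : z ∈ W := by
      rw [← qorth_qorth Q hQ W, mem_qorth]
      intro z' hz'
      have h1 := hsing (z' + z) (Submodule.add_mem _ hz' hz)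
      rw [QuadraticMap.map_add (⇑Q), hsing z' hz', hsing z hz] at h1
      simpa using h1
    rw [hW, Submodule.mem_span_triple] at hzW
    obtain ⟨a, b, c, habc⟩ := hzW
    have h1 := (mem_qorth Q).1 hz
    have e1 := h1 u huW
    have e2 := h1 w hwW
    have huu : polar (⇑Q) u u = 0 := polar_self_sing Q u hu
    have hww : polar (⇑Q) w w = 0 := polar_self_sing Q w hw
    have hwu : polar (⇑Q) w u = polar (⇑Q) u w := polar_comm _ _ _
    rw [← habc] at e1 e2
    simp only [polar_add_right, polar_smul_right, huu, hww, hux, hwx, hwu, smul_eq_mul, mul_zero,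
      add_zero, zero_add] at e1 e2
    have hb : b = 0 := (mul_eq_zero.1 e1).resolve_right huw
    have ha : a = 0 := (mul_eq_zero.1 e2).resolve_right huw
    rw [← habc, ha, hb, zero_smul, zero_smul, zero_add, zero_add]
    exact Submodule.smul_mem _ _ (Submodule.mem_span_singleton_self x)
  have h1 := finrank_qorth Q hQ W
  have h2 : finrank F (qorth Q W) ≤ 1 :=
    (Submodule.finrank_mono hle).trans (finrank_span_single_le x)
  have h3 : finrank F W ≤ 3 := by
    classical
    have := finrank_span_finset_le_card (R := F) ({u, w, x} : Finset (ι → F))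
    rw [hW]
    simp only [Finset.coe_insert, Finset.coe_singleton] at this
    exact this.trans Finset.card_le_three
  omega

/-- a singular vector orthogonal to `x` and to neither of two singular vectors of `x^⊥` -/
theorem exists_sing_nonorth (hn : 6 ≤ finrank F (ι → F)) (x u w : ι → F)
    (hu : Q u = 0) (hw : Q w = 0) (hxu : polar (⇑Q) x u = 0) (hxw : polar (⇑Q) x w = 0)
    (hux : u ∉ Submodule.span F {x}) (hwx : w ∉ Submodule.span F {x}) :
    ∃ y : ι → F, Q y = 0 ∧ polar (⇑Q) y x = 0 ∧ polar (⇑Q) y u ≠ 0 ∧ polar (⇑Q) y w ≠ 0 := by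
  have hux' : polar (⇑Q) u x = 0 := by rw [polar_comm]; exact hxu
  have hwx' : polar (⇑Q) w x = 0 := by rw [polar_comm]; exact hxw
  have huu : polar (⇑Q) u u = 0 := polar_self_sing Q u hu
  have hww : polar (⇑Q) w w = 0 := polar_self_sing Q w hw
  by_cases huw : polar (⇑Q) u w = 0
  · by_cases hmem : w ∈ Submodule.span F {u, x}
    · -- w = a u + b x
      obtain ⟨a, b, hab⟩ := Submodule.mem_span_pair.1 hmem
      have ha : a ≠ 0 := by
        intro ha
        apply hwx
        rw [← hab, ha, zero_smul, zero_add]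
        exact Submodule.smul_mem _ _ (Submodule.mem_span_singleton_self x)
      obtain ⟨f, hf, huf, hfW⟩ := exists_sing_dual Q hQ (Submodule.span F {x}) u hu hux (by
        intro z hz
        obtain ⟨c, rfl⟩ := Submodule.mem_span_singleton.1 hz
        rw [polar_smul_right, hux', smul_zero])
      have hxf : polar (⇑Q) x f = 0 := hfW x (Submodule.mem_span_singleton_self x)
      refine ⟨f, hf, by rw [polar_comm]; exact hxf, by rw [polar_comm, huf]; exact one_ne_zero, ?_⟩
      rw [← hab, polar_add_right, polar_smul_right, polar_smul_right, polar_comm (⇑Q) f u, huf,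
        polar_comm (⇑Q) f x, hxf]
      simpa using ha
    · -- two duals
      have hu1 : u ∉ Submodule.span F {x, w} := by
        intro h
        obtain ⟨a, b, hab⟩ := Submodule.mem_span_pair.1 h
        by_cases hb : b = 0
        · apply hux
          rw [← hab, hb, zero_smul, add_zero]
          exact Submodule.smul_mem _ _ (Submodule.mem_span_singleton_self x)
        · apply hmem
          rw [Submodule.mem_span_pair]
          refine ⟨b⁻¹, -(b⁻¹ * a), ?_⟩
          rw [← hab]
          rw [smul_add, smul_smul, smul_smul, inv_mul_cancel₀ hb]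
          module
      obtain ⟨y₁, hy₁, huy₁, hy₁W⟩ := exists_sing_dual Q hQ (Submodule.span F {x, w}) u hu hu1 (by
        intro z hz
        obtain ⟨a, b, rfl⟩ := Submodule.mem_span_pair.1 hz
        rw [polar_add_right, polar_smul_right, polar_smul_right, hux', huw]; simp)
      have hxy₁ : polar (⇑Q) x y₁ = 0 := hy₁W x (Submodule.subset_span (by simp))
      have hwy₁ : polar (⇑Q) w y₁ = 0 := hy₁W w (Submodule.subset_span (by simp))
      have hw1 : w ∉ Submodule.span F {x, u, y₁} := by
        intro h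
        rw [Submodule.mem_span_triple] at h
        obtain ⟨a, b, c, habc⟩ := h
        have e := congrArg (fun z => polar (⇑Q) u z) habc
        simp only [polar_add_right, polar_smul_right, hux', huu, huy₁, huw, smul_eq_mul, mul_zero,
          mul_one, zero_add] at e
        apply hmem
        rw [Submodule.mem_span_pair]
        refine ⟨b, a, ?_⟩
        rw [← habc, e, zero_smul, add_zero, add_comm]
      obtain ⟨y₂, hy₂, hwy₂, hy₂W⟩ := exists_sing_dual Q hQ (Submodule.span F {x, u, y₁}) w hw
        hw1 (by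
          intro z hz
          rw [Submodule.mem_span_triple] at hz
          obtain ⟨a, b, c, rfl⟩ := hz
          rw [polar_add_right, polar_add_right, polar_smul_right, polar_smul_right,
            polar_smul_right, hwx', polar_comm (⇑Q) w u, huw, hwy₁]; simp)
      have hxy₂ : polar (⇑Q) x y₂ = 0 := hy₂W x (Submodule.subset_span (by simp))
      have huy₂ : polar (⇑Q) u y₂ = 0 := hy₂W u (Submodule.subset_span (by simp))
      have hy₁y₂ : polar (⇑Q) y₁ y₂ = 0 := hy₂W y₁ (Submodule.subset_span (by simp))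
      refine ⟨y₁ + y₂, ?_, ?_, ?_, ?_⟩
      · rw [QuadraticMap.map_add (⇑Q), hy₁, hy₂, hy₁y₂]; simp
      · rw [polar_add_left, polar_comm (⇑Q) y₁ x, polar_comm (⇑Q) y₂ x, hxy₁, hxy₂]; simp
      · rw [polar_add_left, polar_comm (⇑Q) y₁ u, polar_comm (⇑Q) y₂ u, huy₁, huy₂]; simp
      · rw [polar_add_left, polar_comm (⇑Q) y₁ w, polar_comm (⇑Q) y₂ w, hwy₁, hwy₂]; simp
  · obtain ⟨z, hz, hzu, hzw, hzx⟩ := exists_nonsing_orth Q hQ hn u w x huw hu hw hux' hwx'
    obtain ⟨β, hβ⟩ : ∃ β : F, β = -(Q z) / polar (⇑Q) u w := ⟨_, rfl⟩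
    have hβ0 : β ≠ 0 := by
      rw [hβ]
      exact div_ne_zero (neg_ne_zero.2 hz) huw
    have hβ1 : β * polar (⇑Q) u w = -(Q z) := by
      rw [hβ]; field_simp
    refine ⟨u + β • w + z, ?_, ?_, ?_, ?_⟩
    · rw [QuadraticMap.map_add (⇑Q), quad_add_smul, hu, hw, polar_add_left, polar_smul_left,
        polar_comm (⇑Q) u z, polar_comm (⇑Q) w z, hzu, hzw]
      simp only [smul_eq_mul, mul_zero, add_zero, zero_add]
      linear_combination hβ1
    · rw [polar_add_left, polar_add_left, polar_smul_left, hux', hwx', hzx]; simp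
    · rw [polar_add_left, polar_add_left, polar_smul_left, huu, polar_comm (⇑Q) w u, hzu]
      simpa using ⟨hβ0, huw⟩
    · rw [polar_add_left, polar_add_left, polar_smul_left, hww, hzw]
      simpa using huw

end Cfsg.Agent.Lib.Helper94.Sg
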