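import Mathlib
import Cfsg.Prelude.Def_RootSubgroups
import Cfsg.Agent.Lib.Helper94.Sg6

set_option autoImplicit false

namespace Cfsg.Agent.Lib.Helper94.Sg

open Matrix Module QuadraticMap
open Cfsg.Agent.Lib.Helper8 Cfsg.Agent.Lib.Helper13 Cfsg.Agent.Lib.Helper94
open Cfsg.Agent.Lib.Helper99.RootRestrict

set_option linter.unusedSectionVars false
set_option linter.unusedVariables false
set_option linter.unusedSimpArgs false

section abstract

variable {G : Type*} [Group G]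

theorem rootCommutatorCase_subgroupOf (S : Set (Subgroup G)) (A B : Subgroup G) (hA : A ∈ S)
    (hB : B ∈ S) (h : RootCommutatorCase S A B) :
    RootCommutatorCase (restr S) (A.subgroupOf (⨆ B ∈ S, B)) (B.subgroupOf (⨆ B ∈ S, B)) := by
  obtain ⟨hmem, hcent, hleft, hright⟩ := h
  have hAK := le_gen hA
  have hBK := le_gen hB
  have hcomm := commutator_subgroupOf (⨆ B ∈ S, B) A B hAK hBK
  have hCK := commutator_le_of_le (⨆ B ∈ S, B) A B hAK hBK
  refine ⟨?_, ?_, ?_, ?_⟩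
  · rw [hcomm]; exact ⟨⁅A, B⁆, hmem, rfl⟩
  · rw [hcomm]
    intro c hc x hx
    have hc' : (c : G) ∈ ⁅A, B⁆ := Subgroup.mem_subgroupOf.1 hc
    have hx' : (x : G) ∈ A ⊔ B := by
      rw [← Subgroup.subgroupOf_sup hAK hBK] at hx
      exact Subgroup.mem_subgroupOf.1 hx
    exact Subtype.ext (hcent c hc' x hx')
  · intro a ha ha1
    rw [hcomm]
    have := hleft (a : G) (Subgroup.mem_subgroupOf.1 ha) (fun h0 => ha1 (Subtype.ext h0))
    apply Subgroup.map_injective (⨆ B ∈ S, B).subtype_injective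
    rw [Subgroup.map_subgroupOf_eq_of_le hCK, ← this, MonoidHom.map_closure]
    congr 1
    ext x
    constructor
    · rintro ⟨_, ⟨b, hb, rfl⟩, rfl⟩
      exact ⟨(b : G), Subgroup.mem_subgroupOf.1 hb, by simp⟩
    · rintro ⟨b, hb, rfl⟩
      exact ⟨_, ⟨⟨b, hBK hb⟩, Subgroup.mem_subgroupOf.2 hb, rfl⟩, by simp⟩
  · intro b hb hb1
    rw [hcomm]
    have := hright (b : G) (Subgroup.mem_subgroupOf.1 hb) (fun h0 => hb1 (Subtype.ext h0))
    apply Subgroup.map_injective (⨆ B ∈ S, B).subtype_injective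
    rw [Subgroup.map_subgroupOf_eq_of_le hCK, ← this, MonoidHom.map_closure]
    congr 1
    ext x
    constructor
    · rintro ⟨_, ⟨a, ha, rfl⟩, rfl⟩
      exact ⟨(a : G), Subgroup.mem_subgroupOf.1 ha, by simp⟩
    · rintro ⟨a, ha, rfl⟩
      exact ⟨_, ⟨⟨a, hAK ha⟩, Subgroup.mem_subgroupOf.2 ha, rfl⟩, by simp⟩

/-- Root subgroup set axioms for the restricted family, commutator case allowed. -/
theorem restr_isRootSubgroupSet' (S : Set (Subgroup G))
    (h1 : ∀ A ∈ S, IsMulCommutative A) (h2 : ∀ A ∈ S, A ≠ ⊥)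
    (h3 : ∀ A ∈ S, ∀ g ∈ (⨆ B ∈ S, B), conjBy A g ∈ S)
    (h4 : ∀ A ∈ S, ∀ B ∈ S, ⁅A, B⁆ = ⊥ ∨ IsRankOnePair A B ∨ RootCommutatorCase S A B) :
    IsRootSubgroupSet (restr S) where
  commutative := by
    rintro A' ⟨A, hA, rfl⟩
    haveI := h1 A hA
    infer_instance
  ne_bot := by
    rintro A' ⟨A, hA, rfl⟩ h
    rw [Subgroup.subgroupOf_eq_bot] at h
    exact h2 A hA (le_bot_iff.mp (h le_rfl (le_gen hA)))
  generates := restr_generates S
  conj_mem := by
    rintro A' ⟨A, hA, rfl⟩ g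
    refine ⟨conjBy A (g : G), h3 A hA _ g.2, ?_⟩
    exact (conjBy_subgroupOf _ A (le_gen hA) g).symm
  pair := by
    rintro A' ⟨A, hA, rfl⟩ B' ⟨B, hB, rfl⟩
    rcases h4 A hA B hB with h | h | h
    · left
      rw [commutator_subgroupOf _ A B (le_gen hA) (le_gen hB), h]
      exact Subgroup.bot_subgroupOf _
    · right; left
      exact (isRankOnePair_subgroupOf_iff _ A B (le_gen hA) (le_gen hB)).mpr h
    · right; right
      exact rootCommutatorCase_subgroupOf S A B hA hB h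

end abstract

variable {ι : Type} [Fintype ι] [DecidableEq ι] {F : Type*} [Field F]

local notation:73 g:73 " ⬝ " x:74 => Matrix.mulVec (Units.val (Subtype.val g)) x

variable (Q : QuadraticForm F (ι → F))

/-- the family of Siegel transvection groups, in the shape of the statement -/
def rootSet : Set (Subgroup ↥(Cfsg.isometryGroup F (⇑Q))) :=
  {A | ∃ p r : ι → F, LinearIndependent F ![p, r] ∧ Q p = 0 ∧ Q r = 0 ∧ Q (p + r) = 0 ∧
    A = Subgroup.closure (Tset Q p r)}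

variable (hQ : (QuadraticMap.polarBilin Q).Nondegenerate)
include hQ

theorem mem_rootSet_iff (A : Subgroup ↥(Cfsg.isometryGroup F (⇑Q))) :
    A ∈ rootSet Q ↔ ∃ P : TSPair Q, A = T Q hQ P := by
  constructor
  · rintro ⟨p, r, hli, hp, hr, hpr, rfl⟩
    have hpol : polar (⇑Q) p r = 0 := by
      unfold polar
      rw [hpr, hp, hr]; simp
    refine ⟨⟨p, r, hp, hr, hpol, ?_⟩, ?_⟩
    · exact LinearIndependent.pair_iff.1 hli
    · exact closure_Tset Q hQ ⟨p, r, hp, hr, hpol, LinearIndependent.pair_iff.1 hli⟩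
  · rintro ⟨P, rfl⟩
    refine ⟨P.p, P.r, LinearIndependent.pair_iff.2 P.li, P.hp, P.hr, ?_, (closure_Tset Q hQ P).symm⟩
    rw [QuadraticMap.map_add (⇑Q), P.hp, P.hr, P.hpr]; simp

theorem T_mem_rootSet (P : TSPair Q) : T Q hQ P ∈ rootSet Q :=
  (mem_rootSet_iff Q hQ _).2 ⟨P, rfl⟩

/-- two lines always have a common opposite line -/
theorem exists_common_opp (hn : 6 ≤ finrank F (ι → F)) (P P' : TSPair Q) :
    ∃ K : TSPair Q, gramDet Q P K ≠ 0 ∧ gramDet Q P' K ≠ 0 := by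
  have h0 : ∀ u : ι → F, u ≠ 0 → u ∉ Submodule.span F {(0 : ι → F)} := by
    intro u hu h
    rw [Submodule.span_zero_singleton, Submodule.mem_bot] at h
    exact hu h
  obtain ⟨x₁, hx₁, -, hx₁p, hx₁p'⟩ := exists_sing_nonorth Q hQ hn 0 P.p P'.p P.hp P'.hp
    (by simp) (by simp) (h0 _ P.p_ne) (h0 _ P'.p_ne)
  have hx₁0 : x₁ ≠ 0 := by
    intro h
    apply hx₁p
    rw [h]; simp
  -- the point of each line orthogonal to `x₁`
  have aux : ∀ R : TSPair Q, polar (⇑Q) x₁ R.p ≠ 0 →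
      ∃ u : ι → F, Q u = 0 ∧ polar (⇑Q) x₁ u = 0 ∧ u ∉ Submodule.span F {x₁} ∧
        ∀ y : ι → F, polar (⇑Q) y u
          = polar (⇑Q) x₁ R.p * polar (⇑Q) y R.r - polar (⇑Q) x₁ R.r * polar (⇑Q) y R.p := by
    intro R hR
    refine ⟨(-(polar (⇑Q) x₁ R.r)) • R.p + polar (⇑Q) x₁ R.p • R.r, R.Q_comb _ _, ?_, ?_, ?_⟩
    · rw [polar_add_right, polar_smul_right, polar_smul_right]
      simp only [smul_eq_mul]; ring
    · intro h
      obtain ⟨c, hc⟩ := Submodule.mem_span_singleton.1 h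
      have e := congrArg (fun z => polar (⇑Q) z R.p) hc
      simp only [polar_add_left, polar_smul_left, R.hpp, R.hrp, smul_eq_mul, mul_zero,
        add_zero] at e
      have hc0 : c = 0 := (mul_eq_zero.1 e).resolve_right hR
      rw [hc0, zero_smul] at hc
      exact hR (R.li _ _ hc.symm).2
    · intro y
      rw [polar_add_right, polar_smul_right, polar_smul_right]
      simp only [smul_eq_mul]; ring
  obtain ⟨u, hu, hxu, hux, hyu⟩ := aux P hx₁p
  obtain ⟨w, hw, hxw, hwx, hyw⟩ := aux P' hx₁p'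
  obtain ⟨y, hy, hyx, hyu0, hyw0⟩ := exists_sing_nonorth Q hQ hn x₁ u w hu hw hxu hxw hux hwx
  have hxy : polar (⇑Q) x₁ y = 0 := by rw [polar_comm]; exact hyx
  refine ⟨⟨x₁, y, hx₁, hy, hxy, ?_⟩, ?_, ?_⟩
  · intro s t h
    have e := congrArg (fun z => polar (⇑Q) z u) h
    simp only [polar_add_left, polar_smul_left, hxu, smul_eq_mul, mul_zero, zero_add,
      polar_zero_left] at e
    have ht : t = 0 := (mul_eq_zero.1 e).resolve_right hyu0
    rw [ht, zero_smul, add_zero] at h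
    rcases smul_eq_zero.1 h with h | h
    · exact ⟨h, ht⟩
    · exact absurd h hx₁0
  · show polar (⇑Q) P.p x₁ * polar (⇑Q) P.r y - polar (⇑Q) P.p y * polar (⇑Q) P.r x₁ ≠ 0
    rw [hyu y] at hyu0
    rw [polar_comm (⇑Q) P.p x₁, polar_comm (⇑Q) P.r y, polar_comm (⇑Q) P.p y,
      polar_comm (⇑Q) P.r x₁]
    intro h
    apply hyu0
    linear_combination h
  · show polar (⇑Q) P'.p x₁ * polar (⇑Q) P'.r y - polar (⇑Q) P'.p y * polar (⇑Q) P'.r x₁ ≠ 0
    rw [hyw y] at hyw0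
    rw [polar_comm (⇑Q) P'.p x₁, polar_comm (⇑Q) P'.r y, polar_comm (⇑Q) P'.p y,
      polar_comm (⇑Q) P'.r x₁]
    intro h
    apply hyw0
    linear_combination h

theorem rankOne_of_gramDet (P P' : TSPair Q) (h : gramDet Q P P' ≠ 0) :
    IsRankOnePair (T Q hQ P) (T Q hQ P') := by
  rcases pair_analysis Q hQ (rootSet Q) (T_mem_rootSet Q hQ) P P' with h1 | h1
  · exact h1.2.1
  · exact absurd h1.1 h

theorem rootSet_connected (hn : 6 ≤ finrank F (ι → F)) :
    IsConnectedFamily (FAdj (rootSet Q)) (rootSet Q) := by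
  intro A hA B hB
  obtain ⟨P, rfl⟩ := (mem_rootSet_iff Q hQ A).1 hA
  obtain ⟨P', rfl⟩ := (mem_rootSet_iff Q hQ B).1 hB
  obtain ⟨K, hK, hK'⟩ := exists_common_opp Q hQ hn P P'
  have hKm := T_mem_rootSet Q hQ K
  refine Relation.ReflTransGen.tail (Relation.ReflTransGen.single ⟨hA, hKm, ?_⟩) ⟨hKm, hB, ?_⟩
  · exact rankOne_of_gramDet Q hQ P K hK
  · apply rankOne_of_gramDet Q hQ K P'
    rw [gramDet_symm]; exact hK'

theorem main_generic (hn : 6 ≤ finrank F (ι → F)) :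
    Cfsg.IsKRootSubgroupSet F (restr (rootSet Q)) ∧
      IsConnectedFamily (FAdj (rootSet Q)) (rootSet Q) := by
  refine ⟨?_, rootSet_connected Q hQ hn⟩
  have hroot : IsRootSubgroupSet (restr (rootSet Q)) := by
    apply restr_isRootSubgroupSet'
    · intro A hA
      obtain ⟨P, rfl⟩ := (mem_rootSet_iff Q hQ A).1 hA
      exact T_commutative Q hQ P
    · intro A hA
      obtain ⟨P, rfl⟩ := (mem_rootSet_iff Q hQ A).1 hA
      exact T_ne_bot Q hQ P
    · intro A hA g _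
      obtain ⟨P, rfl⟩ := (mem_rootSet_iff Q hQ A).1 hA
      rw [conjBy_T]
      exact T_mem_rootSet Q hQ _
    · intro A hA B hB
      obtain ⟨P, rfl⟩ := (mem_rootSet_iff Q hQ A).1 hA
      obtain ⟨P', rfl⟩ := (mem_rootSet_iff Q hQ B).1 hB
      rcases pair_analysis Q hQ (rootSet Q) (T_mem_rootSet Q hQ) P P' with h1 | h1
      · exact Or.inr (Or.inl h1.2.1)
      · rcases h1.2.2 with h2 | h2
        · exact Or.inl h2
        · exact Or.inr (Or.inr h2)
  apply restr_isKRoot (rootSet Q) F hroot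
  intro A hA B hB hpair
  obtain ⟨P, rfl⟩ := (mem_rootSet_iff Q hQ A).1 hA
  obtain ⟨P', rfl⟩ := (mem_rootSet_iff Q hQ B).1 hB
  rcases pair_analysis Q hQ (rootSet Q) (T_mem_rootSet Q hQ) P P' with h1 | h1
  · exact h1.2.2
  · exact absurd hpair h1.2.1

end Cfsg.Agent.Lib.Helper94.Sg
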