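import Mathlib
import Cfsg.Prelude.Def_RootSubgroups
import Cfsg.Agent.Lib.Helper94.Sg7

set_option autoImplicit false

namespace Cfsg.Agent.Lib.Helper94.Sg

open Matrix Module QuadraticMap
open Cfsg.Agent.Lib.Helper8 Cfsg.Agent.Lib.Helper13 Cfsg.Agent.Lib.Helper94
open Cfsg.Agent.Lib.Helper99.RootRestrict

set_option linter.unusedSectionVars false
set_option linter.unusedVariables false
set_option linter.unusedSimpArgs false

variable (n : ℕ) (F : Type*) [Field F]

theorem polar_plus (x y : Fin n ⊕ Fin n → F) :
    polar (Cfsg.quadFormPlus n F) x y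
      = ∑ i : Fin n, (x (.inl i) * y (.inr i) + y (.inl i) * x (.inr i)) := by
  unfold polar Cfsg.quadFormPlus
  rw [← Finset.sum_sub_distrib, ← Finset.sum_sub_distrib]
  apply Finset.sum_congr rfl
  intro i _
  simp only [Pi.add_apply]
  ring

/-- the hyperbolic quadratic form as a bundled quadratic form -/
noncomputable def plusQ : QuadraticForm F (Fin n ⊕ Fin n → F) :=
  QuadraticMap.ofPolar (Cfsg.quadFormPlus n F)
    (by
      intro a x
      unfold Cfsg.quadFormPlus
      rw [Finset.smul_sum]
      apply Finset.sum_congr rfl
      intro i _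
      simp only [Pi.smul_apply, smul_eq_mul]
      ring)
    (by
      intro x x' y
      rw [polar_plus, polar_plus, polar_plus, ← Finset.sum_add_distrib]
      apply Finset.sum_congr rfl
      intro i _
      simp only [Pi.add_apply]
      ring)
    (by
      intro a x y
      rw [polar_plus, polar_plus, Finset.smul_sum]
      apply Finset.sum_congr rfl
      intro i _
      simp only [Pi.smul_apply, smul_eq_mul]
      ring)

theorem plusQ_coe : ⇑(plusQ n F) = Cfsg.quadFormPlus n F := rfl

theorem plusQ_nondeg : (QuadraticMap.polarBilin (plusQ n F)).Nondegenerate := by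
  have key : ∀ x : Fin n ⊕ Fin n → F,
      (∀ y, polar (Cfsg.quadFormPlus n F) x y = 0) → x = 0 := by
    intro x hx
    funext j
    rcases j with j | j
    · have := hx (Pi.single (Sum.inr j) 1)
      rw [polar_plus] at this
      simp only [Pi.single_apply, Sum.inr.injEq, reduceCtorEq, if_false, zero_mul, add_zero,
        mul_ite, mul_one, mul_zero, Finset.sum_ite_eq', Finset.mem_univ, if_true] at this
      exact this
    · have := hx (Pi.single (Sum.inl j) 1)
      rw [polar_plus] at this
      simp only [Pi.single_apply, Sum.inl.injEq, reduceCtorEq, if_false, mul_zero, zero_add,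
        ite_mul, one_mul, zero_mul, Finset.sum_ite_eq', Finset.mem_univ, if_true] at this
      exact this
  constructor
  · intro x hx
    apply key
    intro y
    exact hx y
  · intro x hx
    apply key
    intro y
    have := hx y
    rw [QuadraticMap.polarBilin_apply_apply] at this
    rw [polar_comm]
    exact this

theorem finrank_plus : finrank F (Fin n ⊕ Fin n → F) = 2 * n := by
  rw [Module.finrank_pi, Fintype.card_sum, Fintype.card_fin]
  ring

theorem main_plus (m : ℕ) :
    Cfsg.IsKRootSubgroupSet F (restr (rootSet (plusQ (m + 3) F))) ∧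
      IsConnectedFamily (FAdj (rootSet (plusQ (m + 3) F))) (rootSet (plusQ (m + 3) F)) :=
  main_generic (plusQ (m + 3) F) (plusQ_nondeg (m + 3) F) (by rw [finrank_plus]; omega)

end Cfsg.Agent.Lib.Helper94.Sg
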