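import Mathlib
import Cfsg.Agent.Lib.Helper99.JordanInv

set_option autoImplicit false

/-!
Abstract data: a nondegenerate quadratic space with a skew-adjoint nilpotent endomorphism of
prescribed kernel profile, together with a totally singular subspace of half dimension
(`IsHypData`), or of half dimension rounded down plus an orthogonal vector of prescribed norm
(`IsOddData`).  Transport and products.
-/

namespace Cfsg.Agent.Lib.Helper94.Un

open Module QuadraticMap Cfsg.Agent.Lib.Helper99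

set_option linter.unusedSectionVars false
set_option linter.unusedVariables false

variable {F : Type*} [Field F]

/-- the kernel profile of a Jordan type -/
def prof (μ : Multiset ℕ) (k : ℕ) : ℕ := (μ.map (fun b => min b k)).sum

theorem prof_add (μ₁ μ₂ : Multiset ℕ) (k : ℕ) : prof (μ₁ + μ₂) k = prof μ₁ k + prof μ₂ k := by
  unfold prof
  rw [Multiset.map_add, Multiset.sum_add]

theorem prof_zero (k : ℕ) : prof 0 k = 0 := by
  unfold prof
  simp

theorem prof_cons (b : ℕ) (μ : Multiset ℕ) (k : ℕ) : prof (b ::ₘ μ) k = min b k + prof μ k := by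
  unfold prof
  rw [Multiset.map_cons, Multiset.sum_cons]

section defs
variable {V : Type*} [AddCommGroup V] [Module F V]

structure IsSkewData (Q : QuadraticForm F V) (N : Module.End F V) (μ : Multiset ℕ) : Prop where
  nondeg : ∀ v, (∀ w, polar Q v w = 0) → v = 0
  skew : ∀ v w, polar Q (N v) w + polar Q v (N w) = 0
  prof : ∀ k, dker N k = prof μ k

variable (V)

def IsHypData (μ : Multiset ℕ) : Prop :=
  ∃ (Q : QuadraticForm F V) (N : Module.End F V) (L : Submodule F V),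
    IsSkewData Q N μ ∧ (∀ v ∈ L, Q v = 0) ∧ 2 * finrank F L = finrank F V

def IsOddData (μ : Multiset ℕ) (a : F) : Prop :=
  ∃ (Q : QuadraticForm F V) (N : Module.End F V) (L : Submodule F V) (w : V),
    IsSkewData Q N μ ∧ (∀ v ∈ L, Q v = 0) ∧ 2 * finrank F L + 1 = finrank F V ∧ Q w = a ∧
      ∀ v ∈ L, polar Q w v = 0

end defs

section transport
variable {V : Type*} [AddCommGroup V] [Module F V]
variable {V' : Type*} [AddCommGroup V'] [Module F V']

theorem polar_comp_equiv (Q : QuadraticForm F V) (e : V ≃ₗ[F] V') (v w : V') :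
    polar (Q.comp (e.symm : V' →ₗ[F] V)) v w = polar Q (e.symm v) (e.symm w) := by
  unfold polar
  simp only [QuadraticMap.comp_apply, LinearEquiv.coe_coe, map_add]

theorem IsSkewData.transport {Q : QuadraticForm F V} {N : Module.End F V} {μ : Multiset ℕ}
    (h : IsSkewData Q N μ) (e : V ≃ₗ[F] V') :
    IsSkewData (Q.comp (e.symm : V' →ₗ[F] V)) (e.conj N) μ := by
  refine ⟨?_, ?_, ?_⟩
  · intro v hv
    have : e.symm v = 0 := by
      apply h.nondeg
      intro w
      have := hv (e w)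
      rw [polar_comp_equiv, LinearEquiv.symm_apply_apply] at this
      exact this
    simpa using this
  · intro v w
    rw [polar_comp_equiv, polar_comp_equiv, LinearEquiv.conj_apply_apply,
      LinearEquiv.conj_apply_apply, LinearEquiv.symm_apply_apply, LinearEquiv.symm_apply_apply]
    exact h.skew _ _
  · intro k
    rw [← h.prof k]
    exact dker_conj e N (e.conj N) (fun w => by rw [LinearEquiv.conj_apply_apply,
      LinearEquiv.symm_apply_apply]) k

theorem IsHypData.transport {μ : Multiset ℕ} (h : IsHypData (F := F) V μ) (e : V ≃ₗ[F] V') :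
    IsHypData (F := F) V' μ := by
  obtain ⟨Q, N, L, hS, hL, hfr⟩ := h
  refine ⟨Q.comp (e.symm : V' →ₗ[F] V), e.conj N, L.map (e : V →ₗ[F] V'), hS.transport e, ?_, ?_⟩
  · rintro _ ⟨v, hv, rfl⟩
    rw [QuadraticMap.comp_apply]
    simpa using hL v hv
  · rw [LinearEquiv.finrank_map_eq, hfr, e.finrank_eq]

theorem IsOddData.transport {μ : Multiset ℕ} {a : F} (h : IsOddData (F := F) V μ a)
    (e : V ≃ₗ[F] V') : IsOddData (F := F) V' μ a := by
  obtain ⟨Q, N, L, w, hS, hL, hfr, hw, hwL⟩ := h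
  refine ⟨Q.comp (e.symm : V' →ₗ[F] V), e.conj N, L.map (e : V →ₗ[F] V'), e w, hS.transport e,
    ?_, ?_, ?_, ?_⟩
  · rintro _ ⟨v, hv, rfl⟩
    rw [QuadraticMap.comp_apply]
    simpa using hL v hv
  · rw [LinearEquiv.finrank_map_eq, hfr, e.finrank_eq]
  · rw [QuadraticMap.comp_apply]
    simpa using hw
  · rintro _ ⟨v, hv, rfl⟩
    rw [polar_comp_equiv]
    simpa using hwL v hv

end transport

section prod
variable {V₁ : Type*} [AddCommGroup V₁] [Module F V₁] [FiniteDimensional F V₁]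
variable {V₂ : Type*} [AddCommGroup V₂] [Module F V₂] [FiniteDimensional F V₂]

theorem polar_prod' (Q₁ : QuadraticForm F V₁) (Q₂ : QuadraticForm F V₂) (v w : V₁ × V₂) :
    polar (Q₁.prod Q₂) v w = polar Q₁ v.1 w.1 + polar Q₂ v.2 w.2 := by
  unfold polar
  simp only [QuadraticMap.prod_apply, Prod.fst_add, Prod.snd_add]
  ring

theorem IsSkewData.prod {Q₁ : QuadraticForm F V₁} {N₁ : Module.End F V₁} {μ₁ : Multiset ℕ}
    {Q₂ : QuadraticForm F V₂} {N₂ : Module.End F V₂} {μ₂ : Multiset ℕ}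
    (h₁ : IsSkewData Q₁ N₁ μ₁) (h₂ : IsSkewData Q₂ N₂ μ₂) :
    IsSkewData (Q₁.prod Q₂) (N₁.prodMap N₂) (μ₁ + μ₂) := by
  refine ⟨?_, ?_, ?_⟩
  · intro v hv
    have e1 : v.1 = 0 := by
      apply h₁.nondeg
      intro w
      have := hv (w, 0)
      rw [polar_prod'] at this
      simpa [polar] using this
    have e2 : v.2 = 0 := by
      apply h₂.nondeg
      intro w
      have := hv (0, w)
      rw [polar_prod'] at this
      simpa [polar] using this
    exact Prod.ext e1 e2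
  · intro v w
    rw [polar_prod', polar_prod']
    simp only [LinearMap.prodMap_apply]
    have a1 := h₁.skew v.1 w.1
    have a2 := h₂.skew v.2 w.2
    linear_combination a1 + a2
  · intro k
    rw [dker_prodMap, h₁.prof, h₂.prof, prof_add]

theorem finrank_prod_sub (L₁ : Submodule F V₁) (L₂ : Submodule F V₂) :
    finrank F (L₁.prod L₂) = finrank F L₁ + finrank F L₂ := by
  rw [(prodSubEquiv L₁ L₂).finrank_eq, Module.finrank_prod]

theorem IsHypData.prod {μ₁ μ₂ : Multiset ℕ} (h₁ : IsHypData (F := F) V₁ μ₁)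
    (h₂ : IsHypData (F := F) V₂ μ₂) : IsHypData (F := F) (V₁ × V₂) (μ₁ + μ₂) := by
  obtain ⟨Q₁, N₁, L₁, hS₁, hL₁, hfr₁⟩ := h₁
  obtain ⟨Q₂, N₂, L₂, hS₂, hL₂, hfr₂⟩ := h₂
  refine ⟨Q₁.prod Q₂, N₁.prodMap N₂, L₁.prod L₂, hS₁.prod hS₂, ?_, ?_⟩
  · rintro ⟨a, b⟩ ⟨ha, hb⟩
    rw [QuadraticMap.prod_apply, hL₁ a ha, hL₂ b hb, add_zero]
  · rw [finrank_prod_sub, Module.finrank_prod]
    omega

theorem IsOddData.prod_hyp {μ₁ μ₂ : Multiset ℕ} {a : F} (h₁ : IsOddData (F := F) V₁ μ₁ a)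
    (h₂ : IsHypData (F := F) V₂ μ₂) : IsOddData (F := F) (V₁ × V₂) (μ₁ + μ₂) a := by
  obtain ⟨Q₁, N₁, L₁, w, hS₁, hL₁, hfr₁, hw, hwL⟩ := h₁
  obtain ⟨Q₂, N₂, L₂, hS₂, hL₂, hfr₂⟩ := h₂
  refine ⟨Q₁.prod Q₂, N₁.prodMap N₂, L₁.prod L₂, (w, 0), hS₁.prod hS₂, ?_, ?_, ?_, ?_⟩
  · rintro ⟨a, b⟩ ⟨ha, hb⟩
    rw [QuadraticMap.prod_apply, hL₁ a ha, hL₂ b hb, add_zero]
  · rw [finrank_prod_sub, Module.finrank_prod]
    omega
  · rw [QuadraticMap.prod_apply, hw, map_zero, add_zero]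
  · rintro ⟨x, y⟩ ⟨hx, hy⟩
    rw [polar_prod']
    simp only
    rw [hwL x hx]
    simp [polar]

theorem finrank_sup_span_singleton {V : Type*} [AddCommGroup V] [Module F V]
    [FiniteDimensional F V] (U : Submodule F V) (x : V) (hx : x ∉ U) :
    finrank F ↥(U ⊔ Submodule.span F {x}) = finrank F U + 1 := by
  have hx0 : x ≠ 0 := fun h => hx (h ▸ U.zero_mem)
  have h1 := Submodule.finrank_sup_add_finrank_inf_eq U (Submodule.span F {x})
  have h2 : U ⊓ Submodule.span F {x} = ⊥ := by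
    rw [eq_bot_iff]
    rintro v ⟨hvU, hvx⟩
    obtain ⟨c, rfl⟩ := Submodule.mem_span_singleton.mp hvx
    by_cases hc : c = 0
    · simp [hc]
    · exfalso
      apply hx
      have : x = c⁻¹ • (c • x) := by rw [smul_smul, inv_mul_cancel₀ hc, one_smul]
      rw [this]
      exact U.smul_mem _ hvU
  rw [h2, finrank_bot, add_zero, finrank_span_singleton hx0] at h1
  exact h1

theorem IsOddData.prod_odd {μ₁ μ₂ : Multiset ℕ} {a : F} (ha : a ≠ 0)
    (h₁ : IsOddData (F := F) V₁ μ₁ a) (h₂ : IsOddData (F := F) V₂ μ₂ (-a)) :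
    IsHypData (F := F) (V₁ × V₂) (μ₁ + μ₂) := by
  obtain ⟨Q₁, N₁, L₁, w₁, hS₁, hL₁, hfr₁, hw₁, hwL₁⟩ := h₁
  obtain ⟨Q₂, N₂, L₂, w₂, hS₂, hL₂, hfr₂, hw₂, hwL₂⟩ := h₂
  have hnot : ((w₁, w₂) : V₁ × V₂) ∉ L₁.prod L₂ := by
    rintro ⟨h, -⟩
    exact ha (by rw [← hw₁]; exact hL₁ w₁ h)
  refine ⟨Q₁.prod Q₂, N₁.prodMap N₂, L₁.prod L₂ ⊔ Submodule.span F {(w₁, w₂)}, hS₁.prod hS₂,
    ?_, ?_⟩
  · intro v hv
    obtain ⟨l, hl, z, hz, rfl⟩ := Submodule.mem_sup.mp hv
    obtain ⟨t, rfl⟩ := Submodule.mem_span_singleton.mp hz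
    obtain ⟨l₁, l₂⟩ := l
    obtain ⟨hl₁, hl₂⟩ := hl
    have e1 : Q₁ (l₁ + t • w₁) = t * t * a := by
      have := QuadraticMap.map_add Q₁ l₁ (t • w₁)
      rw [this, hL₁ l₁ hl₁, QuadraticMap.map_smul, hw₁]
      have hp : polar Q₁ l₁ (t • w₁) = 0 := by
        rw [polar_smul_right, polar_comm, hwL₁ l₁ hl₁, smul_zero]
      rw [hp]
      simp
    have e2 : Q₂ (l₂ + t • w₂) = t * t * (-a) := by
      have := QuadraticMap.map_add Q₂ l₂ (t • w₂)
      rw [this, hL₂ l₂ hl₂, QuadraticMap.map_smul, hw₂]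
      have hp : polar Q₂ l₂ (t • w₂) = 0 := by
        rw [polar_smul_right, polar_comm, hwL₂ l₂ hl₂, smul_zero]
      rw [hp]
      simp
    show (Q₁.prod Q₂) ((l₁, l₂) + t • (w₁, w₂)) = 0
    rw [QuadraticMap.prod_apply]
    simp only [Prod.fst_add, Prod.snd_add, Prod.smul_fst, Prod.smul_snd]
    rw [e1, e2]
    ring
  · rw [finrank_sup_span_singleton _ _ hnot, finrank_prod_sub, Module.finrank_prod]
    omega

end prod

section zero

theorem isHypData_zero {V : Type*} [AddCommGroup V] [Module F V] [Subsingleton V] :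
    IsHypData (F := F) V 0 := by
  refine ⟨0, 0, ⊥, ⟨fun v _ => Subsingleton.elim v 0, fun v w => by simp [polar], fun k => ?_⟩,
    fun v _ => rfl, ?_⟩
  · rw [prof_zero]
    unfold dker
    have : finrank F V = 0 := Module.finrank_zero_of_subsingleton
    have h2 := Submodule.finrank_le (LinearMap.ker ((0 : Module.End F V) ^ k))
    omega
  · rw [finrank_bot, Module.finrank_zero_of_subsingleton]

end zero

end Cfsg.Agent.Lib.Helper94.Un
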