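import Mathlib
import Cfsg.Agent.Lib.Helper94.Un3

set_option autoImplicit false

/-!
Base blocks: the reversal pairing on `Fin e → F`, the doubled block `{e, e}` and the odd block
`{2j+1}`.
-/

namespace Cfsg.Agent.Lib.Helper94.Un

open Module QuadraticMap Cfsg.Agent.Lib.Helper99

set_option linter.unusedSectionVars false
set_option linter.unusedVariables false

variable {F : Type*} [Field F]

/-- the reversal pairing -/
def rp {e : ℕ} (v w : Fin e → F) : F := ∑ i, v i * w (Fin.rev i)

section rp
variable {e : ℕ}

theorem rp_comm (v w : Fin e → F) : rp v w = rp w v := by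
  unfold rp
  rw [← Equiv.sum_comp Fin.revPerm]
  apply Finset.sum_congr rfl
  intro i _
  simp only [Fin.revPerm_apply, Fin.rev_rev]
  ring

theorem rp_add_left (v v' w : Fin e → F) : rp (v + v') w = rp v w + rp v' w := by
  unfold rp
  rw [← Finset.sum_add_distrib]
  apply Finset.sum_congr rfl
  intro i _
  simp only [Pi.add_apply]
  ring

theorem rp_smul_left (c : F) (v w : Fin e → F) : rp (c • v) w = c * rp v w := by
  unfold rp
  rw [Finset.mul_sum]
  apply Finset.sum_congr rfl
  intro i _
  simp only [Pi.smul_apply, smul_eq_mul]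
  ring

theorem rp_add_right (v w w' : Fin e → F) : rp v (w + w') = rp v w + rp v w' := by
  rw [rp_comm, rp_add_left, rp_comm w, rp_comm w']

theorem rp_smul_right (c : F) (v w : Fin e → F) : rp v (c • w) = c * rp v w := by
  rw [rp_comm, rp_smul_left, rp_comm]

theorem rp_neg_left (v w : Fin e → F) : rp (-v) w = - rp v w := by
  have := rp_smul_left (-1 : F) v w
  simpa using this

theorem rp_neg_right (v w : Fin e → F) : rp v (-w) = - rp v w := by
  rw [rp_comm, rp_neg_left, rp_comm]

theorem rp_zero_right (v : Fin e → F) : rp v 0 = 0 := by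
  unfold rp
  simp

theorem rp_zero_left (v : Fin e → F) : rp 0 v = 0 := by
  unfold rp
  simp

theorem rp_single_right [DecidableEq (Fin e)] (v : Fin e → F) (i : Fin e) :
    rp v (Pi.single (Fin.rev i) 1) = v i := by
  unfold rp
  rw [Finset.sum_eq_single i]
  · simp
  · intro k _ hk
    rw [Pi.single_apply, if_neg (fun h => hk (Fin.rev_injective h)), mul_zero]
  · intro h; exact absurd (Finset.mem_univ i) h

/-- the shift is self-adjoint for the reversal pairing -/
theorem rp_shift (v w : Fin e → F) : rp (shiftEnd F e v) w = rp v (shiftEnd F e w) := by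
  rcases e with _ | n
  · unfold rp; simp
  · unfold rp
    rw [Fin.sum_univ_castSucc, Fin.sum_univ_succ]
    have h1 : shiftEnd F (n + 1) v (Fin.last n) = 0 := by
      rw [shiftEnd_apply, dif_neg (by simp)]
    have h2 : shiftEnd F (n + 1) w (Fin.rev (0 : Fin (n + 1))) = 0 := by
      rw [shiftEnd_apply, dif_neg (by simp [Fin.val_rev])]
    rw [h1, h2, zero_mul, mul_zero, add_zero, zero_add]
    apply Finset.sum_congr rfl
    intro i _
    have hi := i.2
    rw [shiftEnd_apply, dif_pos (by simp), shiftEnd_apply,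
      dif_pos (by simp only [Fin.val_rev, Fin.val_succ]; omega)]
    congr 2
    apply Fin.ext
    simp only [Fin.val_rev, Fin.val_succ, Fin.val_castSucc]
    omega

end rp

/-- the sign twist -/
def sg {e : ℕ} (v : Fin e → F) : Fin e → F := fun i => (-1) ^ (i : ℕ) * v i

section sg
variable {e : ℕ}

theorem sg_add (v w : Fin e → F) : sg (v + w) = sg v + sg w := by
  funext i; simp only [sg, Pi.add_apply]; ring

theorem sg_smul (c : F) (v : Fin e → F) : sg (c • v) = c • sg v := by
  funext i; simp only [sg, Pi.smul_apply, smul_eq_mul]; ring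

theorem sg_shift (v : Fin e → F) : sg (shiftEnd F e v) = - shiftEnd F e (sg v) := by
  funext i
  simp only [sg, Pi.neg_apply, shiftEnd_apply]
  split_ifs with h
  · simp only [pow_succ]; ring
  · simp

/-- the signed reversal pairing is symmetric in odd dimension -/
theorem rp_sg_symm (he : Odd e) (v w : Fin e → F) : rp (sg v) w = rp (sg w) v := by
  unfold rp
  rw [← Equiv.sum_comp Fin.revPerm]
  apply Finset.sum_congr rfl
  intro i _
  simp only [Fin.revPerm_apply, Fin.rev_rev, sg]
  have hi := i.2
  have hpow : ((-1 : F)) ^ ((Fin.rev i : Fin e) : ℕ) = (-1) ^ (i : ℕ) := by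
    rw [Fin.val_rev]
    obtain ⟨t, ht⟩ := he
    have : e - (↑i + 1) + 2 * (i : ℕ) = 2 * t + (i : ℕ) := by omega
    have h2 : ((-1 : F)) ^ (e - (↑i + 1) + 2 * (i : ℕ)) = (-1) ^ (2 * t + (i : ℕ)) := by rw [this]
    rw [pow_add, pow_add, pow_mul, pow_mul] at h2
    simpa using h2
  rw [hpow]
  ring

/-- the shift is skew for the signed reversal pairing -/
theorem rp_sg_shift (v w : Fin e → F) :
    rp (sg (shiftEnd F e v)) w + rp (sg v) (shiftEnd F e w) = 0 := by
  rw [sg_shift, rp_neg_left, rp_shift]
  ring

theorem rp_sg_single_right [DecidableEq (Fin e)] (v : Fin e → F) (i : Fin e) :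
    rp (sg v) (Pi.single (Fin.rev i) 1) = (-1) ^ (i : ℕ) * v i := by
  rw [rp_single_right]
  rfl

end sg

/-! ### the odd block -/

section oddblock
variable (e : ℕ) (c : F)

/-- the bilinear form `(c/2) * rp (sg v) w` -/
noncomputable def oddB : LinearMap.BilinForm F (Fin e → F) :=
  LinearMap.mk₂ F (fun v w => (c / 2) * rp (sg v) w)
    (fun v v' w => by simp only [sg_add, rp_add_left]; ring)
    (fun a v w => by simp only [sg_smul, rp_smul_left, smul_eq_mul]; ring)
    (fun v w w' => by simp only [rp_add_right]; ring)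
    (fun a v w => by simp only [rp_smul_right, smul_eq_mul]; ring)

theorem oddB_apply (v w : Fin e → F) : oddB e c v w = (c / 2) * rp (sg v) w := rfl

/-- the quadratic form `(c/2) Σ (-1)^i v_i v_{rev i}` -/
noncomputable def oddQ : QuadraticForm F (Fin e → F) := (oddB e c).toQuadraticMap

theorem oddQ_apply (v : Fin e → F) : oddQ e c v = (c / 2) * rp (sg v) v := rfl

variable {e} {c}

theorem polar_oddQ (h2 : (2 : F) ≠ 0) (he : Odd e) (v w : Fin e → F) :
    polar (oddQ e c) v w = c * rp (sg v) w := by
  unfold oddQ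
  rw [LinearMap.BilinMap.polar_toQuadraticMap, oddB_apply, oddB_apply, rp_sg_symm he w v]
  field_simp
  ring

theorem oddQ_skewData (h2 : (2 : F) ≠ 0) (he : Odd e) (hc : c ≠ 0) :
    IsSkewData (oddQ e c) (shiftEnd F e) {e} := by
  classical
  refine ⟨?_, ?_, ?_⟩
  · intro v hv
    funext i
    have := hv (Pi.single (Fin.rev i) 1)
    rw [polar_oddQ h2 he, rp_sg_single_right] at this
    have h3 : ((-1 : F)) ^ (i : ℕ) ≠ 0 := pow_ne_zero _ (neg_ne_zero.mpr one_ne_zero)
    rcases mul_eq_zero.mp this with h | h
    · exact absurd h hc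
    · rcases mul_eq_zero.mp h with h | h
      · exact absurd h h3
      · exact h
  · intro v w
    rw [polar_oddQ h2 he, polar_oddQ h2 he, ← mul_add, rp_sg_shift, mul_zero]
  · intro k
    rw [dker_shiftEnd]
    show min e k = prof ({e} : Multiset ℕ) k
    unfold prof
    simp

end oddblock

section oddblock2
variable (j : ℕ)

/-- the totally singular subspace of the odd block: vectors vanishing at indices `≤ j` -/
def oddL : Submodule F (Fin (2 * j + 1) → F) :=
  LinearMap.ker (LinearMap.funLeft F F (Subtype.val : {i : Fin (2 * j + 1) // (i : ℕ) ≤ j} →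
    Fin (2 * j + 1)))

theorem mem_oddL (v : Fin (2 * j + 1) → F) :
    v ∈ oddL (F := F) j ↔ ∀ i : Fin (2 * j + 1), (i : ℕ) ≤ j → v i = 0 := by
  unfold oddL
  rw [LinearMap.mem_ker]
  constructor
  · intro h i hi
    exact congrFun h ⟨i, hi⟩
  · intro h
    funext ⟨i, hi⟩
    exact h i hi

theorem finrank_oddL : finrank F (oddL (F := F) j) = j := by
  unfold oddL
  set g : (Fin (2 * j + 1) → F) →ₗ[F] ({i : Fin (2 * j + 1) // (i : ℕ) ≤ j} → F) :=
    LinearMap.funLeft F F Subtype.val with hg
  have hsurj : LinearMap.range g = ⊤ :=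
    LinearMap.range_eq_top.mpr
      (LinearMap.funLeft_surjective_of_injective F F _ Subtype.val_injective)
  have h := LinearMap.finrank_range_add_finrank_ker g
  rw [hsurj, finrank_top, Module.finrank_fintype_fun_eq_card, Module.finrank_fintype_fun_eq_card,
    Fintype.card_fin] at h
  have hcard : Fintype.card {i : Fin (2 * j + 1) // (i : ℕ) ≤ j} = j + 1 := by
    rw [← Fintype.card_fin (j + 1)]
    apply Fintype.card_congr
    exact
      { toFun := fun i => ⟨(i.1 : ℕ), by have := i.2; omega⟩
        invFun := fun i => ⟨⟨(i : ℕ), by have := i.2; omega⟩, by have := i.2; simp only; omega⟩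
        left_inv := fun i => by ext; rfl
        right_inv := fun i => by ext; rfl }
  rw [hcard] at h
  omega

theorem isOddData_block (h2 : (2 : F) ≠ 0) (a : F) (ha : a ≠ 0) :
    IsOddData (F := F) (Fin (2 * j + 1) → F) {2 * j + 1} a := by
  classical
  have he : Odd (2 * j + 1) := ⟨j, rfl⟩
  set c : F := 2 * a * (-1) ^ j with hc
  have hpm : ((-1 : F)) ^ j * (-1) ^ j = 1 := by
    rw [← mul_pow]; simp
  have hc0 : c ≠ 0 := by
    rw [hc]
    exact mul_ne_zero (mul_ne_zero h2 ha) (pow_ne_zero _ (neg_ne_zero.mpr one_ne_zero))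
  let m : Fin (2 * j + 1) := ⟨j, by omega⟩
  have hrevm : Fin.rev m = m := by
    apply Fin.ext
    simp only [Fin.val_rev, m]
    omega
  refine ⟨oddQ (2 * j + 1) c, shiftEnd F (2 * j + 1), oddL j, Pi.single m 1,
    oddQ_skewData h2 he hc0, ?_, ?_, ?_, ?_⟩
  · intro v hv
    rw [mem_oddL] at hv
    rw [oddQ_apply]
    have : rp (sg v) v = 0 := by
      unfold rp
      apply Finset.sum_eq_zero
      intro i _
      by_cases hi : (i : ℕ) ≤ j
      · simp only [sg, hv i hi, mul_zero, zero_mul]
      · have : v (Fin.rev i) = 0 := by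
          apply hv
          have := i.2
          simp only [Fin.val_rev]
          omega
        rw [this, mul_zero]
    rw [this, mul_zero]
  · rw [finrank_oddL, Module.finrank_fintype_fun_eq_card, Fintype.card_fin]
  · rw [oddQ_apply]
    have : rp (sg (Pi.single m (1 : F))) (Pi.single m 1) = (-1) ^ j := by
      conv_lhs => rw [← hrevm]
      rw [hrevm]
      have h := rp_sg_single_right (Pi.single m (1 : F)) m
      rw [hrevm] at h
      rw [h]
      simp [m]
    rw [this, hc]
    have h5 : (2 * a * (-1 : F) ^ j / 2) = a * (-1) ^ j := by field_simp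
    rw [h5, mul_assoc, hpm, mul_one]
  · intro v hv
    rw [mem_oddL] at hv
    rw [polar_comm, polar_oddQ h2 he]
    have h := rp_sg_single_right v m
    rw [hrevm] at h
    rw [h, hv m (le_refl _)]
    ring

end oddblock2

/-! ### the doubled block -/

section dbl
variable (e : ℕ)

/-- the bilinear form `((x,y),(x',y')) ↦ rp x y'` -/
noncomputable def dblB : LinearMap.BilinForm F ((Fin e → F) × (Fin e → F)) :=
  LinearMap.mk₂ F (fun v w => rp v.1 w.2)
    (fun v v' w => by simp only [Prod.fst_add, rp_add_left])
    (fun a v w => by simp only [Prod.smul_fst, rp_smul_left, smul_eq_mul])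
    (fun v w w' => by simp only [Prod.snd_add, rp_add_right])
    (fun a v w => by simp only [Prod.smul_snd, rp_smul_right, smul_eq_mul])

theorem dblB_apply (v w : (Fin e → F) × (Fin e → F)) : dblB e v w = rp v.1 w.2 := rfl

noncomputable def dblQ : QuadraticForm F ((Fin e → F) × (Fin e → F)) := (dblB e).toQuadraticMap

theorem dblQ_apply (v : (Fin e → F) × (Fin e → F)) : dblQ e v = rp v.1 v.2 := rfl

theorem polar_dblQ (v w : (Fin e → F) × (Fin e → F)) :
    polar (dblQ e) v w = rp v.1 w.2 + rp w.1 v.2 := by
  unfold dblQ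
  rw [LinearMap.BilinMap.polar_toQuadraticMap, dblB_apply, dblB_apply]

theorem dker_neg {V : Type*} [AddCommGroup V] [Module F V] (T : Module.End F V) (k : ℕ) :
    dker (-T) k = dker T k := by
  unfold dker
  have : LinearMap.ker ((-T) ^ k) = LinearMap.ker (T ^ k) := by
    ext v
    rw [LinearMap.mem_ker, LinearMap.mem_ker]
    rcases Nat.even_or_odd k with hk | hk
    · rw [hk.neg_pow]
    · rw [hk.neg_pow, LinearMap.neg_apply, neg_eq_zero]
  rw [this]

theorem isHypData_dbl : IsHypData (F := F) ((Fin e → F) × (Fin e → F)) {e, e} := by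
  classical
  refine ⟨dblQ e, (shiftEnd F e).prodMap (-(shiftEnd F e)), Submodule.prod ⊤ ⊥,
    ⟨?_, ?_, ?_⟩, ?_, ?_⟩
  · rintro ⟨x, y⟩ hv
    have hx : x = 0 := by
      funext i
      have := hv (0, Pi.single (Fin.rev i) 1)
      rw [polar_dblQ] at this
      simp only [rp_zero_left, add_zero] at this
      rw [rp_single_right] at this
      exact this
    have hy : y = 0 := by
      funext i
      have := hv (Pi.single (Fin.rev i) 1, 0)
      rw [polar_dblQ] at this
      simp only [rp_zero_right, zero_add] at this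
      rw [rp_comm, rp_single_right] at this
      exact this
    rw [hx, hy]
    rfl
  · rintro ⟨x, y⟩ ⟨x', y'⟩
    rw [polar_dblQ, polar_dblQ]
    simp only [LinearMap.prodMap_apply, LinearMap.neg_apply]
    rw [rp_neg_right, rp_neg_right, rp_shift x y', rp_shift x' y]
    ring
  · intro k
    rw [dker_prodMap, dker_neg, dker_shiftEnd]
    show min e k + min e k = prof ({e, e} : Multiset ℕ) k
    unfold prof
    simp
  · rintro ⟨x, y⟩ hv
    have hy : y = 0 := by
      have := (Submodule.mem_prod.mp hv).2
      simpa using this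
    rw [dblQ_apply]
    simp only [hy, rp_zero_right]
  · rw [finrank_prod_sub, finrank_top, finrank_bot, Module.finrank_prod,
      Module.finrank_fintype_fun_eq_card, Fintype.card_fin]
    ring

end dbl

end Cfsg.Agent.Lib.Helper94.Un
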