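import Mathlib
import Cfsg.Agent.Lib.Helper94.Un4

set_option autoImplicit false

/-!
Every multiset in which the even numbers have even multiplicity is realized.
-/

namespace Cfsg.Agent.Lib.Helper94.Un

open Module QuadraticMap Cfsg.Agent.Lib.Helper99

set_option linter.unusedSectionVars false
set_option linter.unusedVariables false

variable {F : Type*} [Field F]

theorem realize (h2 : (2 : F) ≠ 0) : ∀ (n : ℕ) (μ : Multiset ℕ) (s : ℕ), Multiset.card μ = n →
    μ.sum = s → (∀ e, Even e → Even (μ.count e)) →
    ((Even s → IsHypData (F := F) (Fin s → F) μ) ∧
      (Odd s → ∀ a : F, a ≠ 0 → IsOddData (F := F) (Fin s → F) μ a)) := by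
  intro n
  induction n using Nat.strong_induction_on with
  | _ n ih =>
    intro μ s hcard hsum hev
    by_cases hμ : μ = 0
    · subst hμ
      simp only [Multiset.sum_zero] at hsum
      subst hsum
      refine ⟨fun _ => isHypData_zero, fun h => ?_⟩
      exact absurd h (by decide)
    · obtain ⟨b, hb⟩ := Multiset.exists_mem_of_ne_zero hμ
      rcases Nat.even_or_odd b with hbe | hbo
      · -- even part: it occurs at least twice
        have hc2 : 2 ≤ μ.count b := by
          have h1 : 0 < μ.count b := Multiset.count_pos.mpr hb
          obtain ⟨r, hr⟩ := hev b hbe
          omega
        have hb' : b ∈ μ.erase b := by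
          rw [← Multiset.count_pos, Multiset.count_erase_self]
          omega
        set μ'' := (μ.erase b).erase b with hμ''
        have hμeq : μ = {b, b} + μ'' := by
          rw [hμ'']
          have h1 : ({b, b} : Multiset ℕ) + ((μ.erase b).erase b) = b ::ₘ (b ::ₘ (μ.erase b).erase b) := by
            rw [Multiset.insert_eq_cons, Multiset.cons_add, Multiset.singleton_add]
          rw [h1, Multiset.cons_erase hb', Multiset.cons_erase hb]
        have hcard'' : Multiset.card μ'' + 2 = n := by
          rw [← hcard]
          conv_rhs => rw [hμeq]
          simp
        have hsum'' : b + b + μ''.sum = s := by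
          rw [← hsum]
          conv_rhs => rw [hμeq]
          simp
          ring
        have hev'' : ∀ e, Even e → Even (μ''.count e) := by
          intro e he
          by_cases heb : e = b
          · subst heb
            rw [hμ'', Multiset.count_erase_self, Multiset.count_erase_self]
            obtain ⟨r, hr⟩ := hev e he
            exact ⟨r - 1, by omega⟩
          · rw [hμ'', Multiset.count_erase_of_ne heb, Multiset.count_erase_of_ne heb]
            exact hev e he
        obtain ⟨ih1, ih2⟩ := ih (Multiset.card μ'') (by omega) μ'' μ''.sum rfl rfl hev''
        have hfr : finrank F (((Fin b → F) × (Fin b → F)) × (Fin μ''.sum → F)) =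
            finrank F (Fin s → F) := by
          simp only [Module.finrank_prod, Module.finrank_fintype_fun_eq_card, Fintype.card_fin]
          omega
        have hfr' : finrank F ((Fin μ''.sum → F) × ((Fin b → F) × (Fin b → F))) =
            finrank F (Fin s → F) := by
          simp only [Module.finrank_prod, Module.finrank_fintype_fun_eq_card, Fintype.card_fin]
          omega
        constructor
        · intro hs
          have hs'' : Even μ''.sum := by
            rcases Nat.even_or_odd μ''.sum with h | h
            · exact h
            · exfalso
              have : Odd s := by
                rw [← hsum'']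
                have : b + b + μ''.sum = 2 * b + μ''.sum := by ring
                rw [this]
                exact (even_two_mul b).add_odd h
              exact (Nat.not_even_iff_odd.mpr this) hs
          have := (isHypData_dbl (F := F) b).prod (ih1 hs'')
          rw [← hμeq] at this
          exact this.transport (LinearEquiv.ofFinrankEq _ _ hfr)
        · intro hs a ha
          have hs'' : Odd μ''.sum := by
            rcases Nat.even_or_odd μ''.sum with h | h
            · exfalso
              have : Even s := by
                rw [← hsum'']
                have : b + b + μ''.sum = 2 * b + μ''.sum := by ring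
                rw [this]
                exact (even_two_mul b).add h
              exact (Nat.not_odd_iff_even.mpr this) hs
            · exact h
          have := (ih2 hs'' a ha).prod_hyp (isHypData_dbl (F := F) b)
          rw [add_comm, ← hμeq] at this
          exact this.transport (LinearEquiv.ofFinrankEq _ _ hfr')
      · -- odd part
        obtain ⟨j, hj⟩ := hbo
        set μ' := μ.erase b with hμ'
        have hμeq : μ = {b} + μ' := by
          rw [hμ']
          have h1 : ({b} : Multiset ℕ) + μ.erase b = b ::ₘ μ.erase b := rfl
          rw [h1, Multiset.cons_erase hb]
        have hcard' : Multiset.card μ' + 1 = n := by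
          rw [← hcard]
          conv_rhs => rw [hμeq]
          simp
        have hsum' : b + μ'.sum = s := by
          rw [← hsum]
          conv_rhs => rw [hμeq]
          simp
        have hev' : ∀ e, Even e → Even (μ'.count e) := by
          intro e he
          have heb : e ≠ b := by
            rintro rfl
            exact (Nat.not_even_iff_odd.mpr ⟨j, hj⟩) he
          rw [hμ', Multiset.count_erase_of_ne heb]
          exact hev e he
        obtain ⟨ih1, ih2⟩ := ih (Multiset.card μ') (by omega) μ' μ'.sum rfl rfl hev'
        have hfr : finrank F ((Fin (2 * j + 1) → F) × (Fin μ'.sum → F)) =
            finrank F (Fin s → F) := by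
          simp only [Module.finrank_prod, Module.finrank_fintype_fun_eq_card, Fintype.card_fin]
          omega
        have hμeq2 : μ = {2 * j + 1} + μ' := by rw [← hj]; exact hμeq
        constructor
        · intro hs
          have hs' : Odd μ'.sum := by
            rcases Nat.even_or_odd μ'.sum with h | h
            · exfalso
              have : Odd s := by
                rw [← hsum', hj]
                exact Odd.add_even (⟨j, rfl⟩ : Odd (2 * j + 1)) h
              exact (Nat.not_even_iff_odd.mpr this) hs
            · exact h
          have := (isOddData_block (F := F) j h2 1 one_ne_zero).prod_odd one_ne_zero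
            (ih2 hs' (-1) (neg_ne_zero.mpr one_ne_zero))
          rw [← hμeq2] at this
          exact this.transport (LinearEquiv.ofFinrankEq _ _ hfr)
        · intro hs a ha
          have hs' : Even μ'.sum := by
            rcases Nat.even_or_odd μ'.sum with h | h
            · exact h
            · exfalso
              have : Even s := by
                rw [← hsum', hj]
                exact Odd.add_odd (⟨j, rfl⟩ : Odd (2 * j + 1)) h
              exact (Nat.not_odd_iff_even.mpr this) hs
          have := (isOddData_block (F := F) j h2 a ha).prod_hyp (ih1 hs')
          rw [← hμeq2] at this
          exact this.transport (LinearEquiv.ofFinrankEq _ _ hfr)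

end Cfsg.Agent.Lib.Helper94.Un
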