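import Mathlib
import Cfsg.Agent.Lib.Helper94.Quad
import Cfsg.Agent.Lib.Helper37.CartanDieudonne
import Cfsg.Agent.Lib.Helper37.ParabolicBridge
import Cfsg.Agent.Lib.Helper99.JordanInv

set_option autoImplicit false

/-!
Cayley transform of a skew-adjoint nilpotent endomorphism; squares of isometries lie in `Ω`.
-/

namespace Cfsg.Agent.Lib.Helper94.Un

open Module Cfsg Cfsg.Agent.Lib.Helper94 Cfsg.Agent.Lib.Helper37
open scoped Matrix

set_option linter.unusedSectionVars false
set_option linter.unusedVariables false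

variable {ι : Type} [Fintype ι] [DecidableEq ι] {F : Type*} [Field F]

/-- squares of isometries lie in `Ω` (odd characteristic) -/
theorem sq_mem_omegaGL [Fintype F] {Q : (ι → F) → F} (hQ : Geo.IsNondegenerateQuadraticForm Q)
    (h2 : (2 : F) ≠ 0) (z : Matrix.GeneralLinearGroup ι F) (hz : z ∈ isometryGroup F Q) :
    z * z ∈ Geo.omegaGL Q := by
  classical
  set G : Matrix ι ι F :=
    Matrix.of (fun i j : ι => QuadraticMap.polar Q (Pi.single i 1) (Pi.single j 1)) with hG
  have h : IsGram Q G := isGram_of_quadraticForm h2 (toQF Q hQ)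
  have hGB : G = LinearMap.BilinForm.toMatrix' (QuadraticMap.polarBilin (toQF Q hQ)) := by
    ext i j
    simp [hG, LinearMap.BilinForm.toMatrix'_apply, toQF_coe]
  have hdet : G.det ≠ 0 := by
    rw [hGB, ← Matrix.nondegenerate_iff_det_ne_zero]
    exact LinearMap.BilinForm.Nondegenerate.toMatrix' (toQF_nondeg Q hQ)
  obtain ⟨vs, hvs, hmat⟩ := h.cartan_dieudonne hdet ⟨z, hz⟩
  have hmem : (⟨z, hz⟩ * ⟨z, hz⟩ : ↥(isometryGroup F Q)) ∈ Omega F Q := by
    rw [mem_omega_iff h _ (vs ++ vs)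
      (by
        intro v hv
        rcases List.mem_append.mp hv with hv | hv <;> exact hvs v hv)
      (by
        rw [Subgroup.coe_mul, Units.val_mul, List.map_append, List.prod_append]
        have : ((⟨z, hz⟩ : ↥(isometryGroup F Q)) : Matrix.GeneralLinearGroup ι F).val =
            (vs.map (fun v => reflectionMatrix Q v)).prod := hmat
        rw [this])]
    refine ⟨?_, ?_⟩
    · rw [List.length_append]
      exact ⟨vs.length, rfl⟩
    · rw [List.map_append, List.prod_append]
      exact ⟨_, rfl⟩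
  exact ⟨_, hmem, rfl⟩

section cayley
variable {Q : (ι → F) → F} (hQ : Geo.IsNondegenerateQuadraticForm Q)
include hQ

/-- Cayley transform: from a skew-adjoint nilpotent matrix to a unipotent isometry with the same
kernel filtration. -/
theorem exists_cayley (h2 : (2 : F) ≠ 0) (M : Matrix ι ι F)
    (hskew : ∀ v w, pol Q (M *ᵥ v) w + pol Q v (M *ᵥ w) = 0) (K : ℕ) (hK : M ^ K = 0) :
    ∃ x : Matrix.GeneralLinearGroup ι F, x ∈ isometryGroup F Q ∧
      ∃ u : Matrix.GeneralLinearGroup ι F, Commute (u : Matrix ι ι F) M ∧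
        (x : Matrix ι ι F) - 1 = (u : Matrix ι ι F) * M := by
  have hnil : IsNilpotent ((1 / 2 : F) • M) := ⟨K, by rw [smul_pow, hK, smul_zero]⟩
  have hu1 : IsUnit (1 - (1 / 2 : F) • M) := hnil.isUnit_one_sub
  have hu2 : IsUnit (1 + (1 / 2 : F) • M) := hnil.isUnit_one_add
  obtain ⟨y, hy⟩ := hu1
  obtain ⟨t, ht⟩ := hu2
  have hcM : Commute (y : Matrix ι ι F) M := by
    rw [hy]
    exact (Commute.one_left M).sub_left ((Commute.refl M).smul_left _)
  have hctM : Commute (t : Matrix ι ι F) M := by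
    rw [ht]
    exact (Commute.one_left M).add_left ((Commute.refl M).smul_left _)
  have hcyM' : Commute ((y⁻¹ : Matrix.GeneralLinearGroup ι F) : Matrix ι ι F) M := by
    have := hcM
    exact (Commute.units_inv_left (a := M) (u := y) this)
  refine ⟨t * y⁻¹, ?_, y⁻¹, hcyM', ?_⟩
  · rw [mem_isom]
    intro v
    set w := ((y⁻¹ : Matrix.GeneralLinearGroup ι F) : Matrix ι ι F) *ᵥ v with hw
    have hv : v = w - (1 / 2 : F) • (M *ᵥ w) := by
      have : (y : Matrix ι ι F) *ᵥ w = v := by rw [hw]; exact mulVec_inv_mulVec y v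
      rw [← this, hy, Matrix.sub_mulVec, Matrix.one_mulVec, Matrix.smul_mulVec]
    have hxv : ((t * y⁻¹ : Matrix.GeneralLinearGroup ι F) : Matrix ι ι F) *ᵥ v =
        w + (1 / 2 : F) • (M *ᵥ w) := by
      rw [Units.val_mul, ← Matrix.mulVec_mulVec, ← hw, ht, Matrix.add_mulVec, Matrix.one_mulVec,
        Matrix.smul_mulVec]
    have hpol : pol Q w (M *ᵥ w) = 0 := by
      have := hskew w w
      rw [pol_comm Q (M *ᵥ w) w] at this
      have h3 : (2 : F) * pol Q w (M *ᵥ w) = 0 := by linear_combination this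
      rcases mul_eq_zero.mp h3 with h | h
      · exact absurd h h2
      · exact h
    rw [hxv]
    conv_rhs => rw [hv]
    have hph : pol Q w ((1 / 2 : F) • (M *ᵥ w)) = 0 := by
      rw [pol_smul_right hQ, hpol, mul_zero]
    rw [Q_add Q w, Q_sub hQ w, hph]
    ring
  · rw [Units.val_mul]
    have h1 : (t : Matrix ι ι F) = (y : Matrix ι ι F) + M := by
      rw [hy, ht]
      have h12 : (1 / 2 : F) + 1 / 2 = 1 := by field_simp; norm_num
      have hM2 : (1 / 2 : F) • M + (1 / 2 : F) • M = M := by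
        rw [← add_smul, h12, one_smul]
      calc 1 + (1 / 2 : F) • M = 1 - (1 / 2 : F) • M + ((1 / 2 : F) • M + (1 / 2 : F) • M) := by
            abel
        _ = 1 - (1 / 2 : F) • M + M := by rw [hM2]
    have h3 : (y : Matrix ι ι F) * ((y⁻¹ : Matrix.GeneralLinearGroup ι F) : Matrix ι ι F) = 1 := by
      rw [← Units.val_mul, mul_inv_cancel, Units.val_one]
    rw [h1, add_mul, h3, add_sub_cancel_left]
    exact hcyM'.symm.eq

/-- the square of the Cayley transform: a unipotent element of `Ω` -/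
theorem exists_cayley_sq [Fintype F] (h2 : (2 : F) ≠ 0) (M : Matrix ι ι F)
    (hskew : ∀ v w, pol Q (M *ᵥ v) w + pol Q v (M *ᵥ w) = 0) (K : ℕ) (hK : M ^ K = 0) :
    ∃ x : Matrix.GeneralLinearGroup ι F, x ∈ Geo.omegaGL Q ∧
      ∃ U : Matrix.GeneralLinearGroup ι F, Commute (U : Matrix ι ι F) M ∧
        (x : Matrix ι ι F) - 1 = (U : Matrix ι ι F) * M := by
  obtain ⟨c, hc, u, hcu, hcu1⟩ := exists_cayley hQ h2 M hskew K hK
  have hcv : (c : Matrix ι ι F) = 1 + (u : Matrix ι ι F) * M := by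
    rw [← hcu1]; abel
  have hnil : IsNilpotent ((u : Matrix ι ι F) * M) := ⟨K, by rw [hcu.mul_pow, hK, mul_zero]⟩
  have hu2 : IsUnit ((2 : F) • (1 : Matrix ι ι F)) := by
    refine ⟨⟨(2 : F) • 1, (2 : F)⁻¹ • 1, ?_, ?_⟩, rfl⟩
    · rw [smul_mul_smul_comm, mul_one, mul_inv_cancel₀ h2, one_smul]
    · rw [smul_mul_smul_comm, mul_one, inv_mul_cancel₀ h2, one_smul]
  have hcomm2 : Commute ((u : Matrix ι ι F) * M) ((2 : F) • (1 : Matrix ι ι F)) :=
    (Commute.one_right _).smul_right _
  obtain ⟨V, hV⟩ := hnil.isUnit_add_left_of_commute hu2 hcomm2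
  have hVc : (V : Matrix ι ι F) = (c : Matrix ι ι F) + 1 := by
    rw [hV, hcv]
    have : (2 : F) • (1 : Matrix ι ι F) = 1 + 1 := by rw [two_smul]
    rw [this]; abel
  have hVM : Commute (V : Matrix ι ι F) M := by
    rw [hV]
    exact ((Commute.one_left M).smul_left _).add_left (hcu.mul_left (Commute.refl M))
  refine ⟨c * c, sq_mem_omegaGL hQ h2 c hc, u * V, ?_, ?_⟩
  · rw [Units.val_mul]
    exact hcu.mul_left hVM
  · rw [Units.val_mul, Units.val_mul]
    have h1 : (c : Matrix ι ι F) * (c : Matrix ι ι F) - 1 =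
        ((c : Matrix ι ι F) - 1) * ((c : Matrix ι ι F) + 1) := by noncomm_ring
    rw [h1, hcu1, ← hVc, mul_assoc, mul_assoc, hVM.eq]

end cayley

/-- a unit factor commuting with `M` does not change the kernel dimensions of the powers -/
theorem dker_unit_mul (U : Matrix.GeneralLinearGroup ι F) (M A : Matrix ι ι F)
    (hc : Commute (U : Matrix ι ι F) M) (hA : A = (U : Matrix ι ι F) * M) (k : ℕ) :
    Cfsg.Agent.Lib.Helper99.dker (Matrix.toLin' A) k =
      Cfsg.Agent.Lib.Helper99.dker (Matrix.toLin' M) k := by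
  unfold Cfsg.Agent.Lib.Helper99.dker
  have : LinearMap.ker ((Matrix.toLin' A) ^ k) = LinearMap.ker ((Matrix.toLin' M) ^ k) := by
    ext v
    rw [LinearMap.mem_ker, LinearMap.mem_ker, ← Matrix.toLin'_pow, ← Matrix.toLin'_pow, hA,
      hc.mul_pow, Matrix.toLin'_mul, LinearMap.comp_apply]
    constructor
    · intro h
      rw [← Units.val_pow_eq_pow_val, Matrix.toLin'_apply] at h
      have h1 := congrArg (fun z => (((U ^ k)⁻¹ : Matrix.GeneralLinearGroup ι F) : Matrix ι ι F) *ᵥ z) h
      simp only [inv_mulVec_mulVec, Matrix.mulVec_zero] at h1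
      exact h1
    · intro h
      rw [h, map_zero]
  rw [this]

end Cfsg.Agent.Lib.Helper94.Un
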