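import Mathlib
import Cfsg.Agent.Lib.Helper94.Un5
import Cfsg.Agent.Lib.Helper94.Un6
import Cfsg.Agent.Lib.Helper44.Hyperbolic

set_option autoImplicit false

/-!
Unipotent elements of `Ω⁺_{2d}(F)` with prescribed Jordan type.
-/

namespace Cfsg.Agent.Lib.Helper94.Un

open Module QuadraticMap Cfsg Cfsg.Agent.Lib.Helper99 Cfsg.Agent.Lib.Helper94
open scoped Matrix

set_option linter.unusedSectionVars false
set_option linter.unusedVariables false

variable {F : Type*} [Field F]

/-- a skew-adjoint nilpotent matrix for the hyperbolic form with prescribed kernel profile -/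
theorem exists_skew_plus (h2 : (2 : F) ≠ 0) (d : ℕ) (μ : Multiset ℕ)
    (hev : ∀ e, Even e → Even (μ.count e)) (hsum : μ.sum = 2 * d) :
    ∃ M : Matrix (Fin d ⊕ Fin d) (Fin d ⊕ Fin d) F,
      (∀ v w, pol (quadFormPlus d F) (M *ᵥ v) w + pol (quadFormPlus d F) v (M *ᵥ w) = 0) ∧
      ∀ k, dker (Matrix.toLin' M) k = prof μ k := by
  classical
  obtain ⟨Q, N, L, hS, hL, hfr⟩ :=
    (realize (F := F) h2 _ μ (2 * d) rfl hsum hev).1 (even_two_mul d)
  have hfrV : finrank F (Fin (2 * d) → F) = 2 * d := by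
    rw [Module.finrank_fintype_fun_eq_card, Fintype.card_fin]
  have hfrL : finrank F L = d := by rw [hfrV] at hfr; omega
  have hnd : (QuadraticMap.polarBilin Q).Nondegenerate := by
    constructor
    · intro v hv
      exact hS.nondeg v hv
    · intro v hv
      apply hS.nondeg v
      intro w
      have := hv w
      rw [QuadraticMap.polarBilin_apply_apply] at this
      rw [polar_comm]
      exact this
  obtain ⟨e, f, hQe, hQf, hee, hff, hef⟩ :=
    Cfsg.Agent.Lib.Helper44.hyperbolic_family d (Fin (2 * d) → F) Q hnd hfrV L hL hfrL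
  obtain ⟨Θ, hΘ⟩ :=
    Cfsg.Agent.Lib.Helper44.hyperbolic_coords d (Fin (2 * d) → F) Q hfrV e f hQe hQf hee hff hef
  have hpol : ∀ a b : Fin d ⊕ Fin d → F,
      pol (quadFormPlus d F) a b = polar Q (Θ.symm a) (Θ.symm b) := by
    intro a b
    unfold pol polar
    rw [← hΘ, ← hΘ, ← hΘ, map_add]
    simp only [LinearEquiv.apply_symm_apply]
  refine ⟨LinearMap.toMatrix' (Θ.conj N), ?_, ?_⟩
  · intro v w
    rw [hpol, hpol, ← Matrix.toLin'_apply, ← Matrix.toLin'_apply, Matrix.toLin'_toMatrix',
      LinearEquiv.conj_apply_apply, LinearEquiv.conj_apply_apply, LinearEquiv.symm_apply_apply,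
      LinearEquiv.symm_apply_apply]
    exact hS.skew _ _
  · intro k
    rw [Matrix.toLin'_toMatrix', ← hS.prof k]
    exact dker_conj Θ N (Θ.conj N) (fun w => by rw [LinearEquiv.conj_apply_apply,
      LinearEquiv.symm_apply_apply]) k

end Cfsg.Agent.Lib.Helper94.Un
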