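import Cfsg.Agent.Lib.Helper94.Siegel

set_option autoImplicit false

namespace Cfsg.Agent.Lib.Helper94

open scoped Matrix
open Cfsg

set_option linter.unusedSectionVars false
set_option linter.unnecessarySimpa false
set_option linter.style.haveILetI false
set_option linter.unusedVariables false

variable {ι : Type} [Fintype ι] [DecidableEq ι] {F : Type*} [Field F]

section orth
variable {Q : (ι → F) → F} (hQ : Geo.IsNondegenerateQuadraticForm Q)
include hQ

/-- the polar form as a Mathlib bilinear form -/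
noncomputable def polB : LinearMap.BilinForm F (ι → F) :=
  LinearMap.mk₂ F (fun x y : ι → F => pol Q x y) (pol_add_left hQ) (pol_smul_left hQ) (pol_add_right hQ)
    (pol_smul_right hQ)

lemma polB_apply (x y : ι → F) : polB hQ x y = pol Q x y := rfl

lemma polB_refl : (polB hQ).IsRefl := by
  intro x y h
  rw [polB_apply] at h ⊢
  rw [pol_comm]; exact h

lemma polB_nondeg : (polB hQ).Nondegenerate := by
  constructor
  · intro x hx
    by_contra hne
    obtain ⟨_, ⟨y, hy⟩⟩ := hQ.nondegenerate x hne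
    exact hy (hx y)
  · intro y hy
    by_contra hne
    obtain ⟨⟨x, hx⟩, _⟩ := hQ.nondegenerate y hne
    exact hx (hy x)

/-- the orthogonal complement for the polar form -/
noncomputable def orth (W : Submodule F (ι → F)) : Submodule F (ι → F) := (polB hQ).orthogonal W

lemma mem_orth {W : Submodule F (ι → F)} {v : ι → F} : v ∈ orth hQ W ↔ ∀ w ∈ W, pol Q w v = 0 := Iff.rfl

lemma orth_anti {A B : Submodule F (ι → F)} (h : A ≤ B) : orth hQ B ≤ orth hQ A :=
  LinearMap.BilinForm.orthogonal_le h

lemma finrank_orth (W : Submodule F (ι → F)) :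
    Module.finrank F (orth hQ W) + Module.finrank F W = Fintype.card ι := by
  have h1 := LinearMap.BilinForm.finrank_orthogonal (polB_nondeg hQ) W
  have h2 : Module.finrank F W ≤ Module.finrank F (ι → F) := Submodule.finrank_le W
  have h3 : Module.finrank F (ι → F) = Fintype.card ι := Module.finrank_fintype_fun_eq_card F
  unfold orth
  omega

lemma orth_orth (W : Submodule F (ι → F)) : orth hQ (orth hQ W) = W :=
  LinearMap.BilinForm.orthogonal_orthogonal (polB_nondeg hQ) (polB_refl hQ) W

lemma orth_sup (A B : Submodule F (ι → F)) : orth hQ (A ⊔ B) = orth hQ A ⊓ orth hQ B := by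
  apply le_antisymm
  · exact le_inf (orth_anti hQ le_sup_left) (orth_anti hQ le_sup_right)
  · intro v hv
    rw [Submodule.mem_inf, mem_orth, mem_orth] at hv
    rw [mem_orth]
    intro w hw
    obtain ⟨a, ha, b, hb, rfl⟩ := Submodule.mem_sup.1 hw
    rw [pol_add_left hQ, hv.1 a ha, hv.2 b hb, add_zero]

lemma orth_inf (A B : Submodule F (ι → F)) : orth hQ (A ⊓ B) = orth hQ A ⊔ orth hQ B := by
  have h := orth_sup hQ (orth hQ A) (orth hQ B)
  rw [orth_orth, orth_orth] at h
  rw [← h, orth_orth]

/-- the basic dimension formula for intersections with orthogonal complements -/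
lemma finrank_inf_orth (A B : Submodule F (ι → F)) :
    Module.finrank F ↥(A ⊓ orth hQ B) + Module.finrank F B =
      Module.finrank F A + Module.finrank F ↥(B ⊓ orth hQ A) := by
  have h1 : A ⊓ orth hQ B = orth hQ (orth hQ A ⊔ B) := by rw [orth_sup, orth_orth]
  have h2 := finrank_orth hQ (orth hQ A ⊔ B)
  have h3 := Submodule.finrank_sup_add_finrank_inf_eq (orth hQ A) B
  have h4 := finrank_orth hQ A
  rw [h1, inf_comm B]
  omega

omit hQ in
lemma ts_pol {W : Submodule F (ι → F)} (hW : Geo.IsTotallySingularQuad Q W) {x y : ι → F} (hx : x ∈ W)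
    (hy : y ∈ W) : pol Q x y = 0 := by
  rw [pol_def, hW _ (W.add_mem hx hy), hW x hx, hW y hy]; ring

lemma ts_le_orth {W : Submodule F (ι → F)} (hW : Geo.IsTotallySingularQuad Q W) : W ≤ orth hQ W := by
  intro v hv
  rw [mem_orth]
  intro w hw
  exact ts_pol hW hw hv

lemma ts_orth_eq {W : Submodule F (ι → F)} (hW : Geo.IsTotallySingularQuad Q W)
    (hk : 2 * Module.finrank F W = Fintype.card ι) : orth hQ W = W := by
  symm
  apply Submodule.eq_of_le_of_finrank_eq (ts_le_orth hQ hW)
  have := finrank_orth hQ W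
  omega

omit hQ in
lemma ts_mono {A B : Submodule F (ι → F)} (hB : Geo.IsTotallySingularQuad Q B) (h : A ≤ B) :
    Geo.IsTotallySingularQuad Q A := fun w hw => hB w (h hw)

/-- a vector of `N` orthogonal to `X` pairing to one with `e` -/
lemma exists_dual_vec (N X : Submodule F (ι → F)) (e : ι → F) (he : e ∉ X ⊔ orth hQ N) :
    ∃ f ∈ N, (∀ x ∈ X, pol Q f x = 0) ∧ pol Q f e = 1 := by
  have h1 : ∃ f ∈ N ⊓ orth hQ X, pol Q f e ≠ 0 := by
    by_contra hcon
    push_neg at hcon
    apply he
    have : e ∈ orth hQ (N ⊓ orth hQ X) := by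
      rw [mem_orth]
      intro w hw
      exact hcon w hw
    rw [orth_inf, orth_orth, sup_comm] at this
    exact this
  obtain ⟨f, hf, hfe⟩ := h1
  rw [Submodule.mem_inf, mem_orth] at hf
  refine ⟨(pol Q f e)⁻¹ • f, N.smul_mem _ hf.1, ?_, ?_⟩
  · intro x hx
    rw [pol_smul_left hQ, pol_comm Q f x, hf.2 x hx, mul_zero]
  · rw [pol_smul_left hQ, inv_mul_cancel₀ hfe]

/-- a singular vector orthogonal to `X` pairing to one with the singular vector `e` -/
lemma exists_sing_dual (X : Submodule F (ι → F)) (e : ι → F) (hQe : Q e = 0) (heX : e ∉ X)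
    (hX : ∀ x ∈ X, pol Q e x = 0) :
    ∃ f, Q f = 0 ∧ pol Q f e = 1 ∧ ∀ x ∈ X, pol Q f x = 0 := by
  have he : e ∉ X ⊔ orth hQ ⊤ := by
    have : orth hQ (⊤ : Submodule F (ι → F)) = ⊥ := by
      unfold orth
      exact LinearMap.BilinForm.orthogonal_top_eq_bot (polB_nondeg hQ)
    rw [this, sup_bot_eq]; exact heX
  obtain ⟨f', _, hf'X, hf'e⟩ := exists_dual_vec hQ ⊤ X e he
  refine ⟨f' - Q f' • e, ?_, ?_, ?_⟩
  · rw [Q_sub hQ, Q_smul hQ, hQe, pol_smul_right hQ, hf'e]; ring
  · rw [pol_sub_left hQ, pol_smul_left hQ, pol_self hQ, hQe, hf'e]; ring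
  · intro x hx
    rw [pol_sub_left hQ, pol_smul_left hQ, hf'X x hx, hX x hx]; ring

end orth

end Cfsg.Agent.Lib.Helper94
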