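import Mathlib
import Cfsg.Agent.Lib.Helper99.JordanInv

set_option autoImplicit false

/-!
Skew bilinear forms have even rank (characteristic not two); consequence for unipotent isometries:
for odd `k` the rank of `(x - 1) ^ k` is even.
-/

namespace Cfsg.Agent.Lib.Helper94.Un

open Module Cfsg.Agent.Lib.Helper99

variable {F : Type*} [Field F]

section skew
variable {W : Type*} [AddCommGroup W] [Module F W] [FiniteDimensional F W]

/-- a nondegenerate skew-symmetric bilinear form lives on an even-dimensional space -/
theorem even_finrank_of_skew_nondeg (h2 : (2 : F) ≠ 0) (γ : LinearMap.BilinForm F W)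
    (hγ : ∀ v w, γ v w = - γ w v) (hnd : ∀ v, (∀ w, γ v w = 0) → v = 0) :
    Even (finrank F W) := by
  classical
  let b := Module.finBasis F W
  set M := LinearMap.BilinForm.toMatrix b γ with hM
  have hMt : M.transpose = -M := by
    ext i j
    rw [Matrix.transpose_apply, Matrix.neg_apply, hM, LinearMap.BilinForm.toMatrix_apply,
      LinearMap.BilinForm.toMatrix_apply, hγ]
  have hndg : γ.Nondegenerate := by
    refine ⟨fun v hv => hnd v hv, fun v hv => hnd v (fun w => ?_)⟩
    rw [hγ, hv w, neg_zero]
  have hdet : M.det ≠ 0 := (LinearMap.BilinForm.nondegenerate_iff_det_ne_zero b).mp hndg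
  by_contra hodd
  rw [Nat.not_even_iff_odd] at hodd
  have h1 : M.det = -M.det := by
    conv_lhs => rw [← Matrix.det_transpose, hMt, Matrix.det_neg, Fintype.card_fin, hodd.neg_one_pow]
    ring
  have h3 : (2 : F) * M.det = 0 := by linear_combination h1
  rcases mul_eq_zero.mp h3 with h | h
  · exact h2 h
  · exact hdet h

/-- a skew-symmetric bilinear form has even rank -/
theorem even_rank_of_skew (h2 : (2 : F) ≠ 0) (γ : LinearMap.BilinForm F W)
    (hγ : ∀ v w, γ v w = - γ w v) :
    Even (finrank F W - finrank F (LinearMap.ker γ)) := by
  obtain ⟨C, hC⟩ := (LinearMap.ker γ).exists_isCompl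
  have hfr := Submodule.finrank_add_eq_of_isCompl hC
  have hCe : Even (finrank F C) := by
    apply even_finrank_of_skew_nondeg h2 (γ.restrict C)
    · intro v w
      exact hγ v w
    · intro v hv
      have hvK : (v : W) ∈ LinearMap.ker γ := by
        rw [LinearMap.mem_ker]
        apply LinearMap.ext
        intro z
        have hz : z ∈ LinearMap.ker γ ⊔ C := by rw [hC.sup_eq_top]; trivial
        obtain ⟨k, hk, c, hc, rfl⟩ := Submodule.mem_sup.mp hz
        rw [map_add, LinearMap.zero_apply]
        have h1 : γ v k = 0 := by
          rw [hγ, LinearMap.mem_ker.mp hk, LinearMap.zero_apply, neg_zero]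
        have h3 : γ v c = 0 := hv ⟨c, hc⟩
        rw [h1, h3, add_zero]
      have : (v : W) ∈ LinearMap.ker γ ⊓ C := ⟨hvK, v.2⟩
      rw [hC.inf_eq_bot, Submodule.mem_bot] at this
      exact Subtype.ext this
  have : finrank F W - finrank F (LinearMap.ker γ) = finrank F C := by omega
  rw [this]
  exact hCe

end skew

section unip
variable {W : Type*} [AddCommGroup W] [Module F W] [FiniteDimensional F W]

/-- For an isometry `x` (inverse `y`) of a nondegenerate symmetric bilinear space such that `x + 1`
is injective, the rank of `(x - 1) ^ k` is even for odd `k`. -/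
theorem parity_unip (h2 : (2 : F) ≠ 0) (B : LinearMap.BilinForm F W)
    (hBs : ∀ v w, B v w = B w v) (hnd : ∀ v, (∀ w, B v w = 0) → v = 0)
    (x y : Module.End F W) (hxy : x * y = 1) (hyx : y * x = 1)
    (hx : ∀ v w, B (x v) (x w) = B v w) (hinj : ∀ v, x v = -v → v = 0)
    (k : ℕ) (hk : Odd k) : Even (finrank F W - dker (x - 1) k) := by
  set S : Module.End F W := x - y with hS
  -- `S` is skew-adjoint
  have hxv : ∀ v, x (y v) = v := fun v => by
    have := congrArg (fun f : Module.End F W => f v) hxy
    simpa using this
  have hyv : ∀ v, y (x v) = v := fun v => by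
    have := congrArg (fun f : Module.End F W => f v) hyx
    simpa using this
  have hskew : ∀ v w, B (S v) w = - B v (S w) := by
    intro v w
    have h1 : B (x v) w = B v (y w) := by
      conv_lhs => rw [← hxv w]
      exact hx v (y w)
    have h3 : B (y v) w = B v (x w) := by
      rw [← hx (y v) w, hxv]
    simp only [hS, LinearMap.sub_apply, map_sub, h1, h3]
    ring
  have hskewk : ∀ (j : ℕ) v w, B ((S ^ j) v) w = (-1) ^ j * B v ((S ^ j) w) := by
    intro j
    induction j with
    | zero => intro v w; simp
    | succ j ih =>
      intro v w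
      have e1 : (S ^ (j + 1)) v = (S ^ j) (S v) := by rw [pow_succ, Module.End.mul_apply]
      have e2 : (S ^ (j + 1)) w = S ((S ^ j) w) := by rw [pow_succ', Module.End.mul_apply]
      rw [e1, e2, ih, hskew]
      ring
  -- the skew form
  set γ : LinearMap.BilinForm F W := B.compLeft (S ^ k) with hγdef
  have hγ : ∀ v w, γ v w = - γ w v := by
    intro v w
    show B ((S ^ k) v) w = - B ((S ^ k) w) v
    rw [hskewk, hk.neg_one_pow, hBs v]
    ring
  have hker : LinearMap.ker γ = LinearMap.ker ((x - 1) ^ k) := by
    -- first `ker γ = ker (S ^ k)`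
    have h1 : LinearMap.ker γ = LinearMap.ker (S ^ k) := by
      ext v
      rw [LinearMap.mem_ker, LinearMap.mem_ker]
      constructor
      · intro h
        apply hnd
        intro w
        have := congrArg (fun f : W →ₗ[F] F => f w) h
        exact this
      · intro h
        apply LinearMap.ext
        intro w
        show B ((S ^ k) v) w = 0
        rw [h, map_zero, LinearMap.zero_apply]
    rw [h1]
    -- `S = U * (x - 1)` with `U = y * (x + 1)` injective and commuting
    set U : Module.End F W := y * (x + 1) with hU
    have hcxy : Commute x y := by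
      show x * y = y * x
      rw [hxy, hyx]
    have hSU : S = U * (x - 1) := by
      rw [hU, hS, mul_assoc]
      have : (x + 1) * (x - 1) = x * x - 1 := by noncomm_ring
      rw [this, mul_sub, ← mul_assoc, hyx, one_mul, mul_one]
    have hcomm : Commute U (x - 1) := by
      have h1 : Commute y (x - 1) := (hcxy.symm).sub_right (Commute.one_right y)
      have h3 : Commute (x + 1) (x - 1) :=
        ((Commute.refl x).add_left (Commute.one_left x)).sub_right (Commute.one_right _)
      exact h1.mul_left h3
    have hUinj : Function.Injective U := by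
      intro a b hab
      have h1 : U (a - b) = 0 := by rw [map_sub, hab, sub_self]
      have h3 : y ((x + 1) (a - b)) = 0 := h1
      have h4 : (x + 1) (a - b) = 0 := by
        have := congrArg x h3
        rw [hxv, map_zero] at this
        exact this
      have h5 : x (a - b) = -(a - b) := by
        have : x (a - b) + (a - b) = 0 := h4
        exact eq_neg_of_add_eq_zero_left this
      exact sub_eq_zero.mp (hinj _ h5)
    have hUk : Function.Injective (U ^ k) := by
      rw [Module.End.coe_pow]
      exact hUinj.iterate k
    have hSk : S ^ k = U ^ k * (x - 1) ^ k := by rw [hSU, hcomm.mul_pow]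
    ext v
    rw [LinearMap.mem_ker, LinearMap.mem_ker, hSk, Module.End.mul_apply]
    constructor
    · intro h
      apply hUk
      rw [h, map_zero]
    · intro h
      rw [h, map_zero]
  have := even_rank_of_skew h2 γ hγ
  rw [hker] at this
  exact this

end unip

end Cfsg.Agent.Lib.Helper94.Un
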