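import Mathlib
import Cfsg.Agent.Lib.Helper99.JordanInv

set_option autoImplicit false

/-!
From kernel dimensions of two complementary pieces to a sub-multiset, keeping track of the parity of
the multiplicities of the even parts.
-/

namespace Cfsg.Agent.Lib.Helper94.Un

open Cfsg.Agent.Lib.Helper99

theorem exists_submultiset_even (d d' : ℕ → ℕ) (μ : Multiset ℕ) (K a : ℕ)
    (hd : ∀ k, d (k + 2) + d k ≤ 2 * d (k + 1))
    (hd' : ∀ k, d' (k + 2) + d' k ≤ 2 * d' (k + 1))
    (hd0 : d 0 = 0) (hdK : ∀ k, K ≤ k → d k = a)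
    (hsum : ∀ k, d k + d' k = (μ.map (fun b => min b k)).sum)
    (hle : ∀ k, d k ≤ a) (hpar : ∀ k, Odd k → Even (a - d k)) :
    ∃ ν : Multiset ℕ, ν ≤ μ ∧ ν.sum = a ∧ ∀ e : ℕ, Even e → Even (ν.count e) := by
  have hcount : ∀ j, (∑ i ∈ Finset.range K, jmult d (i + 1) • ({i + 1} : Multiset ℕ)).count j =
      if 1 ≤ j ∧ j ≤ K then jmult d j else 0 := by
    intro j
    rw [Multiset.count_sum']
    simp only [Multiset.count_nsmul, Multiset.count_singleton]
    rcases Nat.eq_zero_or_pos j with hj | hj
    · subst hj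
      simp
    · have h1 : ∀ i ∈ Finset.range K, jmult d (i + 1) * (if j = i + 1 then 1 else 0) =
          if i = j - 1 then jmult d j else 0 := by
        intro i _
        by_cases h : j = i + 1
        · subst h; simp
        · rw [if_neg h, if_neg (by omega), mul_zero]
      rw [Finset.sum_congr rfl h1, Finset.sum_ite_eq']
      by_cases hjK : j ≤ K
      · rw [if_pos (Finset.mem_range.mpr (by omega)), if_pos ⟨hj, hjK⟩]
      · rw [if_neg (by rw [Finset.mem_range]; omega), if_neg (by omega)]
  refine ⟨∑ i ∈ Finset.range K, jmult d (i + 1) • ({i + 1} : Multiset ℕ), ?_, ?_, ?_⟩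
  · rw [Multiset.le_iff_count]
    intro j
    rw [hcount]
    split_ifs with hj
    · have h2 := jmult_add d hd j hj.1
      have h3 := jmult_add d' hd' j hj.1
      have h4 := sum_min_identity μ j hj.1
      rw [← hsum, ← hsum, ← hsum] at h4
      omega
    · exact Nat.zero_le _
  · have hcast : ∀ i, ((jmult d (i + 1) : ℕ) : ℤ) =
        2 * (d (i + 1) : ℤ) - (d i : ℤ) - (d (i + 2) : ℤ) := by
      intro i
      have := jmult_add d hd (i + 1) (by omega)
      simp only [Nat.add_sub_cancel] at this
      have h2 : i + 1 + 1 = i + 2 := rfl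
      rw [h2] at this
      omega
    have hsum' : ((∑ i ∈ Finset.range K, jmult d (i + 1) • ({i + 1} : Multiset ℕ)).sum : ℤ) =
        (a : ℤ) := by
      have h1 : (∑ i ∈ Finset.range K, jmult d (i + 1) • ({i + 1} : Multiset ℕ)).sum =
          ∑ i ∈ Finset.range K, jmult d (i + 1) * (i + 1) := by
        rw [← Multiset.coe_sumAddMonoidHom, map_sum]
        apply Finset.sum_congr rfl
        intro i _
        rw [Multiset.coe_sumAddMonoidHom, Multiset.sum_nsmul, Multiset.sum_singleton,
          smul_eq_mul]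
      rw [h1]
      push_cast
      have h2 := telescope (fun k => (d k : ℤ)) K
      rw [hdK K le_rfl, hdK (K + 1) (by omega), hd0] at h2
      simp only [hcast]
      have h3 : ((a : ℤ) - ((0 : ℕ) : ℤ) - (K : ℤ) * ((a : ℤ) - (a : ℤ))) = (a : ℤ) := by
        push_cast; ring
      rw [h3] at h2
      rw [← h2]
      apply Finset.sum_congr rfl
      intro i _
      ring
    exact_mod_cast hsum'
  · intro e he
    rw [hcount]
    split_ifs with hj
    · obtain ⟨i, rfl⟩ : ∃ i, e = i + 1 := ⟨e - 1, by omega⟩
      have hi : Odd i := by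
        rcases Nat.even_or_odd i with h | h
        · exact absurd he (Nat.not_even_iff_odd.mpr h.add_one)
        · exact h
      have hodd2 : Odd (i + 1 + 1) := by
        have : i + 1 + 1 = i + 2 := rfl
        rw [this]
        exact hi.add_even even_two
      obtain ⟨r1, hr1⟩ := hpar i hi
      obtain ⟨r2, hr2⟩ := hpar (i + 1 + 1) hodd2
      have h1 := hle i
      have h3 := hle (i + 1 + 1)
      have h4 := jmult_add d hd (i + 1) (by omega)
      simp only [Nat.add_sub_cancel] at h4
      refine ⟨d (i + 1) + r1 + r2 - a, ?_⟩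
      omega
    · exact ⟨0, rfl⟩

end Cfsg.Agent.Lib.Helper94.Un
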