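import Mathlib
import Cfsg.Agent.Lib.Helper94.Un1
import Cfsg.Agent.Lib.Helper94.Un2
import Cfsg.Agent.Lib.Helper94.Un3
import Cfsg.Agent.Lib.Helper94.Orth
import Cfsg.Agent.Lib.Helper99.JordanDecomp

set_option autoImplicit false

/-!
Generic glue: an invariant nondegenerate subspace of a unipotent isometry (odd characteristic) has a
Jordan type which is a sub-multiset of the ambient one, in which even parts have even multiplicity.
-/

namespace Cfsg.Agent.Lib.Helper94.Un

open Module Cfsg Cfsg.Agent.Lib.Helper99 Cfsg.Agent.Lib.Helper94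
open scoped Matrix

set_option linter.unusedSectionVars false
set_option linter.unusedVariables false

variable {ι : Type} [Fintype ι] [DecidableEq ι] {F : Type*} [Field F]

theorem jordan_sub {Q : (ι → F) → F} (hQ : Geo.IsNondegenerateQuadraticForm Q) (h2 : (2 : F) ≠ 0)
    (x : Matrix.GeneralLinearGroup ι F) (hx : x ∈ isometryGroup F Q) (K : ℕ)
    (hK : ((x : Matrix ι ι F) - 1) ^ K = 0) (μ : Multiset ℕ)
    (hprof : ∀ k, dker (Matrix.toLin' ((x : Matrix ι ι F) - 1)) k = prof μ k)
    (W : Submodule F (ι → F)) (hWnd : Geo.IsNondegenerateOn (QuadraticMap.polar Q) W)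
    (hxW : W.map (Matrix.toLin' (x : Matrix ι ι F)) ≤ W) :
    ∃ ν : Multiset ℕ, ν ≤ μ ∧ ν.sum = finrank F W ∧ ∀ e : ℕ, Even e → Even (ν.count e) := by
  classical
  set X : Module.End F (ι → F) := Matrix.toLin' (x : Matrix ι ι F) with hX
  set Y : Module.End F (ι → F) :=
    Matrix.toLin' ((x⁻¹ : Matrix.GeneralLinearGroup ι F) : Matrix ι ι F) with hY
  set T : Module.End F (ι → F) := Matrix.toLin' ((x : Matrix ι ι F) - 1) with hT
  have hXv : ∀ v, X v = (x : Matrix ι ι F) *ᵥ v := fun v => Matrix.toLin'_apply _ v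
  have hYv : ∀ v, Y v = ((x⁻¹ : Matrix.GeneralLinearGroup ι F) : Matrix ι ι F) *ᵥ v :=
    fun v => Matrix.toLin'_apply _ v
  have hXY : ∀ v, X (Y v) = v := fun v => by rw [hXv, hYv]; exact mulVec_inv_mulVec x v
  have hYX : ∀ v, Y (X v) = v := fun v => by rw [hXv, hYv]; exact inv_mulVec_mulVec x v
  have hTX : ∀ v, T v = X v - v := by
    intro v
    rw [hT, hX, Matrix.toLin'_apply, Matrix.toLin'_apply, Matrix.sub_mulVec, Matrix.one_mulVec]
  have hTK : T ^ K = 0 := by
    rw [hT, ← Matrix.toLin'_pow, hK, map_zero]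
  have hXW : ∀ v ∈ W, X v ∈ W := fun v hv => hxW (Submodule.mem_map_of_mem hv)
  have hTW : ∀ v ∈ W, T v ∈ W := fun v hv => by
    rw [hTX]; exact W.sub_mem (hXW v hv) hv
  -- `Y` preserves `W`
  have hYW : ∀ v ∈ W, Y v ∈ W := by
    have hinj : Function.Injective (X.restrict hXW) := by
      intro a b hab
      have h1 : X (a : ι → F) = X (b : ι → F) := congrArg Subtype.val hab
      have h3 := congrArg Y h1
      rw [hYX, hYX] at h3
      exact Subtype.ext h3
    have hsurj : Function.Surjective (X.restrict hXW) :=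
      LinearMap.injective_iff_surjective.mp hinj
    intro v hv
    obtain ⟨w, hw⟩ := hsurj ⟨v, hv⟩
    have h1 : X (w : ι → F) = v := congrArg Subtype.val hw
    rw [← h1, hYX]
    exact w.2
  -- the orthogonal complement
  set W' := orth hQ W with hW'
  have hpolX : ∀ a b, pol Q (X a) (X b) = pol Q a b := by
    intro a b
    rw [hXv, hXv]
    exact isom_pol hx a b
  have hXW' : ∀ v ∈ W', X v ∈ W' := by
    intro v hv
    rw [hW', mem_orth] at hv ⊢
    intro w hw
    have h1 := hpolX (Y w) v
    rw [hXY] at h1
    rw [h1]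
    exact hv (Y w) (hYW w hw)
  have hTW' : ∀ v ∈ W', T v ∈ W' := fun v hv => by
    rw [hTX]; exact W'.sub_mem (hXW' v hv) hv
  have hdisj : Disjoint W W' := by
    rw [Submodule.disjoint_def]
    intro v hv hv'
    by_contra hv0
    obtain ⟨⟨z, hz, hne⟩, -⟩ := hWnd v hv hv0
    rw [hW', mem_orth] at hv'
    exact hne (hv' z hz)
  have hc : IsCompl W W' := by
    refine ⟨hdisj, ?_⟩
    rw [codisjoint_iff]
    apply Submodule.eq_top_of_disjoint
    · have := finrank_orth hQ W
      rw [Module.finrank_fintype_fun_eq_card]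
      rw [hW']
      omega
    · exact hdisj
  -- kernel dimensions
  let e := Submodule.prodEquivOfIsCompl W W' hc
  have hconj : ∀ w, T (e w) = e (((T.restrict hTW).prodMap (T.restrict hTW')) w) := by
    rintro ⟨u, u'⟩
    rw [Submodule.coe_prodEquivOfIsCompl', LinearMap.prodMap_apply,
      Submodule.coe_prodEquivOfIsCompl', map_add]
    rfl
  have hsum : ∀ k, dker (T.restrict hTW) k + dker (T.restrict hTW') k =
      (μ.map (fun b => min b k)).sum := by
    intro k
    have := hprof k
    unfold prof at this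
    rw [← this, ← dker_prodMap, dker_conj e _ T hconj]
  have hTWK : (T.restrict hTW) ^ K = 0 := by
    ext u
    rw [restrict_pow_coe, hTK]
    rfl
  -- parity
  have hpar : ∀ k, Odd k → Even (finrank F W - dker (T.restrict hTW) k) := by
    intro k hk
    have hres : T.restrict hTW = X.restrict hXW - 1 := by
      apply LinearMap.ext
      intro u
      apply Subtype.ext
      show T (u : ι → F) = (X (u : ι → F) - (u : ι → F))
      exact hTX _
    rw [hres]
    apply parity_unip h2 ((polB hQ).restrict W) ?_ ?_ (X.restrict hXW) (Y.restrict hYW) ?_ ?_ ?_ ?_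
      k hk
    · intro v w
      exact pol_comm Q _ _
    · intro v hv
      by_contra hv0
      have hv0' : (v : ι → F) ≠ 0 := fun h => hv0 (Subtype.ext h)
      obtain ⟨-, z, hz, hne⟩ := hWnd v v.2 hv0'
      exact hne (hv ⟨z, hz⟩)
    · apply LinearMap.ext
      intro u
      apply Subtype.ext
      exact hXY _
    · apply LinearMap.ext
      intro u
      apply Subtype.ext
      exact hYX _
    · intro v w
      exact hpolX _ _
    · intro v hv
      have h1 : X (v : ι → F) = -(v : ι → F) := congrArg Subtype.val hv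
      have h3 : T (v : ι → F) = (-2 : F) • (v : ι → F) := by
        rw [hTX, h1]
        rw [neg_smul, two_smul]
        abel
      have h4 : ∀ j : ℕ, (T ^ j) (v : ι → F) = ((-2 : F)) ^ j • (v : ι → F) := by
        intro j
        induction j with
        | zero => simp
        | succ j ih =>
          rw [pow_succ', Module.End.mul_apply, ih, map_smul, h3, smul_smul, pow_succ]
      have h5 := h4 K
      rw [hTK, LinearMap.zero_apply] at h5
      have h6 : ((-2 : F)) ^ K ≠ 0 := pow_ne_zero _ (neg_ne_zero.mpr h2)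
      have := (smul_eq_zero.mp h5.symm).resolve_left h6
      exact Subtype.ext this
  exact exists_submultiset_even (dker (T.restrict hTW)) (dker (T.restrict hTW')) μ K
    (finrank F W) (dker_concave _) (dker_concave _) (dker_zero _)
    (fun k hk => dker_eq_of_pow_eq_zero _ hTWK k hk) hsum (fun k => dker_le _ k) hpar

end Cfsg.Agent.Lib.Helper94.Un
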