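import Mathlib
import Cfsg.Agent.Lib.Helper94.Un7
import Cfsg.Agent.Lib.Helper94.Un8
import Cfsg.Agent.Lib.Helper94.Sg8

set_option autoImplicit false

/-!
Unipotent elements of `Ω⁺_{2d}(F)` with prescribed Jordan type (final form), and generalities used
by the statements.
-/

namespace Cfsg.Agent.Lib.Helper94.Un

open Module QuadraticMap Cfsg Cfsg.Agent.Lib.Helper99 Cfsg.Agent.Lib.Helper94
open scoped Matrix

set_option linter.unusedSectionVars false
set_option linter.unusedVariables false

variable {F : Type*} [Field F]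

/-- a bundled quadratic form with nondegenerate polar form satisfies the Prelude's predicate -/
theorem isNondeg_of_QF {ι : Type} [Fintype ι] [DecidableEq ι] (Q : QuadraticForm F (ι → F))
    (h : (QuadraticMap.polarBilin Q).Nondegenerate) : Geo.IsNondegenerateQuadraticForm (⇑Q) where
  smul := fun c v => by rw [QuadraticMap.map_smul, smul_eq_mul, pow_two]
  polar_bilinear :=
    { add_left := fun x y v => QuadraticMap.polar_add_left Q x y v
      smul_left := fun c x v => by rw [QuadraticMap.polar_smul_left, smul_eq_mul]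
      add_right := fun v x y => QuadraticMap.polar_add_right Q v x y
      smul_right := fun c v x => by rw [QuadraticMap.polar_smul_right, smul_eq_mul] }
  nondegenerate := by
    intro v hv
    have h1 : ∃ x, polar Q v x ≠ 0 := by
      by_contra hcon
      push Not at hcon
      exact hv (h.1 v (fun w => hcon w))
    obtain ⟨x, hx⟩ := h1
    exact ⟨⟨x, by rw [polar_comm]; exact hx⟩, ⟨x, hx⟩⟩

theorem nondeg_quadFormPlus (d : ℕ) : Geo.IsNondegenerateQuadraticForm (quadFormPlus d F) := by
  have := isNondeg_of_QF (Sg.plusQ d F) (Sg.plusQ_nondeg d F)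
  rwa [Sg.plusQ_coe] at this

/-- if all parts are at most `K` the profile at `K` is the sum -/
theorem prof_of_le (μ : Multiset ℕ) (K : ℕ) (h : ∀ b ∈ μ, b ≤ K) : prof μ K = μ.sum := by
  unfold prof
  congr 1
  conv_rhs => rw [← Multiset.map_id μ]
  apply Multiset.map_congr rfl
  intro b hb
  exact min_eq_left (h b hb)

/-- nilpotency from the profile -/
theorem pow_eq_zero_of_prof {ι : Type} [Fintype ι] [DecidableEq ι] (A : Matrix ι ι F)
    (μ : Multiset ℕ) (hprof : ∀ k, dker (Matrix.toLin' A) k = prof μ k)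
    (hsum : μ.sum = Fintype.card ι) (K : ℕ) (h : ∀ b ∈ μ, b ≤ K) : A ^ K = 0 := by
  have h1 : dker (Matrix.toLin' A) K = Fintype.card ι := by
    rw [hprof, prof_of_le μ K h, hsum]
  have h3 : LinearMap.ker ((Matrix.toLin' A) ^ K) = ⊤ := by
    apply Submodule.eq_top_of_finrank_eq
    rw [Module.finrank_fintype_fun_eq_card]
    exact h1
  have h4 : (Matrix.toLin' A) ^ K = 0 := LinearMap.ker_eq_top.mp h3
  apply Matrix.toLin'.injective
  rw [Matrix.toLin'_pow, h4, map_zero]

/-- a non-trivial profile is not the profile of `0` -/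
theorem prof_one_lt (μ : Multiset ℕ) (b₀ : ℕ) (hb₀ : b₀ ∈ μ) (h1 : 1 < b₀) : prof μ 1 < μ.sum := by
  unfold prof
  have := Multiset.sum_lt_sum (s := μ) (f := fun b => min b 1) (g := id)
    (fun b _ => min_le_left b 1) ⟨b₀, hb₀, by simp only [id]; omega⟩
  simpa using this

/-- unipotent elements of `Ω⁺` with prescribed kernel profile -/
theorem exists_unipotent_plus [Fintype F] (h2 : (2 : F) ≠ 0) (d : ℕ) (μ : Multiset ℕ)
    (hev : ∀ e, Even e → Even (μ.count e)) (hsum : μ.sum = 2 * d) :
    ∃ x : Matrix.GeneralLinearGroup (Fin d ⊕ Fin d) F, x ∈ Geo.omegaGL (quadFormPlus d F) ∧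
      ∀ k, dker (Matrix.toLin' ((x : Matrix (Fin d ⊕ Fin d) (Fin d ⊕ Fin d) F) - 1)) k =
        prof μ k := by
  classical
  obtain ⟨M, hskew, hprof⟩ := exists_skew_plus (F := F) h2 d μ hev hsum
  have hcard : μ.sum = Fintype.card (Fin d ⊕ Fin d) := by
    rw [hsum, Fintype.card_sum, Fintype.card_fin]; ring
  have hK : M ^ μ.sum = 0 :=
    pow_eq_zero_of_prof M μ hprof hcard μ.sum (fun b hb => Multiset.le_sum_of_mem hb)
  obtain ⟨x, hxΩ, U, hUM, hxU⟩ :=
    exists_cayley_sq (nondeg_quadFormPlus (F := F) d) h2 M hskew μ.sum hK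
  refine ⟨x, hxΩ, fun k => ?_⟩
  rw [dker_unit_mul U M _ hUM hxU k, hprof]

end Cfsg.Agent.Lib.Helper94.Un
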