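import Mathlib
import Cfsg.Agent.Lib.Helper94.Un9

set_option autoImplicit false

/-!
The common final argument for the `p`-element necessary conditions.
-/

namespace Cfsg.Agent.Lib.Helper94.Un

open Module QuadraticMap Cfsg Cfsg.Agent.Lib.Helper99 Cfsg.Agent.Lib.Helper94
open scoped Matrix

set_option linter.unusedSectionVars false
set_option linter.unusedVariables false

variable {F : Type*} [Field F] {ι : Type} [Fintype ι] [DecidableEq ι]

theorem two_ne_zero_of_odd_card [Fintype F] {p : ℕ} [Fact p.Prime] [CharP F p] {q : ℕ}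
    (hq : Fintype.card F = q) (hqodd : Odd q) : (2 : F) ≠ 0 := by
  intro h
  have hp2 : p ∣ 2 := by
    have : ((2 : ℕ) : F) = 0 := by exact_mod_cast h
    exact (CharP.cast_eq_zero_iff F p 2).mp this
  obtain ⟨n, -, hn⟩ := FiniteField.card F p
  have hpq : p ∣ q := by
    rw [← hq, hn]
    exact dvd_pow_self p n.ne_zero
  have : 2 ∣ q := by
    have hp : p = 2 := (Nat.prime_dvd_prime_iff_eq Fact.out Nat.prime_two).mp hp2
    rw [← hp]; exact hpq
  exact (Nat.not_even_iff_odd.mpr hqodd) (even_iff_two_dvd.mpr this)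

theorem unipotent_facts {Q : (ι → F) → F} (hQ : Geo.IsNondegenerateQuadraticForm Q)
    (h2 : (2 : F) ≠ 0) {p : ℕ} [hp : Fact p.Prime] [CharP F p]
    (x : Matrix.GeneralLinearGroup ι F) (hx : x ∈ isometryGroup F Q) (μ : Multiset ℕ)
    (hprof : ∀ k, dker (Matrix.toLin' ((x : Matrix ι ι F) - 1)) k = prof μ k)
    (hsum : μ.sum = Fintype.card ι) (hμp : ∀ b ∈ μ, b ≤ p) (b₀ : ℕ) (hb₀ : b₀ ∈ μ) (hb₀1 : 1 < b₀) :
    ((x ^ p : Matrix.GeneralLinearGroup ι F) : Matrix ι ι F) = 1 ∧
    (∀ z : F, (x : Matrix ι ι F) ≠ z • (1 : Matrix ι ι F)) ∧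
    ∀ W : Submodule F (ι → F), Geo.IsNondegenerateOn (QuadraticMap.polar Q) W →
      W.map (Matrix.toLin' (x : Matrix ι ι F)) ≤ W →
      ∃ ν : Multiset ℕ, ν ≤ μ ∧ ν.sum = finrank F W ∧ ∀ e : ℕ, Even e → Even (ν.count e) := by
  have hp' : p.Prime := hp.out
  set N : Matrix ι ι F := (x : Matrix ι ι F) - 1 with hN
  have hNp : N ^ p = 0 := pow_eq_zero_of_prof N μ hprof hsum p hμp
  have hXN : (x : Matrix ι ι F) = 1 + N := by rw [hN]; abel
  have hcard0 : 0 < Fintype.card ι := by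
    rw [← hsum]
    exact lt_of_lt_of_le (by omega) (Multiset.le_sum_of_mem hb₀)
  obtain ⟨i⟩ : Nonempty ι := Fintype.card_pos_iff.mp hcard0
  haveI : Nonempty ι := ⟨i⟩
  refine ⟨?_, ?_, ?_⟩
  · rw [Units.val_pow_eq_pow_val, hXN, add_pow_char_of_commute _ (Commute.one_left N), one_pow,
      hNp, add_zero]
  · intro z hz
    have hN' : N = (z - 1) • (1 : Matrix ι ι F) := by
      rw [hN, hz, sub_smul, one_smul]
    have hz1 : z = 1 := by
      have h3 := hNp
      rw [hN', smul_pow, one_pow] at h3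
      have h4 := congrFun (congrFun h3 i) i
      simp only [Matrix.smul_apply, Matrix.one_apply_eq, smul_eq_mul, mul_one,
        Matrix.zero_apply] at h4
      exact sub_eq_zero.mp ((pow_eq_zero_iff hp'.ne_zero).mp h4)
    have hN0 : N = 0 := by rw [hN', hz1, sub_self, zero_smul]
    have h4 : dker (Matrix.toLin' N) 1 = Fintype.card ι := by
      rw [hN0, map_zero]
      rw [dker_eq_of_pow_eq_zero (0 : Module.End F (ι → F)) (K := 1) (by rw [pow_one]) 1 le_rfl,
        Module.finrank_fintype_fun_eq_card]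
    have h5 := prof_one_lt μ b₀ hb₀ hb₀1
    rw [hprof 1] at h4
    omega
  · intro W hW hxW
    exact jordan_sub hQ h2 x hx p hNp μ hprof W hW hxW

end Cfsg.Agent.Lib.Helper94.Un
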