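import Mathlib
import Cfsg.Agent.Lib.Helper94.Un10
import Cfsg.Agent.Lib.Helper94.OForm

set_option autoImplicit false

/-!
Refinements: the sub-multiset produced by the glue records the kernel dimensions of the restriction;
a nondegenerate invariant subspace on which `(x-1)^2 = 0` and `2 dim ker = dim` is of plus type.
-/

namespace Cfsg.Agent.Lib.Helper94.Un

open Module Cfsg Cfsg.Agent.Lib.Helper99 Cfsg.Agent.Lib.Helper94
open scoped Matrix

set_option linter.unusedSectionVars false
set_option linter.unusedVariables false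

theorem exists_submultiset_even' (d d' : ℕ → ℕ) (μ : Multiset ℕ) (K a : ℕ)
    (hd : ∀ k, d (k + 2) + d k ≤ 2 * d (k + 1))
    (hd' : ∀ k, d' (k + 2) + d' k ≤ 2 * d' (k + 1))
    (hd0 : d 0 = 0) (hdK : ∀ k, K ≤ k → d k = a)
    (hsum : ∀ k, d k + d' k = (μ.map (fun b => min b k)).sum)
    (hle : ∀ k, d k ≤ a) (hpar : ∀ k, Odd k → Even (a - d k)) :
    ∃ ν : Multiset ℕ, ν ≤ μ ∧ ν.sum = a ∧ (∀ e : ℕ, Even e → Even (ν.count e)) ∧
      ∀ j, 1 ≤ j → j ≤ K → ν.count j + (d (j - 1) + d (j + 1)) = 2 * d j := by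
  have hcount : ∀ j, (∑ i ∈ Finset.range K, jmult d (i + 1) • ({i + 1} : Multiset ℕ)).count j =
      if 1 ≤ j ∧ j ≤ K then jmult d j else 0 := by
    intro j
    rw [Multiset.count_sum']
    simp only [Multiset.count_nsmul, Multiset.count_singleton]
    rcases Nat.eq_zero_or_pos j with hj | hj
    · subst hj
      simp
    · have h1 : ∀ i ∈ Finset.range K, jmult d (i + 1) * (if j = i + 1 then 1 else 0) =
          if i = j - 1 then jmult d j else 0 := by
        intro i _
        by_cases h : j = i + 1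
        · subst h; simp
        · rw [if_neg h, if_neg (by omega), mul_zero]
      rw [Finset.sum_congr rfl h1, Finset.sum_ite_eq']
      by_cases hjK : j ≤ K
      · rw [if_pos (Finset.mem_range.mpr (by omega)), if_pos ⟨hj, hjK⟩]
      · rw [if_neg (by rw [Finset.mem_range]; omega), if_neg (by omega)]
  obtain ⟨ν, h1, h3, h4⟩ := exists_submultiset_even d d' μ K a hd hd' hd0 hdK hsum hle hpar
  -- we redo the construction to keep the explicit multiset
  refine ⟨∑ i ∈ Finset.range K, jmult d (i + 1) • ({i + 1} : Multiset ℕ), ?_, ?_, ?_, ?_⟩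
  · rw [Multiset.le_iff_count]
    intro j
    rw [hcount]
    split_ifs with hj
    · have h2 := jmult_add d hd j hj.1
      have h3 := jmult_add d' hd' j hj.1
      have h4 := sum_min_identity μ j hj.1
      rw [← hsum, ← hsum, ← hsum] at h4
      omega
    · exact Nat.zero_le _
  · have hcast : ∀ i, ((jmult d (i + 1) : ℕ) : ℤ) =
        2 * (d (i + 1) : ℤ) - (d i : ℤ) - (d (i + 2) : ℤ) := by
      intro i
      have := jmult_add d hd (i + 1) (by omega)
      simp only [Nat.add_sub_cancel] at this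
      have h2 : i + 1 + 1 = i + 2 := rfl
      rw [h2] at this
      omega
    have hsum' : ((∑ i ∈ Finset.range K, jmult d (i + 1) • ({i + 1} : Multiset ℕ)).sum : ℤ) =
        (a : ℤ) := by
      have h1 : (∑ i ∈ Finset.range K, jmult d (i + 1) • ({i + 1} : Multiset ℕ)).sum =
          ∑ i ∈ Finset.range K, jmult d (i + 1) * (i + 1) := by
        rw [← Multiset.coe_sumAddMonoidHom, map_sum]
        apply Finset.sum_congr rfl
        intro i _
        rw [Multiset.coe_sumAddMonoidHom, Multiset.sum_nsmul, Multiset.sum_singleton,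
          smul_eq_mul]
      rw [h1]
      push_cast
      have h2 := telescope (fun k => (d k : ℤ)) K
      rw [hdK K le_rfl, hdK (K + 1) (by omega), hd0] at h2
      simp only [hcast]
      have h3 : ((a : ℤ) - ((0 : ℕ) : ℤ) - (K : ℤ) * ((a : ℤ) - (a : ℤ))) = (a : ℤ) := by
        push_cast; ring
      rw [h3] at h2
      rw [← h2]
      apply Finset.sum_congr rfl
      intro i _
      ring
    exact_mod_cast hsum'
  · intro e he
    rw [hcount]
    split_ifs with hj
    · obtain ⟨i, rfl⟩ : ∃ i, e = i + 1 := ⟨e - 1, by omega⟩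
      have hi : Odd i := by
        rcases Nat.even_or_odd i with h | h
        · exact absurd he (Nat.not_even_iff_odd.mpr h.add_one)
        · exact h
      have hodd2 : Odd (i + 1 + 1) := by
        have : i + 1 + 1 = i + 2 := rfl
        rw [this]
        exact hi.add_even even_two
      obtain ⟨r1, hr1⟩ := hpar i hi
      obtain ⟨r2, hr2⟩ := hpar (i + 1 + 1) hodd2
      have h1 := hle i
      have h3 := hle (i + 1 + 1)
      have h4 := jmult_add d hd (i + 1) (by omega)
      simp only [Nat.add_sub_cancel] at h4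
      refine ⟨d (i + 1) + r1 + r2 - a, ?_⟩
      omega
    · exact ⟨0, rfl⟩
  · intro j hj1 hjK
    rw [hcount, if_pos ⟨hj1, hjK⟩]
    have := jmult_add d hd j hj1
    omega

variable {ι : Type} [Fintype ι] [DecidableEq ι] {F : Type*} [Field F]

/-- kernel dimensions of a restriction in ambient terms -/
theorem dker_restrict_eq {V : Type*} [AddCommGroup V] [Module F V] [FiniteDimensional F V]
    (T : Module.End F V) (W : Submodule F V) (hTW : ∀ v ∈ W, T v ∈ W) (k : ℕ) :
    dker (T.restrict hTW) k = finrank F ↥(W ⊓ LinearMap.ker (T ^ k)) := by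
  unfold dker
  have : (LinearMap.ker ((T.restrict hTW) ^ k)).map W.subtype = W ⊓ LinearMap.ker (T ^ k) := by
    ext v
    constructor
    · rintro ⟨u, hu, rfl⟩
      refine ⟨u.2, ?_⟩
      have hu' : ((T.restrict hTW) ^ k) u = 0 := hu
      have := congrArg Subtype.val hu'
      rw [restrict_pow_coe] at this
      exact this
    · rintro ⟨hvW, hvk⟩
      refine ⟨⟨v, hvW⟩, ?_, rfl⟩
      have hvk' : (T ^ k) v = 0 := hvk
      show ((T.restrict hTW) ^ k) ⟨v, hvW⟩ = 0
      apply Subtype.ext
      rw [restrict_pow_coe]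
      exact hvk'
  rw [← this]
  exact (Submodule.finrank_map_subtype_eq W _).symm

theorem jordan_sub' {Q : (ι → F) → F} (hQ : Geo.IsNondegenerateQuadraticForm Q) (h2 : (2 : F) ≠ 0)
    (x : Matrix.GeneralLinearGroup ι F) (hx : x ∈ isometryGroup F Q) (K : ℕ)
    (hK : ((x : Matrix ι ι F) - 1) ^ K = 0) (μ : Multiset ℕ)
    (hprof : ∀ k, dker (Matrix.toLin' ((x : Matrix ι ι F) - 1)) k = prof μ k)
    (W : Submodule F (ι → F)) (hWnd : Geo.IsNondegenerateOn (QuadraticMap.polar Q) W)
    (hxW : W.map (Matrix.toLin' (x : Matrix ι ι F)) ≤ W) :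
    ∃ ν : Multiset ℕ, ν ≤ μ ∧ ν.sum = finrank F W ∧ (∀ e : ℕ, Even e → Even (ν.count e)) ∧
      ∀ j, 1 ≤ j → j ≤ K →
        ν.count j + (finrank F ↥(W ⊓ LinearMap.ker
            ((Matrix.toLin' ((x : Matrix ι ι F) - 1)) ^ (j - 1))) +
          finrank F ↥(W ⊓ LinearMap.ker ((Matrix.toLin' ((x : Matrix ι ι F) - 1)) ^ (j + 1)))) =
        2 * finrank F ↥(W ⊓ LinearMap.ker ((Matrix.toLin' ((x : Matrix ι ι F) - 1)) ^ j)) := by
  classical
  set X : Module.End F (ι → F) := Matrix.toLin' (x : Matrix ι ι F) with hX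
  set Y : Module.End F (ι → F) :=
    Matrix.toLin' ((x⁻¹ : Matrix.GeneralLinearGroup ι F) : Matrix ι ι F) with hY
  set T : Module.End F (ι → F) := Matrix.toLin' ((x : Matrix ι ι F) - 1) with hT
  have hXv : ∀ v, X v = (x : Matrix ι ι F) *ᵥ v := fun v => Matrix.toLin'_apply _ v
  have hYv : ∀ v, Y v = ((x⁻¹ : Matrix.GeneralLinearGroup ι F) : Matrix ι ι F) *ᵥ v :=
    fun v => Matrix.toLin'_apply _ v
  have hXY : ∀ v, X (Y v) = v := fun v => by rw [hXv, hYv]; exact mulVec_inv_mulVec x v
  have hYX : ∀ v, Y (X v) = v := fun v => by rw [hXv, hYv]; exact inv_mulVec_mulVec x v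
  have hTX : ∀ v, T v = X v - v := by
    intro v
    rw [hT, hX, Matrix.toLin'_apply, Matrix.toLin'_apply, Matrix.sub_mulVec, Matrix.one_mulVec]
  have hTK : T ^ K = 0 := by
    rw [hT, ← Matrix.toLin'_pow, hK, map_zero]
  have hXW : ∀ v ∈ W, X v ∈ W := fun v hv => hxW (Submodule.mem_map_of_mem hv)
  have hTW : ∀ v ∈ W, T v ∈ W := fun v hv => by
    rw [hTX]; exact W.sub_mem (hXW v hv) hv
  have hYW : ∀ v ∈ W, Y v ∈ W := by
    have hinj : Function.Injective (X.restrict hXW) := by
      intro a b hab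
      have h1 : X (a : ι → F) = X (b : ι → F) := congrArg Subtype.val hab
      have h3 := congrArg Y h1
      rw [hYX, hYX] at h3
      exact Subtype.ext h3
    have hsurj : Function.Surjective (X.restrict hXW) :=
      LinearMap.injective_iff_surjective.mp hinj
    intro v hv
    obtain ⟨w, hw⟩ := hsurj ⟨v, hv⟩
    have h1 : X (w : ι → F) = v := congrArg Subtype.val hw
    rw [← h1, hYX]
    exact w.2
  set W' := orth hQ W with hW'
  have hpolX : ∀ a b, pol Q (X a) (X b) = pol Q a b := by
    intro a b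
    rw [hXv, hXv]
    exact isom_pol hx a b
  have hXW' : ∀ v ∈ W', X v ∈ W' := by
    intro v hv
    rw [hW', mem_orth] at hv ⊢
    intro w hw
    have h1 := hpolX (Y w) v
    rw [hXY] at h1
    rw [h1]
    exact hv (Y w) (hYW w hw)
  have hTW' : ∀ v ∈ W', T v ∈ W' := fun v hv => by
    rw [hTX]; exact W'.sub_mem (hXW' v hv) hv
  have hdisj : Disjoint W W' := by
    rw [Submodule.disjoint_def]
    intro v hv hv'
    by_contra hv0
    obtain ⟨⟨z, hz, hne⟩, -⟩ := hWnd v hv hv0
    rw [hW', mem_orth] at hv'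
    exact hne (hv' z hz)
  have hc : IsCompl W W' := by
    refine ⟨hdisj, ?_⟩
    rw [codisjoint_iff]
    apply Submodule.eq_top_of_disjoint
    · have := finrank_orth hQ W
      rw [Module.finrank_fintype_fun_eq_card]
      rw [hW']
      omega
    · exact hdisj
  let e := Submodule.prodEquivOfIsCompl W W' hc
  have hconj : ∀ w, T (e w) = e (((T.restrict hTW).prodMap (T.restrict hTW')) w) := by
    rintro ⟨u, u'⟩
    rw [Submodule.coe_prodEquivOfIsCompl', LinearMap.prodMap_apply,
      Submodule.coe_prodEquivOfIsCompl', map_add]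
    rfl
  have hsum : ∀ k, dker (T.restrict hTW) k + dker (T.restrict hTW') k =
      (μ.map (fun b => min b k)).sum := by
    intro k
    have := hprof k
    unfold prof at this
    rw [← this, ← dker_prodMap, dker_conj e _ T hconj]
  have hTWK : (T.restrict hTW) ^ K = 0 := by
    ext u
    rw [restrict_pow_coe, hTK]
    rfl
  have hpar : ∀ k, Odd k → Even (finrank F W - dker (T.restrict hTW) k) := by
    intro k hk
    have hres : T.restrict hTW = X.restrict hXW - 1 := by
      apply LinearMap.ext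
      intro u
      apply Subtype.ext
      show T (u : ι → F) = (X (u : ι → F) - (u : ι → F))
      exact hTX _
    rw [hres]
    apply parity_unip h2 ((polB hQ).restrict W) ?_ ?_ (X.restrict hXW) (Y.restrict hYW) ?_ ?_ ?_ ?_
      k hk
    · intro v w
      exact pol_comm Q _ _
    · intro v hv
      by_contra hv0
      have hv0' : (v : ι → F) ≠ 0 := fun h => hv0 (Subtype.ext h)
      obtain ⟨-, z, hz, hne⟩ := hWnd v v.2 hv0'
      exact hne (hv ⟨z, hz⟩)
    · apply LinearMap.ext
      intro u
      apply Subtype.ext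
      exact hXY _
    · apply LinearMap.ext
      intro u
      apply Subtype.ext
      exact hYX _
    · intro v w
      exact hpolX _ _
    · intro v hv
      have h1 : X (v : ι → F) = -(v : ι → F) := congrArg Subtype.val hv
      have h3 : T (v : ι → F) = (-2 : F) • (v : ι → F) := by
        rw [hTX, h1]
        rw [neg_smul, two_smul]
        abel
      have h4 : ∀ j : ℕ, (T ^ j) (v : ι → F) = ((-2 : F)) ^ j • (v : ι → F) := by
        intro j
        induction j with
        | zero => simp
        | succ j ih =>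
          rw [pow_succ', Module.End.mul_apply, ih, map_smul, h3, smul_smul, pow_succ]
      have h5 := h4 K
      rw [hTK, LinearMap.zero_apply] at h5
      have h6 : ((-2 : F)) ^ K ≠ 0 := pow_ne_zero _ (neg_ne_zero.mpr h2)
      have := (smul_eq_zero.mp h5.symm).resolve_left h6
      exact Subtype.ext this
  obtain ⟨ν, h1, h3, h4, h5⟩ :=
    exists_submultiset_even' (dker (T.restrict hTW)) (dker (T.restrict hTW')) μ K
    (finrank F W) (dker_concave _) (dker_concave _) (dker_zero _)
    (fun k hk => dker_eq_of_pow_eq_zero _ hTWK k hk) hsum (fun k => dker_le _ k) hpar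
  refine ⟨ν, h1, h3, h4, fun j hj1 hjK => ?_⟩
  have := h5 j hj1 hjK
  rw [dker_restrict_eq, dker_restrict_eq, dker_restrict_eq] at this
  exact this

/-- plus type from `(x-1)^2 = 0` on `W` and `2 dim ker = dim` -/
theorem plusType_of_sq_zero [Fintype F] {Q : (ι → F) → F} (hQ : Geo.IsNondegenerateQuadraticForm Q)
    (h2 : (2 : F) ≠ 0) (x : Matrix.GeneralLinearGroup ι F) (hx : x ∈ isometryGroup F Q)
    (W : Submodule F (ι → F)) (hxW : W.map (Matrix.toLin' (x : Matrix ι ι F)) ≤ W)
    (h2W : W ≤ LinearMap.ker ((Matrix.toLin' ((x : Matrix ι ι F) - 1)) ^ 2))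
    (h1W : 2 * finrank F ↥(W ⊓ LinearMap.ker (Matrix.toLin' ((x : Matrix ι ι F) - 1))) =
      finrank F W) : Geo.IsPlusTypeOn Q W := by
  classical
  set X : Module.End F (ι → F) := Matrix.toLin' (x : Matrix ι ι F) with hX
  set T : Module.End F (ι → F) := Matrix.toLin' ((x : Matrix ι ι F) - 1) with hT
  have hXv : ∀ v, X v = (x : Matrix ι ι F) *ᵥ v := fun v => Matrix.toLin'_apply _ v
  have hTX : ∀ v, T v = X v - v := by
    intro v
    rw [hT, hX, Matrix.toLin'_apply, Matrix.toLin'_apply, Matrix.sub_mulVec, Matrix.one_mulVec]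
  have hXT : ∀ v, X v = v + T v := fun v => by rw [hTX]; abel
  have hXW : ∀ v ∈ W, X v ∈ W := fun v hv => hxW (Submodule.mem_map_of_mem hv)
  have hTW : ∀ v ∈ W, T v ∈ W := fun v hv => by
    rw [hTX]; exact W.sub_mem (hXW v hv) hv
  have hpolX : ∀ a b, pol Q (X a) (X b) = pol Q a b := by
    intro a b
    rw [hXv, hXv]
    exact isom_pol hx a b
  have hTT : ∀ v ∈ W, T (T v) = 0 := by
    intro v hv
    have := h2W hv
    rw [LinearMap.mem_ker, pow_two, Module.End.mul_apply] at this
    exact this
  refine ⟨W.map T, ?_, ?_, ?_⟩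
  · rintro _ ⟨v, hv, rfl⟩
    exact hTW v hv
  · rintro _ ⟨v, hv, rfl⟩
    -- `pol (T v) (T v) = 0`
    have h1 := hpolX v (T v)
    rw [hXT v, hXT (T v), hTT v hv, add_zero, pol_add_left hQ] at h1
    have h3 : pol Q (T v) (T v) = 0 := by linear_combination h1
    rw [Q_half hQ h2, h3, zero_div]
  · have := finrank_eq_map_add_inf_ker T W
    omega

end Cfsg.Agent.Lib.Helper94.Un
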