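import Mathlib
import Cfsg.Agent.Lib.Helper94.Un12
import Cfsg.Agent.Lib.Helper43.ClassifyMinus

set_option autoImplicit false

/-!
Coordinates for the minus-type form.
-/

namespace Cfsg.Agent.Lib.Helper94.Un

open Module QuadraticMap Cfsg Cfsg.Agent.Lib.Helper99 Cfsg.Agent.Lib.Helper94
open scoped Matrix

set_option linter.unusedSectionVars false
set_option linter.unusedVariables false

universe u

variable {F : Type u} [Field F] [Fintype F]

theorem minus_coords (h2 : (2 : F) ≠ 0) (M : ℕ) {V : Type*} [AddCommGroup V] [Module F V]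
    [FiniteDimensional F V] (Q : QuadraticForm F V) (hnd : ∀ v, (∀ u, polar Q v u = 0) → v = 0)
    (hfr : finrank F V = 2 * M + 2) (L : Submodule F V) (hL : ∀ v ∈ L, Q v = 0)
    (hfrL : finrank F L = M) (u₁ u₂ : V) (hu₁L : ∀ v ∈ L, polar Q u₁ v = 0)
    (hu₂L : ∀ v ∈ L, polar Q u₂ v = 0)
    (haniso : ∀ s t : F, Q (s • u₁ + t • u₂) = 0 → s = 0 ∧ t = 0) (a b : F)
    (hab : ∀ z₁ z₂ : F, z₁ ^ 2 + a * z₁ * z₂ + b * z₂ ^ 2 = 0 → z₁ = 0 ∧ z₂ = 0) :
    ∃ Θ : V ≃ₗ[F] ((Fin M ⊕ Fin M) ⊕ Fin 2 → F), ∀ v, quadFormMinus M F a b (Θ v) = Q v := by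
  classical
  set P : Submodule F V := Submodule.span F {u₁, u₂} with hP
  have hmemP : ∀ v, v ∈ P ↔ ∃ s t : F, s • u₁ + t • u₂ = v := fun v => Submodule.mem_span_pair
  -- `P` is an anisotropic plane
  have hPaniso : ∀ v ∈ P, Q v = 0 → v = 0 := by
    intro v hv hQv
    obtain ⟨s, t, rfl⟩ := (hmemP v).mp hv
    obtain ⟨hs, ht⟩ := haniso s t hQv
    rw [hs, ht]; simp
  have hli : LinearIndependent F ![u₁, u₂] := by
    rw [LinearIndependent.pair_iff]
    intro s t hst
    apply haniso s t
    rw [hst, map_zero]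
  have hfrP : finrank F P = 2 := by
    have := finrank_span_eq_card hli
    rw [Fintype.card_fin] at this
    have hr : Set.range ![u₁, u₂] = {u₁, u₂} := by
      ext x
      simp only [Set.mem_range, Set.mem_insert_iff, Set.mem_singleton_iff]
      constructor
      · rintro ⟨i, rfl⟩
        fin_cases i
        · left; rfl
        · right; rfl
      · rintro (rfl | rfl)
        · exact ⟨0, rfl⟩
        · exact ⟨1, rfl⟩
    rw [hr] at this
    exact this
  set QP : QuadraticForm F P := Q.comp P.subtype with hQP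
  have hQPv : ∀ w : P, QP w = Q (w : V) := fun w => rfl
  obtain ⟨ΘP, hΘP⟩ := Cfsg.Agent.Lib.Helper43.ZeroCount.aniso_plane_coords_gen a b hab P QP hfrP
    (fun w hw => Subtype.ext (hPaniso w w.2 (by rw [← hQPv]; exact hw)))
  -- the orthogonal complement
  set B : LinearMap.BilinForm F V := QuadraticMap.polarBilin Q with hB
  have hBv : ∀ x y, B x y = polar Q x y := fun x y => rfl
  have hBnd : B.Nondegenerate := by
    constructor
    · intro v hv
      exact hnd v hv
    · intro v hv
      apply hnd v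
      intro w
      rw [polar_comm]
      exact hv w
  set H : Submodule F V := B.orthogonal P with hH
  have hmemH : ∀ v, v ∈ H ↔ ∀ p ∈ P, polar Q p v = 0 := fun v => Iff.rfl
  have hfrH : finrank F H = 2 * M := by
    have := LinearMap.BilinForm.finrank_orthogonal hBnd P
    rw [hfr, hfrP] at this
    rw [hH, this]
    omega
  have hHP : ∀ v, v ∈ H → v ∈ P → v = 0 := by
    intro v hvH hvP
    apply hPaniso v hvP
    have := (hmemH v).mp hvH v hvP
    rw [QuadraticMap.polar_self] at this
    have h3 : (2 : F) * Q v = 0 := by simpa using this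
    rcases mul_eq_zero.mp h3 with h | h
    · exact absurd h h2
    · exact h
  have hdisj : Disjoint H P := by
    rw [Submodule.disjoint_def]
    exact hHP
  have hsup : H ⊔ P = ⊤ := by
    apply Submodule.eq_top_of_disjoint
    · rw [hfrH, hfrP, hfr]
    · exact hdisj
  have hLH : L ≤ H := by
    intro v hv
    rw [hmemH]
    intro p hp
    obtain ⟨s, t, rfl⟩ := (hmemP p).mp hp
    rw [polar_add_left, polar_smul_left, polar_smul_left, hu₁L v hv, hu₂L v hv]
    simp
  set QH : QuadraticForm F H := Q.comp H.subtype with hQH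
  have hQHv : ∀ h : H, QH h = Q (h : V) := fun h => rfl
  have hpolH : ∀ x y : H, polar QH x y = polar Q (x : V) (y : V) := by
    intro x y
    unfold polar
    rw [hQHv, hQHv, hQHv]
    rfl
  have hndH : (QuadraticMap.polarBilin QH).Nondegenerate := by
    have key : ∀ x : H, (∀ y : H, polar QH x y = 0) → x = 0 := by
      intro x hx
      apply Subtype.ext
      apply hnd
      intro z
      have hz : z ∈ H ⊔ P := by rw [hsup]; trivial
      obtain ⟨h, hh, p, hp, rfl⟩ := Submodule.mem_sup.mp hz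
      rw [polar_add_right]
      have h1 : polar Q (x : V) h = 0 := by
        have := hx ⟨h, hh⟩
        rw [hpolH] at this
        exact this
      have h3 : polar Q (x : V) p = 0 := by
        rw [polar_comm]
        exact (hmemH _).mp x.2 p hp
      rw [h1, h3, add_zero]
    constructor
    · intro x hx
      exact key x hx
    · intro x hx
      apply key x
      intro y
      have := hx y
      rw [QuadraticMap.polarBilin_apply_apply] at this
      rw [polar_comm]
      exact this
  set L' : Submodule F H := L.comap H.subtype with hL'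
  have hfrL' : finrank F L' = M := by
    rw [← hfrL]
    exact (Submodule.comapSubtypeEquivOfLe hLH).finrank_eq
  have hL'0 : ∀ x ∈ L', QH x = 0 := by
    intro x hx
    rw [hQHv]
    exact hL _ hx
  obtain ⟨e, f, hQe, hQf, hee, hff, hef⟩ :=
    Cfsg.Agent.Lib.Helper44.hyperbolic_family M H QH hndH hfrH L' hL'0 hfrL'
  obtain ⟨ΘH, hΘH⟩ :=
    Cfsg.Agent.Lib.Helper44.hyperbolic_coords M H QH hfrH e f hQe hQf hee hff hef
  -- the inverse coordinate map
  set Ψ : ((Fin M ⊕ Fin M) ⊕ Fin 2 → F) →ₗ[F] V :=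
    H.subtype ∘ₗ (ΘH.symm : (Fin M ⊕ Fin M → F) →ₗ[F] H) ∘ₗ
        (LinearMap.funLeft F F (Sum.inl : Fin M ⊕ Fin M → (Fin M ⊕ Fin M) ⊕ Fin 2)) +
      P.subtype ∘ₗ (ΘP.symm : (Fin 2 → F) →ₗ[F] P) ∘ₗ
        (LinearMap.funLeft F F (Sum.inr : Fin 2 → (Fin M ⊕ Fin M) ⊕ Fin 2)) with hΨ
  have hΨv : ∀ c, Ψ c = ((ΘH.symm (fun t => c (Sum.inl t)) : H) : V) +
      ((ΘP.symm (fun t => c (Sum.inr t)) : P) : V) := by
    intro c
    rfl
  have hQΨ : ∀ c, Q (Ψ c) = quadFormMinus M F a b c := by
    intro c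
    rw [hΨv]
    set h : H := ΘH.symm (fun t => c (Sum.inl t)) with hh
    set p : P := ΘP.symm (fun t => c (Sum.inr t)) with hp
    have h1 : Q (h : V) = quadFormPlus M F (fun t => c (Sum.inl t)) := by
      rw [← hQHv, ← hΘH, hh, LinearEquiv.apply_symm_apply]
    have h3 : Q (p : V) = c (Sum.inr 0) ^ 2 + a * c (Sum.inr 0) * c (Sum.inr 1) +
        b * c (Sum.inr 1) ^ 2 := by
      rw [← hQPv, hp, hΘP]
    have h4 : polar Q (h : V) (p : V) = 0 := by
      rw [polar_comm]
      exact (hmemH _).mp h.2 p p.2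
    have h5 := QuadraticMap.map_add Q (h : V) (p : V)
    rw [h5, h1, h3, h4]
    unfold quadFormMinus quadFormPlus
    ring
  have hΨinj : Function.Injective Ψ := by
    rw [← LinearMap.ker_eq_bot, LinearMap.ker_eq_bot']
    intro c hc
    rw [hΨv] at hc
    set h : H := ΘH.symm (fun t => c (Sum.inl t)) with hh
    set p : P := ΘP.symm (fun t => c (Sum.inr t)) with hp
    have hhp : (h : V) = -(p : V) := eq_neg_of_add_eq_zero_left hc
    have hh0 : (h : V) = 0 := by
      apply hHP _ h.2
      rw [hhp]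
      exact P.neg_mem p.2
    have hp0 : (p : V) = 0 := by
      rw [hh0] at hhp
      exact neg_eq_zero.mp hhp.symm
    have e1 : (fun t => c (Sum.inl t)) = (0 : Fin M ⊕ Fin M → F) := by
      have : ΘH.symm (fun t => c (Sum.inl t)) = 0 := Subtype.ext hh0
      simpa using this
    have e2 : (fun t => c (Sum.inr t)) = (0 : Fin 2 → F) := by
      have : ΘP.symm (fun t => c (Sum.inr t)) = 0 := Subtype.ext hp0
      simpa using this
    funext t
    rcases t with t | t
    · exact congrFun e1 t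
    · exact congrFun e2 t
  have hdim : finrank F ((Fin M ⊕ Fin M) ⊕ Fin 2 → F) = finrank F V := by
    rw [hfr, Module.finrank_fintype_fun_eq_card]
    simp
    ring
  let ΨE : ((Fin M ⊕ Fin M) ⊕ Fin 2 → F) ≃ₗ[F] V := LinearEquiv.ofInjectiveOfFinrankEq Ψ hΨinj hdim
  refine ⟨ΨE.symm, fun v => ?_⟩
  rw [← hQΨ]
  have : Ψ (ΨE.symm v) = ΨE (ΨE.symm v) := rfl
  rw [this, LinearEquiv.apply_symm_apply]

end Cfsg.Agent.Lib.Helper94.Un
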