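import Mathlib
import Cfsg.Agent.Lib.Helper94.Un13
import Cfsg.Agent.Lib.Helper8.OrthFormsMinus

set_option autoImplicit false

/-!
Unipotent elements of `Ω⁻_{2d}(F)` with prescribed Jordan type (some odd part).
-/

namespace Cfsg.Agent.Lib.Helper94.Un

open Module QuadraticMap Cfsg Cfsg.Agent.Lib.Helper99 Cfsg.Agent.Lib.Helper94
open scoped Matrix

set_option linter.unusedSectionVars false
set_option linter.unusedVariables false

universe u

variable {F : Type u} [Field F] [Fintype F]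

theorem even_sum_of_all_even (μ : Multiset ℕ) (h : ∀ x ∈ μ, Even x) : Even μ.sum := by
  rw [even_iff_two_dvd]
  apply Multiset.dvd_sum
  intro x hx
  exact even_iff_two_dvd.mp (h x hx)

/-- a skew-adjoint nilpotent matrix for the minus-type form with prescribed kernel profile;
also the nondegeneracy of the form -/
theorem exists_skew_minus (h2 : (2 : F) ≠ 0) (d : ℕ) (hd : 1 ≤ d) (a b : F)
    (hab : ∀ z₁ z₂ : F, z₁ ^ 2 + a * z₁ * z₂ + b * z₂ ^ 2 = 0 → z₁ = 0 ∧ z₂ = 0)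
    (μ : Multiset ℕ) (hev : ∀ e, Even e → Even (μ.count e)) (hsum : μ.sum = 2 * d)
    (hodd : ∃ c ∈ μ, Odd c) :
    (∀ v : (Fin (d - 1) ⊕ Fin (d - 1)) ⊕ Fin 2 → F,
      (∀ w, pol (quadFormMinus (d - 1) F a b) v w = 0) → v = 0) ∧
    ∃ M : Matrix ((Fin (d - 1) ⊕ Fin (d - 1)) ⊕ Fin 2) ((Fin (d - 1) ⊕ Fin (d - 1)) ⊕ Fin 2) F,
      (∀ v w, pol (quadFormMinus (d - 1) F a b) (M *ᵥ v) w +
        pol (quadFormMinus (d - 1) F a b) v (M *ᵥ w) = 0) ∧
      ∀ k, dker (Matrix.toLin' M) k = prof μ k := by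
  classical
  obtain ⟨c₁, hc₁, hc₁o⟩ := hodd
  set μ₁ := μ.erase c₁ with hμ₁
  have hμeq₁ : μ = c₁ ::ₘ μ₁ := (Multiset.cons_erase hc₁).symm
  have hsum₁ : c₁ + μ₁.sum = 2 * d := by
    rw [← hsum]
    conv_rhs => rw [hμeq₁]
    simp
  have hodd₁ : ∃ c ∈ μ₁, Odd c := by
    by_contra hcon
    push Not at hcon
    have : Even μ₁.sum := even_sum_of_all_even μ₁ (fun x hx => Nat.not_odd_iff_even.mp (hcon x hx))
    obtain ⟨r, hr⟩ := this
    obtain ⟨j, hj⟩ := hc₁o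
    omega
  obtain ⟨c₂, hc₂, hc₂o⟩ := hodd₁
  set μ₀ := μ₁.erase c₂ with hμ₀
  have hμeq₂ : μ₁ = c₂ ::ₘ μ₀ := (Multiset.cons_erase hc₂).symm
  have hsum₀ : c₁ + c₂ + μ₀.sum = 2 * d := by
    rw [← hsum₁]
    conv_rhs => rw [hμeq₂]
    simp
    ring
  have hev₀ : ∀ e, Even e → Even (μ₀.count e) := by
    intro e he
    have h1 : e ≠ c₁ := by rintro rfl; exact (Nat.not_even_iff_odd.mpr hc₁o) he
    have h3 : e ≠ c₂ := by rintro rfl; exact (Nat.not_even_iff_odd.mpr hc₂o) he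
    rw [hμ₀, Multiset.count_erase_of_ne h3, hμ₁, Multiset.count_erase_of_ne h1]
    exact hev e he
  obtain ⟨j₁, hj₁⟩ := hc₁o
  obtain ⟨j₂, hj₂⟩ := hc₂o
  have hs₀ : Even μ₀.sum := ⟨d - j₁ - j₂ - 1, by omega⟩
  -- a nonsquare
  have hchar : ringChar F ≠ 2 := by
    intro h
    have : ((ringChar F : ℕ) : F) = 0 := ringChar.Nat.cast_ringChar
    rw [h] at this
    exact h2 (by exact_mod_cast this)
  obtain ⟨ε, hε⟩ := FiniteField.exists_nonsquare hchar
  have hε0 : ε ≠ 0 := by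
    rintro rfl
    exact hε ⟨0, by simp⟩
  obtain ⟨Q₁, N₁, L₁, w₁, hS₁, hL₁, hfr₁, hw₁, hwL₁⟩ :=
    isOddData_block (F := F) j₁ h2 1 one_ne_zero
  obtain ⟨Q₂, N₂, L₂, w₂, hS₂, hL₂, hfr₂, hw₂, hwL₂⟩ :=
    isOddData_block (F := F) j₂ h2 (-ε) (neg_ne_zero.mpr hε0)
  obtain ⟨Q₀, N₀, L₀, hS₀, hL₀, hfr₀⟩ :=
    (realize (F := F) h2 _ μ₀ μ₀.sum rfl rfl hev₀).1 hs₀
  rw [Module.finrank_fintype_fun_eq_card, Fintype.card_fin] at hfr₁ hfr₂ hfr₀
  set Q := (Q₁.prod Q₂).prod Q₀ with hQ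
  set N := (N₁.prodMap N₂).prodMap N₀ with hN
  have hS : IsSkewData Q N (({2 * j₁ + 1} + {2 * j₂ + 1}) + μ₀) := (hS₁.prod hS₂).prod hS₀
  have hμtot : ({2 * j₁ + 1} + {2 * j₂ + 1}) + μ₀ = μ := by
    rw [hμeq₁, hμeq₂, hj₁, hj₂, add_assoc, Multiset.singleton_add, Multiset.singleton_add]
  rw [hμtot] at hS
  set L := (L₁.prod L₂).prod L₀ with hLdef
  have hLts : ∀ v ∈ L, Q v = 0 := by
    rintro ⟨⟨x₁, x₂⟩, x₀⟩ ⟨⟨h1, h3⟩, h0⟩
    rw [hQ, QuadraticMap.prod_apply, QuadraticMap.prod_apply]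
    simp only at h1 h3 h0
    rw [hL₁ x₁ h1, hL₂ x₂ h3, hL₀ x₀ h0]
    ring
  have hfrL : finrank F L = d - 1 := by
    rw [hLdef, finrank_prod_sub, finrank_prod_sub]
    omega
  have hfrV : finrank F (((Fin (2 * j₁ + 1) → F) × (Fin (2 * j₂ + 1) → F)) × (Fin μ₀.sum → F)) =
      2 * (d - 1) + 2 := by
    simp only [Module.finrank_prod, Module.finrank_fintype_fun_eq_card, Fintype.card_fin]
    omega
  set u₁ : ((Fin (2 * j₁ + 1) → F) × (Fin (2 * j₂ + 1) → F)) × (Fin μ₀.sum → F) :=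
    ((w₁, 0), 0) with hu₁
  set u₂ : ((Fin (2 * j₁ + 1) → F) × (Fin (2 * j₂ + 1) → F)) × (Fin μ₀.sum → F) :=
    ((0, w₂), 0) with hu₂
  have hu₁L : ∀ v ∈ L, polar Q u₁ v = 0 := by
    rintro ⟨⟨x₁, x₂⟩, x₀⟩ ⟨⟨h1, h3⟩, h0⟩
    rw [hQ, polar_prod', polar_prod']
    simp only [hu₁]
    simp only at h1
    rw [hwL₁ x₁ h1]
    simp [polar]
  have hu₂L : ∀ v ∈ L, polar Q u₂ v = 0 := by
    rintro ⟨⟨x₁, x₂⟩, x₀⟩ ⟨⟨h1, h3⟩, h0⟩
    rw [hQ, polar_prod', polar_prod']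
    simp only [hu₂]
    simp only at h3
    rw [hwL₂ x₂ h3]
    simp [polar]
  have haniso : ∀ s t : F, Q (s • u₁ + t • u₂) = 0 → s = 0 ∧ t = 0 := by
    intro s t hst
    have hval : Q (s • u₁ + t • u₂) = s * s - ε * (t * t) := by
      rw [hQ, QuadraticMap.prod_apply, QuadraticMap.prod_apply]
      simp only [hu₁, hu₂, Prod.smul_mk, smul_zero, Prod.mk_add_mk, add_zero, zero_add,
        Prod.fst, Prod.snd]
      rw [QuadraticMap.map_smul, QuadraticMap.map_smul, hw₁, hw₂, map_zero]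
      simp only [smul_eq_mul]
      ring
    rw [hval] at hst
    have ht : t = 0 := by
      by_contra ht
      apply hε
      refine ⟨s / t, ?_⟩
      field_simp
      linear_combination -hst
    rw [ht] at hst
    have hs : s * s = 0 := by linear_combination hst
    exact ⟨mul_self_eq_zero.mp hs, ht⟩
  obtain ⟨Θ, hΘ⟩ := minus_coords h2 (d - 1) Q hS.nondeg hfrV L hLts hfrL u₁ u₂ hu₁L hu₂L haniso
    a b hab
  have hpol : ∀ x y : (Fin (d - 1) ⊕ Fin (d - 1)) ⊕ Fin 2 → F,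
      pol (quadFormMinus (d - 1) F a b) x y = polar Q (Θ.symm x) (Θ.symm y) := by
    intro x y
    unfold pol polar
    rw [← hΘ, ← hΘ, ← hΘ, map_add]
    simp only [LinearEquiv.apply_symm_apply]
  refine ⟨?_, LinearMap.toMatrix' (Θ.conj N), ?_, ?_⟩
  · intro v hv
    have : Θ.symm v = 0 := by
      apply hS.nondeg
      intro w
      have := hv (Θ w)
      rw [hpol, LinearEquiv.symm_apply_apply] at this
      exact this
    simpa using this
  · intro v w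
    rw [hpol, hpol, ← Matrix.toLin'_apply, ← Matrix.toLin'_apply, Matrix.toLin'_toMatrix',
      LinearEquiv.conj_apply_apply, LinearEquiv.conj_apply_apply, LinearEquiv.symm_apply_apply,
      LinearEquiv.symm_apply_apply]
    exact hS.skew _ _
  · intro k
    rw [Matrix.toLin'_toMatrix', ← hS.prof k]
    exact dker_conj Θ N (Θ.conj N) (fun w => by rw [LinearEquiv.conj_apply_apply,
      LinearEquiv.symm_apply_apply]) k

theorem nondeg_quadFormMinus (h2 : (2 : F) ≠ 0) (d : ℕ) (hd : 1 ≤ d) (a b : F)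
    (hab : ∀ z₁ z₂ : F, z₁ ^ 2 + a * z₁ * z₂ + b * z₂ ^ 2 = 0 → z₁ = 0 ∧ z₂ = 0) :
    Geo.IsNondegenerateQuadraticForm (quadFormMinus (d - 1) F a b) := by
  obtain ⟨hnd, -⟩ := exists_skew_minus h2 d hd a b hab (Multiset.replicate (2 * d) 1)
    (by
      intro e he
      have : e ≠ 1 := by rintro rfl; exact absurd he (by decide)
      rw [Multiset.count_replicate, if_neg (Ne.symm this)]
      exact ⟨0, rfl⟩)
    (by simp)
    ⟨1, by rw [Multiset.mem_replicate]; exact ⟨by omega, rfl⟩, by decide⟩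
  have hnd' : (QuadraticMap.polarBilin (Cfsg.Agent.Lib.Helper8.minusForm (d - 1) F a b)).Nondegenerate := by
    have key : ∀ v, (∀ w, polar (⇑(Cfsg.Agent.Lib.Helper8.minusForm (d - 1) F a b)) v w = 0) → v = 0 := by
      intro v hv
      apply hnd v
      intro w
      have := hv w
      rw [← Cfsg.Agent.Lib.Helper8.minusForm_coe] at this
      exact this
    constructor
    · intro v hv
      exact key v hv
    · intro v hv
      apply key v
      intro w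
      have := hv w
      rw [QuadraticMap.polarBilin_apply_apply] at this
      rw [polar_comm]
      exact this
  have := isNondeg_of_QF (Cfsg.Agent.Lib.Helper8.minusForm (d - 1) F a b) hnd'
  rwa [← Cfsg.Agent.Lib.Helper8.minusForm_coe] at this

/-- unipotent elements of `Ω⁻` with prescribed kernel profile -/
theorem exists_unipotent_minus (h2 : (2 : F) ≠ 0) (d : ℕ) (hd : 1 ≤ d) (a b : F)
    (hab : ∀ z₁ z₂ : F, z₁ ^ 2 + a * z₁ * z₂ + b * z₂ ^ 2 = 0 → z₁ = 0 ∧ z₂ = 0)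
    (μ : Multiset ℕ) (hev : ∀ e, Even e → Even (μ.count e)) (hsum : μ.sum = 2 * d)
    (hodd : ∃ c ∈ μ, Odd c) :
    ∃ x : Matrix.GeneralLinearGroup ((Fin (d - 1) ⊕ Fin (d - 1)) ⊕ Fin 2) F,
      x ∈ Geo.omegaGL (quadFormMinus (d - 1) F a b) ∧
      ∀ k, dker (Matrix.toLin' ((x : Matrix ((Fin (d - 1) ⊕ Fin (d - 1)) ⊕ Fin 2)
        ((Fin (d - 1) ⊕ Fin (d - 1)) ⊕ Fin 2) F) - 1)) k = prof μ k := by
  classical
  obtain ⟨-, M, hskew, hprof⟩ := exists_skew_minus h2 d hd a b hab μ hev hsum hodd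
  have hcard : μ.sum = Fintype.card ((Fin (d - 1) ⊕ Fin (d - 1)) ⊕ Fin 2) := by
    rw [hsum]; simp; omega
  have hK : M ^ μ.sum = 0 :=
    pow_eq_zero_of_prof M μ hprof hcard μ.sum (fun b hb => Multiset.le_sum_of_mem hb)
  obtain ⟨x, hxΩ, U, hUM, hxU⟩ :=
    exists_cayley_sq (nondeg_quadFormMinus h2 d hd a b hab) h2 M hskew μ.sum hK
  refine ⟨x, hxΩ, fun k => ?_⟩
  rw [dker_unit_mul U M _ hUM hxU k, hprof]

end Cfsg.Agent.Lib.Helper94.Un
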