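import Mathlib
import Cfsg.Agent.Lib.Helper37.MBalDefs

/-!
# S2733 hive (helper37): leaf MB-G2C `cent_sqrt`

A semilinear semi-similarity commuting with the part of `Ω` centralizing a self-adjoint `g` with
`g² = lam` (`lam` a non-square) is a scalar times `1` or `g`.
-/

set_option autoImplicit false

namespace Cfsg.Agent.Lib.Helper37.MBal

universe u v

section g2c

variable {K : Type u} [Field K] {V : Type v} [AddCommGroup V] [Module K V]

/-- the discriminant of the plane `⟨v, g v⟩` -/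
def g2c_dd (B : LinearMap.BilinForm K V) (g : V →ₗ[K] V) (lam : K) (v : V) : K :=
  lam * (B v v) ^ 2 - (B v (g v)) ^ 2

/-- coefficient of `v` in the projection of `y` onto `⟨v, g v⟩` -/
noncomputable def g2c_al (B : LinearMap.BilinForm K V) (g : V →ₗ[K] V) (lam : K) (v y : V) : K :=
  (lam * B v v * B y v - B v (g v) * B y (g v)) / g2c_dd B g lam v

/-- coefficient of `g v` in the projection of `y` onto `⟨v, g v⟩` -/
noncomputable def g2c_be (B : LinearMap.BilinForm K V) (g : V →ₗ[K] V) (lam : K) (v y : V) : K :=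
  (B v v * B y (g v) - B v (g v) * B y v) / g2c_dd B g lam v

/-- the second vector of an orthogonal basis of `⟨v, g v⟩` -/
def g2c_bv (B : LinearMap.BilinForm K V) (g : V →ₗ[K] V) (v : V) : V :=
  B v v • g v - B v (g v) • v

/-- `-1` on `⟨v, g v⟩`, `1` on the orthogonal complement (for `B v v ≠ 0`) -/
noncomputable def g2c_rho (B : LinearMap.BilinForm K V) (g : V →ₗ[K] V) (v : V) : V ≃ₗ[K] V :=
  reflE B v * reflE B (g2c_bv B g v)

variable {B : LinearMap.BilinForm K V} {g : V →ₗ[K] V} {lam : K}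

theorem g2c_lam_ne_zero (hlam : ¬ IsSquare lam) : lam ≠ 0 := by
  rintro rfl
  exact hlam ⟨0, by simp⟩

theorem g2c_lam_ne_one (hlam : ¬ IsSquare lam) : lam ≠ 1 := by
  rintro rfl
  exact hlam ⟨1, by simp⟩

theorem g2c_dd_ne_zero (hlam : ¬ IsSquare lam) {v : V}
    (hv : B v v ≠ 0 ∨ B v (g v) ≠ 0) : g2c_dd B g lam v ≠ 0 := by
  intro h
  unfold g2c_dd at h
  by_cases hp : B v v = 0
  · rw [hp] at h
    have : B v (g v) = 0 := by
      have h' : (B v (g v)) ^ 2 = 0 := by linear_combination -h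
      exact pow_eq_zero_iff (two_ne_zero) |>.mp h'
    rcases hv with hv | hv
    · exact hv hp
    · exact hv this
  · apply hlam
    refine ⟨B v (g v) / B v v, ?_⟩
    field_simp
    linear_combination h

theorem g2c_B_g_g (hg : ∀ v, g (g v) = lam • v)
    (hadj : ∀ x y, B (g x) y = B x (g y)) (x y : V) : B (g x) (g y) = lam * B x y := by
  rw [hadj, hg, map_smul, smul_eq_mul]

theorem g2c_B_bv_left (hs : B.IsSymm) (v : V) : B (g2c_bv B g v) v = 0 := by
  unfold g2c_bv
  simp only [map_sub, map_smul, LinearMap.sub_apply, LinearMap.smul_apply, smul_eq_mul]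
  rw [hs.eq (g v) v]
  ring

theorem g2c_B_y_bv (y v : V) :
    B y (g2c_bv B g v) = B v v * B y (g v) - B v (g v) * B y v := by
  unfold g2c_bv
  simp only [map_sub, map_smul, smul_eq_mul]

theorem g2c_B_bv_bv (hs : B.IsSymm) (hg : ∀ v, g (g v) = lam • v)
    (hadj : ∀ x y, B (g x) y = B x (g y)) (v : V) :
    B (g2c_bv B g v) (g2c_bv B g v) = B v v * g2c_dd B g lam v := by
  rw [g2c_B_y_bv]
  unfold g2c_bv g2c_dd
  simp only [map_sub, map_smul, LinearMap.sub_apply, LinearMap.smul_apply, smul_eq_mul]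
  rw [g2c_B_g_g hg hadj, hs.eq (g v) v]
  ring

theorem g2c_rho_apply (h2 : (2 : K) ≠ 0) (hs : B.IsSymm) (hlam : ¬ IsSquare lam)
    (hg : ∀ v, g (g v) = lam • v) (hadj : ∀ x y, B (g x) y = B x (g y))
    {v : V} (hv : B v v ≠ 0) (y : V) :
    g2c_rho B g v y = y - (2 * g2c_al B g lam v y) • v - (2 * g2c_be B g lam v y) • g v := by
  have hd : g2c_dd B g lam v ≠ 0 := g2c_dd_ne_zero hlam (Or.inl hv)
  unfold g2c_rho
  rw [LinearEquiv.mul_apply, reflE_apply, reflE_apply]
  have h1 : B (y - B y (g2c_bv B g v) • (2 * (B (g2c_bv B g v) (g2c_bv B g v))⁻¹) • g2c_bv B g v) v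
      = B y v := by
    simp only [map_sub, map_smul, LinearMap.sub_apply, LinearMap.smul_apply, smul_eq_mul,
      g2c_B_bv_left hs]
    ring
  rw [h1, g2c_B_bv_bv hs hg hadj, g2c_B_y_bv]
  unfold g2c_al g2c_be g2c_bv
  set p := B v v
  set r := B v (g v)
  set Y0 := B y v
  set Y1 := B y (g v)
  set d := g2c_dd B g lam v with hdd
  have hdv : d = lam * p ^ 2 - r ^ 2 := rfl
  clear_value d p r Y0 Y1
  have hl : lam = (d + r ^ 2) / p ^ 2 := by
    field_simp
    linear_combination -hdv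
  clear hdv hdd hlam hg h1
  subst hl
  match_scalars <;> field_simp <;> ring

theorem g2c_al_g (hg : ∀ v, g (g v) = lam • v)
    (hadj : ∀ x y, B (g x) y = B x (g y)) (v y : V) :
    g2c_al B g lam v (g y) = lam * g2c_be B g lam v y := by
  unfold g2c_al g2c_be
  rw [hadj y v, g2c_B_g_g hg hadj]
  ring

theorem g2c_be_g (hg : ∀ v, g (g v) = lam • v)
    (hadj : ∀ x y, B (g x) y = B x (g y)) (v y : V) :
    g2c_be B g lam v (g y) = g2c_al B g lam v y := by
  unfold g2c_al g2c_be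
  rw [hadj y v, g2c_B_g_g hg hadj]
  ring

/-- `ρ_v` commutes with `g` -/
theorem g2c_rho_comm (h2 : (2 : K) ≠ 0) (hs : B.IsSymm) (hlam : ¬ IsSquare lam)
    (hg : ∀ v, g (g v) = lam • v) (hadj : ∀ x y, B (g x) y = B x (g y))
    {v : V} (hv : B v v ≠ 0) (y : V) :
    g2c_rho B g v (g y) = g (g2c_rho B g v y) := by
  rw [g2c_rho_apply h2 hs hlam hg hadj hv, g2c_rho_apply h2 hs hlam hg hadj hv,
    g2c_al_g hg hadj, g2c_be_g hg hadj]
  simp only [map_sub, map_smul, hg]
  module

/-- `v, g v` are independent for `v ≠ 0` -/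
theorem g2c_indep (hlam : ¬ IsSquare lam) (hg : ∀ v, g (g v) = lam • v) {v : V} (hv : v ≠ 0)
    {a b : K} (h : a • v + b • g v = 0) : a = 0 ∧ b = 0 := by
  by_cases hb : b = 0
  · subst hb
    simp only [zero_smul, add_zero, smul_eq_zero] at h
    exact ⟨h.resolve_right hv, rfl⟩
  · exfalso
    have h1 : g v = (-(a / b)) • v := by
      have : b • g v = -(a • v) := by
        rw [eq_neg_iff_add_eq_zero, add_comm]; exact h
      calc g v = b⁻¹ • (b • g v) := by rw [smul_smul, inv_mul_cancel₀ hb, one_smul]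
        _ = (-(a / b)) • v := by rw [this]; module
    have h2 : lam • v = ((-(a / b)) * (-(a / b))) • v := by
      rw [← hg v]
      conv_lhs => rw [h1, map_smul, h1, smul_smul]
    have h3 : (lam - (-(a / b)) * (-(a / b))) • v = 0 := by
      rw [sub_smul, h2, sub_self]
    rcases smul_eq_zero.mp h3 with h4 | h4
    · exact hlam ⟨-(a / b), by linear_combination h4⟩
    · exact hv h4

/-- the plane `⟨v, g v⟩` -/
def g2c_P (g : V →ₗ[K] V) (v : V) : Submodule K V := Submodule.span K {v, g v}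

theorem g2c_mem_P {g : V →ₗ[K] V} {v y : V} :
    y ∈ g2c_P g v ↔ ∃ a b : K, y = a • v + b • g v := by
  unfold g2c_P
  rw [Submodule.mem_span_pair]
  constructor
  · rintro ⟨a, b, h⟩; exact ⟨a, b, h.symm⟩
  · rintro ⟨a, b, h⟩; exact ⟨a, b, h.symm⟩

theorem g2c_self_mem_P (g : V →ₗ[K] V) (v : V) : v ∈ g2c_P g v :=
  g2c_mem_P.mpr ⟨1, 0, by simp⟩

theorem g2c_g_mem_P (hg : ∀ v, g (g v) = lam • v) {v y : V} (hy : y ∈ g2c_P g v) :
    g y ∈ g2c_P g v := by
  obtain ⟨a, b, rfl⟩ := g2c_mem_P.mp hy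
  refine g2c_mem_P.mpr ⟨b * lam, a, ?_⟩
  simp only [map_add, map_smul, hg]
  module

theorem g2c_P_le (hg : ∀ v, g (g v) = lam • v) {v y : V} (hy : y ∈ g2c_P g v) :
    g2c_P g y ≤ g2c_P g v := by
  unfold g2c_P
  rw [Submodule.span_le]
  intro z hz
  rcases hz with rfl | hz
  · exact hy
  · rw [Set.mem_singleton_iff] at hz
    subst hz
    exact g2c_g_mem_P hg hy

theorem g2c_P_eq (hlam : ¬ IsSquare lam) (hg : ∀ v, g (g v) = lam • v) {v y : V}
    (hy : y ∈ g2c_P g v) (hy0 : y ≠ 0) : g2c_P g y = g2c_P g v := by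
  refine le_antisymm (g2c_P_le hg hy) ?_
  apply g2c_P_le hg
  obtain ⟨a, b, rfl⟩ := g2c_mem_P.mp hy
  have hN : a ^ 2 - lam * b ^ 2 ≠ 0 := by
    intro h
    by_cases hb : b = 0
    · subst hb
      have : a = 0 := by
        have : a ^ 2 = 0 := by linear_combination h
        exact pow_eq_zero_iff two_ne_zero |>.mp this
      subst this
      simp at hy0
    · exact hlam ⟨a / b, by field_simp; linear_combination -h⟩
  refine g2c_mem_P.mpr ⟨a / (a ^ 2 - lam * b ^ 2), -b / (a ^ 2 - lam * b ^ 2), ?_⟩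
  simp only [map_add, map_smul, hg]
  match_scalars <;> (field_simp; ring)

/-- `⟨v, g v⟩` is nondegenerate when `v` is nonsingular over `K[g]` -/
theorem g2c_nd (hs : B.IsSymm) (hlam : ¬ IsSquare lam) (hg : ∀ v, g (g v) = lam • v)
    (hadj : ∀ x y, B (g x) y = B x (g y)) {v : V} (hv : B v v ≠ 0 ∨ B v (g v) ≠ 0)
    {u : V} (hu : u ∈ g2c_P g v) (h1 : B u v = 0) (h2 : B u (g v) = 0) : u = 0 := by
  have hd : g2c_dd B g lam v ≠ 0 := g2c_dd_ne_zero hlam hv
  obtain ⟨a, b, rfl⟩ := g2c_mem_P.mp hu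
  simp only [map_add, map_smul, LinearMap.add_apply, LinearMap.smul_apply, smul_eq_mul,
    g2c_B_g_g hg hadj] at h1 h2
  rw [hs.eq (g v) v] at h1
  unfold g2c_dd at hd
  have ha : a * (lam * (B v v) ^ 2 - (B v (g v)) ^ 2) = 0 := by
    linear_combination (lam * B v v) * h1 - (B v (g v)) * h2
  have hb : b * (lam * (B v v) ^ 2 - (B v (g v)) ^ 2) = 0 := by
    linear_combination (B v v) * h2 - (B v (g v)) * h1
  rw [mul_eq_zero] at ha hb
  rw [ha.resolve_right hd, hb.resolve_right hd]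
  simp

theorem g2c_ne_zero_of_ns {v : V} (hv : B v v ≠ 0 ∨ B v (g v) ≠ 0) : v ≠ 0 := by
  rintro rfl
  simp at hv

/-- the orthogonal projection to `⟨v, g v⟩` -/
theorem g2c_proj_perp (hs : B.IsSymm) (hlam : ¬ IsSquare lam) (hg : ∀ v, g (g v) = lam • v)
    (hadj : ∀ x y, B (g x) y = B x (g y)) {v : V} (hv : B v v ≠ 0 ∨ B v (g v) ≠ 0) (y : V) :
    B (y - g2c_al B g lam v y • v - g2c_be B g lam v y • g v) v = 0 ∧
    B (y - g2c_al B g lam v y • v - g2c_be B g lam v y • g v) (g v) = 0 := by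
  have hd : g2c_dd B g lam v ≠ 0 := g2c_dd_ne_zero hlam hv
  simp only [map_sub, map_smul, LinearMap.sub_apply, LinearMap.smul_apply, smul_eq_mul,
    g2c_B_g_g hg hadj]
  rw [hs.eq (g v) v]
  unfold g2c_al g2c_be
  unfold g2c_dd at hd ⊢
  constructor <;> (field_simp; ring)

theorem g2c_rho_fix (h2 : (2 : K) ≠ 0) (hs : B.IsSymm) (hlam : ¬ IsSquare lam)
    (hg : ∀ v, g (g v) = lam • v) (hadj : ∀ x y, B (g x) y = B x (g y))
    {v : V} (hv : B v v ≠ 0) {y : V} (h1 : B y v = 0) (h2' : B y (g v) = 0) :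
    g2c_rho B g v y = y := by
  rw [g2c_rho_apply h2 hs hlam hg hadj hv]
  unfold g2c_al g2c_be
  rw [h1, h2']
  simp

theorem g2c_rho_sub_mem (h2 : (2 : K) ≠ 0) (hs : B.IsSymm) (hlam : ¬ IsSquare lam)
    (hg : ∀ v, g (g v) = lam • v) (hadj : ∀ x y, B (g x) y = B x (g y))
    {v : V} (hv : B v v ≠ 0) (y : V) :
    g2c_rho B g v y - y ∈ g2c_P g v := by
  rw [g2c_rho_apply h2 hs hlam hg hadj hv]
  refine g2c_mem_P.mpr ⟨-(2 * g2c_al B g lam v y), -(2 * g2c_be B g lam v y), ?_⟩
  module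

theorem g2c_rho_eq_self (h2 : (2 : K) ≠ 0) (hs : B.IsSymm) (hlam : ¬ IsSquare lam)
    (hg : ∀ v, g (g v) = lam • v) (hadj : ∀ x y, B (g x) y = B x (g y))
    {v : V} (hv : B v v ≠ 0) {y : V} (h : g2c_rho B g v y = y) :
    B y v = 0 ∧ B y (g v) = 0 := by
  have hd : g2c_dd B g lam v ≠ 0 := g2c_dd_ne_zero hlam (Or.inl hv)
  rw [g2c_rho_apply h2 hs hlam hg hadj hv] at h
  have h' : (2 * g2c_al B g lam v y) • v + (2 * g2c_be B g lam v y) • g v = 0 := by
    have : y - (y - (2 * g2c_al B g lam v y) • v - (2 * g2c_be B g lam v y) • g v) = y - y := by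
      rw [h]
    rw [sub_self] at this
    rw [← this]
    module
  have hv0 : v ≠ 0 := g2c_ne_zero_of_ns (g := g) (Or.inl hv)
  obtain ⟨ha, hb⟩ := g2c_indep hlam hg hv0 h'
  have ha' : g2c_al B g lam v y = 0 := (mul_eq_zero.mp ha).resolve_left h2
  have hb' : g2c_be B g lam v y = 0 := (mul_eq_zero.mp hb).resolve_left h2
  unfold g2c_al at ha'
  unfold g2c_be at hb'
  rw [div_eq_zero_iff] at ha' hb'
  have ha'' := ha'.resolve_right hd
  have hb'' := hb'.resolve_right hd
  unfold g2c_dd at hd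
  constructor
  · have : B y v * (lam * (B v v) ^ 2 - (B v (g v)) ^ 2) = 0 := by
      linear_combination (B v v) * ha'' + (B v (g v)) * hb''
    exact (mul_eq_zero.mp this).resolve_right hd
  · have : B y (g v) * (lam * (B v v) ^ 2 - (B v (g v)) ^ 2) = 0 := by
      linear_combination (B v (g v)) * ha'' + (lam * B v v) * hb''
    exact (mul_eq_zero.mp this).resolve_right hd

/-- the hypotheses of `cent_sqrt` (except the dimension) -/
structure g2c_Hyp (B : LinearMap.BilinForm K V) (g : V →ₗ[K] V) (lam : K) (τ : K ≃+* K)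
    (s : V → V) (ν : K) : Prop where
  h2 : (2 : K) ≠ 0
  hs : B.IsSymm
  hnd : B.Nondegenerate
  hlam : ¬ IsSquare lam
  hg : ∀ v, g (g v) = lam • v
  hadj : ∀ x y, B (g x) y = B x (g y)
  hadd : ∀ u w, s (u + w) = s u + s w
  hsmul : ∀ (c : K) v, s (c • v) = τ c • s v
  hinj : Function.Injective s
  hν : ∀ u w, B (s u) (s w) = ν * τ (B u w)
  hcomm : ∀ l : List V, (∀ u ∈ l, B u u ≠ 0) → Even l.length →
      IsSquare (l.map (fun u => B u u)).prod →
      (∀ v, (l.map (fun u => reflE B u)).prod (g v) = g ((l.map (fun u => reflE B u)).prod v)) →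
      ∀ v, s ((l.map (fun u => reflE B u)).prod v) = (l.map (fun u => reflE B u)).prod (s v)

namespace g2c_Hyp

variable {τ : K ≃+* K} {s : V → V} {ν : K}

theorem s_zero (H : g2c_Hyp B g lam τ s ν) : s 0 = 0 := by
  have := H.hadd 0 0
  rw [add_zero] at this
  exact left_eq_add.mp this

theorem s_neg (H : g2c_Hyp B g lam τ s ν) (x : V) : s (-x) = - s x := by
  have := H.hadd x (-x)
  rw [add_neg_cancel, H.s_zero] at this
  exact (neg_eq_of_add_eq_zero_right this.symm).symm

theorem s_sub (H : g2c_Hyp B g lam τ s ν) (x y : V) : s (x - y) = s x - s y := by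
  rw [sub_eq_add_neg, H.hadd, H.s_neg, ← sub_eq_add_neg]

theorem s_ne_zero (H : g2c_Hyp B g lam τ s ν) {x : V} (hx : x ≠ 0) : s x ≠ 0 := by
  intro h
  apply hx
  apply H.hinj
  rw [h, H.s_zero]

/-- `s` commutes with `ρ_x ρ_y` when `x`, `y` have the same invariants -/
theorem comm_pair (H : g2c_Hyp B g lam τ s ν) {x y : V} (hx : B x x ≠ 0)
    (hy1 : B y y = B x x) (hy2 : B y (g y) = B x (g x)) (z : V) :
    s (g2c_rho B g x (g2c_rho B g y z)) = g2c_rho B g x (g2c_rho B g y (s z)) := by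
  have hy : B y y ≠ 0 := by rw [hy1]; exact hx
  have hdx : g2c_dd B g lam x ≠ 0 := g2c_dd_ne_zero H.hlam (Or.inl hx)
  have hdy : g2c_dd B g lam y = g2c_dd B g lam x := by
    unfold g2c_dd; rw [hy1, hy2]
  have hl : (([x, g2c_bv B g x, y, g2c_bv B g y] : List V).map (fun u => reflE B u)).prod
      = g2c_rho B g x * g2c_rho B g y := by
    simp [g2c_rho, mul_assoc]
  have := H.hcomm [x, g2c_bv B g x, y, g2c_bv B g y] ?_ ?_ ?_ ?_ z
  · rw [hl] at this
    simpa [LinearEquiv.mul_apply] using this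
  · intro u hu
    simp only [List.mem_cons, List.not_mem_nil, or_false] at hu
    rcases hu with rfl | rfl | rfl | rfl
    · exact hx
    · rw [g2c_B_bv_bv H.hs H.hg H.hadj]; exact mul_ne_zero hx hdx
    · exact hy
    · rw [g2c_B_bv_bv H.hs H.hg H.hadj, hdy]; exact mul_ne_zero hy hdx
  · exact ⟨2, rfl⟩
  · refine ⟨B x x * (B x x * g2c_dd B g lam x), ?_⟩
    simp only [List.map_cons, List.map_nil, List.prod_cons, List.prod_nil, mul_one]
    rw [g2c_B_bv_bv H.hs H.hg H.hadj, g2c_B_bv_bv H.hs H.hg H.hadj, hdy, hy1]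
    ring
  · intro w
    rw [hl]
    simp only [LinearEquiv.mul_apply]
    rw [g2c_rho_comm H.h2 H.hs H.hlam H.hg H.hadj hy, g2c_rho_comm H.h2 H.hs H.hlam H.hg H.hadj hx]

theorem mem_orth_iff (H : g2c_Hyp B g lam τ s ν) {x y z : V} :
    z ∈ B.orthogonal (g2c_P g x ⊔ g2c_P g y) ↔
      (B z x = 0 ∧ B z (g x) = 0) ∧ (B z y = 0 ∧ B z (g y) = 0) := by
  rw [LinearMap.BilinForm.mem_orthogonal_iff]
  constructor
  · intro h
    have hx := h x (Submodule.mem_sup_left (g2c_self_mem_P g x))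
    have hgx := h (g x) (Submodule.mem_sup_left (g2c_g_mem_P H.hg (g2c_self_mem_P g x)))
    have hy := h y (Submodule.mem_sup_right (g2c_self_mem_P g y))
    have hgy := h (g y) (Submodule.mem_sup_right (g2c_g_mem_P H.hg (g2c_self_mem_P g y)))
    rw [H.hs.eq] at hx hgx hy hgy
    exact ⟨⟨hx, hgx⟩, ⟨hy, hgy⟩⟩
  · rintro ⟨⟨h1, h2⟩, ⟨h3, h4⟩⟩ n hn
    obtain ⟨n1, hn1, n2, hn2, rfl⟩ := Submodule.mem_sup.mp hn
    obtain ⟨a, b, rfl⟩ := g2c_mem_P.mp hn1
    obtain ⟨c, d, rfl⟩ := g2c_mem_P.mp hn2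
    simp only [map_add, map_smul, LinearMap.add_apply, LinearMap.smul_apply, smul_eq_mul]
    rw [H.hs.eq x z, H.hs.eq (g x) z, H.hs.eq y z, H.hs.eq (g y) z, h1, h2, h3, h4]
    ring

/-- `s` preserves `⟨x, g x⟩ + ⟨y, g y⟩` when `x`, `y` have the same invariants -/
theorem plane_inv_xy [Finite K] [FiniteDimensional K V] (H : g2c_Hyp B g lam τ s ν) {x y : V}
    (hx : B x x ≠ 0) (hy1 : B y y = B x x) (hy2 : B y (g y) = B x (g x))
    (hdisj : ∀ u, u ∈ g2c_P g x → u ∈ g2c_P g y → u = 0) :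
    ∀ p ∈ g2c_P g x ⊔ g2c_P g y, s p ∈ g2c_P g x ⊔ g2c_P g y := by
  haveI : Finite V := Module.finite_of_finite K
  have hy : B y y ≠ 0 := by rw [hy1]; exact hx
  set Pi := g2c_P g x ⊔ g2c_P g y with hPi
  set F := B.orthogonal Pi with hF
  have hsF : ∀ z ∈ F, s z ∈ F := by
    intro z hz
    obtain ⟨⟨h1, h2⟩, ⟨h3, h4⟩⟩ := H.mem_orth_iff.mp hz
    have e1 : g2c_rho B g y z = z := g2c_rho_fix H.h2 H.hs H.hlam H.hg H.hadj hy h3 h4
    have e2 : g2c_rho B g x z = z := g2c_rho_fix H.h2 H.hs H.hlam H.hg H.hadj hx h1 h2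
    have e3 := H.comm_pair hx hy1 hy2 z
    rw [e1, e2] at e3
    set w := s z with hw
    set z' := g2c_rho B g y w with hz'
    have m1 : z' - w ∈ g2c_P g y := g2c_rho_sub_mem H.h2 H.hs H.hlam H.hg H.hadj hy w
    have m2 : g2c_rho B g x z' - z' ∈ g2c_P g x :=
      g2c_rho_sub_mem H.h2 H.hs H.hlam H.hg H.hadj hx z'
    have e4 : g2c_rho B g x z' - z' = -(z' - w) := by
      rw [← e3]; abel
    have m3 : g2c_rho B g x z' - z' ∈ g2c_P g y := by
      rw [e4]; exact Submodule.neg_mem _ m1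
    have e5 : g2c_rho B g x z' - z' = 0 := hdisj _ m2 m3
    have e6 : z' = w := by
      have : z' - w = 0 := by
        have := e4
        rw [e5] at this
        exact neg_eq_zero.mp this.symm
      exact sub_eq_zero.mp this
    have e7 : g2c_rho B g x w = w := by
      have := sub_eq_zero.mp e5
      rw [e6] at this
      exact this
    obtain ⟨k3, k4⟩ := g2c_rho_eq_self H.h2 H.hs H.hlam H.hg H.hadj hy (hz'.symm.trans e6)
    obtain ⟨k1, k2⟩ := g2c_rho_eq_self H.h2 H.hs H.hlam H.hg H.hadj hx e7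
    exact H.mem_orth_iff.mpr ⟨⟨k1, k2⟩, ⟨k3, k4⟩⟩
  have hsurj : ∀ z ∈ F, ∃ z' ∈ F, s z' = z := by
    let f : F → F := fun z => ⟨s z.1, hsF z.1 z.2⟩
    have hfi : Function.Injective f := by
      intro a b hab
      apply Subtype.ext
      apply H.hinj
      exact congrArg Subtype.val hab
    have hfs : Function.Surjective f := Finite.surjective_of_injective hfi
    intro z hz
    obtain ⟨z', hz'⟩ := hfs ⟨z, hz⟩
    exact ⟨z'.1, z'.2, congrArg Subtype.val hz'⟩
  intro p hp
  rw [← LinearMap.BilinForm.orthogonal_orthogonal H.hnd H.hs.isRefl Pi]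
  rw [LinearMap.BilinForm.mem_orthogonal_iff]
  intro n hn
  obtain ⟨n', hn', rfl⟩ := hsurj n hn
  rw [H.hν]
  have : B n' p = 0 := by
    rw [H.hs.eq]
    exact (LinearMap.BilinForm.mem_orthogonal_iff.mp hn') p hp
  rw [this, map_zero, mul_zero]

/-- a representative of the line `⟨v, g v⟩` avoiding a given value of `B v' v'` -/
theorem rep (H : g2c_Hyp B g lam τ s ν) {v : V} (hv : B v v ≠ 0 ∨ B v (g v) ≠ 0) (e : K) :
    ∃ v' ∈ g2c_P g v, v' ≠ 0 ∧ B v' v' ≠ e := by
  have hv0 : v ≠ 0 := g2c_ne_zero_of_ns (g := g) hv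
  by_cases hp : B v v = 0
  · have hr : B v (g v) ≠ 0 := hv.resolve_left (not_not.mpr hp)
    have hgg : B (g v) (g v) = 0 := by rw [g2c_B_g_g H.hg H.hadj, hp, mul_zero]
    have h4 : (2 : K) * 2 ≠ 0 := mul_ne_zero H.h2 H.h2
    by_cases he : 2 * B v (g v) = e
    · refine ⟨v - g v, ?_, ?_, ?_⟩
      · exact g2c_mem_P.mpr ⟨1, -1, by module⟩
      · intro h
        have : (1 : K) • v + (-1 : K) • g v = 0 := by rw [← h]; module
        exact one_ne_zero (g2c_indep H.hlam H.hg hv0 this).1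
      · simp only [map_sub, LinearMap.sub_apply]
        rw [hp, hgg, H.hs.eq (g v) v, ← he]
        intro h
        have : (2 * 2) * B v (g v) = 0 := by linear_combination -h
        exact hr ((mul_eq_zero.mp this).resolve_left h4)
    · refine ⟨v + g v, ?_, ?_, ?_⟩
      · exact g2c_mem_P.mpr ⟨1, 1, by module⟩
      · intro h
        have : (1 : K) • v + (1 : K) • g v = 0 := by rw [← h]; module
        exact one_ne_zero (g2c_indep H.hlam H.hg hv0 this).1
      · simp only [map_add, LinearMap.add_apply]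
        rw [hp, hgg, H.hs.eq (g v) v]
        intro h
        apply he
        linear_combination h
  · by_cases he : B v v = e
    · refine ⟨g v, g2c_g_mem_P H.hg (g2c_self_mem_P g v), ?_, ?_⟩
      · intro h
        have : lam • v = 0 := by rw [← H.hg, h, map_zero]
        rcases smul_eq_zero.mp this with h' | h'
        · exact g2c_lam_ne_zero H.hlam h'
        · exact hv0 h'
      · rw [g2c_B_g_g H.hg H.hadj, ← he]
        intro h
        have : (lam - 1) * B v v = 0 := by linear_combination h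
        rcases mul_eq_zero.mp this with h' | h'
        · exact g2c_lam_ne_one H.hlam (by linear_combination h')
        · exact hp h'
    · exact ⟨v, g2c_self_mem_P g v, hv0, he⟩

/-- `t ⊥ ⟨v, g v⟩` passes to any element of the plane -/
theorem perp_of_mem (H : g2c_Hyp B g lam τ s ν) {v t w : V} (ht1 : B t v = 0)
    (ht2 : B t (g v) = 0) (hw : w ∈ g2c_P g v) : B t w = 0 ∧ B t (g w) = 0 := by
  obtain ⟨a, b, rfl⟩ := g2c_mem_P.mp hw
  simp only [map_add, map_smul, smul_eq_mul, H.hg, ht1, ht2]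
  constructor <;> ring

/-- `g t ⊥ ⟨v, g v⟩` when `t ⊥ ⟨v, g v⟩` -/
theorem perp_g (H : g2c_Hyp B g lam τ s ν) {v t : V} (ht1 : B t v = 0)
    (ht2 : B t (g v) = 0) : B (g t) v = 0 ∧ B (g t) (g v) = 0 := by
  rw [H.hadj, g2c_B_g_g H.hg H.hadj, ht1, ht2, mul_zero]
  exact ⟨rfl, rfl⟩

/-- `s` preserves `⟨v, g v⟩ + ⟨t, g t⟩` for `v` nonsingular and `0 ≠ t ⊥ ⟨v, g v⟩` -/
theorem plane_inv [Finite K] [FiniteDimensional K V] (H : g2c_Hyp B g lam τ s ν) {v t : V}
    (hv : B v v ≠ 0 ∨ B v (g v) ≠ 0) (ht0 : t ≠ 0) (ht1 : B t v = 0) (ht2 : B t (g v) = 0) :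
    ∀ p ∈ g2c_P g v ⊔ g2c_P g t, s p ∈ g2c_P g v ⊔ g2c_P g t := by
  obtain ⟨v', hv'P, hv'0, hv'e⟩ := H.rep hv (-(B t t))
  have hPv : g2c_P g v' = g2c_P g v := g2c_P_eq H.hlam H.hg hv'P hv'0
  obtain ⟨k1, k2⟩ := H.perp_of_mem ht1 ht2 hv'P
  have k1' : B v' t = 0 := by rw [H.hs.eq]; exact k1
  have k3 : B v' (g t) = 0 := by rw [← H.hadj, H.hs.eq]; exact k2
  have k4 : B (g v') t = 0 := by rw [H.hs.eq]; exact k2
  have k5 : B t (g t) = B t (g t) := rfl
  set x := v' + t with hx
  set y := v' - t with hy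
  have hxx : B x x = B v' v' + B t t := by
    simp only [hx, map_add, LinearMap.add_apply, k1, k1']; ring
  have hyy : B y y = B v' v' + B t t := by
    simp only [hy, map_sub, LinearMap.sub_apply, k1, k1']; ring
  have hxg : B x (g x) = B v' (g v') + B t (g t) := by
    simp only [hx, map_add, LinearMap.add_apply, k2, k3]; ring
  have hyg : B y (g y) = B v' (g v') + B t (g t) := by
    simp only [hy, map_sub, LinearMap.sub_apply, k2, k3]; ring
  have hx0 : B x x ≠ 0 := by
    rw [hxx]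
    intro h
    apply hv'e
    linear_combination h
  have hdisj : ∀ u, u ∈ g2c_P g x → u ∈ g2c_P g y → u = 0 := by
    intro u hu1 hu2
    obtain ⟨a, b, rfl⟩ := g2c_mem_P.mp hu1
    obtain ⟨c, d, hcd⟩ := g2c_mem_P.mp hu2
    set u1 := (a - c) • v' + (b - d) • g v' with hu1d
    have e1 : u1 = -((a + c) • t + (b + d) • g t) := by
      have : u1 + ((a + c) • t + (b + d) • g t) = (a • x + b • g x) - (c • y + d • g y) := by
        simp only [hu1d, hx, hy, map_add, map_sub]
        module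
      rw [hcd, sub_self] at this
      exact eq_neg_of_add_eq_zero_left this
    have m1 : u1 ∈ g2c_P g v := by
      rw [← hPv]; exact g2c_mem_P.mpr ⟨a - c, b - d, rfl⟩
    obtain ⟨q1, q2⟩ := H.perp_g ht1 ht2
    have o1 : B u1 v = 0 := by
      rw [e1]
      simp only [map_neg, map_add, map_smul, LinearMap.neg_apply, LinearMap.add_apply,
        LinearMap.smul_apply, smul_eq_mul, ht1, q1]
      ring
    have o2 : B u1 (g v) = 0 := by
      rw [e1]
      simp only [map_neg, map_add, map_smul, LinearMap.neg_apply, LinearMap.add_apply,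
        LinearMap.smul_apply, smul_eq_mul, ht2, q2]
      ring
    have z1 : u1 = 0 := g2c_nd H.hs H.hlam H.hg H.hadj hv m1 o1 o2
    obtain ⟨r1, r2⟩ := g2c_indep H.hlam H.hg hv'0 (hu1d ▸ z1)
    have z2 : (a + c) • t + (b + d) • g t = 0 := by
      have := e1
      rw [z1] at this
      exact neg_eq_zero.mp this.symm
    obtain ⟨r3, r4⟩ := g2c_indep H.hlam H.hg ht0 z2
    have ha : a = 0 := by
      have : 2 * a = 0 := by linear_combination r1 + r3
      exact (mul_eq_zero.mp this).resolve_left H.h2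
    have hb : b = 0 := by
      have : 2 * b = 0 := by linear_combination r2 + r4
      exact (mul_eq_zero.mp this).resolve_left H.h2
    rw [ha, hb]
    simp
  have hPi : g2c_P g x ⊔ g2c_P g y = g2c_P g v ⊔ g2c_P g t := by
    apply le_antisymm
    · have mx : x ∈ g2c_P g v ⊔ g2c_P g t :=
        Submodule.add_mem _ (Submodule.mem_sup_left hv'P)
          (Submodule.mem_sup_right (g2c_self_mem_P g t))
      have mgx : g x ∈ g2c_P g v ⊔ g2c_P g t := by
        rw [hx, map_add]
        exact Submodule.add_mem _ (Submodule.mem_sup_left (g2c_g_mem_P H.hg hv'P))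
          (Submodule.mem_sup_right (g2c_g_mem_P H.hg (g2c_self_mem_P g t)))
      have my : y ∈ g2c_P g v ⊔ g2c_P g t :=
        Submodule.sub_mem _ (Submodule.mem_sup_left hv'P)
          (Submodule.mem_sup_right (g2c_self_mem_P g t))
      have mgy : g y ∈ g2c_P g v ⊔ g2c_P g t := by
        rw [hy, map_sub]
        exact Submodule.sub_mem _ (Submodule.mem_sup_left (g2c_g_mem_P H.hg hv'P))
          (Submodule.mem_sup_right (g2c_g_mem_P H.hg (g2c_self_mem_P g t)))
      apply sup_le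
      · unfold g2c_P
        rw [Submodule.span_le]
        rintro z (rfl | hz)
        · exact mx
        · rw [Set.mem_singleton_iff] at hz; subst hz; exact mgx
      · unfold g2c_P
        rw [Submodule.span_le]
        rintro z (rfl | hz)
        · exact my
        · rw [Set.mem_singleton_iff] at hz; subst hz; exact mgy
    · have mx : x ∈ g2c_P g x ⊔ g2c_P g y := Submodule.mem_sup_left (g2c_self_mem_P g x)
      have my : y ∈ g2c_P g x ⊔ g2c_P g y := Submodule.mem_sup_right (g2c_self_mem_P g y)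
      have mgx : g x ∈ g2c_P g x ⊔ g2c_P g y :=
        Submodule.mem_sup_left (g2c_g_mem_P H.hg (g2c_self_mem_P g x))
      have mgy : g y ∈ g2c_P g x ⊔ g2c_P g y :=
        Submodule.mem_sup_right (g2c_g_mem_P H.hg (g2c_self_mem_P g y))
      have h2i : (2 : K)⁻¹ * 2 = 1 := inv_mul_cancel₀ H.h2
      have mv' : v' ∈ g2c_P g x ⊔ g2c_P g y := by
        have : v' = (2 : K)⁻¹ • (x + y) := by
          rw [hx, hy]
          have : v' + t + (v' - t) = (2 : K) • v' := by module
          rw [this, smul_smul, h2i, one_smul]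
        rw [this]
        exact Submodule.smul_mem _ _ (Submodule.add_mem _ mx my)
      have mt : t ∈ g2c_P g x ⊔ g2c_P g y := by
        have : t = (2 : K)⁻¹ • (x - y) := by
          rw [hx, hy]
          have : v' + t - (v' - t) = (2 : K) • t := by module
          rw [this, smul_smul, h2i, one_smul]
        rw [this]
        exact Submodule.smul_mem _ _ (Submodule.sub_mem _ mx my)
      have mgv' : g v' ∈ g2c_P g x ⊔ g2c_P g y := by
        have : g v' = (2 : K)⁻¹ • (g x + g y) := by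
          rw [hx, hy, map_add, map_sub]
          have : g v' + g t + (g v' - g t) = (2 : K) • g v' := by module
          rw [this, smul_smul, h2i, one_smul]
        rw [this]
        exact Submodule.smul_mem _ _ (Submodule.add_mem _ mgx mgy)
      have mgt : g t ∈ g2c_P g x ⊔ g2c_P g y := by
        have : g t = (2 : K)⁻¹ • (g x - g y) := by
          rw [hx, hy, map_add, map_sub]
          have : g v' + g t - (g v' - g t) = (2 : K) • g t := by module
          rw [this, smul_smul, h2i, one_smul]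
        rw [this]
        exact Submodule.smul_mem _ _ (Submodule.sub_mem _ mgx mgy)
      apply sup_le
      · rw [← hPv]
        unfold g2c_P
        rw [Submodule.span_le]
        rintro z (rfl | hz)
        · exact mv'
        · rw [Set.mem_singleton_iff] at hz; subst hz; exact mgv'
      · unfold g2c_P
        rw [Submodule.span_le]
        rintro z (rfl | hz)
        · exact mt
        · rw [Set.mem_singleton_iff] at hz; subst hz; exact mgt
  rw [← hPi]
  exact H.plane_inv_xy hx0 (hyy.trans hxx.symm) (hyg.trans hxg.symm) hdisj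

theorem perp_of_mem' (H : g2c_Hyp B g lam τ s ν) {v t q : V} (ht1 : B t v = 0)
    (ht2 : B t (g v) = 0) (hq : q ∈ g2c_P g t) : B q v = 0 ∧ B q (g v) = 0 := by
  obtain ⟨a, b, rfl⟩ := g2c_mem_P.mp hq
  obtain ⟨q1, q2⟩ := H.perp_g ht1 ht2
  simp only [map_add, map_smul, LinearMap.add_apply, LinearMap.smul_apply, smul_eq_mul, ht1, ht2,
    q1, q2]
  constructor <;> ring

theorem finrank_P_le [FiniteDimensional K V] (g : V →ₗ[K] V) (v : V) :
    Module.finrank K (g2c_P g v) ≤ 2 := by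
  classical
  have := finrank_span_finset_le_card (R := K) ({v, g v} : Finset V)
  rw [Finset.coe_insert, Finset.coe_singleton] at this
  exact this.trans Finset.card_le_two

theorem exists_perp [FiniteDimensional K V] (H : g2c_Hyp B g lam τ s ν) (W : Submodule K V)
    (hW : Module.finrank K W < Module.finrank K V) : ∃ t, t ≠ 0 ∧ ∀ w ∈ W, B t w = 0 := by
  have h1 := LinearMap.BilinForm.finrank_orthogonal H.hnd W
  have h2 : 0 < Module.finrank K (B.orthogonal W) := by omega
  obtain ⟨t, ht⟩ := Module.finrank_pos_iff_exists_ne_zero.mp h2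
  refine ⟨t.1, fun h => ht (Subtype.ext h), fun w hw => ?_⟩
  rw [H.hs.eq]
  exact (LinearMap.BilinForm.mem_orthogonal_iff.mp t.2) w hw

/-- a `K`-nonsingular vector orthogonal to the plane of a nonsingular `v` -/
theorem exists_ns_perp [FiniteDimensional K V] (H : g2c_Hyp B g lam τ s ν)
    (hdim : 6 ≤ Module.finrank K V) {v : V} (hv : B v v ≠ 0 ∨ B v (g v) ≠ 0) :
    ∃ t, B t t ≠ 0 ∧ B t v = 0 ∧ B t (g v) = 0 := by
  by_contra hcon
  push_neg at hcon
  have hcon' : ∀ t, B t v = 0 → B t (g v) = 0 → B t t = 0 := by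
    intro t h1 h2
    by_contra h
    exact h (by_contra fun h' => (hcon t h) h1 |> fun h3 => h3 h2)
  obtain ⟨t0, ht0, hperp⟩ := H.exists_perp (g2c_P g v)
    (lt_of_le_of_lt (finrank_P_le g v) (by omega))
  have a1 : B t0 v = 0 := hperp v (g2c_self_mem_P g v)
  have a2 : B t0 (g v) = 0 := hperp (g v) (g2c_g_mem_P H.hg (g2c_self_mem_P g v))
  obtain ⟨y, hy⟩ : ∃ y, B t0 y ≠ 0 := by
    by_contra h
    push_neg at h
    exact ht0 (H.hnd.1 t0 h)
  set y' := y - g2c_al B g lam v y • v - g2c_be B g lam v y • g v with hy'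
  obtain ⟨b1, b2⟩ := g2c_proj_perp H.hs H.hlam H.hg H.hadj hv y
  have c1 : B t0 y' = B t0 y := by
    rw [hy']
    simp only [map_sub, map_smul, smul_eq_mul, a1, a2]
    ring
  have d1 : B t0 t0 = 0 := hcon' t0 a1 a2
  have d2 : B y' y' = 0 := hcon' y' b1 b2
  have d3 : B (t0 + y') (t0 + y') = 0 := by
    apply hcon'
    · rw [map_add, LinearMap.add_apply, a1, b1, add_zero]
    · rw [map_add, LinearMap.add_apply, a2, b2, add_zero]
  simp only [map_add, LinearMap.add_apply, d1, d2] at d3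
  rw [H.hs.eq y' t0, c1] at d3
  have : 2 * B t0 y = 0 := by linear_combination d3
  exact hy ((mul_eq_zero.mp this).resolve_left H.h2)

/-- `s` preserves the plane `⟨v, g v⟩` of every nonsingular `v` -/
theorem line_inv [Finite K] [FiniteDimensional K V] (H : g2c_Hyp B g lam τ s ν)
    (hdim : 6 ≤ Module.finrank K V) {v : V} (hv : B v v ≠ 0 ∨ B v (g v) ≠ 0) :
    ∀ p ∈ g2c_P g v, s p ∈ g2c_P g v := by
  intro p hp
  obtain ⟨t1, ht1n, ht1a, ht1b⟩ := H.exists_ns_perp hdim hv
  have ht1 : B t1 t1 ≠ 0 ∨ B t1 (g t1) ≠ 0 := Or.inl ht1n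
  have ht10 : t1 ≠ 0 := g2c_ne_zero_of_ns (g := g) ht1
  obtain ⟨t2, ht20, hperp⟩ := H.exists_perp (g2c_P g v ⊔ g2c_P g t1) (by
    have := Submodule.finrank_add_le_finrank_add_finrank (g2c_P g v) (g2c_P g t1)
    have := finrank_P_le g v
    have := finrank_P_le g t1
    omega)
  have ht2a : B t2 v = 0 := hperp v (Submodule.mem_sup_left (g2c_self_mem_P g v))
  have ht2b : B t2 (g v) = 0 :=
    hperp (g v) (Submodule.mem_sup_left (g2c_g_mem_P H.hg (g2c_self_mem_P g v)))
  have ht2c : B t2 t1 = 0 := hperp t1 (Submodule.mem_sup_right (g2c_self_mem_P g t1))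
  have ht2d : B t2 (g t1) = 0 :=
    hperp (g t1) (Submodule.mem_sup_right (g2c_g_mem_P H.hg (g2c_self_mem_P g t1)))
  have h1 := H.plane_inv hv ht10 ht1a ht1b p (Submodule.mem_sup_left hp)
  have h2 := H.plane_inv hv ht20 ht2a ht2b p (Submodule.mem_sup_left hp)
  obtain ⟨p1, hp1, q1, hq1, e1⟩ := Submodule.mem_sup.mp h1
  obtain ⟨p2, hp2, q2, hq2, e2⟩ := Submodule.mem_sup.mp h2
  have hu : q1 - q2 = p2 - p1 := by
    have : p1 + q1 = p2 + q2 := e1.trans e2.symm
    rw [sub_eq_sub_iff_add_eq_add]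
    rw [add_comm q1 p1, this, add_comm]
  have m1 : q1 - q2 ∈ g2c_P g v := by rw [hu]; exact Submodule.sub_mem _ hp2 hp1
  obtain ⟨o1, o2⟩ := H.perp_of_mem' ht1a ht1b hq1
  obtain ⟨o3, o4⟩ := H.perp_of_mem' ht2a ht2b hq2
  have z1 : q1 - q2 = 0 := by
    apply g2c_nd H.hs H.hlam H.hg H.hadj hv m1
    · rw [map_sub, LinearMap.sub_apply, o1, o3, sub_zero]
    · rw [map_sub, LinearMap.sub_apply, o2, o4, sub_zero]
  have z2 : q1 = q2 := sub_eq_zero.mp z1
  obtain ⟨o5, o6⟩ := H.perp_of_mem' ht2c ht2d hq2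
  have z3 : q1 = 0 := by
    apply g2c_nd H.hs H.hlam H.hg H.hadj ht1 hq1
    · rw [z2]; exact o5
    · rw [z2]; exact o6
  rw [← e1, z3, add_zero]
  exact hp1

/-- nonsingularity over `K[g]` -/
def _root_.Cfsg.Agent.Lib.Helper37.MBal.g2c_ns (B : LinearMap.BilinForm K V) (g : V →ₗ[K] V)
    (v : V) : Prop := B v v ≠ 0 ∨ B v (g v) ≠ 0

theorem ns_neg {v : V} (hv : g2c_ns B g v) : g2c_ns B g (-v) := by
  unfold g2c_ns at hv ⊢
  simpa using hv

theorem ns_g (H : g2c_Hyp B g lam τ s ν) {v : V} (hv : g2c_ns B g v) : g2c_ns B g (g v) := by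
  unfold g2c_ns at hv ⊢
  rw [g2c_B_g_g H.hg H.hadj, H.hg, map_smul, smul_eq_mul, H.hs.eq (g v) v]
  have hl := g2c_lam_ne_zero H.hlam
  rcases hv with h | h
  · exact Or.inl (mul_ne_zero hl h)
  · exact Or.inr (mul_ne_zero hl h)

/-- for every `x` and nonsingular `y`, one of `x + y`, `x - y`, `x + g y` is nonsingular -/
theorem exists_good (H : g2c_Hyp B g lam τ s ν) (x : V) {y : V} (hy : g2c_ns B g y) :
    ∃ y', (y' = y ∨ y' = -y ∨ y' = g y) ∧ g2c_ns B g (x + y') := by
  by_contra hcon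
  push_neg at hcon
  have h1 := hcon y (Or.inl rfl)
  have h2 := hcon (-y) (Or.inr (Or.inl rfl))
  have h3 := hcon (g y) (Or.inr (Or.inr rfl))
  unfold g2c_ns at h1 h2 h3 hy
  push_neg at h1 h2 h3
  obtain ⟨h1a, h1b⟩ := h1
  obtain ⟨h2a, h2b⟩ := h2
  obtain ⟨h3a, h3b⟩ := h3
  have e1 : B y x = B x y := H.hs.eq y x
  have e2 : B y (g x) = B x (g y) := by rw [← H.hadj, H.hs.eq]
  have e3 : B (g y) x = B x (g y) := H.hs.eq _ _
  have e4 : B (g y) (g x) = lam * B x y := by rw [g2c_B_g_g H.hg H.hadj, e1]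
  have e5 : B (g y) (g y) = lam * B y y := g2c_B_g_g H.hg H.hadj y y
  have e6 : B (g y) (g (g y)) = lam * B y (g y) := by
    rw [g2c_B_g_g H.hg H.hadj]
  have e7 : B x (g (g y)) = lam * B x y := by rw [H.hg, map_smul, smul_eq_mul]
  simp only [map_add, map_neg, LinearMap.add_apply, LinearMap.neg_apply, e1, e2, e3, e4, e5, e6,
    e7] at h1a h1b h2a h2b h3a h3b
  have h4 : (2 : K) * 2 ≠ 0 := mul_ne_zero H.h2 H.h2
  have f1 : B x y = 0 := by
    have : (2 * 2) * B x y = 0 := by linear_combination h1a - h2a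
    exact (mul_eq_zero.mp this).resolve_left h4
  have f2 : B x (g y) = 0 := by
    have : (2 * 2) * B x (g y) = 0 := by linear_combination h1b - h2b
    exact (mul_eq_zero.mp this).resolve_left h4
  have hl1 : lam - 1 ≠ 0 := sub_ne_zero.mpr (g2c_lam_ne_one H.hlam)
  have f3 : B y y = 0 := by
    have : (lam - 1) * B y y = 0 := by
      linear_combination h3a - h1a - 2 * f2 + 2 * f1
    exact (mul_eq_zero.mp this).resolve_left hl1
  have f4 : B y (g y) = 0 := by
    have : (lam - 1) * B y (g y) = 0 := by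
      linear_combination h3b - h1b - 2 * lam * f1 + 2 * f2
    exact (mul_eq_zero.mp this).resolve_left hl1
  rcases hy with h | h
  · exact h f3
  · exact h f4

theorem mult_exists [Finite K] [FiniteDimensional K V] (H : g2c_Hyp B g lam τ s ν)
    (hdim : 6 ≤ Module.finrank K V) {v : V} (hv : g2c_ns B g v) {y : V} (hy : y ∈ g2c_P g v)
    (hy0 : y ≠ 0) : ∃ a b : K, s y = a • y + b • g y := by
  have h1 := H.line_inv hdim hv y hy
  rw [← g2c_P_eq H.hlam H.hg hy hy0] at h1
  exact g2c_mem_P.mp h1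

/-- nonsingular vectors in independent lines have the same multiplier -/
theorem mult_eq_of_disj [Finite K] [FiniteDimensional K V] (H : g2c_Hyp B g lam τ s ν)
    (hdim : 6 ≤ Module.finrank K V) {y t : V} (hy0 : y ≠ 0) (ht0 : t ≠ 0)
    (hyt : g2c_ns B g (y + t))
    (hdisj : ∀ u, u ∈ g2c_P g y → u ∈ g2c_P g t → u = 0)
    {a b a' b' : K} (h1 : s y = a • y + b • g y) (h2 : s t = a' • t + b' • g t) :
    a = a' ∧ b = b' := by
  obtain ⟨a'', b'', h3⟩ := H.mult_exists hdim hyt (g2c_self_mem_P g (y + t))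
    (g2c_ne_zero_of_ns (g := g) hyt)
  rw [H.hadd, h1, h2, map_add] at h3
  set u := (a'' - a) • y + (b'' - b) • g y with hu
  have e1 : u = -((a'' - a') • t + (b'' - b') • g t) := by
    have : u + ((a'' - a') • t + (b'' - b') • g t) =
        (a'' • (y + t) + b'' • (g y + g t)) - (a • y + b • g y + (a' • t + b' • g t)) := by
      rw [hu]; module
    rw [← h3, sub_self] at this
    exact eq_neg_of_add_eq_zero_left this
  have m1 : u ∈ g2c_P g y := g2c_mem_P.mpr ⟨_, _, rfl⟩
  have m2 : u ∈ g2c_P g t := by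
    rw [e1]
    exact Submodule.neg_mem _ (g2c_mem_P.mpr ⟨_, _, rfl⟩)
  have z1 : u = 0 := hdisj u m1 m2
  obtain ⟨r1, r2⟩ := g2c_indep H.hlam H.hg hy0 (hu ▸ z1)
  have z2 : (a'' - a') • t + (b'' - b') • g t = 0 := by
    have := e1
    rw [z1] at this
    exact neg_eq_zero.mp this.symm
  obtain ⟨r3, r4⟩ := g2c_indep H.hlam H.hg ht0 z2
  constructor
  · linear_combination r3 - r1
  · linear_combination r4 - r2

/-- orthogonal planes of nonsingular vectors are disjoint -/
theorem disj_of_perp (H : g2c_Hyp B g lam τ s ν) {v t : V} (hv : g2c_ns B g v)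
    (ht1 : B t v = 0) (ht2 : B t (g v) = 0) :
    ∀ u, u ∈ g2c_P g v → u ∈ g2c_P g t → u = 0 := by
  intro u hu1 hu2
  obtain ⟨o1, o2⟩ := H.perp_of_mem' ht1 ht2 hu2
  exact g2c_nd H.hs H.hlam H.hg H.hadj hv hu1 o1 o2

theorem ns_add_perp (H : g2c_Hyp B g lam τ s ν) {y t : V} (h1 : B t y = 0)
    (h2 : B t (g y) = 0) :
    g2c_ns B g (y + t) ↔ (B y y + B t t ≠ 0 ∨ B y (g y) + B t (g t) ≠ 0) := by
  unfold g2c_ns
  have e1 : B y t = 0 := by rw [H.hs.eq]; exact h1
  have e2 : B y (g t) = 0 := by rw [← H.hadj, H.hs.eq]; exact h2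
  simp only [map_add, LinearMap.add_apply, h1, h2, e1, e2, add_zero, zero_add]

/-- if `t₁`, `t₂ ⊥ ⟨y, g y⟩` have different invariants, one of `y + t₁`, `y + t₂` is nonsingular -/
theorem good_pair (H : g2c_Hyp B g lam τ s ν) {y t1 t2 : V} (h1 : B t1 y = 0)
    (h2 : B t1 (g y) = 0) (h3 : B t2 y = 0) (h4 : B t2 (g y) = 0)
    (hne : ¬ (B t1 t1 = B t2 t2 ∧ B t1 (g t1) = B t2 (g t2))) :
    g2c_ns B g (y + t1) ∨ g2c_ns B g (y + t2) := by
  by_contra hcon
  push_neg at hcon
  obtain ⟨c1, c2⟩ := hcon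
  rw [H.ns_add_perp h1 h2] at c1
  rw [H.ns_add_perp h3 h4] at c2
  push_neg at c1 c2
  apply hne
  constructor
  · linear_combination c1.1 - c2.1
  · linear_combination c1.2 - c2.2

/-- the three vectors `t`, `g t`, `t + g t` have pairwise different invariants -/
theorem three_distinct (H : g2c_Hyp B g lam τ s ν) {t : V} (ht : g2c_ns B g t) :
    ¬ (B t t = B (g t) (g t) ∧ B t (g t) = B (g t) (g (g t))) ∧
    ¬ (B t t = B (t + g t) (t + g t) ∧ B t (g t) = B (t + g t) (g (t + g t))) ∧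
    ¬ (B (g t) (g t) = B (t + g t) (t + g t) ∧
        B (g t) (g (g t)) = B (t + g t) (g (t + g t))) := by
  have e1 : B (g t) (g t) = lam * B t t := g2c_B_g_g H.hg H.hadj t t
  have e2 : B (g t) (g (g t)) = lam * B t (g t) := g2c_B_g_g H.hg H.hadj t (g t)
  have e3 : B (g t) t = B t (g t) := H.hs.eq _ _
  have e4 : B t (g (g t)) = lam * B t t := by rw [H.hg, map_smul, smul_eq_mul]
  have hl0 := g2c_lam_ne_zero H.hlam
  have hl1 : lam - 1 ≠ 0 := sub_ne_zero.mpr (g2c_lam_ne_one H.hlam)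
  have hl4 : lam - 4 ≠ 0 := by
    intro h
    exact H.hlam ⟨2, by linear_combination h⟩
  have hl4' : 1 - 4 * lam ≠ 0 := by
    intro h
    apply H.hlam
    refine ⟨2⁻¹, ?_⟩
    have h2 := H.h2
    field_simp
    linear_combination -h
  simp only [map_add, LinearMap.add_apply, e1, e2, e3, e4]
  unfold g2c_ns at ht
  refine ⟨?_, ?_, ?_⟩
  · rintro ⟨h1, h2⟩
    have f1 : B t t = 0 := by
      have : (lam - 1) * B t t = 0 := by linear_combination -h1
      exact (mul_eq_zero.mp this).resolve_left hl1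
    have f2 : B t (g t) = 0 := by
      have : (lam - 1) * B t (g t) = 0 := by linear_combination -h2
      exact (mul_eq_zero.mp this).resolve_left hl1
    rcases ht with h | h
    · exact h f1
    · exact h f2
  · rintro ⟨h1, h2⟩
    -- lam p + 2 r = 0, lam r + 2 lam p = 0
    have f0 : B t (g t) + 2 * B t t = 0 := by
      have : lam * (B t (g t) + 2 * B t t) = 0 := by linear_combination -h2
      exact (mul_eq_zero.mp this).resolve_left hl0
    have f1 : B t t = 0 := by
      have : (lam - 4) * B t t = 0 := by linear_combination -h1 - 2 * f0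
      exact (mul_eq_zero.mp this).resolve_left hl4
    have f2 : B t (g t) = 0 := by linear_combination f0 - 2 * f1
    rcases ht with h | h
    · exact h f1
    · exact h f2
  · rintro ⟨h1, h2⟩
    -- p + 2 r = 0, r + 2 lam p = 0
    have f2 : B t (g t) = 0 := by
      have : (1 - 4 * lam) * B t (g t) = 0 := by linear_combination -h2 + 2 * lam * h1
      exact (mul_eq_zero.mp this).resolve_left hl4'
    have f1 : B t t = 0 := by linear_combination -h1 - 2 * f2
    rcases ht with h | h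
    · exact h f1
    · exact h f2

/-- a common partner for two vectors orthogonal to the plane of `t` -/
theorem common_good (H : g2c_Hyp B g lam τ s ν) {t y1 y2 : V} (ht : g2c_ns B g t)
    (a1 : B t y1 = 0) (a2 : B t (g y1) = 0) (b1 : B t y2 = 0) (b2 : B t (g y2) = 0) :
    ∃ t', t' ∈ g2c_P g t ∧ t' ≠ 0 ∧ g2c_ns B g (y1 + t') ∧ g2c_ns B g (y2 + t') := by
  obtain ⟨d1, d2, d3⟩ := H.three_distinct ht
  have ht0 : t ≠ 0 := g2c_ne_zero_of_ns (g := g) ht
  have m1 : t ∈ g2c_P g t := g2c_self_mem_P g t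
  have m2 : g t ∈ g2c_P g t := g2c_g_mem_P H.hg m1
  have m3 : t + g t ∈ g2c_P g t := Submodule.add_mem _ m1 m2
  have n2 : g t ≠ 0 := g2c_ne_zero_of_ns (g := g) (H.ns_g ht)
  have n3 : t + g t ≠ 0 := by
    intro h
    have : (1 : K) • t + (1 : K) • g t = 0 := by rw [← h]; module
    exact one_ne_zero (g2c_indep H.hlam H.hg ht0 this).1
  obtain ⟨a3, a4⟩ := H.perp_g a1 a2
  obtain ⟨b3, b4⟩ := H.perp_g b1 b2
  have a5 : B (t + g t) y1 = 0 := by rw [map_add, LinearMap.add_apply, a1, a3, add_zero]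
  have a6 : B (t + g t) (g y1) = 0 := by rw [map_add, LinearMap.add_apply, a2, a4, add_zero]
  have b5 : B (t + g t) y2 = 0 := by rw [map_add, LinearMap.add_apply, b1, b3, add_zero]
  have b6 : B (t + g t) (g y2) = 0 := by rw [map_add, LinearMap.add_apply, b2, b4, add_zero]
  have A12 := H.good_pair a1 a2 a3 a4 d1
  have A13 := H.good_pair a1 a2 a5 a6 d2
  have A23 := H.good_pair a3 a4 a5 a6 d3
  have B12 := H.good_pair b1 b2 b3 b4 d1
  have B13 := H.good_pair b1 b2 b5 b6 d2
  have B23 := H.good_pair b3 b4 b5 b6 d3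
  by_cases c1 : g2c_ns B g (y1 + t)
  · by_cases c2 : g2c_ns B g (y2 + t)
    · exact ⟨t, m1, ht0, c1, c2⟩
    · have e2 := B12.resolve_left c2
      have e3 := B13.resolve_left c2
      rcases A23 with h | h
      · exact ⟨g t, m2, n2, h, e2⟩
      · exact ⟨t + g t, m3, n3, h, e3⟩
  · have e2 := A12.resolve_left c1
    have e3 := A13.resolve_left c1
    rcases B23 with h | h
    · exact ⟨g t, m2, n2, e2, h⟩
    · exact ⟨t + g t, m3, n3, e3, h⟩

/-- `s` is multiplication by a fixed element of `K[g]` on the plane of a nonsingular vector -/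
theorem mult_const [Finite K] [FiniteDimensional K V] (H : g2c_Hyp B g lam τ s ν)
    (hdim : 6 ≤ Module.finrank K V) {v : V} (hv : g2c_ns B g v) :
    ∃ a b : K, ∀ y ∈ g2c_P g v, s y = a • y + b • g y := by
  have hv0 : v ≠ 0 := g2c_ne_zero_of_ns (g := g) hv
  obtain ⟨a, b, hab⟩ := H.mult_exists hdim hv (g2c_self_mem_P g v) hv0
  obtain ⟨t, htn, ht1, ht2⟩ := H.exists_ns_perp hdim hv
  have ht : g2c_ns B g t := Or.inl htn
  refine ⟨a, b, fun y hy => ?_⟩
  by_cases hy0 : y = 0
  · subst hy0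
    rw [H.s_zero]; simp
  obtain ⟨ay, by', hyab⟩ := H.mult_exists hdim hv hy hy0
  obtain ⟨k1, k2⟩ := H.perp_of_mem ht1 ht2 hy
  obtain ⟨t', ht'P, ht'0, g1, g2⟩ := H.common_good ht ht1 ht2 k1 k2
  obtain ⟨a', b', ht'ab⟩ := H.mult_exists hdim ht ht'P ht'0
  have hd1 : ∀ u, u ∈ g2c_P g v → u ∈ g2c_P g t' → u = 0 := fun u hu1 hu2 =>
    H.disj_of_perp hv ht1 ht2 u hu1 (g2c_P_le H.hg ht'P hu2)
  have hd2 : ∀ u, u ∈ g2c_P g y → u ∈ g2c_P g t' → u = 0 := fun u hu1 hu2 =>
    hd1 u (g2c_P_le H.hg hy hu1) hu2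
  obtain ⟨r1, r2⟩ := H.mult_eq_of_disj hdim hv0 ht'0 g1 hd1 hab ht'ab
  obtain ⟨r3, r4⟩ := H.mult_eq_of_disj hdim hy0 ht'0 g2 hd2 hyab ht'ab
  rw [hyab, r3, r4, ← r1, ← r2]

theorem exists_ns [FiniteDimensional K V] (H : g2c_Hyp B g lam τ s ν)
    (hdim : 6 ≤ Module.finrank K V) : ∃ v, g2c_ns B g v := by
  have hpos : 0 < Module.finrank K V := by omega
  obtain ⟨x, hx⟩ := Module.finrank_pos_iff_exists_ne_zero.mp hpos
  obtain ⟨y, hy⟩ : ∃ y, B x y ≠ 0 := by
    by_contra h
    push_neg at h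
    exact hx (H.hnd.1 x h)
  by_cases h1 : B x x = 0
  · by_cases h2 : B y y = 0
    · refine ⟨x + y, Or.inl ?_⟩
      simp only [map_add, LinearMap.add_apply, h1, h2, H.hs.eq y x]
      intro h
      have : 2 * B x y = 0 := by linear_combination h
      exact hy ((mul_eq_zero.mp this).resolve_left H.h2)
    · exact ⟨y, Or.inl h2⟩
  · exact ⟨x, Or.inl h1⟩

theorem main [Finite K] [FiniteDimensional K V] (H : g2c_Hyp B g lam τ s ν)
    (hdim : 6 ≤ Module.finrank K V) :
    τ = 1 ∧ ∃ c : K, c ≠ 0 ∧ ((∀ v, s v = c • v) ∨ (∀ v, s v = c • g v)) := by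
  obtain ⟨v0, hv0⟩ := H.exists_ns hdim
  have hv00 : v0 ≠ 0 := g2c_ne_zero_of_ns (g := g) hv0
  obtain ⟨a, b, hab⟩ := H.mult_const hdim hv0
  -- all nonsingular vectors
  have G1 : ∀ w, g2c_ns B g w → s w = a • w + b • g w := by
    intro w hw
    have hw0 : w ≠ 0 := g2c_ne_zero_of_ns (g := g) hw
    obtain ⟨a', b', hab'⟩ := H.mult_const hdim hw
    have key : a = a' ∧ b = b' := by
      by_cases hd : ∀ u, u ∈ g2c_P g v0 → u ∈ g2c_P g w → u = 0
      · obtain ⟨y', hy', hgood⟩ := H.exists_good v0 hw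
        have my' : y' ∈ g2c_P g w := by
          rcases hy' with rfl | rfl | rfl
          · exact g2c_self_mem_P g _
          · exact Submodule.neg_mem _ (g2c_self_mem_P g _)
          · exact g2c_g_mem_P H.hg (g2c_self_mem_P g _)
        have ny' : y' ≠ 0 := by
          rcases hy' with rfl | rfl | rfl
          · exact hw0
          · exact neg_ne_zero.mpr hw0
          · exact g2c_ne_zero_of_ns (g := g) (H.ns_g hw)
        exact H.mult_eq_of_disj hdim hv00 ny' hgood
          (fun u hu1 hu2 => hd u hu1 (g2c_P_le H.hg my' hu2))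
          (hab v0 (g2c_self_mem_P g v0)) (hab' y' my')
      · push_neg at hd
        obtain ⟨u, hu1, hu2, hu0⟩ := hd
        have e1 := hab u hu1
        have e2 := hab' u hu2
        have : (a - a') • u + (b - b') • g u = 0 := by
          have : (a - a') • u + (b - b') • g u = (a • u + b • g u) - (a' • u + b' • g u) := by
            module
          rw [this, ← e1, ← e2, sub_self]
        obtain ⟨r1, r2⟩ := g2c_indep H.hlam H.hg hu0 this
        exact ⟨sub_eq_zero.mp r1, sub_eq_zero.mp r2⟩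
    rw [hab' w (g2c_self_mem_P g w), key.1, key.2]
  -- all vectors
  have G2 : ∀ x, s x = a • x + b • g x := by
    intro x
    obtain ⟨y', hy', hgood⟩ := H.exists_good x hv0
    have ny' : g2c_ns B g y' := by
      rcases hy' with rfl | rfl | rfl
      · exact hv0
      · exact ns_neg hv0
      · exact H.ns_g hv0
    have e1 := G1 _ hgood
    have e2 := G1 _ ny'
    rw [H.hadd, e2, map_add] at e1
    have : s x = (s x + (a • y' + b • g y')) - (a • y' + b • g y') := by abel
    rw [this, e1]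
    module
  -- τ = 1
  have G3 : τ = 1 := by
    ext c
    have e1 := H.hsmul c v0
    rw [G2 (c • v0), G2 v0, map_smul] at e1
    have e2 : (τ c - c) • (a • v0 + b • g v0) = 0 := by
      rw [sub_smul, ← e1]
      module
    have hs0 : a • v0 + b • g v0 ≠ 0 := by
      rw [← G2 v0]; exact H.s_ne_zero hv00
    rcases smul_eq_zero.mp e2 with h | h
    · rw [RingAut.one_apply]
      exact sub_eq_zero.mp h
    · exact absurd h hs0
  refine ⟨G3, ?_⟩
  have hne : ¬ (a = 0 ∧ b = 0) := by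
    rintro ⟨rfl, rfl⟩
    apply H.s_ne_zero hv00
    rw [G2 v0]; simp
  have G4 : a = 0 ∨ b = 0 := by
    by_contra hcon
    push_neg at hcon
    obtain ⟨ha, hb⟩ := hcon
    have hν' : ∀ u w, (2 * a * b) * B u (g w) = (ν - a ^ 2 - lam * b ^ 2) * B u w := by
      intro u w
      have := H.hν u w
      rw [G3, RingAut.one_apply, G2 u, G2 w] at this
      simp only [map_add, map_smul, LinearMap.add_apply, LinearMap.smul_apply, smul_eq_mul,
        g2c_B_g_g H.hg H.hadj, H.hadj u w] at this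
      linear_combination this
    set e := (ν - a ^ 2 - lam * b ^ 2) / (2 * a * b) with he
    have h2ab : 2 * a * b ≠ 0 := mul_ne_zero (mul_ne_zero H.h2 ha) hb
    have hge : g v0 - e • v0 = 0 := by
      apply H.hnd.2
      intro u
      rw [map_sub, map_smul, smul_eq_mul]
      have := hν' u v0
      have h2 := H.h2
      rw [he]
      field_simp
      linear_combination this
    have : (-e) • v0 + (1 : K) • g v0 = 0 := by
      rw [← hge]; module
    exact one_ne_zero (g2c_indep H.hlam H.hg hv00 this).2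
  rcases G4 with ha | hb
  · subst ha
    have hb : b ≠ 0 := fun h => hne ⟨rfl, h⟩
    refine ⟨b, hb, Or.inr fun v => ?_⟩
    rw [G2 v]; simp
  · subst hb
    have ha : a ≠ 0 := fun h => hne ⟨h, rfl⟩
    refine ⟨a, ha, Or.inl fun v => ?_⟩
    rw [G2 v]; simp

end g2c_Hyp

end g2c

section invol

variable {K : Type u} [Field K] [Finite K] {V : Type v} [AddCommGroup V] [Module K V]
  [FiniteDimensional K V]

/-- (MB-G2C) a semilinear semi-similarity commuting with the part of `Ω` centralizing a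
self-adjoint `g` with `g² = lam`, `lam` a non-square, is a scalar times `1` or `g`. -/
theorem cent_sqrt (h2 : (2 : K) ≠ 0) (B : LinearMap.BilinForm K V) (hs : B.IsSymm)
    (hnd : B.Nondegenerate)
    (g : V →ₗ[K] V) (lam : K) (hlam : ¬ IsSquare lam) (hg : ∀ v, g (g v) = lam • v)
    (hadj : ∀ x y, B (g x) y = B x (g y)) (hdim : 6 ≤ Module.finrank K V)
    (τ : K ≃+* K) (s : V → V) (hadd : ∀ u w, s (u + w) = s u + s w)
    (hsmul : ∀ (c : K) v, s (c • v) = τ c • s v) (hinj : Function.Injective s)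
    (ν : K) (hν : ∀ u w, B (s u) (s w) = ν * τ (B u w))
    (hcomm : ∀ l : List V, (∀ u ∈ l, B u u ≠ 0) → Even l.length →
      IsSquare (l.map (fun u => B u u)).prod →
      (∀ v, (l.map (fun u => reflE B u)).prod (g v) = g ((l.map (fun u => reflE B u)).prod v)) →
      ∀ v, s ((l.map (fun u => reflE B u)).prod v) = (l.map (fun u => reflE B u)).prod (s v)) :
    τ = 1 ∧ ∃ c : K, c ≠ 0 ∧ ((∀ v, s v = c • v) ∨ (∀ v, s v = c • g v)) :=
  g2c_Hyp.main ⟨h2, hs, hnd, hlam, hg, hadj, hadd, hsmul, hinj, hν, hcomm⟩ hdim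

end invol

end Cfsg.Agent.Lib.Helper37.MBal
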