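import Mathlib
import Cfsg.Agent.Lib.Helper41.OmBNDefs
import Cfsg.Agent.Lib.Helper80.OmBN_TORUS

/-!
# OmBN hive (helper41, S2549): leaves CARDT-ODD `card_T_odd` and CARDT-EVEN `card_T_even`

`T = B ∩ N` embeds into `(F^×)^m × O(W)` (diagonal entries at the `e_i`, and the `W`-block), of order
`(q-1)^m · 2(q+1)` (helper43 `card_isometryGroup_minus 0`); in characteristic `2` the reflection in
`w₀ = (1,0)` is an involution of `T`.
-/

set_option autoImplicit false

namespace Cfsg.Agent.Lib.Helper41.OmBN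

open Matrix Cfsg Cfsg.Agent.Lib.Helper13 Cfsg.Agent.Lib.Helper8 Cfsg.Agent.Lib.Helper43
  Cfsg.Agent.Lib.Helper41.SpBN

variable {F : Type*} [Field F] {m : ℕ} {a b : F}

/-- structure of a block diagonal element -/
theorem cardt_struct {g : OG F m a b} {d : Idx m → F} (h : IsBMono (mat g) 1 d) :
    mat g = Matrix.fromBlocks (Matrix.diagonal (fun s => mat g (Sum.inl s) (Sum.inl s))) 0 0
      (mat g).toBlocks₂₂ := by
  have h1 := h.eq_fromBlocks
  have h2 : (mat g).toBlocks₁₁ = Matrix.diagonal (fun s => mat g (Sum.inl s) (Sum.inl s)) := by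
    ext x s
    have h3 := h.1 x s
    rw [h3, Matrix.diagonal_apply]
    by_cases hxs : x = s
    · subst hxs
      have h4 := h.1 x x
      simp only [Equiv.Perm.coe_one, id_eq, if_true] at h4 ⊢
      rw [← h4]
      rfl
    · simp [hxs]
  rw [← h2]
  exact h1

section core
variable (hT : ∀ g : OG F m a b, g ∈ Bo F m a b ⊓ No F m a b → ∃ d : Idx m → F, IsBMono (mat g) 1 d)

include hT in
theorem cardt_mul_entry (t t' : OG F m a b) (ht : t ∈ Bo F m a b ⊓ No F m a b)
    (ht' : t' ∈ Bo F m a b ⊓ No F m a b) (s : Idx m) :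
    mat (t * t') (Sum.inl s) (Sum.inl s)
      = mat t (Sum.inl s) (Sum.inl s) * mat t' (Sum.inl s) (Sum.inl s) := by
  obtain ⟨d, hd⟩ := hT t ht
  obtain ⟨d', hd'⟩ := hT t' ht'
  rw [mat_mul]
  conv_lhs => rw [cardt_struct hd, cardt_struct hd', Matrix.fromBlocks_multiply]
  simp only [Matrix.mul_zero, Matrix.zero_mul, add_zero, zero_add, Matrix.fromBlocks_apply₁₁,
    Matrix.diagonal_mul_diagonal, Matrix.diagonal_apply_eq]

include hT in
theorem cardt_mul_block (t t' : OG F m a b) (ht : t ∈ Bo F m a b ⊓ No F m a b)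
    (ht' : t' ∈ Bo F m a b ⊓ No F m a b) :
    (mat (t * t')).toBlocks₂₂ = (mat t).toBlocks₂₂ * (mat t').toBlocks₂₂ := by
  obtain ⟨d, hd⟩ := hT t ht
  obtain ⟨d', hd'⟩ := hT t' ht'
  rw [mat_mul]
  conv_lhs => rw [cardt_struct hd, cardt_struct hd', Matrix.fromBlocks_multiply]
  simp only [Matrix.mul_zero, Matrix.zero_mul, add_zero, zero_add, Matrix.toBlocks_fromBlocks₂₂]

/-- the `i`-th diagonal entry, as a monoid homomorphism -/
def cardt_dE (i : Fin m) : ↥(Bo F m a b ⊓ No F m a b) →* F where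
  toFun t := mat t.1 (Sum.inl (Sum.inl i)) (Sum.inl (Sum.inl i))
  map_one' := by
    show mat (1 : OG F m a b) _ _ = 1
    rw [mat_one, Matrix.one_apply_eq]
  map_mul' t t' := cardt_mul_entry hT t.1 t'.1 t.2 t'.2 (Sum.inl i)

/-- the `W`-block, as a monoid homomorphism into the matrices indexed by `MIdx 0` -/
def cardt_bW : ↥(Bo F m a b ⊓ No F m a b) →* Matrix (MIdx 0) (MIdx 0) F where
  toFun t := Matrix.fromBlocks 1 0 0 (mat t.1).toBlocks₂₂
  map_one' := by
    show Matrix.fromBlocks 1 0 0 (mat (1 : OG F m a b)).toBlocks₂₂ = 1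
    have h1 : (1 : Matrix (MIdx m) (MIdx m) F).toBlocks₂₂ = 1 := by
      ext i j
      simp [Matrix.toBlocks₂₂, Matrix.one_apply]
    rw [mat_one, h1, Matrix.fromBlocks_one]
  map_mul' t t' := by
    show Matrix.fromBlocks 1 0 0 (mat (t.1 * t'.1)).toBlocks₂₂ = _
    rw [cardt_mul_block hT t.1 t'.1 t.2 t'.2, Matrix.fromBlocks_multiply]
    simp only [Matrix.mul_zero, Matrix.zero_mul, add_zero, zero_add, Matrix.mul_one]

theorem cardt_quad_elim (c : Fin 2 → F) :
    Cfsg.quadFormMinus m F a b (Sum.elim 0 c) = c 0 ^ 2 + a * c 0 * c 1 + b * c 1 ^ 2 := by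
  simp [Cfsg.quadFormMinus]

theorem cardt_quad_zero (u : MIdx 0 → F) :
    Cfsg.quadFormMinus 0 F a b u
      = u (Sum.inr 0) ^ 2 + a * u (Sum.inr 0) * u (Sum.inr 1) + b * u (Sum.inr 1) ^ 2 := by
  simp [Cfsg.quadFormMinus]

include hT in
theorem cardt_bW_iso (t : ↥(Bo F m a b ⊓ No F m a b)) (u : MIdx 0 → F) :
    Cfsg.quadFormMinus 0 F a b (cardt_bW hT t *ᵥ u) = Cfsg.quadFormMinus 0 F a b u := by
  obtain ⟨d, hd⟩ := hT t.1 t.2
  have h1 : Cfsg.quadFormMinus m F a b (mat t.1 *ᵥ (Sum.elim 0 (fun j => u (Sum.inr j))))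
      = Cfsg.quadFormMinus m F a b (Sum.elim 0 (fun j => u (Sum.inr j))) := by
    rw [minusForm_coe]
    exact mat_preserves t.1 (Sum.elim 0 (fun j => u (Sum.inr j)))
  have h2 : mat t.1 *ᵥ (Sum.elim 0 (fun j => u (Sum.inr j)) : MIdx m → F)
      = Sum.elim (0 : Idx m → F) ((mat t.1).toBlocks₂₂ *ᵥ (fun j => u (Sum.inr j))) := by
    conv_lhs => rw [cardt_struct hd, Matrix.fromBlocks_mulVec]
    congr 1
    · ext s
      simp
    · ext j
      simp
  rw [h2, cardt_quad_elim, cardt_quad_elim] at h1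
  rw [cardt_quad_zero, cardt_quad_zero]
  have h3 : ∀ j : Fin 2, (cardt_bW hT t *ᵥ u) (Sum.inr j)
      = ((mat t.1).toBlocks₂₂ *ᵥ (fun j => u (Sum.inr j))) j := by
    intro j
    show ((Matrix.fromBlocks 1 0 0 (mat t.1).toBlocks₂₂ : Matrix (MIdx 0) (MIdx 0) F) *ᵥ u) (Sum.inr j) = _
    rw [Matrix.fromBlocks_mulVec]
    simp
  rw [h3 0, h3 1]
  exact h1

/-- the `W`-block as an element of `O(W)` -/
def cardt_rho : ↥(Bo F m a b ⊓ No F m a b) →*
    ↥(Cfsg.isometryGroup F (Cfsg.quadFormMinus 0 F a b)) :=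
  (cardt_bW hT).toHomUnits.codRestrict (Cfsg.isometryGroup F (Cfsg.quadFormMinus 0 F a b))
    (fun t => by
      intro u v
      show Cfsg.quadFormMinus 0 F a b
        ((((cardt_bW hT).toHomUnits t : (Matrix (MIdx 0) (MIdx 0) F)ˣ) : Matrix (MIdx 0) (MIdx 0) F) *ᵥ u) = _
      rw [MonoidHom.coe_toHomUnits]
      exact cardt_bW_iso hT t u)

/-- the comparison homomorphism `T → (F^×)^m × O(W)` -/
def cardt_Psi : ↥(Bo F m a b ⊓ No F m a b) →*
    (Fin m → Fˣ) × ↥(Cfsg.isometryGroup F (Cfsg.quadFormMinus 0 F a b)) :=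
  (MonoidHom.pi (fun i => (cardt_dE hT i).toHomUnits)).prod (cardt_rho hT)

theorem cardt_quad_inl (y : Idx m → F) :
    Cfsg.quadFormMinus m F a b (Sum.elim y 0) = ∑ i : Fin m, y (Sum.inl i) * y (Sum.inr i) := by
  simp [Cfsg.quadFormMinus]

include hT in
theorem cardt_eq_one (t : OG F m a b) (ht : t ∈ Bo F m a b ⊓ No F m a b)
    (h1 : ∀ i : Fin m, mat t (Sum.inl (Sum.inl i)) (Sum.inl (Sum.inl i)) = 1)
    (h2 : (Matrix.fromBlocks 1 0 0 (mat t).toBlocks₂₂ : Matrix (MIdx 0) (MIdx 0) F) = 1) : t = 1 := by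
  classical
  obtain ⟨d, hd⟩ := hT t ht
  have hs := cardt_struct hd
  have hD : (mat t).toBlocks₂₂ = 1 := by
    have h3 := congrArg Matrix.toBlocks₂₂ h2
    rw [Matrix.toBlocks_fromBlocks₂₂] at h3
    rw [h3]
    ext i j
    simp [Matrix.toBlocks₂₂, Matrix.one_apply]
  have hf : ∀ i : Fin m, mat t (Sum.inl (Sum.inr i)) (Sum.inl (Sum.inr i)) = 1 := by
    intro i
    obtain ⟨y, hy⟩ : ∃ y : Idx m → F, y = Pi.single (Sum.inl i) 1 + Pi.single (Sum.inr i) 1 := ⟨_, rfl⟩
    have h3 : Cfsg.quadFormMinus m F a b (mat t *ᵥ (Sum.elim y 0))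
        = Cfsg.quadFormMinus m F a b (Sum.elim y 0) := by
      rw [minusForm_coe]
      exact mat_preserves t (Sum.elim y 0)
    have h4 : mat t *ᵥ (Sum.elim y 0 : MIdx m → F)
        = Sum.elim (fun s => mat t (Sum.inl s) (Sum.inl s) * y s) (0 : Fin 2 → F) := by
      conv_lhs => rw [hs, Matrix.fromBlocks_mulVec]
      congr 1
      · ext s
        simp [Matrix.mulVec_diagonal]
      · ext j
        simp
    rw [h4, cardt_quad_inl, cardt_quad_inl] at h3
    rw [Finset.sum_eq_single i, Finset.sum_eq_single i] at h3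
    · rw [hy] at h3
      simp only [Pi.add_apply, Pi.single_eq_same, ne_eq, reduceCtorEq, not_false_eq_true,
        Pi.single_eq_of_ne, add_zero, zero_add, mul_one] at h3
      rw [h1 i, one_mul] at h3
      exact h3
    · intro j _ hji
      rw [hy]
      simp [hji]
    · intro h
      exact absurd (Finset.mem_univ i) h
    · intro j _ hji
      rw [hy]
      simp [hji]
    · intro h
      exact absurd (Finset.mem_univ i) h
  apply mat_injective
  rw [mat_one, hs, hD, ← Matrix.fromBlocks_one]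
  congr 1
  rw [← Matrix.diagonal_one]
  congr 1
  funext s
  rcases s with i | i
  · exact h1 i
  · exact hf i

include hT in
theorem cardt_Psi_injective : Function.Injective (cardt_Psi hT) := by
  rw [injective_iff_map_eq_one]
  intro t ht
  have h1 : ∀ i : Fin m, mat t.1 (Sum.inl (Sum.inl i)) (Sum.inl (Sum.inl i)) = 1 := by
    intro i
    have h3 : (cardt_dE hT i).toHomUnits t = 1 := congrArg (fun x => x.1 i) ht
    have h4 := congrArg Units.val h3
    rw [MonoidHom.coe_toHomUnits] at h4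
    exact h4
  have h2 : (Matrix.fromBlocks 1 0 0 (mat t.1).toBlocks₂₂ : Matrix (MIdx 0) (MIdx 0) F) = 1 := by
    have h3 : cardt_rho hT t = 1 := congrArg (fun x => x.2) ht
    have h4 : (cardt_bW hT).toHomUnits t = 1 := congrArg Subtype.val h3
    have h5 := congrArg Units.val h4
    rw [MonoidHom.coe_toHomUnits] at h5
    exact h5
  exact Subtype.ext (cardt_eq_one hT t.1 t.2 h1 h2)

include hT in
theorem cardt_card_dvd [Fintype F] (hab : Aniso a b) :
    Nat.card ↥(Bo F m a b ⊓ No F m a b) ∣ (Fintype.card F - 1) ^ m * (2 * (Fintype.card F + 1)) := by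
  have h1 := Subgroup.card_dvd_of_injective (cardt_Psi hT) (cardt_Psi_injective hT)
  rw [Nat.card_prod, Nat.card_fun, Nat.card_eq_fintype_card (α := Fin m), Fintype.card_fin,
    Nat.card_units, Nat.card_eq_fintype_card (α := F),
    card_isometryGroup_minus 0 F a b hab] at h1
  simpa using h1

include hT in
theorem cardt_odd_core [Fintype F] (hab : Aniso a b) (p : ℕ) [Fact p.Prime] [CharP F p] (hp : p ≠ 2) :
    ¬ p ∣ Nat.card (Bo F m a b ⊓ No F m a b : Subgroup (OG F m a b)) := by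
  intro h
  have h1 := h.trans (cardt_card_dvd hT hab)
  obtain ⟨n, -, hn⟩ := FiniteField.card F p
  have hpp : p.Prime := Fact.out
  have hq : p ∣ Fintype.card F := by
    rw [hn]
    exact dvd_pow_self p n.pos.ne'
  have hq1 : 1 ≤ Fintype.card F := Fintype.card_pos
  rcases (Nat.Prime.dvd_mul hpp).mp h1 with h2 | h2
  · have h3 := hpp.dvd_of_dvd_pow h2
    have h4 : p ∣ Fintype.card F - (Fintype.card F - 1) := Nat.dvd_sub hq h3
    rw [Nat.sub_sub_self hq1] at h4
    exact hpp.one_lt.ne' (Nat.dvd_one.mp h4)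
  · rcases (Nat.Prime.dvd_mul hpp).mp h2 with h3 | h3
    · exact hp ((Nat.prime_dvd_prime_iff_eq hpp Nat.prime_two).mp h3)
    · have h4 : p ∣ 1 := (Nat.dvd_add_right hq).mp h3
      exact hpp.one_lt.ne' (Nat.dvd_one.mp h4)

end core

section even
variable [CharP F 2]

/-- the matrix of the reflection in `w₀ = (1,0)`, on `W` -/
def cardt_R (a : F) : Matrix (Fin 2) (Fin 2) F := !![1, a; 0, 1]

/-- the matrix of the reflection in `w₀ = (1,0)` -/
def cardt_M (m : ℕ) (a : F) : Matrix (MIdx m) (MIdx m) F := Matrix.fromBlocks 1 0 0 (cardt_R a)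

theorem cardt_R_mul (a : F) : cardt_R a * cardt_R a = 1 := by
  ext i j
  fin_cases i <;> fin_cases j <;>
    simp [cardt_R, Matrix.mul_apply, Fin.sum_univ_two, CharTwo.add_self_eq_zero]

theorem cardt_M_mul (a : F) : cardt_M m a * cardt_M m a = 1 := by
  rw [cardt_M, Matrix.fromBlocks_multiply]
  simp only [Matrix.mul_zero, Matrix.zero_mul, add_zero, zero_add, Matrix.mul_one, cardt_R_mul]
  exact Matrix.fromBlocks_one

theorem cardt_M_iso (u : MIdx m → F) :
    Cfsg.quadFormMinus m F a b (cardt_M m a *ᵥ u) = Cfsg.quadFormMinus m F a b u := by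
  have h2 : (2 : F) = 0 := CharTwo.two_eq_zero
  have hl : ∀ s : Idx m, (cardt_M m a *ᵥ u) (Sum.inl s) = u (Sum.inl s) := by
    intro s
    rw [cardt_M, Matrix.fromBlocks_mulVec]
    simp
  have h0 : (cardt_M m a *ᵥ u) (Sum.inr 0) = u (Sum.inr 0) + a * u (Sum.inr 1) := by
    rw [cardt_M, Matrix.fromBlocks_mulVec]
    simp [cardt_R, dotProduct, Fin.sum_univ_two]
  have h1 : (cardt_M m a *ᵥ u) (Sum.inr 1) = u (Sum.inr 1) := by
    rw [cardt_M, Matrix.fromBlocks_mulVec]
    simp [cardt_R, dotProduct, Fin.sum_univ_two]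
  unfold Cfsg.quadFormMinus
  simp only [hl, h0, h1]
  linear_combination (a * u (Sum.inr 0) * u (Sum.inr 1) + a ^ 2 * u (Sum.inr 1) ^ 2) * h2

/-- the reflection in `w₀ = (1,0)` as an element of `O^-_{2m+2}(F)` -/
def cardt_r (m : ℕ) (a b : F) : OG F m a b :=
  ⟨⟨cardt_M m a, cardt_M m a, cardt_M_mul a, cardt_M_mul a⟩, by
    intro u v
    show (minusForm m F a b) (cardt_M m a *ᵥ u) = (minusForm m F a b) u
    rw [← minusForm_coe]
    exact cardt_M_iso u⟩

theorem cardt_mat_r : mat (cardt_r m a b) = cardt_M m a := rfl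

theorem cardt_r_mem : cardt_r m a b ∈ Bo F m a b ⊓ No F m a b := by
  refine Subgroup.mem_inf.mpr ⟨?_, ?_⟩
  · rw [mem_Bo_iff]
    intro i j hij
    rw [cardt_mat_r, cardt_M]
    rcases i with i | i <;> rcases j with j | j
    · rw [Matrix.fromBlocks_apply₁₁, Matrix.one_apply_ne]
      rintro rfl
      exact lt_irrefl _ hij
    · rfl
    · rfl
    · simp at hij
  · rw [mem_No_iff]
    refine ⟨1, fun _ => 1, ?_, ?_, ?_⟩
    · rw [cardt_mat_r, cardt_M, Matrix.toBlocks_fromBlocks₁₁]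
      intro s t
      by_cases h : s = t
      · simp [Matrix.one_apply, h]
      · simp [h]
    · rw [cardt_mat_r, cardt_M, Matrix.toBlocks_fromBlocks₁₂]
    · rw [cardt_mat_r, cardt_M, Matrix.toBlocks_fromBlocks₂₁]

theorem cardt_two_dvd (ha : a ≠ 0) : 2 ∣ Nat.card ↥(Bo F m a b ⊓ No F m a b) := by
  have h1 : (⟨cardt_r m a b, cardt_r_mem⟩ : ↥(Bo F m a b ⊓ No F m a b)) ^ 2 = 1 := by
    apply Subtype.ext
    apply mat_injective
    show mat (cardt_r m a b ^ 2) = mat 1
    rw [pow_two, mat_mul, cardt_mat_r, cardt_M_mul, mat_one]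
  have h2 : (⟨cardt_r m a b, cardt_r_mem⟩ : ↥(Bo F m a b ⊓ No F m a b)) ≠ 1 := by
    intro h
    have h3 : mat (cardt_r m a b) = mat (1 : OG F m a b) := congrArg (fun x => mat x.1) h
    rw [cardt_mat_r, mat_one] at h3
    have h4 := congrFun (congrFun h3 (Sum.inr 0)) (Sum.inr 1)
    rw [cardt_M, Matrix.fromBlocks_apply₂₂, Matrix.one_apply_ne (by simp)] at h4
    simp [cardt_R] at h4
    exact ha h4
  have h3 := orderOf_eq_prime h1 h2
  have h4 := orderOf_dvd_natCard (⟨cardt_r m a b, cardt_r_mem⟩ : ↥(Bo F m a b ⊓ No F m a b))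
  rw [h3] at h4
  exact h4

theorem cardt_even_core [Fintype F] (hab : Aniso a b)
    (hT : ∀ g : OG F m a b, g ∈ Bo F m a b ⊓ No F m a b → ∃ d : Idx m → F, IsBMono (mat g) 1 d) :
    ∃ k : ℕ, Odd k ∧ Nat.card (Bo F m a b ⊓ No F m a b : Subgroup (OG F m a b)) = 2 * k := by
  have h2 : (2 : F) = 0 := CharTwo.two_eq_zero
  have ha : a ≠ 0 := by
    rintro rfl
    obtain ⟨e, he⟩ := FiniteField.isSquare_of_char_two (ringChar.eq F 2) b
    have := hab e 1 (by rw [he]; linear_combination (e * e) * h2)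
    exact one_ne_zero this.2
  obtain ⟨k, hk⟩ := cardt_two_dvd (m := m) (b := b) ha
  refine ⟨k, ?_, hk⟩
  have h1 := cardt_card_dvd hT hab
  rw [hk] at h1
  have h3 : 2 * k ∣ 2 * ((Fintype.card F - 1) ^ m * (Fintype.card F + 1)) := by
    have : 2 * ((Fintype.card F - 1) ^ m * (Fintype.card F + 1))
        = (Fintype.card F - 1) ^ m * (2 * (Fintype.card F + 1)) := by ring
    rw [this]
    exact h1
  have h4 := Nat.dvd_of_mul_dvd_mul_left two_pos h3
  obtain ⟨n, -, hn⟩ := FiniteField.card F 2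
  have hev : Even (Fintype.card F) := by
    rw [hn]
    exact (Nat.even_pow.mpr ⟨even_two, n.pos.ne'⟩)
  have hq1 : 1 ≤ Fintype.card F := Fintype.card_pos
  have ho1 : Odd (Fintype.card F - 1) := Nat.Even.sub_odd hq1 hev odd_one
  have ho2 : Odd (Fintype.card F + 1) := hev.add_one
  exact Odd.of_dvd_nat ((ho1.pow).mul ho2) h4

end even

/-- LEAF CARDT-ODD -/
theorem card_T_odd [Fintype F] (hab : Aniso a b) (p : ℕ) [Fact p.Prime] [CharP F p] (hp : p ≠ 2) :
    ¬ p ∣ Nat.card (Bo F m a b ⊓ No F m a b : Subgroup (OG F m a b)) :=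
  cardt_odd_core (fun g hg => (mem_T_iff g).mp hg) hab p hp

/-- LEAF CARDT-EVEN -/
theorem card_T_even [Fintype F] (hab : Aniso a b) [CharP F 2] :
    ∃ k : ℕ, Odd k ∧ Nat.card (Bo F m a b ⊓ No F m a b : Subgroup (OG F m a b)) = 2 * k :=
  cardt_even_core hab (fun g hg => (mem_T_iff g).mp hg)

end Cfsg.Agent.Lib.Helper41.OmBN
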