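import Mathlib
import Cfsg.Agent.Lib.Helper41.PSLnDefs

set_option autoImplicit false
set_option linter.unusedSectionVars false

/-! Leaf T5 of the S5163 project (owner helper41): `B = U * T`. -/

namespace Cfsg.Agent.Lib.Helper41.PSLn

open Matrix

variable {n : ℕ} {K : Type*} [Field K] [Fintype K]

theorem h94_dg_mem_BB (d : Fin n → K) (hd : ∏ i, d i = 1) : dg d hd ∈ BB n K := by
  rw [mem_BB]
  intro i j hij
  rw [dg_coe, Matrix.diagonal_apply_ne _ (ne_of_gt hij)]

theorem h94_prod_diag_of_mem_BB {b : SLn n K} (hb : b ∈ BB n K) : ∏ i, b.1 i i = 1 := by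
  have h1 : Matrix.BlockTriangular (b.1) id := by
    intro i j hij
    exact hb i j hij
  rw [← Matrix.det_of_upperTriangular h1]
  exact b.2

/-- T5. -/
theorem exists_UU_mul_dg {b : SLn n K} (hb : b ∈ BB n K) :
    ∃ u ∈ UU n K, ∃ (d : Fin n → K) (hd : ∏ i, d i = 1), b = u * dg d hd := by
  classical
  have hprod := h94_prod_diag_of_mem_BB hb
  have hne : ∀ i, b.1 i i ≠ 0 := by
    intro i h0
    have : ∏ i, b.1 i i = 0 := Finset.prod_eq_zero (Finset.mem_univ i) h0
    rw [hprod] at this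
    exact one_ne_zero this
  have hprod' : ∏ i, (b.1 i i)⁻¹ = 1 := by
    rw [Finset.prod_inv_distrib, hprod, inv_one]
  have hmul : dg (fun i => (b.1 i i)⁻¹) hprod' * dg (fun i => b.1 i i) hprod = 1 := by
    apply Subtype.ext
    show Matrix.diagonal (fun i => (b.1 i i)⁻¹) * Matrix.diagonal (fun i => b.1 i i) = 1
    rw [Matrix.diagonal_mul_diagonal]
    have : (fun i => (b.1 i i)⁻¹ * b.1 i i) = fun _ => (1 : K) := by
      funext i
      exact inv_mul_cancel₀ (hne i)
    rw [this, Matrix.diagonal_one]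
  refine ⟨b * dg (fun i => (b.1 i i)⁻¹) hprod', ?_, fun i => b.1 i i, hprod, ?_⟩
  · rw [mem_UU]
    have hBB : b * dg (fun i => (b.1 i i)⁻¹) hprod' ∈ BB n K :=
      (BB n K).mul_mem hb (h94_dg_mem_BB _ _)
    refine ⟨hBB, fun i => ?_⟩
    rw [BB_diag_mul hb (h94_dg_mem_BB _ _), dg_coe, Matrix.diagonal_apply_eq]
    exact mul_inv_cancel₀ (hne i)
  · rw [mul_assoc, hmul, mul_one]

end Cfsg.Agent.Lib.Helper41.PSLn
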