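import Mathlib
import Cfsg.Agent.Lib.Helper41.PSLnDefs

set_option autoImplicit false
set_option linter.unusedSectionVars false

/-! Leaves T7, T7b of the S5163 project (owner helper41): torus elements as products of
transvections. -/

namespace Cfsg.Agent.Lib.Helper41.PSLn

open Matrix

variable {n : ℕ} {K : Type*} [Field K] [Fintype K]

theorem h94_hhFun_fst {i j : Fin n} (hij : i ≠ j) (t : Kˣ) : hhFun i j t i = (t : K) := by
  unfold hhFun
  rw [Function.update_of_ne hij, Function.update_self]

theorem h94_hhFun_snd (i j : Fin n) (t : Kˣ) : hhFun i j t j = ((t⁻¹ : Kˣ) : K) := by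
  unfold hhFun
  rw [Function.update_self]

theorem h94_hhFun_other {i j k : Fin n} (hki : k ≠ i) (hkj : k ≠ j) (t : Kˣ) :
    hhFun i j t k = 1 := by
  unfold hhFun
  rw [Function.update_of_ne hkj, Function.update_of_ne hki]

theorem h94_diagonal_hhFun {i j : Fin n} (hij : i ≠ j) (t : Kˣ) :
    Matrix.diagonal (hhFun i j t) =
      1 + Matrix.single i i ((t : K) - 1) + Matrix.single j j ((t : K)⁻¹ - 1) := by
  ext k l
  by_cases hkl : k = l
  · subst hkl
    rw [Matrix.diagonal_apply_eq, Matrix.add_apply, Matrix.add_apply, Matrix.one_apply_eq]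
    by_cases hkj : k = j
    · subst hkj
      rw [h94_hhFun_snd, Matrix.single_apply_same,
        Matrix.single_apply_of_ne _ _ _ _ _ (by tauto)]
      simp
    · by_cases hki : k = i
      · subst hki
        rw [h94_hhFun_fst hij, Matrix.single_apply_same,
          Matrix.single_apply_of_ne _ _ _ _ _ (by tauto)]
        simp
      · rw [h94_hhFun_other hki hkj, Matrix.single_apply_of_ne _ _ _ _ _ (by tauto),
          Matrix.single_apply_of_ne _ _ _ _ _ (by tauto)]
        simp
  · rw [Matrix.diagonal_apply_ne _ hkl, Matrix.add_apply, Matrix.add_apply,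
      Matrix.one_apply_ne hkl, Matrix.single_apply_of_ne _ _ _ _ _ (by
        rintro ⟨rfl, rfl⟩; exact hkl rfl),
      Matrix.single_apply_of_ne _ _ _ _ _ (by rintro ⟨rfl, rfl⟩; exact hkl rfl)]
    simp

/-- T7. -/
theorem hh_eq_tv {i j : Fin n} (hij : i ≠ j) (t : Kˣ) :
    hh i j hij t = tv hij ((t : K) - 1) * tv hij.symm 1 * tv hij ((t : K)⁻¹ - 1) *
      tv hij.symm (-(t : K)) := by
  apply Subtype.ext
  have ht : (t : K) ≠ 0 := t.ne_zero
  show Matrix.diagonal (hhFun i j t) = _
  rw [h94_diagonal_hhFun hij]
  simp only [Matrix.SpecialLinearGroup.coe_mul, Matrix.SpecialLinearGroup.transvection_coe]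
  have hzE : ∀ c d : K, (Matrix.single i j c : Matrix (Fin n) (Fin n) K) * Matrix.single i j d = 0 := by
    intro c d
    apply Matrix.single_mul_single_of_ne
    exact hij.symm
  have hzF : ∀ c d : K, (Matrix.single j i c : Matrix (Fin n) (Fin n) K) * Matrix.single j i d = 0 := by
    intro c d
    apply Matrix.single_mul_single_of_ne
    exact hij
  have hzPF : ∀ c d : K, (Matrix.single i i c : Matrix (Fin n) (Fin n) K) * Matrix.single j i d = 0 := by
    intro c d
    apply Matrix.single_mul_single_of_ne
    exact hij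
  have hzQE : ∀ c d : K, (Matrix.single j j c : Matrix (Fin n) (Fin n) K) * Matrix.single i j d = 0 := by
    intro c d
    apply Matrix.single_mul_single_of_ne
    exact hij.symm
  have h1 : ((1 : Matrix (Fin n) (Fin n) K) + Matrix.single i j ((t : K) - 1)) *
      (1 + Matrix.single j i 1) =
      1 + Matrix.single i j ((t : K) - 1) + Matrix.single j i 1 + Matrix.single i i ((t : K) - 1) := by
    simp only [mul_add, add_mul, mul_one, one_mul, Matrix.single_mul_single_same]
    abel
  have h2 : ((1 : Matrix (Fin n) (Fin n) K) + Matrix.single i j ((t : K) - 1) + Matrix.single j i 1 +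
      Matrix.single i i ((t : K) - 1)) * (1 + Matrix.single i j ((t : K)⁻¹ - 1)) =
      1 + Matrix.single j i 1 + Matrix.single i i ((t : K) - 1) +
        Matrix.single j j ((t : K)⁻¹ - 1) := by
    simp only [mul_add, add_mul, mul_one, one_mul, Matrix.single_mul_single_same, hzE, add_zero]
    have e : Matrix.single i j ((t : K) - 1) + Matrix.single i j ((t : K)⁻¹ - 1) +
        Matrix.single i j (((t : K) - 1) * ((t : K)⁻¹ - 1)) = (0 : Matrix (Fin n) (Fin n) K) := by
      rw [← Matrix.single_add, ← Matrix.single_add]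
      have : (t : K) - 1 + ((t : K)⁻¹ - 1) + ((t : K) - 1) * ((t : K)⁻¹ - 1) = 0 := by
        field_simp
        ring
      rw [this, Matrix.single_zero]
    calc _ = 1 + Matrix.single j i 1 + Matrix.single i i ((t : K) - 1) +
        Matrix.single j j ((t : K)⁻¹ - 1) + (Matrix.single i j ((t : K) - 1) +
          Matrix.single i j ((t : K)⁻¹ - 1) +
          Matrix.single i j (((t : K) - 1) * ((t : K)⁻¹ - 1))) := by abel
      _ = _ := by rw [e, add_zero]
  have h3 : ((1 : Matrix (Fin n) (Fin n) K) + Matrix.single j i 1 + Matrix.single i i ((t : K) - 1) +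
        Matrix.single j j ((t : K)⁻¹ - 1)) * (1 + Matrix.single j i (-(t : K))) =
      1 + Matrix.single i i ((t : K) - 1) + Matrix.single j j ((t : K)⁻¹ - 1) := by
    simp only [mul_add, add_mul, mul_one, one_mul, Matrix.single_mul_single_same, hzF, hzPF,
      add_zero]
    have e : Matrix.single j i (1 : K) + Matrix.single j i (-(t : K)) +
        Matrix.single j i (((t : K)⁻¹ - 1) * (-(t : K))) = (0 : Matrix (Fin n) (Fin n) K) := by
      rw [← Matrix.single_add, ← Matrix.single_add]
      have : (1 : K) + (-(t : K)) + ((t : K)⁻¹ - 1) * (-(t : K)) = 0 := by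
        field_simp
        ring
      rw [this, Matrix.single_zero]
    calc _ = 1 + Matrix.single i i ((t : K) - 1) +
        Matrix.single j j ((t : K)⁻¹ - 1) + (Matrix.single j i (1 : K) + Matrix.single j i (-(t : K)) +
        Matrix.single j i (((t : K)⁻¹ - 1) * (-(t : K)))) := by abel
      _ = _ := by rw [e, add_zero]
  rw [h1, h2, h3]

/-- T7b. -/
theorem hh_mul_hh {a c b : Fin n} (hac : a ≠ c) (hcb : c ≠ b) (hab : a ≠ b) (t : Kˣ) :
    hh a c hac t * hh c b hcb t = hh a b hab t := by
  apply Subtype.ext
  show Matrix.diagonal (hhFun a c t) * Matrix.diagonal (hhFun c b t) = Matrix.diagonal (hhFun a b t)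
  rw [Matrix.diagonal_mul_diagonal]
  congr 1
  funext k
  by_cases hkb : k = b
  · subst hkb
    rw [h94_hhFun_snd, h94_hhFun_snd, h94_hhFun_other hab.symm hcb.symm, one_mul]
  · by_cases hkc : k = c
    · subst hkc
      rw [h94_hhFun_snd, h94_hhFun_fst hcb, h94_hhFun_other hac.symm hkb,
        ← Units.val_mul, inv_mul_cancel, Units.val_one]
    · by_cases hka : k = a
      · subst hka
        rw [h94_hhFun_fst hac, h94_hhFun_fst hab, h94_hhFun_other hkc hkb, mul_one]
      · rw [h94_hhFun_other hka hkc, h94_hhFun_other hkc hkb, h94_hhFun_other hka hkb,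
          mul_one]

end Cfsg.Agent.Lib.Helper41.PSLn
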