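import Mathlib
import Cfsg.Agent.Lib.Helper41.PSLnDefs
import Cfsg.Agent.Lib.Helper94.PSLnT7

set_option autoImplicit false
set_option linter.unusedSectionVars false

/-! Leaf T6 of the S5163 project (owner helper41): the diagonal subgroup of `SL_n` is generated by
the `hh i l t`. -/

namespace Cfsg.Agent.Lib.Helper41.PSLn

open Matrix

variable {n : ℕ} {K : Type*} [Field K] [Fintype K]

theorem h94_hhFun_inv_mul {a l : Fin n} (hal : a ≠ l) (t : Kˣ) (k : Fin n) :
    hhFun a l t⁻¹ k * hhFun a l t k = 1 := by
  by_cases hkl : k = l
  · subst hkl
    rw [h94_hhFun_snd, h94_hhFun_snd, ← Units.val_mul, inv_inv, mul_inv_cancel, Units.val_one]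
  · by_cases hka : k = a
    · subst hka
      rw [h94_hhFun_fst hal, h94_hhFun_fst hal, ← Units.val_mul, inv_mul_cancel, Units.val_one]
    · rw [h94_hhFun_other hka hkl, h94_hhFun_other hka hkl, mul_one]

/-- T6. -/
theorem dg_mem_closure_hh (l : Fin n) (d : Fin n → K) (hd : ∏ i, d i = 1) :
    dg d hd ∈ Subgroup.closure
      {h : SLn n K | ∃ (i : Fin n) (hil : i ≠ l) (t : Kˣ), h = hh i l hil t} := by
  classical
  set C := Subgroup.closure
      {h : SLn n K | ∃ (i : Fin n) (hil : i ≠ l) (t : Kˣ), h = hh i l hil t} with hC
  have key : ∀ S : Finset (Fin n), ∀ (d' : Fin n → K) (hd' : ∏ i, d' i = 1),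
      (∀ k, k ∉ S → k ≠ l → d' k = 1) → dg d' hd' ∈ C := by
    intro S
    induction S using Finset.induction_on with
    | empty =>
      intro d' hd' hsupp
      have h1 : ∀ k, k ≠ l → d' k = 1 := fun k hk => hsupp k (Finset.notMem_empty k) hk
      have hl : d' l = 1 := by
        have h2 := hd'
        rw [← Finset.mul_prod_erase Finset.univ d' (Finset.mem_univ l),
          Finset.prod_eq_one (fun k hk => h1 k (Finset.ne_of_mem_erase hk)), mul_one] at h2
        exact h2
      have h3 : dg d' hd' = 1 := by
        apply Subtype.ext
        show Matrix.diagonal d' = 1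
        have : d' = fun _ => 1 := by
          funext k
          by_cases hk : k = l
          · rw [hk, hl]
          · exact h1 k hk
        rw [this, Matrix.diagonal_one]
      rw [h3]
      exact C.one_mem
    | insert a S ha ih =>
      intro d' hd' hsupp
      by_cases hal : a = l
      · apply ih d' hd'
        intro k hkS hkl
        apply hsupp k _ hkl
        rw [Finset.mem_insert, not_or]
        exact ⟨fun h => hkl (h.trans hal), hkS⟩
      · have hne : d' a ≠ 0 := by
          intro h0
          have : ∏ i, d' i = 0 := Finset.prod_eq_zero (Finset.mem_univ a) h0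
          rw [hd'] at this
          exact one_ne_zero this
        set t : Kˣ := Units.mk0 (d' a) hne with ht
        set d'' : Fin n → K := fun k => d' k * hhFun a l t⁻¹ k with hd''def
        have hd'' : ∏ i, d'' i = 1 := by
          rw [hd''def, Finset.prod_mul_distrib, hd', prod_hhFun a l hal, one_mul]
        have hmul : dg d' hd' = dg d'' hd'' * hh a l hal t := by
          apply Subtype.ext
          show Matrix.diagonal d' = Matrix.diagonal d'' * Matrix.diagonal (hhFun a l t)
          rw [Matrix.diagonal_mul_diagonal]
          congr 1
          funext k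
          rw [hd''def]
          show d' k = d' k * hhFun a l t⁻¹ k * hhFun a l t k
          rw [mul_assoc, h94_hhFun_inv_mul hal, mul_one]
        rw [hmul]
        apply C.mul_mem
        · apply ih d'' hd''
          intro k hkS hkl
          rw [hd''def]
          show d' k * hhFun a l t⁻¹ k = 1
          by_cases hka : k = a
          · subst hka
            rw [h94_hhFun_fst hal, ht]
            show d' k * ((Units.mk0 (d' k) hne)⁻¹ : Kˣ) = 1
            rw [Units.val_inv_eq_inv_val, Units.val_mk0]
            exact mul_inv_cancel₀ hne
          · rw [h94_hhFun_other hka hkl, mul_one]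
            apply hsupp k _ hkl
            rw [Finset.mem_insert, not_or]
            exact ⟨hka, hkS⟩
        · apply Subgroup.subset_closure
          exact ⟨a, hal, t, rfl⟩
  exact key Finset.univ d hd (fun k hk => absurd (Finset.mem_univ k) hk)

end Cfsg.Agent.Lib.Helper41.PSLn
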