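import Cfsg.Agent.Lib.Helper94.Quad

set_option autoImplicit false

namespace Cfsg.Agent.Lib.Helper94

open scoped Matrix
open Cfsg

set_option linter.unusedSectionVars false
set_option linter.unnecessarySimpa false
set_option linter.unusedVariables false

variable {F : Type*} [Field F] {m : ℕ}

lemma polar_quadFormOdd (x y : Unit ⊕ (Fin m ⊕ Fin m) → F) :
    QuadraticMap.polar (quadFormOdd m F) x y = 2 * x (.inl ()) * y (.inl ()) +
      ∑ i : Fin m, (x (.inr (.inl i)) * y (.inr (.inr i)) + x (.inr (.inr i)) * y (.inr (.inl i))) := by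
  unfold QuadraticMap.polar quadFormOdd
  simp only [Pi.add_apply]
  have h1 : ∑ i : Fin m, (x (.inr (.inl i)) + y (.inr (.inl i))) * (x (.inr (.inr i)) + y (.inr (.inr i))) =
      ∑ i : Fin m, x (.inr (.inl i)) * x (.inr (.inr i)) + ∑ i : Fin m, y (.inr (.inl i)) * y (.inr (.inr i)) +
      ∑ i : Fin m, (x (.inr (.inl i)) * y (.inr (.inr i)) + x (.inr (.inr i)) * y (.inr (.inl i))) := by
    rw [← Finset.sum_add_distrib, ← Finset.sum_add_distrib]
    apply Finset.sum_congr rfl; intro i _; ring
  rw [h1]
  ring

lemma nondeg_quadFormOdd (h2 : (2 : F) ≠ 0) : Geo.IsNondegenerateQuadraticForm (quadFormOdd m F) where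
  smul c v := by
    unfold quadFormOdd
    simp only [Pi.smul_apply, smul_eq_mul, Finset.mul_sum]
    rw [mul_add]
    congr 1
    · ring
    · rw [Finset.mul_sum]; apply Finset.sum_congr rfl; intro i _; ring
  polar_bilinear :=
    { add_left := fun x y v => by
        simp only [polar_quadFormOdd, Pi.add_apply, add_mul, mul_add, Finset.sum_add_distrib]; ring
      smul_left := fun c x v => by
        simp only [polar_quadFormOdd, Pi.smul_apply, smul_eq_mul, mul_add, Finset.mul_sum]
        congr 1
        · ring
        · apply Finset.sum_congr rfl; intro i _; ring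
      add_right := fun v x y => by
        simp only [polar_quadFormOdd, Pi.add_apply, add_mul, mul_add, Finset.sum_add_distrib]; ring
      smul_right := fun c v x => by
        simp only [polar_quadFormOdd, Pi.smul_apply, smul_eq_mul, mul_add, Finset.mul_sum]
        congr 1
        · ring
        · apply Finset.sum_congr rfl; intro i _; ring }
  nondegenerate := by
    have key : ∀ v : Unit ⊕ (Fin m ⊕ Fin m) → F, v ≠ 0 →
        ∃ x, QuadraticMap.polar (quadFormOdd m F) x v ≠ 0 := by
      intro v hv
      obtain ⟨j, hj⟩ : ∃ j, v j ≠ 0 := by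
        by_contra hcon
        push Not at hcon
        exact hv (funext hcon)
      rcases j with ⟨⟩ | j | j
      · refine ⟨Pi.single (.inl ()) 1, ?_⟩
        rw [polar_quadFormOdd]
        simp [Pi.single_apply, h2, hj]
      · refine ⟨Pi.single (.inr (.inr j)) 1, ?_⟩
        rw [polar_quadFormOdd]
        simp [Pi.single_apply, Finset.sum_ite_eq', hj]
      · refine ⟨Pi.single (.inr (.inl j)) 1, ?_⟩
        rw [polar_quadFormOdd]
        simp [Pi.single_apply, Finset.sum_ite_eq', hj]
    intro v hv
    obtain ⟨x, hx⟩ := key v hv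
    exact ⟨⟨x, hx⟩, ⟨x, by rw [QuadraticMap.polar_comm]; exact hx⟩⟩

end Cfsg.Agent.Lib.Helper94
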