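import Mathlib

/-!
# Rs hive (helper45, S2361): leaf RS-AL `exists_normal_pgroup`

A nontrivial solvable subgroup `S` of a finite group has a nontrivial normal `l`-subgroup `B`, chosen so
that `l = 2 ∧ |B| = 2` only happens when `S = B`.  (Mathlib only.)
-/

set_option autoImplicit false

namespace Cfsg.Agent.Lib.Helper45.Rs

open scoped commutatorElement

section al

variable {G : Type*} [Group G]

/-- `A` is invariant under conjugation by the elements of `S` -/
def al_Inv (S A : Subgroup G) : Prop :=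
  ∀ s ∈ S, A.map (MulAut.conj s).toMonoidHom ≤ A

theorem al_Inv.conj_mem {S A : Subgroup G} (h : al_Inv S A) {s a : G} (hs : s ∈ S) (ha : a ∈ A) :
    s * a * s⁻¹ ∈ A := by
  apply h s hs
  exact ⟨a, ha, by simp [MulAut.conj_apply]⟩

theorem al_Inv.of_conj_mem {S A : Subgroup G} (h : ∀ s ∈ S, ∀ a ∈ A, s * a * s⁻¹ ∈ A) : al_Inv S A := by
  rintro s hs _ ⟨a, ha, rfl⟩
  simpa [MulAut.conj_apply] using h s hs a ha

theorem al_Inv.le_normalizer {S A : Subgroup G} (h : al_Inv S A) :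
    S ≤ Subgroup.normalizer (A : Set G) := by
  intro s hs
  rw [Subgroup.mem_normalizer_iff]
  intro x
  constructor
  · intro hx
    exact h.conj_mem hs hx
  · intro hx
    have := h.conj_mem (S.inv_mem hs) hx
    simpa [mul_assoc] using this

theorem al_Inv.self (S : Subgroup G) : al_Inv S S :=
  al_Inv.of_conj_mem fun s hs a ha => S.mul_mem (S.mul_mem hs ha) (S.inv_mem hs)

theorem al_Inv.sup {S A B : Subgroup G} (hA : al_Inv S A) (hB : al_Inv S B) : al_Inv S (A ⊔ B) := by
  intro s hs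
  rw [Subgroup.map_sup]
  exact sup_le_sup (hA s hs) (hB s hs)

theorem al_Inv.commutator {S A : Subgroup G} (hA : al_Inv S A) : al_Inv S ⁅A, A⁆ := by
  intro s hs
  rw [Subgroup.map_commutator]
  exact Subgroup.commutator_mono (hA s hs) (hA s hs)

/-- the `l`-elements of `A`, when they commute pairwise -/
def al_primary (A : Subgroup G) (l : ℕ)
    (hcomm : ∀ x ∈ A, ∀ y ∈ A, (∃ k : ℕ, x ^ (l ^ k) = 1) → (∃ k : ℕ, y ^ (l ^ k) = 1) → x * y = y * x) :
    Subgroup G where
  carrier := {x | x ∈ A ∧ ∃ k : ℕ, x ^ (l ^ k) = 1}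
  one_mem' := ⟨A.one_mem, 0, by simp⟩
  mul_mem' := by
    rintro x y ⟨hx, j, hj⟩ ⟨hy, k, hk⟩
    refine ⟨A.mul_mem hx hy, j + k, ?_⟩
    have hc : Commute x y := hcomm x hx y hy ⟨j, hj⟩ ⟨k, hk⟩
    rw [hc.mul_pow, pow_add, pow_mul, hj, one_pow, one_mul, mul_comm (l ^ j), pow_mul, hk, one_pow]
  inv_mem' := by
    rintro x ⟨hx, j, hj⟩
    exact ⟨A.inv_mem hx, j, by rw [inv_pow, hj, inv_one]⟩

theorem al_mem_primary {A : Subgroup G} {l : ℕ}
    {hcomm : ∀ x ∈ A, ∀ y ∈ A, (∃ k : ℕ, x ^ (l ^ k) = 1) → (∃ k : ℕ, y ^ (l ^ k) = 1) → x * y = y * x}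
    {x : G} : x ∈ al_primary A l hcomm ↔ x ∈ A ∧ ∃ k : ℕ, x ^ (l ^ k) = 1 := Iff.rfl

theorem al_primary_le {A : Subgroup G} {l : ℕ}
    (hcomm : ∀ x ∈ A, ∀ y ∈ A, (∃ k : ℕ, x ^ (l ^ k) = 1) → (∃ k : ℕ, y ^ (l ^ k) = 1) → x * y = y * x) :
    al_primary A l hcomm ≤ A := fun _ hx => hx.1

theorem al_primary_isPGroup {A : Subgroup G} {l : ℕ}
    (hcomm : ∀ x ∈ A, ∀ y ∈ A, (∃ k : ℕ, x ^ (l ^ k) = 1) → (∃ k : ℕ, y ^ (l ^ k) = 1) → x * y = y * x) :
    IsPGroup l (al_primary A l hcomm) := by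
  rintro ⟨x, hx⟩
  obtain ⟨k, hk⟩ := hx.2
  exact ⟨k, Subtype.ext (by simpa using hk)⟩

theorem al_primary_inv {S A : Subgroup G} {l : ℕ}
    (hcomm : ∀ x ∈ A, ∀ y ∈ A, (∃ k : ℕ, x ^ (l ^ k) = 1) → (∃ k : ℕ, y ^ (l ^ k) = 1) → x * y = y * x)
    (hA : al_Inv S A) : al_Inv S (al_primary A l hcomm) := by
  apply al_Inv.of_conj_mem
  rintro s hs x ⟨hx, k, hk⟩
  refine ⟨hA.conj_mem hs hx, k, ?_⟩
  rw [conj_pow, hk, mul_one, mul_inv_cancel]

theorem al_primary_ne_bot [Finite G] {A : Subgroup G} {l : ℕ} (hl : l.Prime)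
    (hcomm : ∀ x ∈ A, ∀ y ∈ A, (∃ k : ℕ, x ^ (l ^ k) = 1) → (∃ k : ℕ, y ^ (l ^ k) = 1) → x * y = y * x)
    (hdvd : l ∣ Nat.card A) : al_primary A l hcomm ≠ ⊥ := by
  have : Fact l.Prime := ⟨hl⟩
  obtain ⟨x, hx⟩ := exists_prime_orderOf_dvd_card' l hdvd
  intro h
  have hmem : (x : G) ∈ al_primary A l hcomm := by
    refine ⟨x.2, 1, ?_⟩
    rw [pow_one, ← Subgroup.orderOf_coe] at *
    rw [← hx]
    exact pow_orderOf_eq_one _
  rw [h, Subgroup.mem_bot] at hmem
  have : x = 1 := Subtype.ext hmem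
  rw [this, orderOf_one] at hx
  exact hl.one_lt.ne hx

/-- the derived subgroup of a nontrivial subgroup of a solvable subgroup is strictly smaller -/
theorem al_commutator_lt {S A : Subgroup G} (hS : Group.IsSolvable S) (hAS : A ≤ S) (hA : A ≠ ⊥) :
    ⁅A, A⁆ < A := by
  have := hS
  have : Group.IsSolvable ↥A :=
    Group.isSolvable_of_isSolvable_injective (Subgroup.inclusion_injective hAS)
  have : Nontrivial ↥A := (Subgroup.nontrivial_iff_ne_bot A).mpr hA
  have h1 : commutator ↥A < ⊤ := Group.IsSolvable.commutator_lt_top_of_nontrivial ↥A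
  have h2 : ⁅A, A⁆ = (commutator ↥A).map A.subtype := by
    rw [commutator_def, Subgroup.map_commutator, ← MonoidHom.range_eq_map, Subgroup.range_subtype]
  have h3 : ⁅A, A⁆ ≤ A := by
    rw [h2]; exact Subgroup.map_subtype_le _
  refine lt_of_le_of_ne h3 ?_
  intro h4
  apply h1.ne
  apply Subgroup.map_injective A.subtype_injective
  rw [← h2, h4, ← MonoidHom.range_eq_map, Subgroup.range_subtype]

/-- a nontrivial `S`-invariant subgroup of the solvable `S` contains a nontrivial `S`-invariant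
`l`-subgroup -/
theorem al_exists_some [Finite G] {S : Subgroup G} (hS : Group.IsSolvable S) :
    ∀ A : Subgroup G, A ≤ S → A ≠ ⊥ → al_Inv S A →
      ∃ (l : ℕ) (Q : Subgroup G), l.Prime ∧ Q ≤ A ∧ Q ≠ ⊥ ∧ IsPGroup l Q ∧ al_Inv S Q := by
  intro A
  induction A using WellFoundedLT.induction with
  | ind A ih =>
  intro hAS hA hinv
  by_cases hc : ⁅A, A⁆ = ⊥
  · -- `A` is abelian
    have hcomm : ∀ x ∈ A, ∀ y ∈ A, x * y = y * x := by
      intro x hx y hy
      have h1 : ⁅x, y⁆ ∈ ⁅A, A⁆ := Subgroup.commutator_mem_commutator hx hy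
      rw [hc, Subgroup.mem_bot] at h1
      exact commutatorElement_eq_one_iff_mul_comm.mp h1
    have hcard : Nat.card A ≠ 1 := by
      intro h
      exact hA (Subgroup.card_eq_one.mp h)
    obtain ⟨l, hl, hdvd⟩ := Nat.exists_prime_and_dvd hcard
    have hcomm' : ∀ x ∈ A, ∀ y ∈ A, (∃ k : ℕ, x ^ (l ^ k) = 1) → (∃ k : ℕ, y ^ (l ^ k) = 1) →
        x * y = y * x := fun x hx y hy _ _ => hcomm x hx y hy
    exact ⟨l, al_primary A l hcomm', hl, al_primary_le hcomm', al_primary_ne_bot hl hcomm' hdvd,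
      al_primary_isPGroup hcomm', al_primary_inv hcomm' hinv⟩
  · have hlt := al_commutator_lt hS hAS hA
    obtain ⟨l, Q, hl, hQ, hQne, hQp, hQinv⟩ := ih _ hlt (hlt.le.trans hAS) hc hinv.commutator
    exact ⟨l, Q, hl, hQ.trans hlt.le, hQne, hQp, hQinv⟩

/-- commuting of odd-order elements whose commutator lies in a central subgroup of order two -/
theorem al_comm_of_odd {l : ℕ} (hl2 : Odd l) {x y z : G} (hzy : z * y = y * z) (hz2 : z * z = 1)
    (hc : x * y * x⁻¹ * y⁻¹ = 1 ∨ x * y * x⁻¹ * y⁻¹ = z) (hy : ∃ k : ℕ, y ^ (l ^ k) = 1) :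
    x * y = y * x := by
  rcases hc with hc | hc
  · calc x * y = (x * y * x⁻¹ * y⁻¹) * y * x := by group
      _ = y * x := by rw [hc, one_mul]
  · obtain ⟨k, hk⟩ := hy
    -- `x y x⁻¹ = z y`
    have h1 : x * y * x⁻¹ = z * y := by
      calc x * y * x⁻¹ = (x * y * x⁻¹ * y⁻¹) * y := by group
        _ = z * y := by rw [hc]
    have h2 : (x * y * x⁻¹) ^ (l ^ k) = 1 := by
      rw [conj_pow, hk, mul_one, mul_inv_cancel]
    have hcomm : Commute z y := hzy
    rw [h1, hcomm.mul_pow, hk, mul_one] at h2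
    have hodd : Odd (l ^ k) := hl2.pow
    obtain ⟨m, hm⟩ := hodd
    have hz2' : z ^ 2 = 1 := by rw [pow_two, hz2]
    rw [hm, pow_succ, pow_mul, hz2', one_pow, one_mul] at h2
    rw [h2] at hc
    calc x * y = (x * y * x⁻¹ * y⁻¹) * y * x := by group
      _ = y * x := by rw [hc, one_mul]

theorem exists_normal_pgroup {G : Type*} [Group G] [Finite G] (S : Subgroup G) (hS : Group.IsSolvable S) (hne : S ≠ ⊥) :
    ∃ (l : ℕ) (B : Subgroup G), l.Prime ∧ B ≤ S ∧ B ≠ ⊥ ∧ IsPGroup l B ∧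
      S ≤ Subgroup.normalizer (B : Set G) ∧ (l = 2 → Nat.card B = 2 → S = B) := by
  classical
  by_cases hodd : ∃ (l : ℕ) (B : Subgroup G), l.Prime ∧ l ≠ 2 ∧ B ≤ S ∧ B ≠ ⊥ ∧ IsPGroup l B ∧ al_Inv S B
  · obtain ⟨l, B, hl, hl2, hBS, hBne, hBp, hBinv⟩ := hodd
    exact ⟨l, B, hl, hBS, hBne, hBp, hBinv.le_normalizer, fun h => absurd h hl2⟩
  · -- every nontrivial invariant `l`-subgroup has `l = 2`
    have hall : ∀ (l : ℕ) (B : Subgroup G), l.Prime → B ≤ S → B ≠ ⊥ → IsPGroup l B → al_Inv S B → l = 2 := by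
      intro l B hl hBS hBne hBp hBinv
      by_contra hl2
      exact hodd ⟨l, B, hl, hl2, hBS, hBne, hBp, hBinv⟩
    -- the invariant 2-subgroups, one of maximal order
    let T : Set (Subgroup G) := {B | B ≤ S ∧ IsPGroup 2 B ∧ al_Inv S B}
    have hTbot : (⊥ : Subgroup G) ∈ T :=
      ⟨bot_le, IsPGroup.of_bot, al_Inv.of_conj_mem fun s _ a ha => by
        rw [Subgroup.mem_bot] at ha ⊢
        rw [ha, mul_one, mul_inv_cancel]⟩
    obtain ⟨B, hBT, hBmax⟩ := Set.exists_max_image T (fun B => Nat.card B) (Set.toFinite T) ⟨⊥, hTbot⟩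
    have hBS : B ≤ S := hBT.1
    have hB2 : IsPGroup 2 B := hBT.2.1
    have hBinv : al_Inv S B := hBT.2.2
    -- every member of `T` lies in `B`
    have hTle : ∀ A ∈ T, A ≤ B := by
      intro A hA
      have hAB : A ⊔ B ∈ T := by
        refine ⟨sup_le hA.1 hBS, ?_, hA.2.2.sup hBinv⟩
        exact IsPGroup.to_sup_of_normal_right' hA.2.1 hB2 (hA.1.trans hBinv.le_normalizer)
      have h1 : Nat.card ↥(A ⊔ B) ≤ Nat.card B := hBmax _ hAB
      have h2 : B = A ⊔ B := Subgroup.eq_of_le_of_card_ge le_sup_right h1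
      rw [h2]
      exact le_sup_left
    -- `B` is nontrivial
    obtain ⟨l0, Q0, hl0, hQ0S, hQ0ne, hQ0p, hQ0inv⟩ := al_exists_some hS S le_rfl hne (al_Inv.self S)
    have hl02 : l0 = 2 := hall l0 Q0 hl0 hQ0S hQ0ne hQ0p hQ0inv
    have hBne : B ≠ ⊥ := by
      intro hB
      apply hQ0ne
      rw [eq_bot_iff, ← hB]
      exact hTle Q0 ⟨hQ0S, hl02 ▸ hQ0p, hQ0inv⟩
    refine ⟨2, B, Nat.prime_two, hBS, hBne, hB2, hBinv.le_normalizer, fun _ hcard => ?_⟩
    -- `B = {1, z}` with `z` central in `S`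
    have hBz : ∃ z ∈ B, z ≠ 1 ∧ ∀ b ∈ B, b = 1 ∨ b = z := by
      have h1 : ∃ z : ↥B, z ≠ 1 := by
        by_contra h
        push Not at h
        apply hBne
        rw [Subgroup.eq_bot_iff_forall]
        intro b hb
        exact congrArg Subtype.val (h ⟨b, hb⟩)
      obtain ⟨z, hz⟩ := h1
      refine ⟨z, z.2, fun h => hz (Subtype.ext h), fun b hb => ?_⟩
      by_contra hb'
      push Not at hb'
      have h3 : 3 ≤ Nat.card ↥B := by
        haveI : Fintype ↥B := Fintype.ofFinite _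
        rw [Nat.card_eq_fintype_card]
        have hb1 : (⟨b, hb⟩ : ↥B) ≠ 1 := fun h => hb'.1 (congrArg Subtype.val h)
        have hbz : (⟨b, hb⟩ : ↥B) ≠ z := fun h => hb'.2 (congrArg Subtype.val h)
        have hcard3 : ({1, z, ⟨b, hb⟩} : Finset ↥B).card = 3 := by
          rw [Finset.card_insert_of_notMem, Finset.card_insert_of_notMem, Finset.card_singleton]
          · simp only [Finset.mem_singleton]
            exact fun h => hbz h.symm
          · simp only [Finset.mem_insert, Finset.mem_singleton, not_or]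
            exact ⟨fun h => hz h.symm, fun h => hb1 h.symm⟩
        rw [← hcard3]
        exact Finset.card_le_univ _
      omega
    obtain ⟨z, hzB, hz1, hBz⟩ := hBz
    have hz2 : z * z = 1 := by
      rcases hBz (z * z) (B.mul_mem hzB hzB) with h | h
      · exact h
      · exfalso
        apply hz1
        have : z * z = z * 1 := by rw [h, mul_one]
        exact mul_left_cancel this
    have hzc : ∀ s ∈ S, z * s = s * z := by
      intro s hs
      rcases hBz _ (hBinv.conj_mem hs hzB) with h | h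
      · exfalso
        apply hz1
        have : s * z = s * 1 := by
          have h' : s * z * s⁻¹ * s = 1 * s := by rw [h]
          simpa using h'
        exact mul_left_cancel this
      · have h' : s * z * s⁻¹ * s = z * s := by rw [h]
        simpa using h'.symm
    -- every invariant subgroup of `S` lies in `B`
    have hkey : ∀ A : Subgroup G, A ≤ S → al_Inv S A → A ≤ B := by
      intro A
      induction A using WellFoundedLT.induction with
      | ind A ih =>
      intro hAS hAinv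
      by_cases hA : A = ⊥
      · rw [hA]; exact bot_le
      · have hlt := al_commutator_lt hS hAS hA
        have hD : ⁅A, A⁆ ≤ B := ih _ hlt (hlt.le.trans hAS) hAinv.commutator
        -- `A` is a 2-group
        have hprime : ∀ l : ℕ, l.Prime → l ∣ Nat.card A → l = 2 := by
          intro l hl hdvd
          by_contra hl2
          have hlodd : Odd l := hl.odd_of_ne_two hl2
          have hcomm : ∀ x ∈ A, ∀ y ∈ A, (∃ k : ℕ, x ^ (l ^ k) = 1) → (∃ k : ℕ, y ^ (l ^ k) = 1) →
              x * y = y * x := by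
            intro x hx y hy _ hyk
            have hc : x * y * x⁻¹ * y⁻¹ ∈ B := by
              apply hD
              have := Subgroup.commutator_mem_commutator hx hy
              rwa [commutatorElement_def] at this
            exact al_comm_of_odd hlodd (hzc y (hAS hy)) hz2 (hBz _ hc) hyk
          exact hl2 (hall l (al_primary A l hcomm) hl ((al_primary_le hcomm).trans hAS)
            (al_primary_ne_bot hl hcomm hdvd) (al_primary_isPGroup hcomm) (al_primary_inv hcomm hAinv))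
        have hA2 : IsPGroup 2 A := by
          have hcard : Nat.card A ≠ 0 := Nat.card_pos.ne'
          have := Nat.eq_prime_pow_of_unique_prime_dvd hcard (fun {d} hd hdd => hprime d hd hdd)
          exact IsPGroup.of_card this
        exact hTle A ⟨hAS, hA2, hAinv⟩
    exact le_antisymm (hkey S le_rfl (al_Inv.self S)) hBS

end al

end Cfsg.Agent.Lib.Helper45.Rs
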