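import Cfsg.Agent.Lib.Helper46.AhDefs
import Cfsg.Agent.Lib.Helper70.HsSTAB

/-!
# Ah hive (helper46, S2538): leaf AH-STAB `stab_data`

The point stabilizer of a transitive `M ≤ A(α)`, restricted to the complement of the point, lies in the
alternating group of the complement and has order `|M| / |α|`.
-/

set_option autoImplicit false

namespace Cfsg.Agent.Lib.Helper46.Ah

open Cfsg Equiv
open Cfsg.Agent.Lib.Helper15.Hs (resSub mem_resSub)

section leaves

variable {α : Type*} [Fintype α] [DecidableEq α] {π : Set ℕ} (M : Subgroup (Perm α)) (B : Set α)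

omit [Fintype α] in
/-- an element of the restricted stabilizer extends (by `ofSubtype`) to the element inducing it -/
theorem stab_ofSubtype_eq {x : α} {g : Perm α} (hgx : g x = x)
    (σ : Perm (Subtype (· ∈ ({x}ᶜ : Set α))))
    (hσ : ∀ y : ↥({x}ᶜ : Set α), ((σ y : ↥({x}ᶜ : Set α)) : α) = g (y : α)) :
    Perm.ofSubtype σ = g := by
  ext y
  by_cases hy : y ∈ ({x}ᶜ : Set α)
  · rw [Perm.ofSubtype_apply_of_mem σ hy]
    exact hσ ⟨y, hy⟩
  · rw [Perm.ofSubtype_apply_of_not_mem σ hy]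
    have : y = x := by
      by_contra h
      exact hy h
    rw [this, hgx]

theorem stab_data (hMA : M ≤ alternatingGroup α) (htr : MulAction.IsPretransitive M α) (x : α)
    [Fintype ↥({x}ᶜ : Set α)] [DecidableEq ↥({x}ᶜ : Set α)] :
    resSub (M ⊓ MulAction.stabilizer (Perm α) x) ({x}ᶜ : Set α) ≤
        alternatingGroup ↥({x}ᶜ : Set α) ∧
      Nat.card (resSub (M ⊓ MulAction.stabilizer (Perm α) x) ({x}ᶜ : Set α)) * Fintype.card α =
        Nat.card M := by
  refine ⟨?_, ?_⟩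
  · rintro σ ⟨g, hg, hσ⟩
    have hgx : g x = x := Cfsg.Agent.Lib.Helper15.Hs.hsstab_fix M hg
    have hgA : Perm.sign g = 1 := Perm.mem_alternatingGroup.mp (hMA (Subgroup.mem_inf.mp hg).1)
    rw [Perm.mem_alternatingGroup]
    have h1 : Perm.ofSubtype (p := (· ∈ ({x}ᶜ : Set α))) σ = g := stab_ofSubtype_eq hgx σ hσ
    have h2 := Perm.sign_ofSubtype (p := (· ∈ ({x}ᶜ : Set α))) σ
    rw [h1, hgA] at h2
    have h3 : ∀ (i1 i1' : DecidableEq ↥({x}ᶜ : Set α)) (i2 i2' : Fintype ↥({x}ᶜ : Set α)),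
        @Perm.sign _ i1 i2 σ = @Perm.sign _ i1' i2' σ := by
      intro i1 i1' i2 i2'
      have e1 : i1 = i1' := Subsingleton.elim _ _
      have e2 : i2 = i2' := Subsingleton.elim _ _
      rw [e1, e2]
    rw [h2]
    exact h3 _ _ _ _
  · rw [← Cfsg.Agent.Lib.Helper15.Hs.hsstab_card M x, ← Nat.card_eq_fintype_card]
    exact Cfsg.Agent.Lib.Helper15.Hs.hsstab_card_mul M htr x

end leaves

end Cfsg.Agent.Lib.Helper46.Ah
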