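import Cfsg.Agent.Lib.Helper46.AhDefs
import Cfsg.Agent.Lib.Helper94.AhSTAB

/-!
# Ah hive (helper46, S2538): leaf AH-FIXA `altHall_resSub`

If the Hall `π`-subgroup `M` of `A(α)` fixes the point `a`, its restriction to `{a}ᶜ` is a Hall `π`-subgroup
of `A({a}ᶜ)`.
-/

set_option autoImplicit false

namespace Cfsg.Agent.Lib.Helper46.Ah

open Cfsg Equiv
open Cfsg.Agent.Lib.Helper15.Hs (resSub mem_resSub)

section leaves

variable {α : Type*} [Fintype α] [DecidableEq α] {π : Set ℕ} (M : Subgroup (Perm α)) (B : Set α)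

/-- the sign does not depend on the instances -/
theorem fixa_sign_inst {β : Type*} (σ : Perm β) (i1 i1' : DecidableEq β) (i2 i2' : Fintype β) :
    @Perm.sign _ i1 i2 σ = @Perm.sign _ i1' i2' σ := by
  have e1 : i1 = i1' := Subsingleton.elim _ _
  have e2 : i2 = i2' := Subsingleton.elim _ _
  rw [e1, e2]

/-- `A({a}ᶜ)` embeds in `A(α)`, so its order divides -/
theorem fixa_card_dvd (a : α) [Fintype ↥({a}ᶜ : Set α)] [DecidableEq ↥({a}ᶜ : Set α)] :
    Nat.card (alternatingGroup ↥({a}ᶜ : Set α)) ∣ Nat.card (alternatingGroup α) := by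
  have hmem : ∀ σ : ↥(alternatingGroup ↥({a}ᶜ : Set α)),
      ((Perm.ofSubtype (p := (· ∈ ({a}ᶜ : Set α)))).comp
        (alternatingGroup ↥({a}ᶜ : Set α)).subtype) σ ∈ alternatingGroup α := by
    intro σ
    rw [Perm.mem_alternatingGroup]
    have h1 := Perm.mem_alternatingGroup.mp σ.2
    simp only [MonoidHom.coe_comp, Subgroup.coe_subtype, Function.comp_apply]
    rw [Perm.sign_ofSubtype, ← h1]
    exact fixa_sign_inst _ _ _ _ _
  apply Subgroup.card_dvd_of_injective
    (((Perm.ofSubtype (p := (· ∈ ({a}ᶜ : Set α)))).comp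
      (alternatingGroup ↥({a}ᶜ : Set α)).subtype).codRestrict (alternatingGroup α) hmem)
  intro σ τ h
  have h1 := congrArg Subtype.val h
  simp only [MonoidHom.codRestrict_apply, MonoidHom.coe_comp, Subgroup.coe_subtype,
    Function.comp_apply] at h1
  exact Subtype.ext (Perm.ofSubtype_injective h1)

theorem altHall_resSub (hM : AltHall π M) (a : α) (ha : ∀ g ∈ M, g a = a)
    [Fintype ↥({a}ᶜ : Set α)] [DecidableEq ↥({a}ᶜ : Set α)] :
    AltHall π (resSub M ({a}ᶜ : Set α)) := by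
  have hle : resSub M ({a}ᶜ : Set α) ≤ alternatingGroup ↥({a}ᶜ : Set α) := by
    rintro σ ⟨g, hg, hσ⟩
    have hga : g a = a := ha g hg
    have hgA : Perm.sign g = 1 := Perm.mem_alternatingGroup.mp (hM.1 hg)
    rw [Perm.mem_alternatingGroup]
    have h1 : Perm.ofSubtype (p := (· ∈ ({a}ᶜ : Set α))) σ = g := stab_ofSubtype_eq hga σ hσ
    have h2 := Perm.sign_ofSubtype (p := (· ∈ ({a}ᶜ : Set α))) σ
    rw [h1, hgA] at h2
    rw [h2]
    exact fixa_sign_inst _ _ _ _ _
  refine ⟨hle, ?_⟩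
  -- cardinalities
  have hMstab : M ⊓ MulAction.stabilizer (Perm α) a = M := by
    apply inf_eq_left.mpr
    intro g hg
    rw [MulAction.mem_stabilizer_iff]
    exact ha g hg
  have hcardR : Nat.card ↥M = Nat.card ↥(resSub M ({a}ᶜ : Set α)) := by
    have := Cfsg.Agent.Lib.Helper15.Hs.hsstab_card M a
    rw [hMstab] at this
    exact this
  have hc1 : Nat.card ↥((resSub M ({a}ᶜ : Set α)).subgroupOf (alternatingGroup ↥({a}ᶜ : Set α))) =
      Nat.card ↥M := by
    rw [hcardR]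
    exact Nat.card_congr (Subgroup.subgroupOfEquivOfLe hle).toEquiv
  have hc2 : Nat.card ↥(M.subgroupOf (alternatingGroup α)) = Nat.card ↥M :=
    Nat.card_congr (Subgroup.subgroupOfEquivOfLe hM.1).toEquiv
  apply Cfsg.Agent.Lib.Helper15.Hs.isPiHall_of_factorization
  · intro p hp hpd
    rw [hc1, ← hc2] at hpd
    exact hM.2.1 p hp hpd
  · intro p hp hpπ
    rw [hc1, ← hc2, Cfsg.Agent.Lib.Helper15.Hs.hall_factorization_eq hM.2 hp hpπ]
    have hA' : Nat.card (alternatingGroup ↥({a}ᶜ : Set α)) ≠ 0 := Nat.card_pos.ne'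
    have hA : Nat.card (alternatingGroup α) ≠ 0 := Nat.card_pos.ne'
    exact (Nat.factorization_le_iff_dvd hA' hA).mpr (fixa_card_dvd a) p

end leaves

end Cfsg.Agent.Lib.Helper46.Ah
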