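import Cfsg.Agent.Lib.Helper46.AhDefs
import Cfsg.Agent.Lib.Helper94.AhSTAB

/-!
# Ah hive (helper46, S2538): leaf AH-FIXB `oddExt_of_resSub`

If `M` fixes the point `a` and its restriction to `{a}ᶜ` has an odd `π`-extension, so does `M`
(extend by `Perm.ofSubtype`).
-/

set_option autoImplicit false

namespace Cfsg.Agent.Lib.Helper46.Ah

open Cfsg Equiv
open Cfsg.Agent.Lib.Helper15.Hs (resSub mem_resSub)

section leaves

variable {α : Type*} [Fintype α] [DecidableEq α] {π : Set ℕ} (M : Subgroup (Perm α)) (B : Set α)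

omit [Fintype α] [DecidableEq α] in
theorem fixb_compl {a : α} {g : Perm α} (hga : g a = a) :
    ∀ y : α, g y ∈ ({a}ᶜ : Set α) ↔ y ∈ ({a}ᶜ : Set α) := by
  intro y
  simp only [Set.mem_compl_iff, Set.mem_singleton_iff]
  constructor
  · intro h1 h2
    exact h1 (by rw [h2, hga])
  · intro h1 h2
    apply h1
    apply g.injective
    rw [h2, hga]

theorem oddExt_of_resSub (a : α) (ha : ∀ g ∈ M, g a = a)
    [Fintype ↥({a}ᶜ : Set α)] [DecidableEq ↥({a}ᶜ : Set α)]
    (h : OddExt π (resSub M ({a}ᶜ : Set α))) : OddExt π M := by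
  obtain ⟨M₁, hle, hπ, σ, hσ, hsign⟩ := h
  refine ⟨M₁.map (Perm.ofSubtype (p := (· ∈ ({a}ᶜ : Set α)))), ?_, ?_, ?_⟩
  · intro g hg
    have hga := ha g hg
    have hmem : g.subtypePerm (fixb_compl hga) ∈ resSub M ({a}ᶜ : Set α) :=
      ⟨g, hg, fun _ => rfl⟩
    refine ⟨g.subtypePerm (fixb_compl hga), hle hmem, ?_⟩
    exact stab_ofSubtype_eq hga _ (fun _ => rfl)
  · intro p hp hpd
    apply hπ p hp
    rwa [Subgroup.card_map_of_injective Perm.ofSubtype_injective] at hpd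
  · refine ⟨Perm.ofSubtype (p := (· ∈ ({a}ᶜ : Set α))) σ, Subgroup.mem_map_of_mem _ hσ, ?_⟩
    rw [Perm.sign_ofSubtype, ← hsign]
    have h3 : ∀ (i1 i1' : DecidableEq ↥({a}ᶜ : Set α)) (i2 i2' : Fintype ↥({a}ᶜ : Set α)),
        @Perm.sign _ i1 i2 σ = @Perm.sign _ i1' i2' σ := by
      intro i1 i1' i2 i2'
      have e1 : i1 = i1' := Subsingleton.elim _ _
      have e2 : i2 = i2' := Subsingleton.elim _ _
      rw [e1, e2]
    exact h3 _ _ _ _

end leaves

end Cfsg.Agent.Lib.Helper46.Ah
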