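import Mathlib
import Cfsg.Agent.Lib.Helper81.OnDefs
import Cfsg.Agent.Lib.Helper8.WittQuad
import Cfsg.Agent.Lib.Helper99.TsEXTO

/-!
# On hive (helper81, S5989): leaf ON-WITT `exists_isom_map`

Witt transitivity for a symmetric form in characteristic `≠ 2`, via helper8's `witt_family_quad`
applied to `Q v = B v v / 2` (`Helper79.TsSwap.exto_QM`).
-/

set_option autoImplicit false

namespace Cfsg.Agent.Lib.Helper81.On

open Polynomial Module
open Cfsg.Agent.Lib.Helper2.BG Cfsg.Agent.Lib.Helper99 Cfsg.Agent.Lib.Helper48.Ti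

section abstract

variable {F V : Type*} [Field F] [AddCommGroup V] [Module F V] [FiniteDimensional F V]
variable {B : V →ₗ[F] V →ₗ[F] F}

section semisimple

variable [Fintype F] {p : ℕ} [Fact p.Prime] [CharP F p] {r : ℕ} [Fact r.Prime]

/-- ON-WITT -/
theorem exists_isom_map (h2 : (2 : F) ≠ 0) (hB : ∀ u v, B u v = B v u) (hV : Nd B ⊤)
    {W W' : Submodule F V} (h : SameType B W W') :
    ∃ g : V ≃ₗ[F] V, (∀ u v, B (g u) (g v) = B u v) ∧ W.map (g : V →ₗ[F] V) = W' := by
  classical
  obtain ⟨e, he⟩ := h
  obtain ⟨Q, hQ⟩ : ∃ Q : QuadraticForm F V, Q = Cfsg.Agent.Lib.Helper79.TsSwap.exto_QM B := ⟨_, rfl⟩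
  have hpol : ∀ u v, QuadraticMap.polar Q u v = B u v := by
    intro u v
    rw [hQ]
    exact Cfsg.Agent.Lib.Helper79.TsSwap.exto_polar_QM h2 B hB u v
  have hQa : ∀ u, Q u = 2⁻¹ * B u u := by
    intro u
    rw [hQ]
    exact Cfsg.Agent.Lib.Helper79.TsSwap.exto_QM_apply B u
  have hnd : (QuadraticMap.polarBilin Q).Nondegenerate := by
    have key : ∀ x : V, (∀ y, QuadraticMap.polar Q x y = 0) → x = 0 := by
      intro x hx
      apply hV x Submodule.mem_top
      intro v _
      rw [← hpol]
      exact hx v
    constructor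
    · intro x hx
      exact key x hx
    · intro x hx
      apply key x
      intro y
      have := hx y
      rw [QuadraticMap.polarBilin_apply_apply] at this
      rw [QuadraticMap.polar_comm]
      exact this
  obtain ⟨b, hb⟩ : ∃ b : Basis (Fin (finrank F W)) F W, b = Module.finBasis F W := ⟨_, rfl⟩
  have hx : LinearIndependent F (fun i => (b i : V)) :=
    b.linearIndependent.map' W.subtype (Submodule.ker_subtype W)
  have hy : LinearIndependent F (fun i => ((e (b i) : W') : V)) := by
    have h1 : LinearIndependent F (fun i => e (b i)) :=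
      b.linearIndependent.map' (e : W →ₗ[F] W') e.ker
    exact h1.map' W'.subtype (Submodule.ker_subtype W')
  obtain ⟨g, hgQ, hg⟩ := Cfsg.Agent.Lib.Helper8.witt_family_quad Q hnd (finrank F W)
    (fun i => (b i : V)) (fun i => ((e (b i) : W') : V)) hx hy
    (fun i => by rw [hQa, hQa, he])
    (fun i j => by rw [hpol, hpol, he])
  refine ⟨g, ?_, ?_⟩
  · intro u v
    rw [← hpol, ← hpol]
    unfold QuadraticMap.polar
    rw [← map_add, hgQ, hgQ, hgQ]
  · have hW : Submodule.span F (Set.range (⇑W.subtype ∘ ⇑b)) = W := by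
      have h1 := b.span_eq
      have h2 := congrArg (Submodule.map W.subtype) h1
      rw [Submodule.map_span, Submodule.map_subtype_top, ← Set.range_comp] at h2
      exact h2
    have hW' : Submodule.span F (Set.range (⇑W'.subtype ∘ ⇑(b.map e))) = W' := by
      have h1 := (b.map e).span_eq
      have h2 := congrArg (Submodule.map W'.subtype) h1
      rw [Submodule.map_span, Submodule.map_subtype_top, ← Set.range_comp] at h2
      exact h2
    calc W.map (g : V →ₗ[F] V)
        = (Submodule.span F (Set.range (⇑W.subtype ∘ ⇑b))).map (g : V →ₗ[F] V) :=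
          (congrArg (Submodule.map (g : V →ₗ[F] V)) hW).symm
      _ = Submodule.span F (Set.range (⇑(g : V →ₗ[F] V) ∘ ⇑W.subtype ∘ ⇑b)) := by
          rw [Submodule.map_span, ← Set.range_comp]
      _ = Submodule.span F (Set.range (⇑W'.subtype ∘ ⇑(b.map e))) := by
          congr 2
          funext i
          simp only [Function.comp_apply, Submodule.subtype_apply, LinearEquiv.coe_coe, Basis.map_apply]
          exact hg i
      _ = W' := hW'

end semisimple

end abstract

end Cfsg.Agent.Lib.Helper81.On
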