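import Mathlib
import Cfsg.Agent.Lib.Helper47.G42Defs

/-!
# G42 hive (S2553), sub-hive G42-F56 (architect helper82), sub-leaf F56-P9 : `f56_three_cycle`
-/

set_option autoImplicit false

namespace Cfsg.Agent.Lib.Helper47.G42

open Equiv

/-- a nontrivial element of `3`-power order of `S₆` moves `3` or `6` points -/
theorem f56p9_support (x : Perm (Fin 6)) (h9 : x ^ 9 = 1) (h1 : x ≠ 1) :
    x.support.card = 3 ∨ x.support.card = 6 := by
  have hord : orderOf x ∣ 9 := orderOf_dvd_of_pow_eq_one h9
  have h6 : x.support.card ≤ 6 := by simpa using Finset.card_le_univ x.support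
  have hparts : ∀ n ∈ x.cycleType, n = 3 := by
    intro n hn
    have h2 := Perm.two_le_of_mem_cycleType hn
    have hd : n ∣ 9 := (Perm.dvd_of_mem_cycleType hn).trans hord
    have hle : n ≤ x.support.card := by
      rw [← Perm.sum_cycleType]; exact Multiset.le_sum_of_mem hn
    have hn6 : n ≤ 6 := hle.trans h6
    interval_cases n <;> omega
  have hrep : x.cycleType = Multiset.replicate (Multiset.card x.cycleType) 3 :=
    Multiset.eq_replicate_card.2 hparts
  have hsum : x.support.card = 3 * Multiset.card x.cycleType := by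
    rw [← Perm.sum_cycleType]
    conv_lhs => rw [hrep]
    simp [mul_comm]
  have hne : Multiset.card x.cycleType ≠ 0 := by
    rw [Ne, Multiset.card_eq_zero, Perm.cycleType_eq_zero]; exact h1
  omega

theorem f56_three_cycle (G : Subgroup (Perm (Fin 6))) (h9 : 9 ∣ Nat.card G) :
    ∃ t ∈ G, t.IsThreeCycle := by
  classical
  have : Fact (Nat.Prime 3) := ⟨by norm_num⟩
  obtain ⟨P, hP⟩ := Sylow.exists_subgroup_card_pow_prime 3 (show 3 ^ 2 ∣ Nat.card G from h9)
  by_contra hno
  push Not at hno
  have hfix : ∀ x : P, x ≠ 1 → ∀ a : Fin 6, ((x : G) : Perm (Fin 6)) a ≠ a := by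
    intro x hx a hxa
    have hx9 : ((x : G) : Perm (Fin 6)) ^ 9 = 1 := by
      have h := pow_card_eq_one' (G := P) (x := x)
      rw [hP] at h
      have h' := congrArg (fun y : P => ((y : G) : Perm (Fin 6))) h
      simpa using h'
    have hx1 : ((x : G) : Perm (Fin 6)) ≠ 1 := by
      intro h
      apply hx
      apply Subtype.ext
      apply Subtype.ext
      simpa using h
    rcases f56p9_support _ hx9 hx1 with h | h
    · exact hno _ (x : G).2 (_root_.card_support_eq_three_iff.1 h)
    · have hu : ((x : G) : Perm (Fin 6)).support = Finset.univ :=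
        Finset.eq_univ_of_card _ (by simpa using h)
      have ha : a ∈ ((x : G) : Perm (Fin 6)).support := hu ▸ Finset.mem_univ a
      exact (Perm.mem_support.1 ha) hxa
  have hinj : Function.Injective (fun x : P => ((x : G) : Perm (Fin 6)) 0) := by
    intro x y hxy
    by_contra hne
    have h1 : x⁻¹ * y ≠ 1 := by
      intro h
      exact hne (inv_mul_eq_one.1 h)
    apply hfix (x⁻¹ * y) h1 0
    have hxy' : ((x : G) : Perm (Fin 6)) 0 = ((y : G) : Perm (Fin 6)) 0 := hxy
    have : (((x⁻¹ * y : P) : G) : Perm (Fin 6)) = ((x : G) : Perm (Fin 6))⁻¹ * ((y : G) : Perm (Fin 6)) := by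
      simp
    rw [this, Perm.mul_apply, ← hxy']
    simp
  have hle := Nat.card_le_card_of_injective _ hinj
  rw [hP] at hle
  simp at hle

end Cfsg.Agent.Lib.Helper47.G42
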