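import Mathlib
import Cfsg.Agent.Lib.Helper47.G42Defs
import Cfsg.Agent.Lib.Helper48.Order120

/-!
# G42 hive (owner helper47, S2553), leaf G42-F55 : `case_orbit_five`
-/

set_option autoImplicit false

namespace Cfsg.Agent.Lib.Helper47.G42

open Equiv

theorem f55_inv_iff (H : Subgroup (Perm (Fin 8))) (Δ : Finset (Fin 8))
    (hinv : ∀ h ∈ H, ∀ x ∈ Δ, h x ∈ Δ) (h : Perm (Fin 8)) (hh : h ∈ H) (x : Fin 8) :
    h x ∈ Δ ↔ x ∈ Δ := by
  constructor
  · intro hx
    have := hinv h⁻¹ (H.inv_mem hh) (h x) hx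
    simpa using this
  · exact hinv h hh x

theorem f55_inv_iff' (H : Subgroup (Perm (Fin 8))) (Δ : Finset (Fin 8))
    (hinv : ∀ h ∈ H, ∀ x ∈ Δ, h x ∈ Δ) (h : Perm (Fin 8)) (hh : h ∈ H) (x : Fin 8) :
    h x ∉ Δ ↔ x ∉ Δ :=
  not_congr (f55_inv_iff H Δ hinv h hh x)

/-- restriction of `H` to the invariant set `Δ` -/
def f55_res (H : Subgroup (Perm (Fin 8))) (Δ : Finset (Fin 8))
    (hinv : ∀ h ∈ H, ∀ x ∈ Δ, h x ∈ Δ) : H →* Perm {x // x ∈ Δ} where
  toFun h := (h : Perm (Fin 8)).subtypePerm (f55_inv_iff H Δ hinv h h.2)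
  map_one' := by ext x; simp
  map_mul' a b := by ext x; rfl

/-- restriction of `H` to the complement of the invariant set `Δ` -/
def f55_resc (H : Subgroup (Perm (Fin 8))) (Δ : Finset (Fin 8))
    (hinv : ∀ h ∈ H, ∀ x ∈ Δ, h x ∈ Δ) : H →* Perm {x // x ∉ Δ} where
  toFun h := (h : Perm (Fin 8)).subtypePerm (f55_inv_iff' H Δ hinv h h.2)
  map_one' := by ext x; simp
  map_mul' a b := by ext x; rfl

theorem f55_ker_solvable (H : Subgroup (Perm (Fin 8))) (Δ : Finset (Fin 8)) (hΔ : Δ.card = 5)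
    (hinv : ∀ h ∈ H, ∀ x ∈ Δ, h x ∈ Δ) : Group.IsSolvable (f55_res H Δ hinv).ker := by
  classical
  have hcard : Nat.card (Perm {x // x ∉ Δ}) = 6 := by
    rw [Nat.card_eq_fintype_card, Fintype.card_perm, Fintype.card_subtype_compl, Fintype.card_coe,
      hΔ]
    rfl
  have hsol : Group.IsSolvable (Perm {x // x ∉ Δ}) :=
    Cfsg.Agent.Lib.Helper48.O120.solvable_of_card_lt_sixty 6 _ hcard (by norm_num)
  have hinj : Function.Injective ((f55_resc H Δ hinv).comp (f55_res H Δ hinv).ker.subtype) := by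
    rw [injective_iff_map_eq_one]
    intro k hk
    apply Subtype.ext
    apply Subtype.ext
    ext x
    by_cases hx : x ∈ Δ
    · have h1 : (f55_res H Δ hinv) (k : H) = 1 := k.2
      have h2 := congrArg (fun σ : Perm {x // x ∈ Δ} => ((σ ⟨x, hx⟩ : {x // x ∈ Δ}) : Fin 8)) h1
      simpa [f55_res] using congrArg Fin.val h2
    · have h2 := congrArg (fun σ : Perm {x // x ∉ Δ} => ((σ ⟨x, hx⟩ : {x // x ∉ Δ}) : Fin 8)) hk
      simpa [f55_resc] using congrArg Fin.val h2
  exact Group.isSolvable_of_isSolvable_injective hinj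

theorem f55_not_solvable {G : Type*} [Group G] (hR : RadFree G) (hne : Nontrivial G) :
    ¬ Group.IsSolvable G := by
  intro hs
  have h1 : Group.IsSolvable (⊤ : Subgroup G) :=
    Group.isSolvable_of_isSolvable_injective (f := (⊤ : Subgroup G).subtype) Subtype.val_injective
  have h2 : (⊤ : Subgroup G) = ⊥ := hR ⊤ inferInstance h1
  obtain ⟨a, b, hab⟩ := hne.exists_pair_ne
  have ha : a ∈ (⊥ : Subgroup G) := h2 ▸ Subgroup.mem_top a
  have hb : b ∈ (⊥ : Subgroup G) := h2 ▸ Subgroup.mem_top b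
  rw [Subgroup.mem_bot] at ha hb
  exact hab (ha.trans hb.symm)

theorem case_orbit_five (H : Subgroup (Perm (Fin 8))) (hne : H ≠ ⊥) (hR : RadFree H)
    (Δ : Finset (Fin 8)) (hΔ : Δ.card = 5) (hinv : ∀ h ∈ H, ∀ x ∈ Δ, h x ∈ Δ)
    (htr : ∀ x ∈ Δ, ∀ y ∈ Δ, ∃ h ∈ H, h x = y) :
    Nonempty (H ≃* alternatingGroup (Fin 5)) ∨ Nonempty (H ≃* Perm (Fin 5)) := by
  classical
  have hker : (f55_res H Δ hinv).ker = ⊥ :=
    hR _ inferInstance (f55_ker_solvable H Δ hΔ hinv)
  have hinj : Function.Injective (f55_res H Δ hinv) := (MonoidHom.ker_eq_bot_iff _).1 hker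
  have hnt : Nontrivial H := (Subgroup.nontrivial_iff_ne_bot H).2 hne
  have hns : ¬ Group.IsSolvable H := f55_not_solvable hR hnt
  have hcardΔ : Nat.card (Perm {x // x ∈ Δ}) = 120 := by
    rw [Nat.card_eq_fintype_card, Fintype.card_perm, Fintype.card_coe, hΔ]
    rfl
  have hdvd : Nat.card H ∣ 120 := by
    rw [← hcardΔ]
    exact Subgroup.card_dvd_of_injective _ hinj
  have hge : 60 ≤ Nat.card H := by
    by_contra hlt
    exact hns (Cfsg.Agent.Lib.Helper48.O120.solvable_of_card_lt_sixty _ H rfl (by omega))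
  have h2 : Nat.card H = 60 ∨ Nat.card H = 120 := by
    obtain ⟨k, hk⟩ := hdvd
    have hk1 : k ≠ 0 := by rintro rfl; simp at hk
    have hk2 : k < 3 := by
      by_contra hk3
      have : 3 ≤ k := by omega
      nlinarith
    have hk3 : k = 1 ∨ k = 2 := by omega
    rcases hk3 with rfl | rfl
    · right; omega
    · left; omega
  rcases h2 with h | h
  · left
    have := Cfsg.Agent.Lib.Helper48.O120.simple_of_card_sixty h hns
    exact Cfsg.Agent.Lib.Helper5.mulEquiv_alternatingGroup_five_of_card_eq_sixty h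
  · right
    have hbij : Function.Bijective (f55_res H Δ hinv) :=
      (Nat.bijective_iff_injective_and_card _).2 ⟨hinj, by rw [h, hcardΔ]⟩
    let e1 : H ≃* Perm {x // x ∈ Δ} := MulEquiv.ofBijective _ hbij
    let e2 : {x // x ∈ Δ} ≃ Fin 5 := Fintype.equivFinOfCardEq (by rw [Fintype.card_coe, hΔ])
    exact ⟨e1.trans e2.permCongrHom⟩

end Cfsg.Agent.Lib.Helper47.G42
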