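import Mathlib
import Cfsg.Agent.Lib.Helper94.Un10
import Cfsg.Agent.Lib.Helper94.QuadOdd

set_option autoImplicit false

/-!
Odd dimension: coordinates `x₀² + Σ xᵢyᵢ`, and unipotent elements of `Ω_{2d+1}(F)` with prescribed
Jordan type.
-/

namespace Cfsg.Agent.Lib.Helper94.Un

open Module QuadraticMap Cfsg Cfsg.Agent.Lib.Helper99 Cfsg.Agent.Lib.Helper94
open scoped Matrix

set_option linter.unusedSectionVars false
set_option linter.unusedVariables false

variable {F : Type*} [Field F]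

/-- coordinates for a nondegenerate space of dimension `2d+1` with a totally singular `d`-space
and an orthogonal vector of norm one -/
theorem odd_coords (h2 : (2 : F) ≠ 0) (d : ℕ) {V : Type*} [AddCommGroup V] [Module F V]
    [FiniteDimensional F V] (Q : QuadraticForm F V) (hnd : ∀ v, (∀ u, polar Q v u = 0) → v = 0)
    (hfr : finrank F V = 2 * d + 1) (L : Submodule F V) (hL : ∀ v ∈ L, Q v = 0)
    (hfrL : finrank F L = d) (w : V) (hw : Q w = 1) (hwL : ∀ v ∈ L, polar Q w v = 0) :
    ∃ Θ : V ≃ₗ[F] (Unit ⊕ (Fin d ⊕ Fin d) → F), ∀ v, quadFormOdd d F (Θ v) = Q v := by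
  classical
  -- the hyperplane `w^⊥`
  set φ : V →ₗ[F] F := QuadraticMap.polarBilin Q w with hφ
  have hφv : ∀ v, φ v = polar Q w v := fun v => rfl
  have hφw : φ w = 2 := by
    rw [hφv, QuadraticMap.polar_self, hw]; simp
  set H : Submodule F V := LinearMap.ker φ with hH
  have hφsurj : LinearMap.range φ = ⊤ := by
    rw [LinearMap.range_eq_top]
    intro c
    refine ⟨(c / 2) • w, ?_⟩
    rw [map_smul, hφw, smul_eq_mul]
    field_simp
  have hfrH : finrank F H = 2 * d := by
    have := LinearMap.finrank_range_add_finrank_ker φ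
    rw [hφsurj, finrank_top, Module.finrank_self, hfr] at this
    rw [hH]
    omega
  have hLH : L ≤ H := by
    intro v hv
    rw [hH, LinearMap.mem_ker, hφv]
    exact hwL v hv
  -- every vector decomposes
  have hdecomp : ∀ v : V, ∃ h ∈ H, v = (φ v / 2) • w + h := by
    intro v
    refine ⟨v - (φ v / 2) • w, ?_, by abel⟩
    rw [hH, LinearMap.mem_ker, map_sub, map_smul, hφw, smul_eq_mul]
    field_simp
    ring
  set QH : QuadraticForm F H := Q.comp H.subtype with hQH
  have hQHv : ∀ h : H, QH h = Q (h : V) := fun h => rfl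
  have hpolH : ∀ a b : H, polar QH a b = polar Q (a : V) (b : V) := by
    intro a b
    unfold polar
    rw [hQHv, hQHv, hQHv]
    rfl
  have hndH : (QuadraticMap.polarBilin QH).Nondegenerate := by
    have key : ∀ a : H, (∀ b : H, polar QH a b = 0) → a = 0 := by
      intro a ha
      apply Subtype.ext
      apply hnd
      intro u
      obtain ⟨h, hh, hu⟩ := hdecomp u
      rw [hu, polar_add_right, polar_smul_right]
      have h1 : polar Q (a : V) w = 0 := by
        rw [polar_comm, ← hφv]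
        exact LinearMap.mem_ker.mp a.2
      have h3 : polar Q (a : V) h = 0 := by
        have := ha ⟨h, hh⟩
        rw [hpolH] at this
        exact this
      rw [h1, h3]
      simp
    constructor
    · intro a ha
      exact key a ha
    · intro a ha
      apply key a
      intro b
      have := ha b
      rw [QuadraticMap.polarBilin_apply_apply] at this
      rw [polar_comm]
      exact this
  set L' : Submodule F H := L.comap H.subtype with hL'
  have hfrL' : finrank F L' = d := by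
    rw [← hfrL]
    exact (Submodule.comapSubtypeEquivOfLe hLH).finrank_eq
  have hL'0 : ∀ a ∈ L', QH a = 0 := by
    intro a ha
    rw [hQHv]
    exact hL _ ha
  obtain ⟨e, f, hQe, hQf, hee, hff, hef⟩ :=
    Cfsg.Agent.Lib.Helper44.hyperbolic_family d H QH hndH hfrH L' hL'0 hfrL'
  obtain ⟨ΘH, hΘH⟩ :=
    Cfsg.Agent.Lib.Helper44.hyperbolic_coords d H QH hfrH e f hQe hQf hee hff hef
  -- the inverse coordinate map
  set Ψ : (Unit ⊕ (Fin d ⊕ Fin d) → F) →ₗ[F] V :=
    (LinearMap.proj (Sum.inl ())).smulRight w +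
      H.subtype ∘ₗ (ΘH.symm : (Fin d ⊕ Fin d → F) →ₗ[F] H) ∘ₗ
        (LinearMap.funLeft F F (Sum.inr : Fin d ⊕ Fin d → Unit ⊕ (Fin d ⊕ Fin d))) with hΨ
  have hΨv : ∀ c, Ψ c = c (Sum.inl ()) • w + ((ΘH.symm (fun t => c (Sum.inr t)) : H) : V) := by
    intro c
    rfl
  have hQΨ : ∀ c, Q (Ψ c) = quadFormOdd d F c := by
    intro c
    rw [hΨv]
    set h : H := ΘH.symm (fun t => c (Sum.inr t)) with hh
    have h1 : Q (h : V) = quadFormPlus d F (fun t => c (Sum.inr t)) := by
      rw [← hQHv, ← hΘH, hh, LinearEquiv.apply_symm_apply]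
    have h3 : polar Q w (h : V) = 0 := by
      rw [← hφv]; exact LinearMap.mem_ker.mp h.2
    have h4 := QuadraticMap.map_add Q (c (Sum.inl ()) • w) (h : V)
    rw [h4, QuadraticMap.map_smul, hw, polar_smul_left, h3, h1]
    unfold quadFormOdd quadFormPlus
    simp only [smul_eq_mul, mul_one, mul_zero, add_zero]
    ring
  have hΨinj : Function.Injective Ψ := by
    rw [← LinearMap.ker_eq_bot, LinearMap.ker_eq_bot']
    intro c hc
    have h0 : c (Sum.inl ()) = 0 := by
      have h1 := congrArg φ hc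
      rw [hΨv, map_add, map_smul, hφw, map_zero] at h1
      have h3 : φ ((ΘH.symm (fun t => c (Sum.inr t)) : H) : V) = 0 :=
        LinearMap.mem_ker.mp (ΘH.symm (fun t => c (Sum.inr t))).2
      rw [h3, add_zero, smul_eq_mul] at h1
      rcases mul_eq_zero.mp h1 with h | h
      · exact h
      · exact absurd h h2
    have h1 : ((ΘH.symm (fun t => c (Sum.inr t)) : H) : V) = 0 := by
      rw [hΨv, h0, zero_smul, zero_add] at hc
      exact hc
    have h3 : (fun t => c (Sum.inr t)) = (0 : Fin d ⊕ Fin d → F) := by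
      have : ΘH.symm (fun t => c (Sum.inr t)) = 0 := Subtype.ext h1
      simpa using this
    funext t
    rcases t with ⟨⟩ | t
    · exact h0
    · exact congrFun h3 t
  have hdim : finrank F (Unit ⊕ (Fin d ⊕ Fin d) → F) = finrank F V := by
    rw [hfr, Module.finrank_fintype_fun_eq_card]
    simp
    ring
  let ΨE : (Unit ⊕ (Fin d ⊕ Fin d) → F) ≃ₗ[F] V := LinearEquiv.ofInjectiveOfFinrankEq Ψ hΨinj hdim
  refine ⟨ΨE.symm, fun v => ?_⟩
  rw [← hQΨ]
  have : Ψ (ΨE.symm v) = ΨE (ΨE.symm v) := rfl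
  rw [this, LinearEquiv.apply_symm_apply]

/-- a skew-adjoint nilpotent matrix for `x₀² + Σ xᵢyᵢ` with prescribed kernel profile -/
theorem exists_skew_odd (h2 : (2 : F) ≠ 0) (d : ℕ) (μ : Multiset ℕ)
    (hev : ∀ e, Even e → Even (μ.count e)) (hsum : μ.sum = 2 * d + 1) :
    ∃ M : Matrix (Unit ⊕ (Fin d ⊕ Fin d)) (Unit ⊕ (Fin d ⊕ Fin d)) F,
      (∀ v w, pol (quadFormOdd d F) (M *ᵥ v) w + pol (quadFormOdd d F) v (M *ᵥ w) = 0) ∧
      ∀ k, dker (Matrix.toLin' M) k = prof μ k := by
  classical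
  obtain ⟨Q, N, L, w, hS, hL, hfr, hw, hwL⟩ :=
    (realize (F := F) h2 _ μ (2 * d + 1) rfl hsum hev).2 ⟨d, rfl⟩ 1 one_ne_zero
  have hfrV : finrank F (Fin (2 * d + 1) → F) = 2 * d + 1 := by
    rw [Module.finrank_fintype_fun_eq_card, Fintype.card_fin]
  have hfrL : finrank F L = d := by rw [hfrV] at hfr; omega
  obtain ⟨Θ, hΘ⟩ := odd_coords h2 d Q hS.nondeg hfrV L hL hfrL w hw hwL
  have hpol : ∀ a b : Unit ⊕ (Fin d ⊕ Fin d) → F,
      pol (quadFormOdd d F) a b = polar Q (Θ.symm a) (Θ.symm b) := by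
    intro a b
    unfold pol polar
    rw [← hΘ, ← hΘ, ← hΘ, map_add]
    simp only [LinearEquiv.apply_symm_apply]
  refine ⟨LinearMap.toMatrix' (Θ.conj N), ?_, ?_⟩
  · intro v w
    rw [hpol, hpol, ← Matrix.toLin'_apply, ← Matrix.toLin'_apply, Matrix.toLin'_toMatrix',
      LinearEquiv.conj_apply_apply, LinearEquiv.conj_apply_apply, LinearEquiv.symm_apply_apply,
      LinearEquiv.symm_apply_apply]
    exact hS.skew _ _
  · intro k
    rw [Matrix.toLin'_toMatrix', ← hS.prof k]
    exact dker_conj Θ N (Θ.conj N) (fun w => by rw [LinearEquiv.conj_apply_apply,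
      LinearEquiv.symm_apply_apply]) k

/-- unipotent elements of `Ω_{2d+1}` with prescribed kernel profile -/
theorem exists_unipotent_odd [Fintype F] (h2 : (2 : F) ≠ 0) (d : ℕ) (μ : Multiset ℕ)
    (hev : ∀ e, Even e → Even (μ.count e)) (hsum : μ.sum = 2 * d + 1) :
    ∃ x : Matrix.GeneralLinearGroup (Unit ⊕ (Fin d ⊕ Fin d)) F,
      x ∈ Geo.omegaGL (quadFormOdd d F) ∧
      ∀ k, dker (Matrix.toLin'
        ((x : Matrix (Unit ⊕ (Fin d ⊕ Fin d)) (Unit ⊕ (Fin d ⊕ Fin d)) F) - 1)) k = prof μ k := by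
  classical
  obtain ⟨M, hskew, hprof⟩ := exists_skew_odd (F := F) h2 d μ hev hsum
  have hcard : μ.sum = Fintype.card (Unit ⊕ (Fin d ⊕ Fin d)) := by
    rw [hsum]; simp; ring
  have hK : M ^ μ.sum = 0 :=
    pow_eq_zero_of_prof M μ hprof hcard μ.sum (fun b hb => Multiset.le_sum_of_mem hb)
  obtain ⟨x, hxΩ, U, hUM, hxU⟩ :=
    exists_cayley_sq (nondeg_quadFormOdd (F := F) (m := d) h2) h2 M hskew μ.sum hK
  refine ⟨x, hxΩ, fun k => ?_⟩
  rw [dker_unit_mul U M _ hUM hxU k, hprof]

/-- sums of sub-multisets of a multiset supported on two values -/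
theorem sum_of_le_two_values (ν μ : Multiset ℕ) (a b : ℕ) (hab : a ≠ b) (hν : ν ≤ μ)
    (hμ : ∀ x ∈ μ, x = a ∨ x = b) : ν.sum = ν.count a * a + ν.count b * b := by
  have hsub : ν.toFinset ⊆ {a, b} := by
    intro x hx
    rw [Multiset.mem_toFinset] at hx
    have := hμ x (Multiset.mem_of_le hν hx)
    simp only [Finset.mem_insert, Finset.mem_singleton]
    exact this
  rw [Finset.sum_multiset_count_of_subset ν {a, b} hsub, Finset.sum_pair hab]
  simp [smul_eq_mul]

end Cfsg.Agent.Lib.Helper94.Un
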