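import Cfsg.Agent.Lib.Helper94.TpSTAR

/-!
# Tp hive (owner helper66), leaf TP-QUOT : `false_of_normal_pGroup`
-/

set_option autoImplicit false

namespace Cfsg.Agent.Lib.Helper66.Tp

universe u

theorem tpquot_card_quot {G : Type*} [Group G] [Finite G] (N : Subgroup G) [N.Normal] :
    Nat.card G = Nat.card N * Nat.card (G ⧸ N) := by
  rw [← Subgroup.index_eq_card, Subgroup.card_mul_index]

theorem tpquot_card_comap {G : Type*} [Group G] [Finite G] (N : Subgroup G) [N.Normal]
    (H : Subgroup (G ⧸ N)) :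
    Nat.card (H.comap (QuotientGroup.mk' N)) = Nat.card N * Nat.card H := by
  have h1 : (H.comap (QuotientGroup.mk' N)).index = H.index :=
    Subgroup.index_comap_of_surjective H (QuotientGroup.mk'_surjective N)
  have h2 := Subgroup.card_mul_index (H.comap (QuotientGroup.mk' N))
  have h3 := Subgroup.card_mul_index H
  have h4 := tpquot_card_quot N
  have hpos : 0 < H.index := Nat.pos_of_ne_zero Subgroup.index_ne_zero_of_finite
  apply Nat.eq_of_mul_eq_mul_right hpos
  rw [← h1, h2, h4, ← h3, h1, mul_assoc]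

theorem tpquot_hyp_quot {G : Type u} [Group G] [Finite G] {p : ℕ} (hp : p.Prime)
    (hG : Hyp p G) (hstar : Star p G) (N : Subgroup G) [N.Normal] (hNp : IsPGroup p N)
    (h2Q : 2 ∣ Nat.card (G ⧸ N)) (hpQ : p ∣ Nat.card (G ⧸ N)) : Hyp p (G ⧸ N) := by
  have : Fact p.Prime := ⟨hp⟩
  refine ⟨h2Q, hpQ, ?_, ?_, ?_⟩
  · intro Hb hHb hHb2 hHb2'
    have hHcard : Nat.card (Hb.comap (QuotientGroup.mk' N)) = Nat.card N * Nat.card Hb :=
      tpquot_card_comap N Hb
    have hHne : Hb.comap (QuotientGroup.mk' N) ≠ ⊤ := by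
      intro h
      apply hHb
      have := Subgroup.map_comap_eq_self_of_surjective (QuotientGroup.mk'_surjective N) Hb
      rw [← this, h, ← MonoidHom.range_eq_map,
        MonoidHom.range_eq_top.2 (QuotientGroup.mk'_surjective N)]
    have hHeven : 2 ∣ Nat.card (Hb.comap (QuotientGroup.mk' N)) :=
      hHcard ▸ Dvd.dvd.mul_left hHb2' _
    by_contra hpn
    apply hHb2
    apply tpstar_isPGroup_two
    intro r' hr' hr'H
    rcases hstar _ hHne hHeven r' hr' (hHcard ▸ Dvd.dvd.mul_left hr'H _) with h | h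
    · exact h
    · exact absurd (h ▸ hr'H) hpn
  · have hdvd : Nat.card (G ⧸ N) ∣ Nat.card G := ⟨Nat.card N, by rw [tpquot_card_quot N, mul_comm]⟩
    have h1 : (Nat.card (G ⧸ N)).factorization 2 ≤ (Nat.card G).factorization 2 :=
      (Nat.factorization_le_iff_dvd Nat.card_pos.ne' Nat.card_pos.ne').2 hdvd 2
    have h3 : 2 ^ (Nat.card (G ⧸ N)).factorization 2 ≤ 2 ^ (Nat.card G).factorization 2 :=
      Nat.pow_le_pow_right (by norm_num) h1
    have := hG.2.2.2.1
    omega
  · intro P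
    have hP : IsPGroup p ((P : Subgroup (G ⧸ N)).comap (QuotientGroup.mk' N)) :=
      P.isPGroup'.comap_of_ker_isPGroup (QuotientGroup.mk' N)
        (by rw [QuotientGroup.ker_mk']; exact hNp)
    obtain ⟨S, hS⟩ := hP.exists_le_sylow
    have hSc := hG.2.2.2.2 S
    refine ⟨⟨fun a b => ?_⟩⟩
    obtain ⟨a', ha'⟩ := QuotientGroup.mk'_surjective N (a : G ⧸ N)
    obtain ⟨b', hb'⟩ := QuotientGroup.mk'_surjective N (b : G ⧸ N)
    have ha : a' ∈ (S : Subgroup G) := hS (by rw [Subgroup.mem_comap, ha']; exact a.2)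
    have hb : b' ∈ (S : Subgroup G) := hS (by rw [Subgroup.mem_comap, hb']; exact b.2)
    have h := congrArg Subtype.val (hSc.is_comm.comm (⟨_, ha⟩ : (S : Subgroup G)) ⟨_, hb⟩)
    have h' : a' * b' = b' * a' := by simpa using h
    apply Subtype.ext
    have := congrArg (QuotientGroup.mk' N) h'
    rw [map_mul, map_mul, ha', hb'] at this
    simpa using this

theorem false_of_normal_pGroup {G : Type u} [Group G] [Finite G] {p : ℕ} (hp : p.Prime) (hp2 : p ≠ 2)
    (hG : Hyp p G) (ih : IH p G) (hstar : Star p G) (hbad : Bad p G)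
    (N : Subgroup G) [N.Normal] (hN1 : N ≠ ⊥) (hNp : IsPGroup p N) : False := by
  have : Fact p.Prime := ⟨hp⟩
  obtain ⟨k, hk⟩ := IsPGroup.iff_card.1 hNp
  have hk0 : k ≠ 0 := by
    rintro rfl
    apply hN1
    rw [pow_zero] at hk
    exact Subgroup.card_eq_one.1 hk
  obtain ⟨r, hr, hrG, hr2, hrp⟩ := hbad
  have hcard := tpquot_card_quot N
  have hpodd : ¬ 2 ∣ p := fun h => hp2 ((Nat.prime_dvd_prime_iff_eq Nat.prime_two hp).1 h).symm
  have hNodd : ¬ 2 ∣ Nat.card N := by
    rw [hk]; intro h; exact hpodd (Nat.prime_two.dvd_of_dvd_pow h)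
  have h2Q : 2 ∣ Nat.card (G ⧸ N) :=
    (Nat.prime_two.dvd_mul.1 (hcard ▸ hG.1)).resolve_left hNodd
  have hrN : ¬ r ∣ Nat.card N := by
    rw [hk]; intro h
    exact hrp ((Nat.prime_dvd_prime_iff_eq hr hp).1 (hr.dvd_of_dvd_pow h))
  have hrQ : r ∣ Nat.card (G ⧸ N) := (hr.dvd_mul.1 (hcard ▸ hrG)).resolve_left hrN
  have hNgt : 1 < Nat.card N := by rw [hk]; exact Nat.one_lt_pow hk0 hp.one_lt
  have hQpos : 0 < Nat.card (G ⧸ N) := Nat.card_pos
  have hlt : Nat.card (G ⧸ N) < Nat.card G := by rw [hcard]; nlinarith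
  by_cases hpQ : p ∣ Nat.card (G ⧸ N)
  · have hyp : Hyp p (G ⧸ N) := tpquot_hyp_quot hp hG hstar N hNp h2Q hpQ
    rcases ih (G ⧸ N) hlt hyp r hr hrQ with h | h
    · exact hr2 h
    · exact hrp h
  · have hcop : Nat.Coprime (Nat.card N) N.index := by
      rw [hk, Subgroup.index_eq_card]
      exact Nat.Coprime.pow_left k ((Nat.Prime.coprime_iff_not_dvd hp).2 hpQ)
    obtain ⟨K, hK⟩ := Subgroup.exists_right_complement'_of_coprime hcop
    have hKcard : Nat.card K = Nat.card (G ⧸ N) := by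
      have h1 := hK.card_mul_card
      have hNpos : 0 < Nat.card N := Nat.card_pos
      apply Nat.eq_of_mul_eq_mul_left hNpos
      rw [h1, hcard]
    have hKne : K ≠ ⊤ := by
      intro h
      rw [h, Subgroup.card_top] at hKcard
      omega
    rcases hstar K hKne (hKcard ▸ h2Q) r hr (hKcard ▸ hrQ) with h | h
    · exact hr2 h
    · exact hrp h

end Cfsg.Agent.Lib.Helper66.Tp
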