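import Cfsg.Agent.Lib.Helper66.TpDefs

/-!
# Tp hive (owner helper66), leaf TP-STAR : `star_of_ih`
-/

set_option autoImplicit false

namespace Cfsg.Agent.Lib.Helper66.Tp

universe u

/-- a group all of whose prime divisors are `2` is a `2`-group -/
theorem tpstar_isPGroup_two {H : Type*} [Group H] [Finite H]
    (h : ∀ r : ℕ, r.Prime → r ∣ Nat.card H → r = 2) : IsPGroup 2 H := by
  have : Fact (Nat.Prime 2) := ⟨Nat.prime_two⟩
  rw [IsPGroup.iff_card]
  have hpos : Nat.card H ≠ 0 := Nat.card_pos.ne'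
  refine ⟨(Nat.card H).factorization 2, ?_⟩
  exact Nat.eq_pow_of_factorization_eq_single hpos (by
    ext q
    by_cases hq : q = 2
    · subst hq; simp
    · rw [Finsupp.single_apply, if_neg (Ne.symm hq)]
      by_contra hne
      have hq' : q ∈ (Nat.card H).primeFactors := by
        rw [← Nat.support_factorization]; exact Finsupp.mem_support_iff.2 hne
      exact hq (h q (Nat.prime_of_mem_primeFactors hq') (Nat.dvd_of_mem_primeFactors hq')))

theorem tpstar_hyp_subgroup {G : Type u} [Group G] [Finite G] {p : ℕ} (hp : p.Prime) (hG : Hyp p G)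
    (H : Subgroup G) (hH : H ≠ ⊤) (h2 : 2 ∣ Nat.card H) (hpH : p ∣ Nat.card H) : Hyp p ↥H := by
  obtain ⟨-, -, hmix, hle, habel⟩ := hG
  refine ⟨h2, hpH, ?_, ?_, ?_⟩
  · intro K hK hK2 hK2' 
    have hcard : Nat.card (K.map H.subtype) = Nat.card K :=
      Nat.card_congr (K.equivMapOfInjective H.subtype H.subtype_injective).symm.toEquiv
    have hne : K.map H.subtype ≠ ⊤ := by
      intro h
      apply hH
      rw [eq_top_iff, ← h]
      exact Subgroup.map_subtype_le K
    have hnp : ¬ IsPGroup 2 (K.map H.subtype) := by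
      intro h
      exact hK2 (h.of_equiv (K.equivMapOfInjective H.subtype H.subtype_injective).symm)
    have := hmix (K.map H.subtype) hne hnp (hcard ▸ hK2')
    rwa [hcard] at this
  · have hdvd : Nat.card H ∣ Nat.card G := Subgroup.card_subgroup_dvd_card H
    have h1 : (Nat.card H).factorization 2 ≤ (Nat.card G).factorization 2 :=
      (Nat.factorization_le_iff_dvd Nat.card_pos.ne' Nat.card_pos.ne').2 hdvd 2
    have h3 : 2 ^ (Nat.card H).factorization 2 ≤ 2 ^ (Nat.card G).factorization 2 :=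
      Nat.pow_le_pow_right (by norm_num) h1
    omega
  · intro P
    have : Fact p.Prime := ⟨hp⟩
    have hP : IsPGroup p ((P : Subgroup H).map H.subtype) := P.isPGroup'.map H.subtype
    obtain ⟨S, hS⟩ := hP.exists_le_sylow
    have hSc := habel S
    refine ⟨⟨fun a b => ?_⟩⟩
    have ha : ((a : H) : G) ∈ (S : Subgroup G) := hS ⟨a, a.2, rfl⟩
    have hb : ((b : H) : G) ∈ (S : Subgroup G) := hS ⟨b, b.2, rfl⟩
    have := congrArg Subtype.val (hSc.is_comm.comm (⟨_, ha⟩ : (S : Subgroup G)) ⟨_, hb⟩)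
    apply Subtype.ext
    apply Subtype.ext
    simpa using this

theorem star_of_ih {G : Type u} [Group G] [Finite G] {p : ℕ} (hp : p.Prime) (hG : Hyp p G)
    (ih : IH p G) : Star p G := by
  intro H hH h2 r hr hrH
  by_cases hH2 : IsPGroup 2 H
  · left
    have : Fact (Nat.Prime 2) := ⟨Nat.prime_two⟩
    obtain ⟨n, hn⟩ := IsPGroup.iff_card.1 hH2
    rw [hn] at hrH
    exact (Nat.prime_dvd_prime_iff_eq hr Nat.prime_two).1 (hr.dvd_of_dvd_pow hrH)
  · have hpH : p ∣ Nat.card H := hG.2.2.1 H hH hH2 h2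
    have hlt : Nat.card H < Nat.card G := by
      have hdvd : Nat.card H ∣ Nat.card G := Subgroup.card_subgroup_dvd_card H
      rcases (Nat.le_of_dvd Nat.card_pos hdvd).lt_or_eq with h | h
      · exact h
      · exact absurd ((Subgroup.card_eq_iff_eq_top H).1 h) hH
    exact ih (↥H) hlt (tpstar_hyp_subgroup hp hG H hH h2 hpH) r hr hrH

end Cfsg.Agent.Lib.Helper66.Tp
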