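import Cfsg.Agent.Lib.Helper83.FpDefs

/-!
# Fp hive (helper83, S2276): leaf FP-T1 `restrict_good`

If `U, W ∈ Perm (Fin n)` act on `range ι` (`ι : Fin m ↪ Fin n`) as `c, d ∈ Perm (Fin m)` and the pair `c, d`
is good, then so is the pair `U, W`.
-/

set_option autoImplicit false

namespace Cfsg.Agent.Lib.Helper83.Fp

open Equiv

/-- the pairs `(g, e)` with `g ∘ ι = ι ∘ e` -/
def fpt1_T {m n : ℕ} (ι : Fin m ↪ Fin n) : Subgroup (Perm (Fin n) × Perm (Fin m)) where
  carrier := {z | ∀ x, z.1 (ι x) = ι (z.2 x)}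
  one_mem' := fun x => rfl
  mul_mem' := by
    intro z w hz hw x
    show z.1 (w.1 (ι x)) = ι (z.2 (w.2 x))
    rw [hw x, hz]
  inv_mem' := by
    intro z hz x
    show z.1⁻¹ (ι x) = ι (z.2⁻¹ x)
    apply z.1.injective
    rw [hz]
    simp

theorem fpt1_mem_T {m n : ℕ} {ι : Fin m ↪ Fin n} {z : Perm (Fin n) × Perm (Fin m)} :
    z ∈ fpt1_T ι ↔ ∀ x, z.1 (ι x) = ι (z.2 x) := Iff.rfl

/-- the second component is determined by the first -/
theorem fpt1_snd_eq {m n : ℕ} {ι : Fin m ↪ Fin n} {z w : Perm (Fin n) × Perm (Fin m)}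
    (hz : z ∈ fpt1_T ι) (hw : w ∈ fpt1_T ι) (h : z.1 = w.1) : z.2 = w.2 := by
  ext x
  have h1 := hz x
  have h2 := hw x
  rw [h, h2] at h1
  exact congrArg Fin.val (ι.injective h1).symm

theorem restrict_good : RestrictStmt := by
  unfold RestrictStmt
  intro p hp m n ι c d U W hU hW hgood
  have hUc : ((U, c) : Perm (Fin n) × Perm (Fin m)) ∈ fpt1_T ι := hU
  have hWd : ((W, d) : Perm (Fin n) × Perm (Fin m)) ∈ fpt1_T ι := hW
  refine ⟨?_, ?_⟩
  · -- orders
    rintro ⟨k, hk⟩
    apply hgood.1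
    have hmem : ((U, c) * (W, d)) ^ orderOf (U * W) ∈ fpt1_T ι :=
      (fpt1_T ι).pow_mem ((fpt1_T ι).mul_mem hUc hWd) _
    have h1 : ((U, c) * (W, d) : Perm (Fin n) × Perm (Fin m)) ^ orderOf (U * W) =
        (1, (c * d) ^ orderOf (U * W)) := by
      rw [Prod.mk_mul_mk, Prod.pow_mk, pow_orderOf_eq_one]
    rw [h1] at hmem
    have h2 : (c * d) ^ orderOf (U * W) = 1 := by
      ext x
      have := hmem x
      simp only [Perm.coe_one, id_eq] at this
      exact congrArg Fin.val (ι.injective this).symm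
    have h3 : orderOf (c * d) ∣ p ^ k := by
      rw [← hk]
      exact orderOf_dvd_of_pow_eq_one h2
    obtain ⟨j, _, hj⟩ := (Nat.dvd_prime_pow hp).mp h3
    exact ⟨j, hj⟩
  · -- solvability
    intro hsolv
    apply hgood.2
    set P : Subgroup (Perm (Fin n) × Perm (Fin m)) :=
      Subgroup.closure {((U, c) : Perm (Fin n) × Perm (Fin m)), (W, d)} with hP
    have hPT : P ≤ fpt1_T ι := by
      rw [hP, Subgroup.closure_le]
      intro z hz
      rcases hz with rfl | rfl
      · exact hUc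
      · exact hWd
    have hfst : P.map (MonoidHom.fst (Perm (Fin n)) (Perm (Fin m))) =
        Subgroup.closure ({U, W} : Set (Perm (Fin n))) := by
      rw [hP, MonoidHom.map_closure, Set.image_pair]
      rfl
    have hsnd : P.map (MonoidHom.snd (Perm (Fin n)) (Perm (Fin m))) =
        Subgroup.closure ({c, d} : Set (Perm (Fin m))) := by
      rw [hP, MonoidHom.map_closure, Set.image_pair]
      rfl
    -- `P` is solvable: it embeds in `closure {U, W}`
    have h1 : Group.IsSolvable ↥(P.map (MonoidHom.fst (Perm (Fin n)) (Perm (Fin m)))) := by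
      rw [hfst]; exact hsolv
    have h2 : Group.IsSolvable ↥P := by
      apply Group.isSolvable_of_isSolvable_injective
        (f := (MonoidHom.fst (Perm (Fin n)) (Perm (Fin m))).subgroupMap P)
      intro z w hzw
      have h3 : (z : Perm (Fin n) × Perm (Fin m)).1 = (w : Perm (Fin n) × Perm (Fin m)).1 :=
        congrArg Subtype.val hzw
      apply Subtype.ext
      exact Prod.ext h3 (fpt1_snd_eq (hPT z.2) (hPT w.2) h3)
    have h4 : Group.IsSolvable ↥(P.map (MonoidHom.snd (Perm (Fin n)) (Perm (Fin m)))) :=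
      Group.isSolvable_of_surjective
        (MonoidHom.subgroupMap_surjective (MonoidHom.snd (Perm (Fin n)) (Perm (Fin m))) P)
    rw [hsnd] at h4
    exact h4

end Cfsg.Agent.Lib.Helper83.Fp
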