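import Mathlib

set_option autoImplicit false
set_option linter.unusedSectionVars false
set_option linter.unusedVariables false

/-!
# AP1 : counting inside `K[h]` for a subfield `K` (towards the maximal element order of
`Aut(PSL_d(q))`)
-/

namespace Cfsg.Agent.Lib.Helper94.AP

open Matrix Polynomial

variable {F : Type*} [Field F] [Fintype F] {d : ℕ}

/-- the `K`-span of `1, M, …, M^(d-1)` -/
def kspan (K : Subfield F) (M : Matrix (Fin d) (Fin d) F) :
    Submodule K (Matrix (Fin d) (Fin d) F) :=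
  Submodule.span K (Set.range fun i : Fin d => M ^ (i : ℕ))

theorem pow_mem_kspan_of_lt (K : Subfield F) (M : Matrix (Fin d) (Fin d) F) {i : ℕ} (hi : i < d) :
    M ^ i ∈ kspan K M :=
  Submodule.subset_span ⟨⟨i, hi⟩, rfl⟩

theorem kspan_ncard_le (K : Subfield F) (M : Matrix (Fin d) (Fin d) F) :
    ((kspan K M : Submodule K (Matrix (Fin d) (Fin d) F)) : Set (Matrix (Fin d) (Fin d) F)).ncard ≤
      Nat.card K ^ d := by
  classical
  have h1 : ((kspan K M : Submodule K (Matrix (Fin d) (Fin d) F)) : Set (Matrix (Fin d) (Fin d) F)) =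
      Set.range (fun c : Fin d → K => ∑ i, c i • M ^ (i : ℕ)) := by
    ext x
    rw [SetLike.mem_coe, kspan, Submodule.mem_span_range_iff_exists_fun]
    rfl
  rw [h1, ← Set.image_univ]
  refine (Set.ncard_image_le (Set.toFinite _)).trans ?_
  rw [Set.ncard_univ, Nat.card_fun, Nat.card_eq_fintype_card (α := Fin d), Fintype.card_fin]

/-- if the characteristic polynomial has coefficients in `K` then `M ^ d` lies in the span -/
theorem pow_d_mem_kspan (K : Subfield F) (M : Matrix (Fin d) (Fin d) F)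
    (hK : ∀ i, M.charpoly.coeff i ∈ K) : M ^ d ∈ kspan K M := by
  have h0 := Matrix.aeval_self_charpoly M
  rw [Polynomial.aeval_eq_sum_range, Matrix.charpoly_natDegree_eq_dim, Fintype.card_fin,
    Finset.sum_range_succ] at h0
  have hmon : M.charpoly.coeff d = 1 := by
    have := (Matrix.charpoly_monic M).coeff_natDegree
    rwa [Matrix.charpoly_natDegree_eq_dim, Fintype.card_fin] at this
  rw [hmon, one_smul] at h0
  have h1 : M ^ d = - ∑ i ∈ Finset.range d, M.charpoly.coeff i • M ^ i := by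
    rw [eq_neg_iff_add_eq_zero, add_comm]; exact h0
  rw [h1]
  apply Submodule.neg_mem
  apply Submodule.sum_mem
  intro i hi
  have hi' : i < d := Finset.mem_range.mp hi
  have : M.charpoly.coeff i • M ^ i = (⟨M.charpoly.coeff i, hK i⟩ : K) • M ^ i := rfl
  rw [this]
  exact Submodule.smul_mem _ _ (pow_mem_kspan_of_lt K M hi')

theorem mul_mem_kspan (K : Subfield F) (M : Matrix (Fin d) (Fin d) F)
    (hK : ∀ i, M.charpoly.coeff i ∈ K) {x : Matrix (Fin d) (Fin d) F} (hx : x ∈ kspan K M) :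
    M * x ∈ kspan K M := by
  unfold kspan at hx
  induction hx using Submodule.span_induction with
  | mem y hy =>
    obtain ⟨i, rfl⟩ := hy
    show M * M ^ (i : ℕ) ∈ kspan K M
    rw [← pow_succ']
    by_cases h : (i : ℕ) + 1 < d
    · exact pow_mem_kspan_of_lt K M h
    · have : (i : ℕ) + 1 = d := by have := i.2; omega
      rw [this]
      exact pow_d_mem_kspan K M hK
  | zero => rw [mul_zero]; exact Submodule.zero_mem _
  | add y z _ _ hy hz => rw [mul_add]; exact Submodule.add_mem _ hy hz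
  | smul c y _ hy =>
    have : M * (c • y) = c • (M * y) := by
      show M * ((c : F) • y) = (c : F) • (M * y)
      rw [mul_smul_comm]
    rw [this]
    exact Submodule.smul_mem _ _ hy

theorem pow_mem_kspan (K : Subfield F) (hd : 1 ≤ d) (M : Matrix (Fin d) (Fin d) F)
    (hK : ∀ i, M.charpoly.coeff i ∈ K) (n : ℕ) : M ^ n ∈ kspan K M := by
  induction n with
  | zero => exact pow_mem_kspan_of_lt K M hd
  | succ n ih => rw [pow_succ']; exact mul_mem_kspan K M hK ih

/-- the set `K^* · ⟨g⟩` -/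
def Gam (K : Subfield F) (g : GL (Fin d) F) : Set (Matrix (Fin d) (Fin d) F) :=
  {x | ∃ c : K, c ≠ 0 ∧ ∃ i : ℕ, x = (c : F) • ((g ^ i : GL (Fin d) F) : Matrix (Fin d) (Fin d) F)}

theorem gam_subset_kspan (K : Subfield F) (hd : 1 ≤ d) (g : GL (Fin d) F)
    (hK : ∀ i, (g : Matrix (Fin d) (Fin d) F).charpoly.coeff i ∈ K) :
    Gam K g ⊆ ((kspan K (g : Matrix (Fin d) (Fin d) F) :
      Submodule K (Matrix (Fin d) (Fin d) F)) : Set (Matrix (Fin d) (Fin d) F)) := by
  rintro x ⟨c, -, i, rfl⟩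
  rw [SetLike.mem_coe, Units.val_pow_eq_pow_val]
  exact Submodule.smul_mem _ c (pow_mem_kspan K hd _ hK i)

theorem gl_smul_ne_zero (hd : 1 ≤ d) (g : GL (Fin d) F) {c : F} (hc : c ≠ 0) :
    c • (g : Matrix (Fin d) (Fin d) F) ≠ 0 := by
  intro h
  have h1 : (c • (g : Matrix (Fin d) (Fin d) F)) *
      ((g⁻¹ : GL (Fin d) F) : Matrix (Fin d) (Fin d) F) = 0 := by rw [h, zero_mul]
  rw [smul_mul_assoc, ← Units.val_mul, mul_inv_cancel, Units.val_one] at h1
  have h2 := congrFun (congrFun h1 ⟨0, hd⟩) ⟨0, hd⟩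
  simp at h2
  exact hc h2

theorem zero_not_mem_gam (K : Subfield F) (hd : 1 ≤ d) (g : GL (Fin d) F) :
    (0 : Matrix (Fin d) (Fin d) F) ∉ Gam K g := by
  rintro ⟨c, hc, i, h⟩
  have hc' : (c : F) ≠ 0 := fun h0 => hc (Subtype.ext h0)
  exact gl_smul_ne_zero hd (g ^ i) hc' h.symm

theorem gl_smul_cancel (hd : 1 ≤ d) (g : GL (Fin d) F) {c c' : F}
    (h : c • (g : Matrix (Fin d) (Fin d) F) = c' • (g : Matrix (Fin d) (Fin d) F)) : c = c' := by
  have h1 : (c • (g : Matrix (Fin d) (Fin d) F)) *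
      ((g⁻¹ : GL (Fin d) F) : Matrix (Fin d) (Fin d) F) =
      (c' • (g : Matrix (Fin d) (Fin d) F)) *
      ((g⁻¹ : GL (Fin d) F) : Matrix (Fin d) (Fin d) F) := by rw [h]
  rw [smul_mul_assoc, smul_mul_assoc, ← Units.val_mul, mul_inv_cancel, Units.val_one] at h1
  have h2 := congrFun (congrFun h1 ⟨0, hd⟩) ⟨0, hd⟩
  simpa using h2

/-- the main counting statement: the minimal projective period `k` of `g` modulo `K^*`
satisfies `(|K| - 1) k ≤ |Gam|` -/
theorem gam_card_ge (K : Subfield F) (hd : 1 ≤ d) (g : GL (Fin d) F) :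
    ∃ k : ℕ, 0 < k ∧
      (∃ c : K, c ≠ 0 ∧ ((g ^ k : GL (Fin d) F) : Matrix (Fin d) (Fin d) F) =
        (c : F) • (1 : Matrix (Fin d) (Fin d) F)) ∧
      (Nat.card K - 1) * k ≤ (Gam K g).ncard := by
  classical
  let P : ℕ → Prop := fun k => 0 < k ∧ ∃ c : K, c ≠ 0 ∧
    ((g ^ k : GL (Fin d) F) : Matrix (Fin d) (Fin d) F) = (c : F) • (1 : Matrix (Fin d) (Fin d) F)
  have hex : ∃ k, P k := by
    refine ⟨orderOf g, orderOf_pos g, 1, one_ne_zero, ?_⟩
    rw [pow_orderOf_eq_one, Units.val_one]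
    simp
  let k := Nat.find hex
  have hk : P k := Nat.find_spec hex
  have hmin : ∀ m, m < k → ¬ P m := fun m hm => Nat.find_min hex hm
  refine ⟨k, hk.1, hk.2, ?_⟩
  -- the injection
  let φ : {c : K // c ≠ 0} × Fin k → Matrix (Fin d) (Fin d) F := fun x =>
    ((x.1 : K) : F) • ((g ^ (x.2 : ℕ) : GL (Fin d) F) : Matrix (Fin d) (Fin d) F)
  have key : ∀ (c c' : {c : K // c ≠ 0}) (i j : Fin k), (i : ℕ) ≤ (j : ℕ) →
      φ (c, i) = φ (c', j) → c = c' ∧ i = j := by
    intro c c' i j hij h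
    have hc0 : ((c : K) : F) ≠ 0 := fun h0 => c.2 (Subtype.ext h0)
    have hc0' : ((c' : K) : F) ≠ 0 := fun h0 => c'.2 (Subtype.ext h0)
    have hj : (j : ℕ) = (i : ℕ) + ((j : ℕ) - (i : ℕ)) := by omega
    have h1 : ((g ^ ((j : ℕ) - (i : ℕ)) : GL (Fin d) F) : Matrix (Fin d) (Fin d) F) =
        (((c : K) : F) * ((c' : K) : F)⁻¹) • (1 : Matrix (Fin d) (Fin d) F) := by
      have h2 : ((c : K) : F) • ((g ^ (i : ℕ) : GL (Fin d) F) : Matrix (Fin d) (Fin d) F) =
          ((c' : K) : F) • (((g ^ (i : ℕ) : GL (Fin d) F) : Matrix (Fin d) (Fin d) F) *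
            ((g ^ ((j : ℕ) - (i : ℕ)) : GL (Fin d) F) : Matrix (Fin d) (Fin d) F)) := by
        rw [← Units.val_mul, ← pow_add, ← hj]; exact h
      have h3 := congrArg (fun X => (((g ^ (i : ℕ))⁻¹ : GL (Fin d) F) :
        Matrix (Fin d) (Fin d) F) * X) h2
      simp only [mul_smul_comm] at h3
      rw [← Matrix.mul_assoc, ← Units.val_mul, inv_mul_cancel, Units.val_one, Matrix.one_mul] at h3
      calc ((g ^ ((j : ℕ) - (i : ℕ)) : GL (Fin d) F) : Matrix (Fin d) (Fin d) F)
          = (((c' : K) : F)⁻¹ * ((c' : K) : F)) •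
            ((g ^ ((j : ℕ) - (i : ℕ)) : GL (Fin d) F) : Matrix (Fin d) (Fin d) F) := by
              rw [inv_mul_cancel₀ hc0', one_smul]
        _ = ((c' : K) : F)⁻¹ • (((c' : K) : F) •
            ((g ^ ((j : ℕ) - (i : ℕ)) : GL (Fin d) F) : Matrix (Fin d) (Fin d) F)) := by
              rw [smul_smul]
        _ = ((c' : K) : F)⁻¹ • (((c : K) : F) • (1 : Matrix (Fin d) (Fin d) F)) := by rw [h3]
        _ = _ := by rw [smul_smul, mul_comm]
    have hlt : (j : ℕ) - (i : ℕ) < k := by have := j.2; omega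
    have hnot := hmin _ hlt
    have hzero : (j : ℕ) - (i : ℕ) = 0 := by
      by_contra hne
      apply hnot
      refine ⟨Nat.pos_of_ne_zero hne, ⟨((c : K) * (c' : K)⁻¹), ?_, ?_⟩⟩
      · exact mul_ne_zero c.2 (inv_ne_zero c'.2)
      · rw [h1]; simp
    have hij' : i = j := Fin.ext (by omega)
    refine ⟨?_, hij'⟩
    subst hij'
    have := gl_smul_cancel hd _ h
    exact Subtype.ext (Subtype.ext this)
  have hinj : Function.Injective φ := by
    rintro ⟨c, i⟩ ⟨c', j⟩ h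
    rcases le_total (i : ℕ) (j : ℕ) with hij | hij
    · obtain ⟨h1, h2⟩ := key c c' i j hij h
      rw [h1, h2]
    · obtain ⟨h1, h2⟩ := key c' c j i hij h.symm
      rw [h1, h2]
  have hrange : Set.range φ ⊆ Gam K g := by
    rintro x ⟨⟨c, i⟩, rfl⟩
    exact ⟨c.1, c.2, i, rfl⟩
  have h1 : (Set.range φ).ncard = Nat.card ({c : K // c ≠ 0} × Fin k) := by
    rw [← Set.image_univ, Set.ncard_image_of_injective _ hinj, Set.ncard_univ]
  have h2 : Nat.card ({c : K // c ≠ 0} × Fin k) = (Nat.card K - 1) * k := by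
    rw [Nat.card_prod, Nat.card_eq_fintype_card (α := Fin k), Fintype.card_fin]
    congr 1
    have : Nat.card {c : K // c ≠ 0} = Nat.card Kˣ :=
      Nat.card_congr (unitsEquivNeZero (G₀ := K)).symm
    rw [this, Nat.card_units]
  rw [← h2, ← h1]
  exact Set.ncard_le_ncard hrange (Set.toFinite _)

/-- the counting bound when the characteristic polynomial of `g` has coefficients in `K` -/
theorem count_main (K : Subfield F) (hd : 1 ≤ d) (g : GL (Fin d) F)
    (hK : ∀ i, (g : Matrix (Fin d) (Fin d) F).charpoly.coeff i ∈ K) :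
    ∃ k : ℕ, 0 < k ∧
      (∃ c : F, c ≠ 0 ∧ ((g ^ k : GL (Fin d) F) : Matrix (Fin d) (Fin d) F) =
        c • (1 : Matrix (Fin d) (Fin d) F)) ∧
      (Nat.card K - 1) * k ≤ Nat.card K ^ d - 1 := by
  obtain ⟨k, hk, ⟨c, hc, hgk⟩, hcard⟩ := gam_card_ge K hd g
  refine ⟨k, hk, ⟨(c : F), fun h0 => hc (Subtype.ext h0), hgk⟩, hcard.trans ?_⟩
  have hsub : Gam K g ⊆ ((kspan K (g : Matrix (Fin d) (Fin d) F) :
      Submodule K (Matrix (Fin d) (Fin d) F)) : Set (Matrix (Fin d) (Fin d) F)) \ {0} := by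
    intro x hx
    refine ⟨gam_subset_kspan K hd g hK hx, ?_⟩
    rintro (rfl : x = 0)
    exact zero_not_mem_gam K hd g hx
  refine (Set.ncard_le_ncard hsub (Set.toFinite _)).trans ?_
  rw [Set.ncard_sdiff_singleton_of_mem (Submodule.zero_mem _)]
  exact Nat.sub_le_sub_right (kspan_ncard_le K _) 1

end Cfsg.Agent.Lib.Helper94.AP
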