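import Mathlib
import Cfsg.Agent.Lib.Helper94.AP1

set_option autoImplicit false
set_option linter.unusedSectionVars false
set_option linter.unusedVariables false

/-!
# AP2 : the doubling trick
-/

namespace Cfsg.Agent.Lib.Helper94.AP

open Matrix Polynomial

variable {F : Type*} [Field F] [Fintype F] {d : ℕ}

theorem card_top : Nat.card (⊤ : Subfield F) = Fintype.card F := by
  rw [← Nat.card_eq_fintype_card]
  exact Nat.card_congr (Subfield.topEquiv (K := F)).toEquiv

theorem coeff_mem_top (M : Matrix (Fin d) (Fin d) F) :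
    ∀ i, M.charpoly.coeff i ∈ (⊤ : Subfield F) := fun _ => Subfield.mem_top _

theorem mem_gam_top (g : GL (Fin d) F) (x : Matrix (Fin d) (Fin d) F) :
    x ∈ Gam (⊤ : Subfield F) g ↔ ∃ c : F, c ≠ 0 ∧ ∃ i : ℕ,
      x = c • ((g ^ i : GL (Fin d) F) : Matrix (Fin d) (Fin d) F) := by
  constructor
  · rintro ⟨c, hc, i, rfl⟩
    exact ⟨(c : F), fun h0 => hc (Subtype.ext h0), i, rfl⟩
  · rintro ⟨c, hc, i, rfl⟩
    exact ⟨⟨c, Subfield.mem_top c⟩, fun h0 => hc (congrArg Subtype.val h0), i, rfl⟩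

/-- the inverse of `g` is a natural power of `g` -/
theorem inv_eq_pow (g : GL (Fin d) F) : ∃ m : ℕ, g⁻¹ = g ^ m := by
  refine ⟨orderOf g - 1, ?_⟩
  have h := pow_orderOf_eq_one g
  have hpos := orderOf_pos g
  rw [inv_eq_iff_mul_eq_one, ← pow_succ']
  rw [Nat.sub_add_cancel hpos, h]

theorem gam_top_mul (g : GL (Fin d) F) {x y : Matrix (Fin d) (Fin d) F}
    (hx : x ∈ Gam (⊤ : Subfield F) g) (hy : y ∈ Gam (⊤ : Subfield F) g) :
    x * y ∈ Gam (⊤ : Subfield F) g := by
  rw [mem_gam_top] at hx hy ⊢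
  obtain ⟨c, hc, i, rfl⟩ := hx
  obtain ⟨c', hc', j, rfl⟩ := hy
  refine ⟨c * c', mul_ne_zero hc hc', i + j, ?_⟩
  rw [smul_mul_smul_comm, ← Units.val_mul, ← pow_add]

/-- two-dimensional span -/
theorem quad_count (hd : 1 ≤ d) (g : GL (Fin d) F) (t u : F)
    (hq : (g : Matrix (Fin d) (Fin d) F) ^ 2 = t • (g : Matrix (Fin d) (Fin d) F) +
      u • (1 : Matrix (Fin d) (Fin d) F)) :
    (Gam (⊤ : Subfield F) g).ncard ≤ Fintype.card F ^ 2 - 1 := by
  classical
  let S : Set (Matrix (Fin d) (Fin d) F) :=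
    Set.range (fun p : F × F => p.1 • (1 : Matrix (Fin d) (Fin d) F) +
      p.2 • (g : Matrix (Fin d) (Fin d) F))
  have hpow : ∀ i : ℕ, ∃ a b : F, (g : Matrix (Fin d) (Fin d) F) ^ i =
      a • (1 : Matrix (Fin d) (Fin d) F) + b • (g : Matrix (Fin d) (Fin d) F) := by
    intro i
    induction i with
    | zero => exact ⟨1, 0, by simp⟩
    | succ i ih =>
      obtain ⟨a, b, hab⟩ := ih
      refine ⟨b * u, a + b * t, ?_⟩
      rw [pow_succ, hab, add_mul, smul_mul_assoc, smul_mul_assoc, Matrix.one_mul, ← pow_two, hq,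
        smul_add, smul_smul, smul_smul, add_smul]
      abel
  have hsub : Gam (⊤ : Subfield F) g ⊆ S \ {0} := by
    intro x hx
    refine ⟨?_, ?_⟩
    · rw [mem_gam_top] at hx
      obtain ⟨c, hc, i, rfl⟩ := hx
      obtain ⟨a, b, hab⟩ := hpow i
      refine ⟨(c * a, c * b), ?_⟩
      show (c * a) • (1 : Matrix (Fin d) (Fin d) F) + (c * b) • (g : Matrix (Fin d) (Fin d) F) = _
      rw [Units.val_pow_eq_pow_val, hab, smul_add, smul_smul, smul_smul]
    · rintro (rfl : x = 0)
      exact zero_not_mem_gam _ hd g hx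
  have h0 : (0 : Matrix (Fin d) (Fin d) F) ∈ S := ⟨(0, 0), by simp⟩
  refine (Set.ncard_le_ncard hsub (Set.toFinite _)).trans ?_
  rw [Set.ncard_sdiff_singleton_of_mem h0]
  apply Nat.sub_le_sub_right
  have : S.ncard ≤ Nat.card (F × F) := by
    show (Set.range _).ncard ≤ _
    rw [← Set.image_univ]
    refine (Set.ncard_image_le (Set.toFinite _)).trans ?_
    rw [Set.ncard_univ]
  rw [Nat.card_prod, Nat.card_eq_fintype_card] at this
  rw [pow_two]
  exact this

theorem two_le_card : 2 ≤ Fintype.card F := Fintype.one_lt_card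

/-- `2 (q^2 - 1) ≤ q^d - 1` for `d ≥ 3` -/
theorem two_mul_sq_le {q d : ℕ} (hq : 2 ≤ q) (hd : 3 ≤ d) : 2 * (q ^ 2 - 1) ≤ q ^ d - 1 := by
  have h1 : q ^ 3 ≤ q ^ d := Nat.pow_le_pow_right (by omega) hd
  have h2 : 2 * q ^ 2 ≤ q ^ 3 := by
    rw [pow_succ q 2]
    nlinarith
  have h3 : 1 ≤ q ^ 2 := Nat.one_le_pow _ _ (by omega)
  omega

/-- the doubling trick -/
theorem doubling (hd : 3 ≤ d) (g : GL (Fin d) F) (σ : F →+* F)
    (star : Matrix (Fin d) (Fin d) F → Matrix (Fin d) (Fin d) F)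
    (star_add : ∀ x y, star (x + y) = star x + star y)
    (star_mul : ∀ x y, star (x * y) = star y * star x)
    (star_scalar : ∀ c : F, star (c • (1 : Matrix (Fin d) (Fin d) F)) =
      σ c • (1 : Matrix (Fin d) (Fin d) F))
    (star_g : star (g : Matrix (Fin d) (Fin d) F) =
      ((g⁻¹ : GL (Fin d) F) : Matrix (Fin d) (Fin d) F))
    (c : F) (hc : c ≠ 0)
    (hdet : ((g : Matrix (Fin d) (Fin d) F) + c • (1 : Matrix (Fin d) (Fin d) F)).det ≠ 0) :
    ∃ k : ℕ, 0 < k ∧
      (∃ c' : F, c' ≠ 0 ∧ ((g ^ k : GL (Fin d) F) : Matrix (Fin d) (Fin d) F) =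
        c' • (1 : Matrix (Fin d) (Fin d) F)) ∧
      2 * ((Fintype.card F - 1) * k) ≤ Fintype.card F ^ d - 1 := by
  classical
  have hd1 : 1 ≤ d := by omega
  obtain ⟨k, hk, ⟨c0, hc0, hgk⟩, hcard⟩ := gam_card_ge (⊤ : Subfield F) hd1 g
  rw [card_top] at hcard
  refine ⟨k, hk, ⟨(c0 : F), fun h0 => hc0 (Subtype.ext h0), hgk⟩, ?_⟩
  set G := Gam (⊤ : Subfield F) g with hG
  set a : Matrix (Fin d) (Fin d) F := (g : Matrix (Fin d) (Fin d) F) + c • 1 with ha
  have star_one : star (1 : Matrix (Fin d) (Fin d) F) = 1 := by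
    have := star_scalar 1
    rwa [one_smul, map_one, one_smul] at this
  have star_pow : ∀ (x : Matrix (Fin d) (Fin d) F) (i : ℕ), star (x ^ i) = star x ^ i := by
    intro x i
    induction i with
    | zero => rw [pow_zero, pow_zero, star_one]
    | succ i ih => rw [pow_succ, star_mul, ih, pow_succ']
  have star_smul : ∀ (c : F) (x : Matrix (Fin d) (Fin d) F), star (c • x) = σ c • star x := by
    intro c x
    have : c • x = (c • (1 : Matrix (Fin d) (Fin d) F)) * x := by
      rw [smul_mul_assoc, Matrix.one_mul]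
    rw [this, star_mul, star_scalar, mul_smul_comm, Matrix.mul_one]
  by_cases haG : a ∈ G
  · -- quadratic case
    rw [hG, mem_gam_top] at haG
    obtain ⟨c', hc', i, hai⟩ := haG
    have h1 : star a = ((g⁻¹ : GL (Fin d) F) : Matrix (Fin d) (Fin d) F) + σ c • 1 := by
      rw [ha, star_add, star_g, star_scalar]
    have h2 : star a = σ c' • (((g⁻¹) ^ i : GL (Fin d) F) : Matrix (Fin d) (Fin d) F) := by
      rw [hai, star_smul, Units.val_pow_eq_pow_val, star_pow, star_g, Units.val_pow_eq_pow_val]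
    have h3 : a * star a = (c' * σ c') • (1 : Matrix (Fin d) (Fin d) F) := by
      rw [h2, hai, smul_mul_smul_comm, ← Units.val_mul, inv_pow, mul_inv_cancel,
        Units.val_one]
    have hgg : (g : Matrix (Fin d) (Fin d) F) * ((g⁻¹ : GL (Fin d) F) : Matrix (Fin d) (Fin d) F) = 1 := by
      rw [← Units.val_mul, mul_inv_cancel, Units.val_one]
    have hgg' : ((g⁻¹ : GL (Fin d) F) : Matrix (Fin d) (Fin d) F) * (g : Matrix (Fin d) (Fin d) F) = 1 := by
      rw [← Units.val_mul, inv_mul_cancel, Units.val_one]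
    have h4 : a * star a = (1 + c * σ c) • (1 : Matrix (Fin d) (Fin d) F) +
        σ c • (g : Matrix (Fin d) (Fin d) F) +
        c • ((g⁻¹ : GL (Fin d) F) : Matrix (Fin d) (Fin d) F) := by
      rw [h1, ha, add_mul, mul_add, mul_add, hgg, mul_smul_comm, Matrix.mul_one, smul_mul_assoc,
        Matrix.one_mul, smul_mul_assoc, Matrix.one_mul, smul_smul, add_smul, one_smul]
      abel
    have hσc : σ c ≠ 0 := (map_ne_zero σ).mpr hc
    -- multiply by g
    have h5 : σ c • (g : Matrix (Fin d) (Fin d) F) ^ 2 + c • (1 : Matrix (Fin d) (Fin d) F) =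
        (c' * σ c' - (1 + c * σ c)) • (g : Matrix (Fin d) (Fin d) F) := by
      have h6 : (σ c • (g : Matrix (Fin d) (Fin d) F) +
          c • ((g⁻¹ : GL (Fin d) F) : Matrix (Fin d) (Fin d) F)) =
          (c' * σ c' - (1 + c * σ c)) • (1 : Matrix (Fin d) (Fin d) F) := by
        rw [sub_smul, ← h3, h4]; abel
      have h7 := congrArg (fun X => X * (g : Matrix (Fin d) (Fin d) F)) h6
      simp only [add_mul, smul_mul_assoc, hgg', Matrix.one_mul] at h7
      rw [pow_two]; exact h7
    have hq : (g : Matrix (Fin d) (Fin d) F) ^ 2 =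
        ((σ c)⁻¹ * (c' * σ c' - (1 + c * σ c))) • (g : Matrix (Fin d) (Fin d) F) +
        (-((σ c)⁻¹ * c)) • (1 : Matrix (Fin d) (Fin d) F) := by
      have h8 : σ c • (g : Matrix (Fin d) (Fin d) F) ^ 2 =
          (c' * σ c' - (1 + c * σ c)) • (g : Matrix (Fin d) (Fin d) F) -
          c • (1 : Matrix (Fin d) (Fin d) F) := by
        rw [← h5]; abel
      calc (g : Matrix (Fin d) (Fin d) F) ^ 2
          = ((σ c)⁻¹ * σ c) • (g : Matrix (Fin d) (Fin d) F) ^ 2 := by
            rw [inv_mul_cancel₀ hσc, one_smul]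
        _ = (σ c)⁻¹ • (σ c • (g : Matrix (Fin d) (Fin d) F) ^ 2) := by rw [smul_smul]
        _ = _ := by
            rw [h8, smul_sub, smul_smul, smul_smul, neg_smul, sub_eq_add_neg]
    have h9 := quad_count hd1 g _ _ hq
    have h10 : (Fintype.card F - 1) * k ≤ Fintype.card F ^ 2 - 1 := hcard.trans h9
    have := two_mul_sq_le (two_le_card (F := F)) hd
    omega
  · -- doubling case
    let a' : GL (Fin d) F := Matrix.GeneralLinearGroup.mkOfDetNeZero a hdet
    have ha' : (a' : Matrix (Fin d) (Fin d) F) = a := rfl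
    let S : Set (Matrix (Fin d) (Fin d) F) :=
      ((kspan (⊤ : Subfield F) (g : Matrix (Fin d) (Fin d) F) :
        Submodule _ (Matrix (Fin d) (Fin d) F)) : Set (Matrix (Fin d) (Fin d) F)) \ {0}
    have hGS : G ⊆ S := by
      intro x hx
      refine ⟨gam_subset_kspan _ hd1 g (coeff_mem_top _) hx, ?_⟩
      rintro (rfl : x = 0)
      exact zero_not_mem_gam _ hd1 g hx
    let aG : Set (Matrix (Fin d) (Fin d) F) := (fun x => a * x) '' G
    have hinj : Function.Injective (fun x : Matrix (Fin d) (Fin d) F => a * x) := by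
      intro x y hxy
      have := congrArg (fun X => ((a'⁻¹ : GL (Fin d) F) : Matrix (Fin d) (Fin d) F) * X) hxy
      simp only at this
      rw [← Matrix.mul_assoc, ← Matrix.mul_assoc, ← ha', ← Units.val_mul, inv_mul_cancel,
        Units.val_one, Matrix.one_mul, Matrix.one_mul] at this
      exact this
    have haGS : aG ⊆ S := by
      rintro y ⟨x, hx, rfl⟩
      refine ⟨?_, ?_⟩
      · have hx' := hx
        rw [hG, mem_gam_top] at hx'
        obtain ⟨c1, hc1, i, rfl⟩ := hx'
        show a * _ ∈ kspan _ _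
        have : a * (c1 • ((g ^ i : GL (Fin d) F) : Matrix (Fin d) (Fin d) F)) =
            (⟨c1, Subfield.mem_top c1⟩ : (⊤ : Subfield F)) •
              ((g : Matrix (Fin d) (Fin d) F) ^ (i + 1)) +
            (⟨c * c1, Subfield.mem_top _⟩ : (⊤ : Subfield F)) •
              ((g : Matrix (Fin d) (Fin d) F) ^ i) := by
          show a * (c1 • ((g ^ i : GL (Fin d) F) : Matrix (Fin d) (Fin d) F)) =
            c1 • ((g : Matrix (Fin d) (Fin d) F) ^ (i + 1)) +
            (c * c1) • ((g : Matrix (Fin d) (Fin d) F) ^ i)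
          rw [ha, add_mul, mul_smul_comm, mul_smul_comm, smul_mul_assoc, Matrix.one_mul,
            Units.val_pow_eq_pow_val, ← pow_succ', smul_smul, mul_comm c1 c]
        rw [this]
        exact Submodule.add_mem _
          (Submodule.smul_mem _ _ (pow_mem_kspan _ hd1 _ (coeff_mem_top _) _))
          (Submodule.smul_mem _ _ (pow_mem_kspan _ hd1 _ (coeff_mem_top _) _))
      · intro h0
        have h0' : a * x = a * 0 := by rw [Matrix.mul_zero]; exact h0
        have := hinj h0'
        rw [this] at hx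
        exact zero_not_mem_gam _ hd1 g hx
    have hdisj : Disjoint G aG := by
      rw [Set.disjoint_left]
      rintro y hy ⟨x, hx, hxy⟩
      apply haG
      -- a = y * x⁻¹
      have hx' := hx
      rw [hG, mem_gam_top] at hx'
      obtain ⟨c1, hc1, i, rfl⟩ := hx'
      obtain ⟨m, hm⟩ := inv_eq_pow (g ^ i)
      have hxinv : (c1⁻¹ • (((g ^ i) ^ m : GL (Fin d) F) : Matrix (Fin d) (Fin d) F)) ∈ G := by
        rw [hG, mem_gam_top]
        exact ⟨c1⁻¹, inv_ne_zero hc1, i * m, by rw [pow_mul]⟩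
      have h1 : a = y * (c1⁻¹ • (((g ^ i) ^ m : GL (Fin d) F) : Matrix (Fin d) (Fin d) F)) := by
        rw [← hxy]
        simp only at *
        rw [Matrix.mul_assoc, smul_mul_smul_comm, mul_inv_cancel₀ hc1, one_smul, ← Units.val_mul,
          ← hm, mul_inv_cancel, Units.val_one, Matrix.mul_one]
      rw [h1]
      exact gam_top_mul g hy hxinv
    have hcardaG : aG.ncard = G.ncard := Set.ncard_image_of_injective _ hinj
    have hunion : (G ∪ aG).ncard = G.ncard + aG.ncard :=
      Set.ncard_union_eq hdisj (Set.toFinite _) (Set.toFinite _)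
    have hle : (G ∪ aG).ncard ≤ S.ncard :=
      Set.ncard_le_ncard (Set.union_subset hGS haGS) (Set.toFinite _)
    have hS : S.ncard ≤ Fintype.card F ^ d - 1 := by
      show Set.ncard (((kspan (⊤ : Subfield F) (g : Matrix (Fin d) (Fin d) F) :
        Submodule _ (Matrix (Fin d) (Fin d) F)) : Set (Matrix (Fin d) (Fin d) F)) \ {0}) ≤ _
      rw [Set.ncard_sdiff_singleton_of_mem (Submodule.zero_mem _)]
      have := kspan_ncard_le (⊤ : Subfield F) (g : Matrix (Fin d) (Fin d) F)
      rw [card_top] at this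
      exact Nat.sub_le_sub_right this 1
    rw [hunion, hcardaG] at hle
    omega

end Cfsg.Agent.Lib.Helper94.AP
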