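import Mathlib
import Cfsg.Agent.Lib.Helper94.AP2

set_option autoImplicit false
set_option linter.unusedSectionVars false
set_option linter.unusedVariables false

/-!
# AP3 : evaluation counting (all nonzero scalars are eigenvalues)
-/

namespace Cfsg.Agent.Lib.Helper94.AP

open Matrix Polynomial

variable {F : Type*} [Field F] [Fintype F] {d : ℕ}

/-- generic product counting -/
theorem card_mul_le {M T : Type*} [Finite T] (A S : Set M) (hS : S.Finite) (ψ : M → T → M)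
    (hinj : ∀ x ∈ A, ∀ x' ∈ A, ∀ t t', ψ x t = ψ x' t' → x = x' ∧ t = t')
    (hrange : ∀ x ∈ A, ∀ t, ψ x t ∈ S) : A.ncard * Nat.card T ≤ S.ncard := by
  classical
  rcases isEmpty_or_nonempty T with hT | hT
  · rw [Nat.card_of_isEmpty, Nat.mul_zero]; exact Nat.zero_le _
  let Ψ : ↥A × T → M := fun p => ψ p.1.1 p.2
  have hΨ : Function.Injective Ψ := by
    rintro ⟨⟨x, hx⟩, t⟩ ⟨⟨x', hx'⟩, t'⟩ h
    obtain ⟨h1, h2⟩ := hinj x hx x' hx' t t' h
    subst h1; subst h2; rfl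
  have hsub : Set.range Ψ ⊆ S := by
    rintro y ⟨⟨⟨x, hx⟩, t⟩, rfl⟩
    exact hrange x hx t
  have hAfin : A.Finite := by
    obtain ⟨t0⟩ := hT
    have hinj' : Set.InjOn (fun x => ψ x t0) A := by
      intro x hx x' hx' h
      exact (hinj x hx x' hx' t0 t0 h).1
    have himg : (fun x => ψ x t0) '' A ⊆ S := by
      rintro y ⟨x, hx, rfl⟩
      exact hrange x hx t0
    exact Set.Finite.of_finite_image (hS.subset himg) hinj'
  have : Finite ↥A := hAfin
  have h1 : (Set.range Ψ).ncard = Nat.card (↥A × T) := by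
    rw [← Set.image_univ, Set.ncard_image_of_injective _ hΨ, Set.ncard_univ]
  have h2 : Nat.card (↥A × T) = A.ncard * Nat.card T := by
    rw [Nat.card_prod, Nat.card_coe_set_eq]
  rw [← h2, ← h1]
  exact Set.ncard_le_ncard hsub hS


theorem pow_mulVec_eigen (M : Matrix (Fin d) (Fin d) F) (v : Fin d → F) (l : F)
    (h : M *ᵥ v = l • v) (i : ℕ) : (M ^ i) *ᵥ v = l ^ i • v := by
  induction i with
  | zero => simp
  | succ i ih =>
    rw [pow_succ, ← Matrix.mulVec_mulVec, h, Matrix.mulVec_smul, ih, smul_smul, pow_succ, mul_comm]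

theorem kspan_eigen (K : Subfield F) (M : Matrix (Fin d) (Fin d) F) (v : Fin d → F) (l : F)
    (h : M *ᵥ v = l • v) {y : Matrix (Fin d) (Fin d) F} (hy : y ∈ kspan K M) :
    ∃ μ : F, y *ᵥ v = μ • v := by
  unfold kspan at hy
  induction hy using Submodule.span_induction with
  | mem y hy =>
    obtain ⟨i, rfl⟩ := hy
    exact ⟨l ^ (i : ℕ), pow_mulVec_eigen M v l h i⟩
  | zero => exact ⟨0, by simp⟩
  | add y z _ _ hy hz =>
    obtain ⟨a, ha⟩ := hy
    obtain ⟨b, hb⟩ := hz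
    exact ⟨a + b, by rw [Matrix.add_mulVec, ha, hb, add_smul]⟩
  | smul c y _ hy =>
    obtain ⟨a, ha⟩ := hy
    refine ⟨(c : F) * a, ?_⟩
    show ((c : F) • y) *ᵥ v = _
    rw [Matrix.smul_mulVec, ha, smul_smul]

theorem smul_vec_cancel {v : Fin d → F} (hv : v ≠ 0) {a b : F} (h : a • v = b • v) : a = b := by
  by_contra hab
  apply hv
  have h1 : (a - b) • v = 0 := by rw [sub_smul, h, sub_self]
  rcases smul_eq_zero.mp h1 with h2 | h2
  · exact absurd (sub_eq_zero.mp h2) hab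
  · exact h2

theorem kspan_top_smul_mem {M x : Matrix (Fin d) (Fin d) F} (c : F)
    (hx : x ∈ kspan (⊤ : Subfield F) M) : c • x ∈ kspan (⊤ : Subfield F) M :=
  Submodule.smul_mem _ (⟨c, Subfield.mem_top c⟩ : (⊤ : Subfield F)) hx

theorem kspan_top_pow_mem (hd : 1 ≤ d) (M : Matrix (Fin d) (Fin d) F) (i : ℕ) :
    M ^ i ∈ kspan (⊤ : Subfield F) M := pow_mem_kspan _ hd M (coeff_mem_top M) i

theorem kspan_top_ncard_le (M : Matrix (Fin d) (Fin d) F) :
    ((kspan (⊤ : Subfield F) M : Submodule _ (Matrix (Fin d) (Fin d) F)) :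
      Set (Matrix (Fin d) (Fin d) F)).ncard ≤ Fintype.card F ^ d := by
  have := kspan_ncard_le (⊤ : Subfield F) M
  rwa [card_top] at this

/-- three distinct nonzero eigenvalues -/
theorem eval3 (hd : 3 ≤ d) (g : GL (Fin d) F) (v1 v2 v3 : Fin d → F) (l1 l2 l3 : F)
    (hv1 : v1 ≠ 0) (hv2 : v2 ≠ 0) (hv3 : v3 ≠ 0)
    (h12 : l1 ≠ l2) (h13 : l1 ≠ l3) (h23 : l2 ≠ l3)
    (hl1 : l1 ≠ 0) (hl2 : l2 ≠ 0) (hl3 : l3 ≠ 0)
    (e1 : (g : Matrix (Fin d) (Fin d) F) *ᵥ v1 = l1 • v1)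
    (e2 : (g : Matrix (Fin d) (Fin d) F) *ᵥ v2 = l2 • v2)
    (e3 : (g : Matrix (Fin d) (Fin d) F) *ᵥ v3 = l3 • v3) :
    ∃ k : ℕ, 0 < k ∧
      (∃ c' : F, c' ≠ 0 ∧ ((g ^ k : GL (Fin d) F) : Matrix (Fin d) (Fin d) F) =
        c' • (1 : Matrix (Fin d) (Fin d) F)) ∧
      2 * ((Fintype.card F - 1) * k) ≤ Fintype.card F ^ d - 1 := by
  classical
  have hd1 : 1 ≤ d := by omega
  set q := Fintype.card F with hq
  have hq2 : 2 ≤ q := two_le_card
  set M : Matrix (Fin d) (Fin d) F := (g : Matrix (Fin d) (Fin d) F) with hM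
  obtain ⟨k', hk', ⟨c0, hc0, hgk'⟩, hcard⟩ := gam_card_ge (⊤ : Subfield F) hd1 (g ^ (q - 1))
  rw [card_top] at hcard
  let A0 : Set (Matrix (Fin d) (Fin d) F) :=
    {x | x ∈ kspan (⊤ : Subfield F) M ∧ ∃ c : F, x *ᵥ v1 = c • v1 ∧ x *ᵥ v2 = c • v2 ∧
      x *ᵥ v3 = c • v3}
  have hfix : ∀ (v : Fin d → F) (l : F), l ≠ 0 → M *ᵥ v = l • v → ∀ i : ℕ,
      (((g ^ (q - 1)) ^ i : GL (Fin d) F) : Matrix (Fin d) (Fin d) F) *ᵥ v = v := by
    intro v l hl hv i
    rw [← pow_mul, Units.val_pow_eq_pow_val, pow_mulVec_eigen M v l hv, pow_mul,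
      FiniteField.pow_card_sub_one_eq_one l hl, one_pow, one_smul]
  have hsub : Gam (⊤ : Subfield F) (g ^ (q - 1)) ⊆ A0 \ {0} := by
    intro x hx
    refine ⟨?_, ?_⟩
    · rw [mem_gam_top] at hx
      obtain ⟨c, hc, i, rfl⟩ := hx
      refine ⟨?_, c, ?_, ?_, ?_⟩
      · rw [← pow_mul, Units.val_pow_eq_pow_val]
        exact kspan_top_smul_mem c (kspan_top_pow_mem hd1 M _)
      · rw [Matrix.smul_mulVec, hfix v1 l1 hl1 e1]
      · rw [Matrix.smul_mulVec, hfix v2 l2 hl2 e2]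
      · rw [Matrix.smul_mulVec, hfix v3 l3 hl3 e3]
    · rintro (rfl : x = 0)
      exact zero_not_mem_gam _ hd1 _ hx
  have h0 : (0 : Matrix (Fin d) (Fin d) F) ∈ A0 :=
    ⟨Submodule.zero_mem _, 0, by simp, by simp, by simp⟩
  have hc1 : (q - 1) * k' ≤ A0.ncard - 1 := by
    refine hcard.trans ?_
    rw [← Set.ncard_sdiff_singleton_of_mem h0]
    exact Set.ncard_le_ncard hsub (Set.toFinite _)
  -- product counting
  have hc2 : A0.ncard * Nat.card (F × F) ≤ q ^ d := by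
    refine le_trans ?_ (kspan_top_ncard_le M)
    refine card_mul_le A0 _ (Set.toFinite _) (fun x t => x + t.1 • M + t.2 • M ^ 2) ?_ ?_
    · rintro x ⟨hxk, c, hx1, hx2, hx3⟩ x' ⟨hxk', c', hx1', hx2', hx3'⟩ ⟨a, b⟩ ⟨a', b'⟩ h
      simp only at h
      have hev : ∀ (v : Fin d → F) (l cc cc' : F), v ≠ 0 → M *ᵥ v = l • v → x *ᵥ v = cc • v →
          x' *ᵥ v = cc' • v → cc + a * l + b * l ^ 2 = cc' + a' * l + b' * l ^ 2 := by
        intro v l cc cc' hv hl hxv hxv'
        have h1 := congrArg (fun X => X *ᵥ v) h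
        simp only [Matrix.add_mulVec, Matrix.smul_mulVec, hxv, hxv', hl,
          pow_mulVec_eigen M v l hl 2] at h1
        apply smul_vec_cancel hv
        rw [add_smul, add_smul, add_smul, add_smul, ← smul_smul, ← smul_smul, ← smul_smul,
          ← smul_smul]
        exact h1
      have E1 := hev v1 l1 c c' hv1 e1 hx1 hx1'
      have E2 := hev v2 l2 c c' hv2 e2 hx2 hx2'
      have E3 := hev v3 l3 c c' hv3 e3 hx3 hx3'
      have hB : (b - b') * ((l1 - l2) * (l1 - l3) * (l2 - l3)) = 0 := by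
        linear_combination (l2 - l3) * E1 - (l1 - l3) * E2 + (l1 - l2) * E3
      have hB0 : b - b' = 0 := by
        rcases mul_eq_zero.mp hB with h | h
        · exact h
        · exfalso
          rcases mul_eq_zero.mp h with h | h
          · rcases mul_eq_zero.mp h with h | h
            · exact h12 (sub_eq_zero.mp h)
            · exact h13 (sub_eq_zero.mp h)
          · exact h23 (sub_eq_zero.mp h)
      have hA : (a - a') * (l1 - l2) = 0 := by
        linear_combination E1 - E2 - (l1 ^ 2 - l2 ^ 2) * hB0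
      have hA0 : a - a' = 0 := by
        rcases mul_eq_zero.mp hA with h | h
        · exact h
        · exact absurd (sub_eq_zero.mp h) h12
      have ha : a = a' := sub_eq_zero.mp hA0
      have hb : b = b' := sub_eq_zero.mp hB0
      subst ha; subst hb
      refine ⟨?_, rfl⟩
      have := add_right_cancel h
      exact add_right_cancel this
    · rintro x ⟨hxk, -⟩ ⟨a, b⟩
      refine Submodule.add_mem _ (Submodule.add_mem _ hxk ?_) ?_
      · have := kspan_top_smul_mem a (kspan_top_pow_mem hd1 M 1)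
        rwa [pow_one] at this
      · exact kspan_top_smul_mem b (kspan_top_pow_mem hd1 M 2)
  rw [Nat.card_prod, Nat.card_eq_fintype_card, ← hq] at hc2
  refine ⟨(q - 1) * k', Nat.mul_pos (by omega) hk', ⟨(c0 : F), fun h => hc0 (Subtype.ext h), ?_⟩, ?_⟩
  · rw [pow_mul]; exact hgk'
  · have hn0 : 1 ≤ A0.ncard := by
      have : 0 < A0.ncard := (Set.ncard_pos (Set.toFinite _)).mpr ⟨0, h0⟩
      omega
    obtain ⟨m, hm⟩ : ∃ m, A0.ncard = m + 1 := ⟨A0.ncard - 1, by omega⟩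
    obtain ⟨r, hr⟩ : ∃ r, q = r + 1 := ⟨q - 1, by omega⟩
    rw [hm] at hc1 hc2
    have hr1 : q - 1 = r := by omega
    rw [hr1] at hc1 ⊢
    have hc1' : r * k' ≤ m := by simpa using hc1
    rw [hr] at hc2
    have h3 : 2 * (r * (r * k')) + 1 ≤ (m + 1) * ((r + 1) * (r + 1)) := by
      have h5 : r * (r * k') ≤ r * m := Nat.mul_le_mul_left _ hc1'
      have h6 : (m + 1) * ((r + 1) * (r + 1)) =
          2 * (r * m) + 1 + (m * r * r + m + r * r + 2 * r) := by ring
      omega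
    have h4 : 1 ≤ q ^ d := Nat.one_le_pow _ _ (by omega)
    rw [hr] at h4 ⊢
    omega

end Cfsg.Agent.Lib.Helper94.AP
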