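import Mathlib
import Cfsg.Agent.Lib.Helper94.AP3

set_option autoImplicit false
set_option linter.unusedSectionVars false
set_option linter.unusedVariables false

/-!
# AP3b : evaluation counting for `q = 3` and `q = 2`
-/

namespace Cfsg.Agent.Lib.Helper94.AP

open Matrix Polynomial

variable {F : Type*} [Field F] [Fintype F] {d : ℕ}

/-- `q = 3`, two distinct nonzero eigenvalues -/
theorem eval2 (hF : Fintype.card F = 3) (hd : 2 ≤ d) (g : GL (Fin d) F) (v1 v2 : Fin d → F)
    (l1 l2 : F) (hv1 : v1 ≠ 0) (hv2 : v2 ≠ 0) (h12 : l1 ≠ l2) (hl1 : l1 ≠ 0) (hl2 : l2 ≠ 0)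
    (e1 : (g : Matrix (Fin d) (Fin d) F) *ᵥ v1 = l1 • v1)
    (e2 : (g : Matrix (Fin d) (Fin d) F) *ᵥ v2 = l2 • v2) :
    ∃ k : ℕ, 0 < k ∧
      (∃ c' : F, c' ≠ 0 ∧ ((g ^ k : GL (Fin d) F) : Matrix (Fin d) (Fin d) F) =
        c' • (1 : Matrix (Fin d) (Fin d) F)) ∧
      2 * ((Fintype.card F - 1) * k) ≤ Fintype.card F ^ d - 1 := by
  classical
  have hd1 : 1 ≤ d := by omega
  set M : Matrix (Fin d) (Fin d) F := (g : Matrix (Fin d) (Fin d) F) with hM
  obtain ⟨k, hk, ⟨c0, hc0, hgk⟩, hcard⟩ := gam_card_ge (⊤ : Subfield F) hd1 g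
  rw [card_top] at hcard
  refine ⟨k, hk, ⟨(c0 : F), fun h => hc0 (Subtype.ext h), hgk⟩, ?_⟩
  let A00 : Set (Matrix (Fin d) (Fin d) F) :=
    {x | x ∈ kspan (⊤ : Subfield F) M ∧ x *ᵥ v1 = 0 ∧ x *ᵥ v2 = 0}
  have h0 : (0 : Matrix (Fin d) (Fin d) F) ∈ A00 := ⟨Submodule.zero_mem _, by simp, by simp⟩
  have hn0 : 1 ≤ A00.ncard := by
    have : 0 < A00.ncard := (Set.ncard_pos (Set.toFinite _)).mpr ⟨0, h0⟩
    omega
  have hl12 : l1 - l2 ≠ 0 := sub_ne_zero.mpr h12
  -- (i) lower bound for the span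
  have hc2 : A00.ncard * Nat.card (F × F) ≤ Fintype.card F ^ d := by
    refine le_trans ?_ (kspan_top_ncard_le M)
    refine card_mul_le A00 _ (Set.toFinite _)
      (fun x t => x + t.1 • (1 : Matrix (Fin d) (Fin d) F) + t.2 • M) ?_ ?_
    · rintro x ⟨hxk, hx1, hx2⟩ x' ⟨hxk', hx1', hx2'⟩ ⟨a, b⟩ ⟨a', b'⟩ h
      simp only at h
      have hev : ∀ (v : Fin d → F) (l : F), v ≠ 0 → M *ᵥ v = l • v → x *ᵥ v = 0 →
          x' *ᵥ v = 0 → a + b * l = a' + b' * l := by
        intro v l hv hl hxv hxv'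
        have h1 := congrArg (fun X => X *ᵥ v) h
        simp only [Matrix.add_mulVec, Matrix.smul_mulVec, hxv, hxv', hl, Matrix.one_mulVec,
          zero_add] at h1
        apply smul_vec_cancel hv
        rw [add_smul, add_smul, ← smul_smul, ← smul_smul]
        exact h1
      have E1 := hev v1 l1 hv1 e1 hx1 hx1'
      have E2 := hev v2 l2 hv2 e2 hx2 hx2'
      have hB : (b - b') * (l1 - l2) = 0 := by linear_combination E1 - E2
      have hB0 : b - b' = 0 := by
        rcases mul_eq_zero.mp hB with h | h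
        · exact h
        · exact absurd h hl12
      have hA0 : a - a' = 0 := by linear_combination E1 - l1 * hB0
      have ha : a = a' := sub_eq_zero.mp hA0
      have hb : b = b' := sub_eq_zero.mp hB0
      subst ha; subst hb
      refine ⟨?_, rfl⟩
      exact add_right_cancel (add_right_cancel h)
    · rintro x ⟨hxk, -⟩ ⟨a, b⟩
      refine Submodule.add_mem _ (Submodule.add_mem _ hxk ?_) ?_
      · have := kspan_top_smul_mem a (kspan_top_pow_mem hd1 M 0)
        rwa [pow_zero] at this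
      · have := kspan_top_smul_mem b (kspan_top_pow_mem hd1 M 1)
        rwa [pow_one] at this
  rw [Nat.card_prod, Nat.card_eq_fintype_card] at hc2
  -- (ii) upper bound for Gam
  let T := {m : F // m ≠ 0} × {m : F // m ≠ 0}
  let bb : T → F := fun t => ((t.1 : F) - (t.2 : F)) / (l1 - l2)
  let aa : T → F := fun t => (t.1 : F) - bb t * l1
  let Φ : ↥A00 × T → Matrix (Fin d) (Fin d) F := fun p =>
    (p.1 : Matrix (Fin d) (Fin d) F) + aa p.2 • (1 : Matrix (Fin d) (Fin d) F) + bb p.2 • M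
  have hsub : Gam (⊤ : Subfield F) g ⊆ Set.range Φ := by
    intro y hy
    rw [mem_gam_top] at hy
    obtain ⟨c, hc, i, rfl⟩ := hy
    have hy1 : (c • ((g ^ i : GL (Fin d) F) : Matrix (Fin d) (Fin d) F)) *ᵥ v1 =
        (c * l1 ^ i) • v1 := by
      rw [Matrix.smul_mulVec, Units.val_pow_eq_pow_val, pow_mulVec_eigen M v1 l1 e1, smul_smul]
    have hy2 : (c • ((g ^ i : GL (Fin d) F) : Matrix (Fin d) (Fin d) F)) *ᵥ v2 =
        (c * l2 ^ i) • v2 := by
      rw [Matrix.smul_mulVec, Units.val_pow_eq_pow_val, pow_mulVec_eigen M v2 l2 e2, smul_smul]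
    let t : T := (⟨c * l1 ^ i, mul_ne_zero hc (pow_ne_zero _ hl1)⟩,
      ⟨c * l2 ^ i, mul_ne_zero hc (pow_ne_zero _ hl2)⟩)
    have hbb : bb t = (c * l1 ^ i - c * l2 ^ i) / (l1 - l2) := rfl
    have haa : aa t = c * l1 ^ i - bb t * l1 := rfl
    have hyk : (c • ((g ^ i : GL (Fin d) F) : Matrix (Fin d) (Fin d) F)) ∈
        kspan (⊤ : Subfield F) M := by
      rw [Units.val_pow_eq_pow_val]
      exact kspan_top_smul_mem c (kspan_top_pow_mem hd1 M i)
    have hxmem : (c • ((g ^ i : GL (Fin d) F) : Matrix (Fin d) (Fin d) F)) -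
        aa t • (1 : Matrix (Fin d) (Fin d) F) - bb t • M ∈ A00 := by
      refine ⟨?_, ?_, ?_⟩
      · refine Submodule.sub_mem _ (Submodule.sub_mem _ hyk ?_) ?_
        · have := kspan_top_smul_mem (aa t) (kspan_top_pow_mem hd1 M 0)
          rwa [pow_zero] at this
        · have := kspan_top_smul_mem (bb t) (kspan_top_pow_mem hd1 M 1)
          rwa [pow_one] at this
      · rw [Matrix.sub_mulVec, Matrix.sub_mulVec, hy1, Matrix.smul_mulVec, Matrix.smul_mulVec,
          Matrix.one_mulVec, e1, smul_smul, ← sub_smul, ← sub_smul]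
        have : c * l1 ^ i - aa t - bb t * l1 = 0 := by rw [haa]; ring
        rw [this, zero_smul]
      · rw [Matrix.sub_mulVec, Matrix.sub_mulVec, hy2, Matrix.smul_mulVec, Matrix.smul_mulVec,
          Matrix.one_mulVec, e2, smul_smul, ← sub_smul, ← sub_smul]
        have : c * l2 ^ i - aa t - bb t * l2 = 0 := by
          rw [haa, hbb]; field_simp; ring
        rw [this, zero_smul]
    refine ⟨(⟨_, hxmem⟩, t), ?_⟩
    show (c • ((g ^ i : GL (Fin d) F) : Matrix (Fin d) (Fin d) F)) -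
        aa t • (1 : Matrix (Fin d) (Fin d) F) - bb t • M + aa t • 1 + bb t • M = _
    abel
  have hc3 : (Gam (⊤ : Subfield F) g).ncard ≤ A00.ncard * ((Fintype.card F - 1) *
      (Fintype.card F - 1)) := by
    refine (Set.ncard_le_ncard hsub (Set.toFinite _)).trans ?_
    rw [← Set.image_univ]
    refine (Set.ncard_image_le (Set.toFinite _)).trans ?_
    rw [Set.ncard_univ, Nat.card_prod, Nat.card_prod, Nat.card_coe_set_eq]
    have : Nat.card {m : F // m ≠ 0} = Fintype.card F - 1 := by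
      rw [Nat.card_congr (unitsEquivNeZero (G₀ := F)).symm, Nat.card_units,
        Nat.card_eq_fintype_card]
    rw [this]
  rw [hF] at hcard hc2 hc3 ⊢
  have h3 : 1 ≤ 3 ^ d := Nat.one_le_pow _ _ (by omega)
  omega


theorem nilp_pow_dim (N : Matrix (Fin d) (Fin d) F) (hN : IsNilpotent N) : N ^ d = 0 := by
  have h1 : N.charpoly = X ^ d := by
    have := Matrix.isNilpotent_charpoly_sub_pow_of_isNilpotent hN
    rw [Fintype.card_fin] at this
    exact sub_eq_zero.mp this.eq_zero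
  have h2 := Matrix.aeval_self_charpoly N
  rw [h1] at h2
  simpa using h2

theorem le_two_pow_sub_two : ∀ n : ℕ, n + 4 ≤ 2 ^ (n + 2) := by
  intro n
  induction n with
  | zero => norm_num
  | succ n ih =>
    have : 2 ^ (n + 1 + 2) = 2 * 2 ^ (n + 2) := by rw [pow_succ]; ring
    omega

/-- `q = 2`, eigenvalue one, `d ≥ 4` -/
theorem eval1 (hF : Fintype.card F = 2) (hd : 4 ≤ d) (g : GL (Fin d) F) (v : Fin d → F)
    (hv : v ≠ 0) (e1 : (g : Matrix (Fin d) (Fin d) F) *ᵥ v = v) :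
    ∃ k : ℕ, 0 < k ∧
      (∃ c' : F, c' ≠ 0 ∧ ((g ^ k : GL (Fin d) F) : Matrix (Fin d) (Fin d) F) =
        c' • (1 : Matrix (Fin d) (Fin d) F)) ∧
      2 * ((Fintype.card F - 1) * k) ≤ Fintype.card F ^ d - 1 := by
  classical
  have hd1 : 1 ≤ d := by omega
  set M : Matrix (Fin d) (Fin d) F := (g : Matrix (Fin d) (Fin d) F) with hM
  have e1' : M *ᵥ v = (1 : F) • v := by rw [one_smul]; exact e1
  refine ⟨orderOf g, orderOf_pos g, ⟨1, one_ne_zero, by rw [pow_orderOf_eq_one, one_smul]; rfl⟩, ?_⟩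
  set k := orderOf g with hk
  let A1 : Set (Matrix (Fin d) (Fin d) F) := {x | x ∈ kspan (⊤ : Subfield F) M ∧ x *ᵥ v = v}
  -- product counting
  have hc2 : A1.ncard * Nat.card F ≤ Fintype.card F ^ d := by
    refine le_trans ?_ (kspan_top_ncard_le M)
    refine card_mul_le A1 _ (Set.toFinite _)
      (fun x t => x + t • (1 : Matrix (Fin d) (Fin d) F)) ?_ ?_
    · rintro x ⟨hxk, hx1⟩ x' ⟨hxk', hx1'⟩ a a' h
      have h : x + a • (1 : Matrix (Fin d) (Fin d) F) = x' + a' • 1 := h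
      have h1 := congrArg (fun X => X *ᵥ v) h
      simp only [Matrix.add_mulVec, Matrix.smul_mulVec, hx1, hx1', Matrix.one_mulVec] at h1
      have h2 : a • v = a' • v := add_left_cancel h1
      have ha : a = a' := smul_vec_cancel hv h2
      subst ha
      exact ⟨add_right_cancel h, rfl⟩
    · rintro x ⟨hxk, -⟩ a
      refine Submodule.add_mem _ hxk ?_
      have := kspan_top_smul_mem a (kspan_top_pow_mem hd1 M 0)
      rwa [pow_zero] at this
  rw [Nat.card_eq_fintype_card, hF] at hc2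
  -- powers of g lie in A1
  have hc1 : k ≤ A1.ncard := by
    let φ : Fin k → Matrix (Fin d) (Fin d) F := fun i =>
      ((g ^ (i : ℕ) : GL (Fin d) F) : Matrix (Fin d) (Fin d) F)
    have hφ : Function.Injective φ := by
      intro i j hij
      have h1 : g ^ (i : ℕ) = g ^ (j : ℕ) := Units.ext hij
      have := pow_injOn_Iio_orderOf (x := g) (Set.mem_Iio.mpr i.2) (Set.mem_Iio.mpr j.2) h1
      exact Fin.ext this
    have hsub : Set.range φ ⊆ A1 := by
      rintro y ⟨i, rfl⟩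
      refine ⟨?_, ?_⟩
      · show ((g ^ (i : ℕ) : GL (Fin d) F) : Matrix (Fin d) (Fin d) F) ∈ _
        rw [Units.val_pow_eq_pow_val]
        exact kspan_top_pow_mem hd1 M _
      · show ((g ^ (i : ℕ) : GL (Fin d) F) : Matrix (Fin d) (Fin d) F) *ᵥ v = v
        rw [Units.val_pow_eq_pow_val, pow_mulVec_eigen M v 1 e1', one_pow, one_smul]
    have h1 : (Set.range φ).ncard = k := by
      rw [← Set.image_univ, Set.ncard_image_of_injective _ hφ, Set.ncard_univ,
        Nat.card_eq_fintype_card, Fintype.card_fin]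
    rw [← h1]
    exact Set.ncard_le_ncard hsub (Set.toFinite _)
  -- k ≠ 2^(d-1)
  obtain ⟨n, hn⟩ : ∃ n, d = n + 4 := ⟨d - 4, by omega⟩
  have hpow : (2 : ℕ) ^ d = 2 * 2 ^ (d - 1) := by
    have : d = (d - 1) + 1 := by omega
    conv_lhs => rw [this, pow_succ]
    ring
  have hne : k ≠ 2 ^ (d - 1) := by
    intro hkd
    have hchar : CharP F 2 := by
      apply CharTwo.of_one_ne_zero_of_two_eq_zero one_ne_zero
      have := Nat.cast_card_eq_zero F
      rw [hF] at this
      exact_mod_cast this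
    have : Nonempty (Fin d) := ⟨⟨0, hd1⟩⟩
    have hcharM : CharP (Matrix (Fin d) (Fin d) F) 2 := Matrix.charP 2
    have : Fact (Nat.Prime 2) := ⟨Nat.prime_two⟩
    have h1 : (M - 1) ^ 2 ^ (d - 1) = 0 := by
      rw [sub_pow_char_pow_of_commute 2 (d - 1) (Commute.one_right M), one_pow, hM,
        ← Units.val_pow_eq_pow_val, ← hkd, pow_orderOf_eq_one, Units.val_one, sub_self]
    have hnil : IsNilpotent (M - 1) := ⟨_, h1⟩
    have h2 : (M - 1) ^ d = 0 := nilp_pow_dim _ hnil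
    have h3 : (M - 1) ^ 2 ^ (n + 2) = 0 := by
      have hle : d ≤ 2 ^ (n + 2) := by rw [hn]; exact le_two_pow_sub_two n
      obtain ⟨j, hj⟩ := Nat.exists_eq_add_of_le hle
      rw [hj, pow_add, h2, zero_mul]
    have h4 : g ^ 2 ^ (n + 2) = 1 := by
      apply Units.ext
      rw [Units.val_pow_eq_pow_val, Units.val_one]
      have := sub_pow_char_pow_of_commute 2 (n + 2) (Commute.one_right M)
      rw [h3, one_pow] at this
      exact (sub_eq_zero.mp this.symm)
    have h5 : k ∣ 2 ^ (n + 2) := orderOf_dvd_of_pow_eq_one h4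
    have h6 : k ≤ 2 ^ (n + 2) := Nat.le_of_dvd (by positivity) h5
    rw [hkd, hn] at h6
    have h7 : n + 4 - 1 = (n + 2) + 1 := by omega
    rw [h7, pow_succ] at h6
    have : 0 < 2 ^ (n + 2) := by positivity
    omega
  rw [hF]
  have h3 : 1 ≤ 2 ^ (d - 1) := Nat.one_le_pow _ _ (by omega)
  omega

end Cfsg.Agent.Lib.Helper94.AP
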