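import Mathlib

set_option autoImplicit false
set_option linter.unusedSectionVars false
set_option linter.unusedVariables false

/-!
# AP4 : bookkeeping for automorphisms of `PSL_d(F)` induced by `s ↦ g θ(s) g⁻¹`
-/

namespace Cfsg.Agent.Lib.Helper94.AP

open Matrix

variable {F : Type*} [Field F] {d : ℕ}

/-- the inverse transpose on `GL` -/
def gT : GL (Fin d) F →* GL (Fin d) F where
  toFun g :=
    { val := ((g⁻¹ : GL (Fin d) F) : Matrix (Fin d) (Fin d) F)ᵀ
      inv := (g : Matrix (Fin d) (Fin d) F)ᵀ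
      val_inv := by
        rw [← Matrix.transpose_mul, ← Units.val_mul, mul_inv_cancel, Units.val_one,
          Matrix.transpose_one]
      inv_val := by
        rw [← Matrix.transpose_mul, ← Units.val_mul, inv_mul_cancel, Units.val_one,
          Matrix.transpose_one] }
  map_one' := by
    apply Units.ext
    show ((1⁻¹ : GL (Fin d) F) : Matrix (Fin d) (Fin d) F)ᵀ = 1
    rw [inv_one, Units.val_one, Matrix.transpose_one]
  map_mul' g h := by
    apply Units.ext
    show (((g * h)⁻¹ : GL (Fin d) F) : Matrix (Fin d) (Fin d) F)ᵀ =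
      ((g⁻¹ : GL (Fin d) F) : Matrix (Fin d) (Fin d) F)ᵀ *
      ((h⁻¹ : GL (Fin d) F) : Matrix (Fin d) (Fin d) F)ᵀ
    rw [_root_.mul_inv_rev, Units.val_mul, Matrix.transpose_mul]

theorem gT_val (g : GL (Fin d) F) :
    ((gT g : GL (Fin d) F) : Matrix (Fin d) (Fin d) F) =
      ((g⁻¹ : GL (Fin d) F) : Matrix (Fin d) (Fin d) F)ᵀ := rfl

theorem gT_inv_val (g : GL (Fin d) F) :
    (((gT g)⁻¹ : GL (Fin d) F) : Matrix (Fin d) (Fin d) F) =
      (g : Matrix (Fin d) (Fin d) F)ᵀ := rfl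

theorem gT_gT (g : GL (Fin d) F) : gT (gT g) = g := by
  apply Units.ext
  rw [gT_val, gT_inv_val, Matrix.transpose_transpose]

/-- entrywise field automorphism on `GL` -/
def gmap (σ : F ≃+* F) : GL (Fin d) F →* GL (Fin d) F :=
  Matrix.GeneralLinearGroup.map (σ : F →+* F)

theorem gmap_val (σ : F ≃+* F) (g : GL (Fin d) F) :
    ((gmap σ g : GL (Fin d) F) : Matrix (Fin d) (Fin d) F) =
      (g : Matrix (Fin d) (Fin d) F).map σ := by
  ext i j
  rfl

theorem gmap_one (g : GL (Fin d) F) : gmap (1 : F ≃+* F) g = g := by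
  apply Units.ext
  rw [gmap_val]
  ext i j
  rfl

theorem gmap_mul (σ τ : F ≃+* F) (g : GL (Fin d) F) : gmap (σ * τ) g = gmap σ (gmap τ g) := by
  apply Units.ext
  rw [gmap_val, gmap_val, gmap_val]
  ext i j
  rfl

theorem gmap_gT (σ : F ≃+* F) (g : GL (Fin d) F) : gmap σ (gT g) = gT (gmap σ g) := by
  apply Units.ext
  rw [gmap_val, gT_val, gT_val, ← map_inv, gmap_val, Matrix.transpose_map]

/-- the twist -/
def gtw (t : Bool) : GL (Fin d) F →* GL (Fin d) F := if t then gT else MonoidHom.id _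

theorem gtw_true (g : GL (Fin d) F) : gtw true g = gT g := rfl
theorem gtw_false (g : GL (Fin d) F) : gtw false g = g := rfl

theorem gtw_gtw (t t' : Bool) (g : GL (Fin d) F) : gtw t (gtw t' g) = gtw (xor t t') g := by
  cases t <;> cases t' <;> simp [gtw_true, gtw_false, gT_gT]

theorem gmap_gtw (σ : F ≃+* F) (t : Bool) (g : GL (Fin d) F) :
    gmap σ (gtw t g) = gtw t (gmap σ g) := by
  cases t
  · rfl
  · exact gmap_gT σ g

/-- `θ = twist ∘ field automorphism` -/
def Th (σ : F ≃+* F) (t : Bool) : GL (Fin d) F →* GL (Fin d) F := (gtw t).comp (gmap σ)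

theorem Th_apply (σ : F ≃+* F) (t : Bool) (g : GL (Fin d) F) : Th σ t g = gtw t (gmap σ g) := rfl

theorem Th_Th (σ τ : F ≃+* F) (t t' : Bool) (g : GL (Fin d) F) :
    Th σ t (Th τ t' g) = Th (σ * τ) (xor t t') g := by
  rw [Th_apply, Th_apply, Th_apply, gmap_gtw, gtw_gtw, gmap_mul]

theorem Th_one_false (g : GL (Fin d) F) : Th (1 : F ≃+* F) false g = g := by
  rw [Th_apply, gtw_false, gmap_one]

theorem det_Th (σ : F ≃+* F) (t : Bool) (g : GL (Fin d) F)
    (hg : (g : Matrix (Fin d) (Fin d) F).det = 1) :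
    ((Th σ t g : GL (Fin d) F) : Matrix (Fin d) (Fin d) F).det = 1 := by
  have h1 : ((gmap σ g : GL (Fin d) F) : Matrix (Fin d) (Fin d) F).det = 1 := by
    rw [gmap_val]
    have := RingHom.map_det (σ : F →+* F) (g : Matrix (Fin d) (Fin d) F)
    rw [hg, map_one] at this
    exact this.symm
  rw [Th_apply]
  cases t
  · exact h1
  · rw [gtw_true, gT_val, Matrix.det_transpose]
    have h2 : ((gmap σ g : GL (Fin d) F) : Matrix (Fin d) (Fin d) F).det *
        (((gmap σ g)⁻¹ : GL (Fin d) F) : Matrix (Fin d) (Fin d) F).det = 1 := by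
      rw [← Matrix.det_mul, ← Units.val_mul, mul_inv_cancel, Units.val_one, Matrix.det_one]
    rw [h1, one_mul] at h2
    exact h2

abbrev SLd (d : ℕ) (F : Type*) [Field F] := Matrix.SpecialLinearGroup (Fin d) F

theorem toGL_val (s : SLd d F) :
    ((Matrix.SpecialLinearGroup.toGL s : GL (Fin d) F) : Matrix (Fin d) (Fin d) F) = s.1 := rfl

/-- `s ↦ g θ(s) g⁻¹` on `SL` -/
def Fn (g : GL (Fin d) F) (σ : F ≃+* F) (t : Bool) : SLd d F →* SLd d F where
  toFun s := ⟨((g * Th σ t (Matrix.SpecialLinearGroup.toGL s) * g⁻¹ : GL (Fin d) F) :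
      Matrix (Fin d) (Fin d) F), by
    rw [Units.val_mul, Units.val_mul, Matrix.det_mul, Matrix.det_mul,
      det_Th σ t _ (by rw [toGL_val]; exact s.2), mul_one, ← Matrix.det_mul, ← Units.val_mul,
      mul_inv_cancel, Units.val_one, Matrix.det_one]⟩
  map_one' := by
    apply Subtype.ext
    show ((g * Th σ t (Matrix.SpecialLinearGroup.toGL 1) * g⁻¹ : GL (Fin d) F) :
      Matrix (Fin d) (Fin d) F) = 1
    rw [map_one, map_one, mul_one, mul_inv_cancel, Units.val_one]
  map_mul' s s' := by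
    apply Subtype.ext
    show ((g * Th σ t (Matrix.SpecialLinearGroup.toGL (s * s')) * g⁻¹ : GL (Fin d) F) :
      Matrix (Fin d) (Fin d) F) =
      ((g * Th σ t (Matrix.SpecialLinearGroup.toGL s) * g⁻¹ : GL (Fin d) F) :
        Matrix (Fin d) (Fin d) F) *
      ((g * Th σ t (Matrix.SpecialLinearGroup.toGL s') * g⁻¹ : GL (Fin d) F) :
        Matrix (Fin d) (Fin d) F)
    rw [← Units.val_mul, map_mul, map_mul]
    congr 1
    group

theorem toGL_Fn (g : GL (Fin d) F) (σ : F ≃+* F) (t : Bool) (s : SLd d F) :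
    Matrix.SpecialLinearGroup.toGL (Fn g σ t s) =
      g * Th σ t (Matrix.SpecialLinearGroup.toGL s) * g⁻¹ := by
  apply Units.ext
  rfl

theorem Fn_Fn (g g' : GL (Fin d) F) (σ σ' : F ≃+* F) (t t' : Bool) (s : SLd d F) :
    Fn g σ t (Fn g' σ' t' s) = Fn (g * Th σ t g') (σ * σ') (xor t t') s := by
  apply Matrix.SpecialLinearGroup.toGL_injective
  rw [toGL_Fn, toGL_Fn, toGL_Fn, map_mul, map_mul, Th_Th, map_inv]
  group

theorem Fn_one (s : SLd d F) : Fn (1 : GL (Fin d) F) (1 : F ≃+* F) false s = s := by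
  apply Matrix.SpecialLinearGroup.toGL_injective
  rw [toGL_Fn, Th_one_false, one_mul, inv_one, mul_one]

abbrev PSLd (d : ℕ) (F : Type*) [Field F] := Matrix.ProjectiveSpecialLinearGroup (Fin d) F

/-- `β` is induced by `s ↦ g θ(s) g⁻¹` -/
def Ind (g : GL (Fin d) F) (σ : F ≃+* F) (t : Bool) (β : MulAut (PSLd d F)) : Prop :=
  ∀ s : SLd d F, β (QuotientGroup.mk s) = QuotientGroup.mk (Fn g σ t s)

theorem Ind_mul {g g' : GL (Fin d) F} {σ σ' : F ≃+* F} {t t' : Bool} {β β' : MulAut (PSLd d F)}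
    (h : Ind g σ t β) (h' : Ind g' σ' t' β') :
    Ind (g * Th σ t g') (σ * σ') (xor t t') (β * β') := by
  intro s
  rw [MulAut.mul_apply, h' s, h (Fn g' σ' t' s), Fn_Fn]

theorem Ind_one : Ind (1 : GL (Fin d) F) (1 : F ≃+* F) false (1 : MulAut (PSLd d F)) := by
  intro s
  rw [MulAut.one_apply, Fn_one]

/-- iterated twist -/
def tpow (t : Bool) : ℕ → Bool
  | 0 => false
  | k + 1 => xor t (tpow t k)

theorem tpow_false (k : ℕ) : tpow false k = false := by
  induction k with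
  | zero => rfl
  | succ k ih => rw [tpow, ih]; rfl

theorem tpow_even (t : Bool) (k : ℕ) : tpow t (2 * k) = false := by
  induction k with
  | zero => rfl
  | succ k ih =>
    have : 2 * (k + 1) = (2 * k + 1) + 1 := by ring
    rw [this, tpow, tpow, ih]
    cases t <;> rfl

/-- the norm-like element `N_k = g θ(g) ⋯ θ^(k-1)(g)` -/
def Nn (g : GL (Fin d) F) (σ : F ≃+* F) (t : Bool) : ℕ → GL (Fin d) F
  | 0 => 1
  | k + 1 => g * Th σ t (Nn g σ t k)

theorem Ind_pow {g : GL (Fin d) F} {σ : F ≃+* F} {t : Bool} {β : MulAut (PSLd d F)}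
    (h : Ind g σ t β) (k : ℕ) : Ind (Nn g σ t k) (σ ^ k) (tpow t k) (β ^ k) := by
  induction k with
  | zero => rw [pow_zero, pow_zero]; exact Ind_one
  | succ k ih =>
    rw [pow_succ', pow_succ']
    exact Ind_mul h ih

theorem Nn_one_false (g : GL (Fin d) F) (k : ℕ) : Nn g (1 : F ≃+* F) false k = g ^ k := by
  induction k with
  | zero => rfl
  | succ k ih => rw [Nn, Th_one_false, ih, pow_succ']

/-- scalar conjugation is trivial -/
theorem Ind_scalar {g : GL (Fin d) F} {β : MulAut (PSLd d F)} (h : Ind g (1 : F ≃+* F) false β)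
    (c : F) (hg : (g : Matrix (Fin d) (Fin d) F) = c • (1 : Matrix (Fin d) (Fin d) F)) : β = 1 := by
  ext x
  obtain ⟨s, rfl⟩ := QuotientGroup.mk_surjective x
  rw [h s, MulAut.one_apply]
  congr 1
  apply Matrix.SpecialLinearGroup.toGL_injective
  rw [toGL_Fn, Th_one_false]
  have hcomm : g * Matrix.SpecialLinearGroup.toGL s = Matrix.SpecialLinearGroup.toGL s * g := by
    apply Units.ext
    rw [Units.val_mul, Units.val_mul, hg, Matrix.smul_mul, Matrix.mul_smul, Matrix.one_mul,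
      Matrix.mul_one]
  rw [hcomm, mul_assoc, mul_inv_cancel, mul_one]

/-- the key consequence: `β ^ (m k) = 1` -/
theorem pow_eq_one_of_scalar {g : GL (Fin d) F} {σ : F ≃+* F} {t : Bool} {β : MulAut (PSLd d F)}
    (h : Ind g σ t β) (m k : ℕ) (hσ : σ ^ m = 1) (ht : tpow t m = false) (c : F)
    (hc : (((Nn g σ t m) ^ k : GL (Fin d) F) : Matrix (Fin d) (Fin d) F) =
      c • (1 : Matrix (Fin d) (Fin d) F)) : β ^ (m * k) = 1 := by
  have h1 := Ind_pow h m
  rw [hσ, ht] at h1
  have h2 := Ind_pow h1 k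
  rw [one_pow, tpow_false, Nn_one_false] at h2
  rw [pow_mul]
  exact Ind_scalar h2 c hc

/-- iterates of `θ` -/
theorem Th_iterate (σ : F ≃+* F) (t : Bool) (k : ℕ) (g : GL (Fin d) F) :
    (Th σ t)^[k] g = Th (σ ^ k) (tpow t k) g := by
  induction k with
  | zero => rw [Function.iterate_zero, id, pow_zero]; exact (Th_one_false g).symm
  | succ k ih =>
    rw [Function.iterate_succ', Function.comp, ih, Th_Th, pow_succ']
    rfl

theorem Nn_succ' (g : GL (Fin d) F) (σ : F ≃+* F) (t : Bool) (k : ℕ) :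
    Nn g σ t (k + 1) = Nn g σ t k * (Th σ t)^[k] g := by
  induction k with
  | zero =>
    show g * Th σ t 1 = 1 * g
    rw [map_one, mul_one, one_mul]
  | succ k ih =>
    have h1 : Nn g σ t (k + 1 + 1) = g * Th σ t (Nn g σ t (k + 1)) := rfl
    rw [h1, ih, map_mul, ← mul_assoc]
    have h2 : g * Th σ t (Nn g σ t k) = Nn g σ t (k + 1) := rfl
    rw [h2, Function.iterate_succ', Function.comp, ih]

/-- `θ(N_m) = g⁻¹ N_m g` when `θ^m = 1` -/
theorem Th_Nn (g : GL (Fin d) F) (σ : F ≃+* F) (t : Bool) (m : ℕ) (hσ : σ ^ m = 1)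
    (ht : tpow t m = false) : Th σ t (Nn g σ t m) = g⁻¹ * Nn g σ t m * g := by
  have h1 : Nn g σ t (m + 1) = g * Th σ t (Nn g σ t m) := rfl
  have h2 := Nn_succ' g σ t m
  rw [Th_iterate, hσ, ht, Th_one_false] at h2
  rw [h1] at h2
  have h3 : Th σ t (Nn g σ t m) = g⁻¹ * (g * Th σ t (Nn g σ t m)) := by group
  rw [h3, h2, mul_assoc]

end Cfsg.Agent.Lib.Helper94.AP
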