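import Mathlib
import Cfsg.Prelude.Def_LieTypeDatum
import Cfsg.Agent.Lib.Helper94.AP4

set_option autoImplicit false
set_option linter.unusedSectionVars false
set_option linter.unusedVariables false

/-!
# AP5 : from the description of `Aut(PSL_d(F))` to `Ind`; properties of `N_m`
-/

namespace Cfsg.Agent.Lib.Helper94.AP

open Matrix

variable {F : Type*} [Field F] {d : ℕ}

theorem Fn_val (g : GL (Fin d) F) (σ : F ≃+* F) (t : Bool) (s : SLd d F) :
    (Fn g σ t s).1 = ((g * Th σ t (Matrix.SpecialLinearGroup.toGL s) * g⁻¹ : GL (Fin d) F) :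
      Matrix (Fin d) (Fin d) F) := rfl

theorem Ind_of_innerDiag {δ : MulAut (PSLd d F)} (h : Cfsg.IsInnerDiagonalAutPSL δ) :
    ∃ g : GL (Fin d) F, Ind g (1 : F ≃+* F) false δ := by
  obtain ⟨g, hg⟩ := h
  refine ⟨g, fun s => hg s _ ?_⟩
  show (Fn g 1 false s).1 = _
  rw [Fn_val, Th_one_false, Units.val_mul, Units.val_mul, toGL_val]

theorem Ind_of_field {σ : F ≃+* F} {φ : MulAut (PSLd d F)} (h : Cfsg.IsStdFieldAutPSL σ φ) :
    Ind (1 : GL (Fin d) F) σ false φ := by
  intro s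
  refine h s _ ?_
  show (Fn 1 σ false s).1 = _
  rw [Fn_val, one_mul, inv_one, mul_one, Th_apply, gtw_false, gmap_val, toGL_val]

theorem Ind_of_graph {γ : MulAut (PSLd d F)} (h : Cfsg.IsInverseTransposeAutPSL γ) :
    Ind (1 : GL (Fin d) F) (1 : F ≃+* F) true γ := by
  intro s
  refine h s _ ?_
  show (Fn 1 1 true s).1 = _
  rw [Fn_val, one_mul, inv_one, mul_one, Th_apply, gtw_true, gmap_one, gT_val, ← map_inv,
    toGL_val]

/-- every automorphism in the standard decomposition is induced -/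
theorem exists_Ind_of_decomp {β δ φ γ : MulAut (PSLd d F)} {σ : F ≃+* F}
    (hδ : Cfsg.IsInnerDiagonalAutPSL δ) (hφ : Cfsg.IsStdFieldAutPSL σ φ)
    (hγ : γ = 1 ∨ Cfsg.IsInverseTransposeAutPSL γ) (hβ : β = δ * φ * γ) :
    ∃ (g : GL (Fin d) F) (t : Bool), Ind g σ t β := by
  obtain ⟨g, hg⟩ := Ind_of_innerDiag hδ
  have h1 := Ind_mul hg (Ind_of_field hφ)
  rw [map_one, mul_one, one_mul] at h1
  rcases hγ with rfl | hγ
  · have h2 := Ind_mul h1 Ind_one
    rw [map_one, mul_one, mul_one] at h2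
    exact ⟨g, _, by rw [hβ]; exact h2⟩
  · have h2 := Ind_mul h1 (Ind_of_graph hγ)
    rw [map_one, mul_one, mul_one] at h2
    exact ⟨g, _, by rw [hβ]; exact h2⟩

/-- the Weyl element of `GL_2` -/
noncomputable def w2 : GL (Fin 2) F :=
  Matrix.GeneralLinearGroup.mkOfDetNeZero !![0, 1; -1, 0] (by
    rw [Matrix.det_fin_two_of]; norm_num)

theorem w2_val : ((w2 : GL (Fin 2) F) : Matrix (Fin 2) (Fin 2) F) = !![0, 1; -1, 0] := rfl

theorem gT_eq_conj_w2 (x : GL (Fin 2) F) (hx : (x : Matrix (Fin 2) (Fin 2) F).det = 1) :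
    gT x = w2 * x * w2⁻¹ := by
  rw [eq_mul_inv_iff_mul_eq]
  apply Units.ext
  rw [Units.val_mul, Units.val_mul, gT_val, w2_val, Matrix.coe_units_inv, Matrix.inv_def, hx,
    Ring.inverse_one, one_smul, Matrix.adjugate_fin_two]
  ext i j
  fin_cases i <;> fin_cases j <;> simp [Matrix.mul_apply, Fin.sum_univ_two]

theorem Ind_two {g : GL (Fin 2) F} {σ : F ≃+* F} {β : MulAut (PSLd 2 F)}
    (h : Ind g σ true β) : Ind (g * w2) σ false β := by
  intro s
  rw [h s]
  congr 1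
  apply Matrix.SpecialLinearGroup.toGL_injective
  rw [toGL_Fn, toGL_Fn, Th_apply, Th_apply, gtw_true, gtw_false]
  have hdet : ((gmap σ (Matrix.SpecialLinearGroup.toGL s) : GL (Fin 2) F) :
      Matrix (Fin 2) (Fin 2) F).det = 1 := by
    have := det_Th σ false (Matrix.SpecialLinearGroup.toGL s) (by rw [toGL_val]; exact s.2)
    rwa [Th_apply, gtw_false] at this
  rw [gT_eq_conj_w2 _ hdet]
  group

/-- `σ` fixes the characteristic polynomial of `h` when `σ(h)` is conjugate to `h` -/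
theorem charpoly_fixed (h u : GL (Fin d) F) (σ : F ≃+* F) (hP : gmap σ h = u⁻¹ * h * u) (i : ℕ) :
    σ ((h : Matrix (Fin d) (Fin d) F).charpoly.coeff i) =
      (h : Matrix (Fin d) (Fin d) F).charpoly.coeff i := by
  have h1 : ((gmap σ h : GL (Fin d) F) : Matrix (Fin d) (Fin d) F).charpoly =
      (h : Matrix (Fin d) (Fin d) F).charpoly.map (σ : F →+* F) := by
    rw [gmap_val]
    exact Matrix.charpoly_map _ (σ : F →+* F)
  have h2 : ((u⁻¹ * h * u : GL (Fin d) F) : Matrix (Fin d) (Fin d) F).charpoly =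
      (h : Matrix (Fin d) (Fin d) F).charpoly := by
    have := Matrix.charpoly_units_conj (u⁻¹ : GL (Fin d) F) (h : Matrix (Fin d) (Fin d) F)
    rw [← Matrix.coe_units_inv, inv_inv] at this
    rw [Units.val_mul, Units.val_mul]
    exact this
  rw [hP, h2] at h1
  have h3 := congrArg (fun p => p.coeff i) h1
  simp only [Polynomial.coeff_map] at h3
  exact h3.symm

/-- graph case: `σ²` fixes the characteristic polynomial -/
theorem charpoly_fixed_graph (h g : GL (Fin d) F) (σ : F ≃+* F)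
    (hP : Th σ true h = g⁻¹ * h * g) (i : ℕ) :
    (σ * σ) ((h : Matrix (Fin d) (Fin d) F).charpoly.coeff i) =
      (h : Matrix (Fin d) (Fin d) F).charpoly.coeff i := by
  apply charpoly_fixed h (g * Th σ true g) (σ * σ)
  have h1 : Th σ true (Th σ true h) = gmap (σ * σ) h := by
    rw [Th_Th, Th_apply]; rfl
  rw [← h1, hP, map_mul, map_mul, hP, map_inv]
  group

/-- graph case with `m = 2`: the anti-automorphism `x ↦ g σ(x)ᵀ g⁻¹` inverts `h` -/
theorem star_h (h g : GL (Fin d) F) (σ : F ≃+* F) (hP : Th σ true h = g⁻¹ * h * g) :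
    (g : Matrix (Fin d) (Fin d) F) * ((h : Matrix (Fin d) (Fin d) F).map σ)ᵀ *
      ((g⁻¹ : GL (Fin d) F) : Matrix (Fin d) (Fin d) F) =
      ((h⁻¹ : GL (Fin d) F) : Matrix (Fin d) (Fin d) F) := by
  rw [Th_apply, gtw_true] at hP
  have h1 : (gT (gmap σ h))⁻¹ = g⁻¹ * h⁻¹ * g := by
    rw [hP]; group
  have h2 : (((gT (gmap σ h))⁻¹ : GL (Fin d) F) : Matrix (Fin d) (Fin d) F) =
      ((g⁻¹ * h⁻¹ * g : GL (Fin d) F) : Matrix (Fin d) (Fin d) F) := by rw [h1]
  rw [gT_inv_val, gmap_val] at h2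
  rw [h2, ← Units.val_mul, ← Units.val_mul]
  congr 1
  group

end Cfsg.Agent.Lib.Helper94.AP
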