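import Mathlib

set_option autoImplicit false
set_option linter.unusedSectionVars false
set_option linter.unusedVariables false

/-!
# AP6 : numerical inequalities with geometric sums
-/

namespace Cfsg.Agent.Lib.Helper94.AP

/-- geometric sum -/
def gS (x n : ℕ) : ℕ := ∑ i ∈ Finset.range n, x ^ i

theorem gS_succ (x n : ℕ) : gS x (n + 1) = gS x n + x ^ n := Finset.sum_range_succ _ _

theorem gS_zero (x : ℕ) : gS x 0 = 0 := rfl

theorem gS_mono {x y : ℕ} (h : x ≤ y) (n : ℕ) : gS x n ≤ gS y n :=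
  Finset.sum_le_sum (fun i _ => Nat.pow_le_pow_left h i)

theorem gS_geom {x : ℕ} (hx : 1 ≤ x) (n : ℕ) : (x - 1) * gS x n + 1 = x ^ n := by
  induction n with
  | zero => simp [gS_zero]
  | succ n ih =>
    rw [gS_succ, mul_add, pow_succ]
    obtain ⟨y, rfl⟩ : ∃ y, x = y + 1 := ⟨x - 1, by omega⟩
    simp only [Nat.add_sub_cancel] at ih ⊢
    have : (y + 1) ^ n * (y + 1) = y * (y + 1) ^ n + (y + 1) ^ n := by ring
    omega

theorem gS_le_pow {x : ℕ} (hx : 2 ≤ x) (n : ℕ) : gS x n ≤ x ^ n := by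
  have h := gS_geom (x := x) (by omega) n
  have : gS x n ≤ (x - 1) * gS x n := Nat.le_mul_of_pos_left _ (by omega)
  omega

theorem two_pow_ge (e : ℕ) (he : 2 ≤ e) : e + 2 ≤ 2 ^ e := by
  induction e, he using Nat.le_induction with
  | base => norm_num
  | succ e he ih => rw [pow_succ]; omega

theorem pow_ge_add_two {x e : ℕ} (hx : 2 ≤ x) (he : 2 ≤ e) : e + 2 ≤ x ^ e :=
  (two_pow_ge e he).trans (Nat.pow_le_pow_left hx e)

/-- first core inequality -/
theorem CI1 {x : ℕ} (hx : 2 ≤ x) : ∀ e : ℕ, 2 ≤ e → (3 ≤ x ∨ 3 ≤ e) →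
    e * gS x e ≤ gS (x ^ 2) e := by
  intro e he
  induction e, he using Nat.le_induction with
  | base =>
    intro h
    rcases h with h | h
    · simp only [gS, Finset.sum_range_succ, Finset.sum_range_zero, pow_zero, pow_one, zero_add]
      nlinarith
    · omega
  | succ e he ih =>
    intro h
    by_cases h2 : 3 ≤ x ∨ 3 ≤ e
    · have ih' := ih h2
      rw [gS_succ, gS_succ]
      have h3 : gS x e ≤ x ^ e := gS_le_pow hx e
      have h4 : e + 2 ≤ x ^ e := pow_ge_add_two hx he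
      have h5 : (x ^ 2) ^ e = x ^ e * x ^ e := by rw [← pow_mul, mul_comm, pow_mul, pow_two]
      rw [h5]
      have h6 : (e + 2) * x ^ e ≤ x ^ e * x ^ e := by
        rw [mul_comm]; exact Nat.mul_le_mul_left _ h4
      nlinarith
    · -- x = 2, e = 2
      have hx2 : x = 2 := by omega
      have he2 : e = 2 := by omega
      subst hx2; subst he2
      simp [gS, Finset.sum_range_succ]

/-- second core inequality -/
theorem CI2 {x : ℕ} (hx : 2 ≤ x) : ∀ e : ℕ, 2 ≤ e → (3 ≤ x ∨ 3 ≤ e) →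
    2 * e * gS x e ≤ gS (x ^ 3) e := by
  intro e he
  induction e, he using Nat.le_induction with
  | base =>
    intro h
    rcases h with h | h
    · simp only [gS, Finset.sum_range_succ, Finset.sum_range_zero, pow_zero, pow_one, zero_add]
      have : 3 * x ^ 2 ≤ x ^ 3 := by
        rw [pow_succ x 2]; nlinarith
      nlinarith
    · omega
  | succ e he ih =>
    intro h
    by_cases h2 : 3 ≤ x ∨ 3 ≤ e
    · have ih' := ih h2
      rw [gS_succ, gS_succ]
      have h3 : gS x e ≤ x ^ e := gS_le_pow hx e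
      have h4 : e + 2 ≤ x ^ e := pow_ge_add_two hx he
      have h5 : (x ^ 3) ^ e = x ^ e * x ^ e * x ^ e := by
        rw [← pow_mul, mul_comm, pow_mul, pow_succ, pow_two]
      rw [h5]
      have h6 : (e + 2) * x ^ e ≤ x ^ e * x ^ e := by
        rw [mul_comm]; exact Nat.mul_le_mul_left _ h4
      have h7 : 2 ≤ x ^ e := by omega
      have h8 : 2 * (x ^ e * x ^ e) ≤ x ^ e * x ^ e * x ^ e := by
        rw [mul_comm]; exact Nat.mul_le_mul_left _ h7
      nlinarith
    · have hx2 : x = 2 := by omega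
      have he2 : e = 2 := by omega
      subst hx2; subst he2
      simp [gS, Finset.sum_range_succ]

/-- the final inequality, field cosets -/
theorem NL1 {q' e d k : ℕ} (hq : 2 ≤ q') (he : 2 ≤ e) (hd : 2 ≤ d)
    (hk : (q' - 1) * k ≤ q' ^ d - 1) (hex : ¬ (q' = 2 ∧ e = 2 ∧ d = 2)) :
    (q' ^ e - 1) * (e * k) ≤ (q' ^ e) ^ d - 1 := by
  have h1 := gS_geom (x := q') (by omega) e
  have hd1 : 1 ≤ q' ^ d := Nat.one_le_pow _ _ (by omega)
  have h2 := gS_geom (x := q' ^ d) hd1 e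
  have h3 : (q' ^ e) ^ d = (q' ^ d) ^ e := by rw [← pow_mul, ← pow_mul, mul_comm]
  rw [h3]
  have h4 : q' ^ e - 1 = (q' - 1) * gS q' e := by omega
  have h5 : (q' ^ d) ^ e - 1 = (q' ^ d - 1) * gS (q' ^ d) e := by omega
  rw [h4, h5]
  -- core inequality
  have hcore : e * gS q' e ≤ gS (q' ^ d) e := by
    by_cases h : 3 ≤ q' ∨ 3 ≤ e
    · exact (CI1 hq e he h).trans (gS_mono (Nat.pow_le_pow_right (by omega) hd) e)
    · have hq2 : q' = 2 := by omega
      have he2 : e = 2 := by omega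
      have hd3 : 3 ≤ d := by
        by_contra hd3
        exact hex ⟨hq2, he2, by omega⟩
      subst hq2; subst he2
      have : gS (2 ^ 3) 2 ≤ gS (2 ^ d) 2 := gS_mono (Nat.pow_le_pow_right (by omega) hd3) 2
      have h9 : gS (2 ^ 3) 2 = 9 := by simp [gS, Finset.sum_range_succ]
      have h10 : gS 2 2 = 3 := by simp [gS, Finset.sum_range_succ]
      omega
  calc (q' - 1) * gS q' e * (e * k) = (e * gS q' e) * ((q' - 1) * k) := by ring
    _ ≤ gS (q' ^ d) e * (q' ^ d - 1) := Nat.mul_le_mul hcore hk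
    _ = (q' ^ d - 1) * gS (q' ^ d) e := by ring

/-- the final inequality, graph cosets -/
theorem NL2 {q' e d k : ℕ} (hq : 2 ≤ q') (he : 2 ≤ e) (hd : 3 ≤ d)
    (hk : (q' - 1) * k ≤ q' ^ d - 1) (hex : e = 2 → 3 ≤ q') :
    (q' ^ e - 1) * (2 * e * k) ≤ (q' ^ e) ^ d - 1 := by
  have h1 := gS_geom (x := q') (by omega) e
  have hd1 : 1 ≤ q' ^ d := Nat.one_le_pow _ _ (by omega)
  have h2 := gS_geom (x := q' ^ d) hd1 e
  have h3 : (q' ^ e) ^ d = (q' ^ d) ^ e := by rw [← pow_mul, ← pow_mul, mul_comm]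
  rw [h3]
  have h4 : q' ^ e - 1 = (q' - 1) * gS q' e := by omega
  have h5 : (q' ^ d) ^ e - 1 = (q' ^ d - 1) * gS (q' ^ d) e := by omega
  rw [h4, h5]
  have hcore : 2 * e * gS q' e ≤ gS (q' ^ d) e := by
    have h : 3 ≤ q' ∨ 3 ≤ e := by
      by_cases h : e = 2
      · exact Or.inl (hex h)
      · exact Or.inr (by omega)
    exact (CI2 hq e he h).trans (gS_mono (Nat.pow_le_pow_right (by omega) hd) e)
  calc (q' - 1) * gS q' e * (2 * e * k) = (2 * e * gS q' e) * ((q' - 1) * k) := by ring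
    _ ≤ gS (q' ^ d) e * (q' ^ d - 1) := Nat.mul_le_mul hcore hk
    _ = (q' ^ d - 1) * gS (q' ^ d) e := by ring

end Cfsg.Agent.Lib.Helper94.AP
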