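import Mathlib
import Cfsg.Agent.Lib.Helper94.AP3b
import Cfsg.Agent.Lib.Helper94.AP5
import Cfsg.Agent.Lib.Helper94.AP6

set_option autoImplicit false
set_option linter.unusedSectionVars false
set_option linter.unusedVariables false

/-!
# AP7 : the bounds for the three kinds of cosets
-/

namespace Cfsg.Agent.Lib.Helper94.AP

open Matrix

variable {F : Type*} [Field F] [Fintype F] {d : ℕ}

theorem finite_ringAut : Finite (F ≃+* F) :=
  Finite.of_injective (fun e : F ≃+* F => (e : F → F)) DFunLike.coe_injective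

/-- the fixed field of `τ` -/
noncomputable def Kfix (τ : F ≃+* F) : Subfield F :=
  FixedPoints.subfield (Subgroup.zpowers τ) F

theorem mem_Kfix {τ : F ≃+* F} {x : F} (h : τ x = x) : x ∈ Kfix τ := by
  show x ∈ FixedPoints.subfield (Subgroup.zpowers τ) F
  intro ⟨ρ, hρ⟩
  have hle : Subgroup.zpowers τ ≤ MulAction.stabilizer (F ≃+* F) x := by
    rw [Subgroup.zpowers_le]
    exact h
  exact hle hρ

theorem card_eq_pow_Kfix (τ : F ≃+* F) :
    Fintype.card F = Nat.card (Kfix τ) ^ orderOf τ := by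
  classical
  haveI := finite_ringAut (F := F)
  letI : Fintype (Subgroup.zpowers τ) := Fintype.ofFinite _
  letI : Fintype (Kfix τ) := Fintype.ofFinite _
  have h1 : Module.finrank (Kfix τ) F = Fintype.card (Subgroup.zpowers τ) :=
    FixedPoints.finrank_eq_card (Subgroup.zpowers τ) F
  have h2 : Fintype.card (Subgroup.zpowers τ) = orderOf τ := by
    rw [← Nat.card_eq_fintype_card, Nat.card_zpowers]
  have h3 := Module.card_eq_pow_finrank (K := Kfix τ) (V := F)
  rw [h3, h1, h2, Nat.card_eq_fintype_card]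

theorem two_le_card_Kfix (τ : F ≃+* F) : 2 ≤ Nat.card (Kfix τ) := by
  have : Finite (Kfix τ) := inferInstance
  have : Nontrivial (Kfix τ) := inferInstance
  exact Finite.one_lt_card

theorem orderOf_ringAut_pos (τ : F ≃+* F) : 0 < orderOf τ := by
  haveI := finite_ringAut (F := F)
  exact orderOf_pos τ

/-- field cosets -/
theorem bound_field (hd : 2 ≤ d) (g h : GL (Fin d) F) (σ : F ≃+* F) (he : 2 ≤ orderOf σ)
    (hP : gmap σ h = g⁻¹ * h * g) (hex : ¬ (Fintype.card F = 4 ∧ d = 2)) :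
    ∃ k : ℕ, 0 < k ∧
      (∃ c : F, c ≠ 0 ∧ ((h ^ k : GL (Fin d) F) : Matrix (Fin d) (Fin d) F) =
        c • (1 : Matrix (Fin d) (Fin d) F)) ∧
      (Fintype.card F - 1) * (orderOf σ * k) ≤ Fintype.card F ^ d - 1 := by
  have hK : ∀ i, (h : Matrix (Fin d) (Fin d) F).charpoly.coeff i ∈ Kfix σ :=
    fun i => mem_Kfix (charpoly_fixed h g σ hP i)
  obtain ⟨k, hk, hsc, hcard⟩ := count_main (Kfix σ) (by omega) h hK
  refine ⟨k, hk, hsc, ?_⟩
  have hq := card_eq_pow_Kfix σ
  have hq2 := two_le_card_Kfix σ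
  rw [hq]
  refine NL1 hq2 he hd hcard ?_
  rintro ⟨h1, h2, h3⟩
  apply hex
  refine ⟨?_, h3⟩
  rw [hq, h1, h2]; norm_num

theorem orderOf_sq_ge (σ : F ≃+* F) (he : 3 ≤ orderOf σ) : 2 ≤ orderOf (σ * σ) := by
  have hpos := orderOf_ringAut_pos (σ * σ)
  by_contra h
  have h1 : orderOf (σ * σ) = 1 := by omega
  rw [orderOf_eq_one_iff] at h1
  have h2 : σ ^ 2 = 1 := by rw [pow_two]; exact h1
  have h3 := orderOf_dvd_of_pow_eq_one h2
  have := Nat.le_of_dvd (by omega) h3
  omega

/-- graph cosets with a field automorphism of order at least three -/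
theorem bound_graph (hd : 3 ≤ d) (g h : GL (Fin d) F) (σ : F ≃+* F) (he : 3 ≤ orderOf σ)
    (hP : Th σ true h = g⁻¹ * h * g) :
    ∃ k : ℕ, 0 < k ∧
      (∃ c : F, c ≠ 0 ∧ ((h ^ k : GL (Fin d) F) : Matrix (Fin d) (Fin d) F) =
        c • (1 : Matrix (Fin d) (Fin d) F)) ∧
      (Fintype.card F - 1) * (2 * orderOf (σ * σ) * k) ≤ Fintype.card F ^ d - 1 := by
  have hK : ∀ i, (h : Matrix (Fin d) (Fin d) F).charpoly.coeff i ∈ Kfix (σ * σ) :=
    fun i => mem_Kfix (charpoly_fixed_graph h g σ hP i)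
  obtain ⟨k, hk, hsc, hcard⟩ := count_main (Kfix (σ * σ)) (by omega) h hK
  refine ⟨k, hk, hsc, ?_⟩
  have hq := card_eq_pow_Kfix (σ * σ)
  have hq2 := two_le_card_Kfix (σ * σ)
  have he2 := orderOf_sq_ge σ he
  rw [hq]
  refine NL2 hq2 he2 hd hcard ?_
  intro h2
  -- orderOf σ = 4, so |F| ≥ 16
  by_contra hlt
  have hq' : Nat.card (Kfix (σ * σ)) = 2 := by omega
  have hF4 : Fintype.card F = 4 := by rw [hq, hq', h2]; norm_num
  have hq0 := card_eq_pow_Kfix σ
  have hq02 := two_le_card_Kfix σ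
  have : 2 ^ 3 ≤ Nat.card (Kfix σ) ^ orderOf σ :=
    (Nat.pow_le_pow_left hq02 3).trans (Nat.pow_le_pow_right (by omega) he)
  omega

/-- graph cosets with `σ² = 1` -/
theorem bound_graph2 (hd : 3 ≤ d) (h32 : ¬ (d = 3 ∧ Fintype.card F = 2)) (g h : GL (Fin d) F)
    (σ : F ≃+* F) (hP : Th σ true h = g⁻¹ * h * g) :
    ∃ k : ℕ, 0 < k ∧
      (∃ c : F, c ≠ 0 ∧ ((h ^ k : GL (Fin d) F) : Matrix (Fin d) (Fin d) F) =
        c • (1 : Matrix (Fin d) (Fin d) F)) ∧
      (Fintype.card F - 1) * (2 * k) ≤ Fintype.card F ^ d - 1 := by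
  classical
  have hfin : ∀ {k : ℕ}, 2 * ((Fintype.card F - 1) * k) ≤ Fintype.card F ^ d - 1 →
      (Fintype.card F - 1) * (2 * k) ≤ Fintype.card F ^ d - 1 := by
    intro k hk
    calc (Fintype.card F - 1) * (2 * k) = 2 * ((Fintype.card F - 1) * k) := by ring
      _ ≤ _ := hk
  by_cases hc : ∃ c : F, c ≠ 0 ∧
      ((h : Matrix (Fin d) (Fin d) F) + c • (1 : Matrix (Fin d) (Fin d) F)).det ≠ 0
  · obtain ⟨c, hc0, hdet⟩ := hc
    let star : Matrix (Fin d) (Fin d) F → Matrix (Fin d) (Fin d) F := fun x =>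
      (g : Matrix (Fin d) (Fin d) F) * (x.map σ)ᵀ *
        ((g⁻¹ : GL (Fin d) F) : Matrix (Fin d) (Fin d) F)
    have hgg' : ((g⁻¹ : GL (Fin d) F) : Matrix (Fin d) (Fin d) F) *
        (g : Matrix (Fin d) (Fin d) F) = 1 := by
      rw [← Units.val_mul, inv_mul_cancel, Units.val_one]
    have hgg : (g : Matrix (Fin d) (Fin d) F) *
        ((g⁻¹ : GL (Fin d) F) : Matrix (Fin d) (Fin d) F) = 1 := by
      rw [← Units.val_mul, mul_inv_cancel, Units.val_one]
    obtain ⟨k, hk, hsc, hb⟩ := doubling hd h (σ : F →+* F) star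
      (by
        intro x y
        show (g : Matrix (Fin d) (Fin d) F) * ((x + y).map σ)ᵀ * _ = _
        rw [Matrix.map_add _ (map_add σ), Matrix.transpose_add, Matrix.mul_add, Matrix.add_mul])
      (by
        intro x y
        show (g : Matrix (Fin d) (Fin d) F) * ((x * y).map σ)ᵀ * _ =
          ((g : Matrix (Fin d) (Fin d) F) * (y.map σ)ᵀ * _) *
          ((g : Matrix (Fin d) (Fin d) F) * (x.map σ)ᵀ * _)
        have : (x * y).map σ = x.map σ * y.map σ := by
          exact Matrix.map_mul (f := (σ : F →+* F))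
        rw [this, Matrix.transpose_mul]
        calc (g : Matrix (Fin d) (Fin d) F) * ((y.map σ)ᵀ * (x.map σ)ᵀ) *
              ((g⁻¹ : GL (Fin d) F) : Matrix (Fin d) (Fin d) F)
            = (g : Matrix (Fin d) (Fin d) F) * (y.map σ)ᵀ * 1 * (x.map σ)ᵀ *
              ((g⁻¹ : GL (Fin d) F) : Matrix (Fin d) (Fin d) F) := by
                rw [Matrix.mul_one]; simp only [Matrix.mul_assoc]
          _ = _ := by rw [← hgg']; simp only [Matrix.mul_assoc])
      (by
        intro c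
        show (g : Matrix (Fin d) (Fin d) F) * ((c • (1 : Matrix (Fin d) (Fin d) F)).map σ)ᵀ * _ = _
        have : (c • (1 : Matrix (Fin d) (Fin d) F)).map σ =
            σ c • (1 : Matrix (Fin d) (Fin d) F) := by
          ext i j
          by_cases hij : i = j
          · subst hij; simp
          · simp [hij]
        rw [this, Matrix.transpose_smul, Matrix.transpose_one, Matrix.mul_smul, Matrix.mul_one,
          Matrix.smul_mul, hgg]
        rfl)
      (star_h h g σ hP) c hc0 hdet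
    exact ⟨k, hk, hsc, hfin hb⟩
  · -- every nonzero scalar is an eigenvalue
    have heig : ∀ l : F, l ≠ 0 → ∃ v : Fin d → F, v ≠ 0 ∧
        (h : Matrix (Fin d) (Fin d) F) *ᵥ v = l • v := by
      intro l hl
      have h1 : ((h : Matrix (Fin d) (Fin d) F) +
          (-l) • (1 : Matrix (Fin d) (Fin d) F)).det = 0 := by
        by_contra hne
        exact hc ⟨-l, neg_ne_zero.mpr hl, hne⟩
      obtain ⟨v, hv, hv0⟩ := Matrix.exists_mulVec_eq_zero_iff.mpr h1
      refine ⟨v, hv, ?_⟩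
      rw [Matrix.add_mulVec, Matrix.smul_mulVec, Matrix.one_mulVec, neg_smul,
        add_neg_eq_zero] at hv0
      exact hv0
    have hq2 : 2 ≤ Fintype.card F := two_le_card
    have hunits : Fintype.card Fˣ = Fintype.card F - 1 := Fintype.card_units F
    rcases Nat.lt_or_ge (Fintype.card F) 4 with hlt | hge
    · rcases Nat.lt_or_ge (Fintype.card F) 3 with hlt3 | hge3
      · -- q = 2
        have hF : Fintype.card F = 2 := by omega
        have hd4 : 4 ≤ d := by
          by_contra hd4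
          exact h32 ⟨by omega, hF⟩
        obtain ⟨v, hv, hv1⟩ := heig 1 one_ne_zero
        rw [one_smul] at hv1
        obtain ⟨k, hk, hsc, hb⟩ := eval1 hF hd4 h v hv hv1
        exact ⟨k, hk, hsc, hfin hb⟩
      · -- q = 3
        have hF : Fintype.card F = 3 := by omega
        have h1 : 1 < Fintype.card Fˣ := by omega
        obtain ⟨u1, u2, hu⟩ := Fintype.one_lt_card_iff.mp h1
        obtain ⟨v1, hv1, e1⟩ := heig u1 (Units.ne_zero u1)
        obtain ⟨v2, hv2, e2⟩ := heig u2 (Units.ne_zero u2)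
        have hne : (u1 : F) ≠ (u2 : F) := fun h => hu (Units.ext h)
        obtain ⟨k, hk, hsc, hb⟩ := eval2 hF (by omega) h v1 v2 u1 u2 hv1 hv2 hne
          (Units.ne_zero u1) (Units.ne_zero u2) e1 e2
        exact ⟨k, hk, hsc, hfin hb⟩
    · have h1 : 2 < Fintype.card Fˣ := by omega
      obtain ⟨u1, u2, u3, h12, h13, h23⟩ := Fintype.two_lt_card_iff.mp h1
      obtain ⟨v1, hv1, e1⟩ := heig u1 (Units.ne_zero u1)
      obtain ⟨v2, hv2, e2⟩ := heig u2 (Units.ne_zero u2)
      obtain ⟨v3, hv3, e3⟩ := heig u3 (Units.ne_zero u3)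
      obtain ⟨k, hk, hsc, hb⟩ := eval3 hd h v1 v2 v3 u1 u2 u3 hv1 hv2 hv3
        (fun h => h12 (Units.ext h)) (fun h => h13 (Units.ext h)) (fun h => h23 (Units.ext h))
        (Units.ne_zero u1) (Units.ne_zero u2) (Units.ne_zero u3) e1 e2 e3
      exact ⟨k, hk, hsc, hfin hb⟩

end Cfsg.Agent.Lib.Helper94.AP
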