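import Mathlib
import Cfsg.Agent.Lib.Helper94.AP4
import Cfsg.Agent.Lib.Helper38.PGLOrder

set_option autoImplicit false
set_option linter.unusedSectionVars false
set_option linter.unusedVariables false

/-!
# AP8 : an automorphism of `PSL_d(F)` of order `(q^d - 1)/(q - 1)`
-/

namespace Cfsg.Agent.Lib.Helper94.AP

open Matrix

variable {F : Type*} [Field F] {d : ℕ}

/-- conjugation by `γ` as an automorphism of `SL` -/
def cjEquiv (γ : GL (Fin d) F) : SLd d F ≃* SLd d F where
  toFun := Fn γ (1 : F ≃+* F) false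
  invFun := Fn γ⁻¹ (1 : F ≃+* F) false
  left_inv s := by
    rw [Fn_Fn, Th_one_false, inv_mul_cancel, one_mul]
    exact Fn_one s
  right_inv s := by
    rw [Fn_Fn, Th_one_false, mul_inv_cancel, one_mul]
    exact Fn_one s
  map_mul' := map_mul _

/-- the inner-diagonal automorphism of `PSL` attached to `γ` -/
noncomputable def innerAut (γ : GL (Fin d) F) : MulAut (PSLd d F) :=
  QuotientGroup.congr (Subgroup.center (SLd d F)) (Subgroup.center (SLd d F)) (cjEquiv γ)
    ((Subgroup.characteristic_iff_map_eq.mp Subgroup.centerCharacteristic) (cjEquiv γ))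

theorem Ind_innerAut (γ : GL (Fin d) F) : Ind γ (1 : F ≃+* F) false (innerAut γ) := by
  intro s
  exact QuotientGroup.congr_mk _ _ _ _ s

theorem Ind_innerAut_pow (γ : GL (Fin d) F) (k : ℕ) :
    Ind (γ ^ k) (1 : F ≃+* F) false (innerAut γ ^ k) := by
  have := Ind_pow (Ind_innerAut γ) k
  rwa [one_pow, tpow_false, Nn_one_false] at this

/-- if conjugation by `x` is trivial on `PSL` then `x` is scalar -/
theorem scalar_of_Ind_one (hd : 2 ≤ d) (x : GL (Fin d) F)
    (h : Ind x (1 : F ≃+* F) false (1 : MulAut (PSLd d F))) :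
    (x : Matrix (Fin d) (Fin d) F) ∈ Set.range (Matrix.scalar (Fin d)) := by
  classical
  apply Matrix.mem_range_scalar_of_commute_single
  intro i j hij
  -- the transvection
  let s : SLd d F := Matrix.SpecialLinearGroup.transvection hij (1 : F)
  have hs : s.1 = 1 + Matrix.single i j (1 : F) := rfl
  have h1 := h s
  rw [MulAut.one_apply] at h1
  have h2 : s⁻¹ * Fn x 1 false s ∈ Subgroup.center (SLd d F) := QuotientGroup.eq.mp h1
  rw [Matrix.SpecialLinearGroup.mem_center_iff] at h2
  obtain ⟨r, -, hr⟩ := h2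
  -- Fn x s = r • s
  have h3 : (Fn x 1 false s).1 = r • s.1 := by
    have h4 : (s * (s⁻¹ * Fn x 1 false s)).1 = s.1 * (Matrix.scalar (Fin d) r) := by
      rw [hr]; rfl
    rw [mul_inv_cancel_left] at h4
    rw [h4, Matrix.scalar_apply, ← Matrix.smul_one_eq_diagonal, Matrix.mul_smul, Matrix.mul_one]
  have hxx : (x : Matrix (Fin d) (Fin d) F) * ((x⁻¹ : GL (Fin d) F) : Matrix (Fin d) (Fin d) F) = 1 := by
    rw [← Units.val_mul, mul_inv_cancel, Units.val_one]
  have hxx' : ((x⁻¹ : GL (Fin d) F) : Matrix (Fin d) (Fin d) F) * (x : Matrix (Fin d) (Fin d) F) = 1 := by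
    rw [← Units.val_mul, inv_mul_cancel, Units.val_one]
  have h5 : (Fn x 1 false s).1 = (x : Matrix (Fin d) (Fin d) F) * s.1 *
      ((x⁻¹ : GL (Fin d) F) : Matrix (Fin d) (Fin d) F) := by
    show ((x * Th 1 false (Matrix.SpecialLinearGroup.toGL s) * x⁻¹ : GL (Fin d) F) :
      Matrix (Fin d) (Fin d) F) = _
    rw [Th_one_false, Units.val_mul, Units.val_mul, toGL_val]
  set E : Matrix (Fin d) (Fin d) F := Matrix.single i j (1 : F) with hE
  have hEE : E * E = 0 := by
    rw [hE, Matrix.single_mul_single_of_ne]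
    exact fun h => hij h.symm
  -- (r s - 1)^2 = 0
  have h6 : (r • s.1 - 1) * (r • s.1 - 1) = 0 := by
    rw [← h3, h5, hs]
    have : (x : Matrix (Fin d) (Fin d) F) * (1 + E) *
        ((x⁻¹ : GL (Fin d) F) : Matrix (Fin d) (Fin d) F) - 1 =
        (x : Matrix (Fin d) (Fin d) F) * E *
        ((x⁻¹ : GL (Fin d) F) : Matrix (Fin d) (Fin d) F) := by
      rw [Matrix.mul_add, Matrix.add_mul, Matrix.mul_one, hxx, add_sub_cancel_left]
    rw [this]
    calc (x : Matrix (Fin d) (Fin d) F) * E * ((x⁻¹ : GL (Fin d) F) : Matrix (Fin d) (Fin d) F) *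
          ((x : Matrix (Fin d) (Fin d) F) * E * ((x⁻¹ : GL (Fin d) F) : Matrix (Fin d) (Fin d) F))
        = (x : Matrix (Fin d) (Fin d) F) * E *
          (((x⁻¹ : GL (Fin d) F) : Matrix (Fin d) (Fin d) F) * (x : Matrix (Fin d) (Fin d) F)) * E *
          ((x⁻¹ : GL (Fin d) F) : Matrix (Fin d) (Fin d) F) := by simp only [Matrix.mul_assoc]
      _ = (x : Matrix (Fin d) (Fin d) F) * (E * E) *
          ((x⁻¹ : GL (Fin d) F) : Matrix (Fin d) (Fin d) F) := by
          rw [hxx', Matrix.mul_one]; simp only [Matrix.mul_assoc]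
      _ = 0 := by rw [hEE, Matrix.mul_zero, Matrix.zero_mul]
  -- hence r = 1
  have hr1 : r = 1 := by
    have h7 : r • s.1 - 1 = (r - 1) • (1 : Matrix (Fin d) (Fin d) F) + r • E := by
      rw [hs, smul_add, sub_smul, one_smul]; abel
    rw [h7] at h6
    have h8 := congrFun (congrFun h6 i) i
    rw [Matrix.mul_apply] at h8
    simp only [Matrix.add_apply, Matrix.smul_apply, Matrix.one_apply, hE, Matrix.single_apply,
      smul_eq_mul, Matrix.zero_apply] at h8
    rw [Finset.sum_eq_single i] at h8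
    · simp only [if_true, hij, and_false, if_false, mul_zero, add_zero, mul_one, true_and] at h8
      have hji : ¬ (j = i) := fun h => hij h.symm
      simp only [hji, and_false, if_false, mul_zero, add_zero] at h8
      have : (r - 1) = 0 := by
        rcases mul_eq_zero.mp h8 with h | h <;> exact h
      exact sub_eq_zero.mp this
    · intro b _ hb
      have hbi : ¬ (i = b) := fun h => hb h.symm
      simp [hbi, hb, hij]
    · intro h; exact absurd (Finset.mem_univ i) h
  -- so x commutes with s, hence with E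
  rw [hr1, one_smul, h5] at h3
  have h9 : (x : Matrix (Fin d) (Fin d) F) * s.1 = s.1 * (x : Matrix (Fin d) (Fin d) F) := by
    have h10 : (x : Matrix (Fin d) (Fin d) F) * s.1 *
        ((x⁻¹ : GL (Fin d) F) : Matrix (Fin d) (Fin d) F) * (x : Matrix (Fin d) (Fin d) F) =
        s.1 * (x : Matrix (Fin d) (Fin d) F) := by rw [h3]
    rwa [Matrix.mul_assoc, hxx', Matrix.mul_one] at h10
  rw [hs, Matrix.mul_add, Matrix.add_mul, Matrix.mul_one, Matrix.one_mul] at h9
  exact (add_left_cancel h9).symm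

end Cfsg.Agent.Lib.Helper94.AP

namespace Cfsg.Agent.Lib.Helper94.AP

open Matrix

variable {F : Type*} [Field F] [Fintype F] {d : ℕ}

theorem innerAut_pow_eq_one_iff (hd : 2 ≤ d) (γ : GL (Fin d) F) (k : ℕ) :
    innerAut γ ^ k = 1 ↔
      (QuotientGroup.mk γ : GL (Fin d) F ⧸ Subgroup.center (GL (Fin d) F)) ^ k = 1 := by
  rw [← QuotientGroup.mk_pow, QuotientGroup.eq_one_iff,
    Matrix.GeneralLinearGroup.mem_center_iff_val_mem_range_scalar]
  constructor
  · intro h
    have h1 := Ind_innerAut_pow γ k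
    rw [h] at h1
    exact scalar_of_Ind_one hd _ h1
  · rintro ⟨c, hc⟩
    refine Ind_scalar (Ind_innerAut_pow γ k) c ?_
    rw [← hc, Matrix.scalar_apply, Matrix.smul_one_eq_diagonal]

/-- existence of an automorphism of the maximal order -/
theorem exists_aut_order (hd : 2 ≤ d) :
    ∃ φ : MulAut (PSLd d F), (Fintype.card F - 1) * orderOf φ = Fintype.card F ^ d - 1 := by
  obtain ⟨γ, hγ⟩ := Cfsg.Agent.Lib.Helper38.pgl_singer (F := F) d (by omega)
  have hle := Cfsg.Agent.Lib.Helper38.pgl_order_le d (by omega) γ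
  refine ⟨innerAut γ, ?_⟩
  have : orderOf (innerAut γ) =
      orderOf (QuotientGroup.mk γ : GL (Fin d) F ⧸ Subgroup.center (GL (Fin d) F)) := by
    rw [orderOf_eq_orderOf_iff]
    exact innerAut_pow_eq_one_iff hd γ
  rw [this]
  exact le_antisymm hle hγ

end Cfsg.Agent.Lib.Helper94.AP
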