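import Mathlib
import Cfsg.Agent.Lib.Helper94.AP7

set_option autoImplicit false
set_option linter.unusedSectionVars false
set_option linter.unusedVariables false

/-!
# AP9 : the order bound for an induced automorphism
-/

namespace Cfsg.Agent.Lib.Helper94.AP

open Matrix

variable {F : Type*} [Field F] [Fintype F] {d : ℕ}

theorem order_le_of_scalar {g : GL (Fin d) F} {σ : F ≃+* F} {t : Bool} {β : MulAut (PSLd d F)}
    (h : Ind g σ t β) (m k : ℕ) (hm : 0 < m) (hk : 0 < k) (hσ : σ ^ m = 1)
    (ht : tpow t m = false)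
    (hc : ∃ c : F, c ≠ 0 ∧ (((Nn g σ t m) ^ k : GL (Fin d) F) : Matrix (Fin d) (Fin d) F) =
      c • (1 : Matrix (Fin d) (Fin d) F)) : orderOf β ≤ m * k := by
  obtain ⟨c, -, hc⟩ := hc
  exact orderOf_le_of_pow_eq_one (Nat.mul_pos hm hk) (pow_eq_one_of_scalar h m k hσ ht c hc)

theorem bound_of_Ind (hd : 2 ≤ d) (h24 : ¬ (d = 2 ∧ Fintype.card F = 4))
    (h32 : ¬ (d = 3 ∧ Fintype.card F = 2)) {g : GL (Fin d) F} {σ : F ≃+* F} {t : Bool}
    {β : MulAut (PSLd d F)} (h : Ind g σ t β) (ht : t = true → 3 ≤ d) :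
    (Fintype.card F - 1) * orderOf β ≤ Fintype.card F ^ d - 1 := by
  have hepos := orderOf_ringAut_pos σ
  cases t
  · -- no graph automorphism
    rcases Nat.lt_or_ge (orderOf σ) 2 with he | he
    · have he1 : orderOf σ = 1 := by omega
      have hσ1 : σ = 1 := orderOf_eq_one_iff.mp he1
      subst hσ1
      obtain ⟨k, hk, hsc, hcard⟩ := count_main (⊤ : Subfield F) (by omega) g (coeff_mem_top _)
      rw [card_top] at hcard
      have hN : Nn g (1 : F ≃+* F) false 1 = g := by rw [Nn_one_false, pow_one]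
      have hle := order_le_of_scalar h 1 k one_pos hk (pow_one _) (tpow_false 1)
        (by rw [hN]; exact hsc)
      rw [one_mul] at hle
      exact (Nat.mul_le_mul_left _ hle).trans hcard
    · set e := orderOf σ with he'
      have hσe : σ ^ e = 1 := pow_orderOf_eq_one σ
      have hP := Th_Nn g σ false e hσe (tpow_false e)
      rw [Th_apply, gtw_false] at hP
      obtain ⟨k, hk, hsc, hcard⟩ := bound_field hd g (Nn g σ false e) σ he hP
        (fun hh => h24 ⟨hh.2, hh.1⟩)
      have hle := order_le_of_scalar h e k hepos hk hσe (tpow_false e) hsc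
      exact (Nat.mul_le_mul_left _ hle).trans hcard
  · have hd3 : 3 ≤ d := ht rfl
    rcases Nat.lt_or_ge (orderOf σ) 3 with he | he
    · have hσ2 : σ ^ 2 = 1 := by
        rw [← orderOf_dvd_iff_pow_eq_one]
        have : orderOf σ = 1 ∨ orderOf σ = 2 := by omega
        rcases this with h1 | h1 <;> rw [h1]
        exact one_dvd _
      have ht2 : tpow true 2 = false := tpow_even true 1
      have hP := Th_Nn g σ true 2 hσ2 ht2
      obtain ⟨k, hk, hsc, hcard⟩ := bound_graph2 hd3 h32 g (Nn g σ true 2) σ hP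
      have hle := order_le_of_scalar h 2 k (by omega) hk hσ2 ht2 hsc
      exact (Nat.mul_le_mul_left _ hle).trans hcard
    · set e' := orderOf (σ * σ) with he'
      have hσm : σ ^ (2 * e') = 1 := by
        rw [pow_mul, pow_two]; exact pow_orderOf_eq_one (σ * σ)
      have htm : tpow true (2 * e') = false := tpow_even true e'
      have hP := Th_Nn g σ true (2 * e') hσm htm
      obtain ⟨k, hk, hsc, hcard⟩ := bound_graph hd3 g (Nn g σ true (2 * e')) σ he hP
      have he'pos : 0 < e' := orderOf_ringAut_pos (σ * σ)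
      have hle := order_le_of_scalar h (2 * e') k (by omega) hk hσm htm hsc
      exact (Nat.mul_le_mul_left _ hle).trans hcard

end Cfsg.Agent.Lib.Helper94.AP
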