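import Cfsg.Agent.Lib.Helper46.AhDefs
import Cfsg.Agent.Lib.Helper3.Burnside

/-!
# Ah hive (helper46, S2538): part CC1a of leaf AH-CC

A subgroup `M` of `Perm α`, `|α| = r` an odd prime, whose order is divisible by `r` and only by the primes
`2` and `r`, contains a full `r`-cycle `c` generating a normal subgroup of `M`; the centralizer of `c` in
`Perm α` is `⟨c⟩`.
-/

set_option autoImplicit false

namespace Cfsg.Agent.Lib.Helper46.Ah

open Cfsg Equiv
open scoped commutatorElement

section cc1a

variable {α : Type*} [Fintype α] [DecidableEq α]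

/-- an element of prime order `r` on `r` points is a full cycle -/
theorem cc1a_full_cycle {c : Perm α} {r : ℕ} (hr : r.Prime) (hcard : Fintype.card α = r)
    (hc : orderOf c = r) : ∀ x y : α, ∃ k : ℕ, (c ^ k) x = y := by
  have hcyc : c.IsCycle := by
    apply Perm.isCycle_of_prime_order''
    · rw [hcard]; exact hr
    · rw [hc, hcard]
  have hsupp : c.support = Finset.univ := by
    apply Finset.eq_univ_of_card
    rw [← hcyc.orderOf, hc, hcard]
  intro x y
  have hx : c x ≠ x := by
    rw [← Perm.mem_support, hsupp]; exact Finset.mem_univ _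
  have hy : c y ≠ y := by
    rw [← Perm.mem_support, hsupp]; exact Finset.mem_univ _
  exact hcyc.exists_pow_eq hx hy

omit [Fintype α] [DecidableEq α] in
/-- the centralizer of a full cycle is the group it generates -/
theorem cc1a_centralizer {c : Perm α} (hfull : ∀ x y : α, ∃ k : ℕ, (c ^ k) x = y)
    {g : Perm α} (hg : Commute g c) : g ∈ Subgroup.zpowers c := by
  rcases isEmpty_or_nonempty α with he | ⟨⟨x⟩⟩
  · have : g = 1 := by
      ext y
      exact (he.false y).elim
    rw [this]
    exact Subgroup.one_mem _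
  · obtain ⟨k, hk⟩ := hfull x (g x)
    have : g = c ^ k := by
      ext y
      obtain ⟨j, hj⟩ := hfull x y
      have h1 : Commute g (c ^ j) := hg.pow_right j
      have h2 : g ((c ^ j) x) = (c ^ j) (g x) := by
        have := congrArg (fun f : Perm α => f x) h1.eq
        simpa using this
      rw [← hj, h2, ← hk, ← Perm.mul_apply, ← Perm.mul_apply, ← pow_add, ← pow_add, add_comm]
    rw [this]
    exact Subgroup.pow_mem _ (Subgroup.mem_zpowers c) k

/-- the last nontrivial term of the derived series of a nontrivial solvable group -/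
theorem cc1a_exists_abelian_normal {G : Type*} [Group G] [Group.IsSolvable G] [Nontrivial G] :
    ∃ A : Subgroup G, A.Normal ∧ A ≠ ⊥ ∧ ∀ a ∈ A, ∀ b ∈ A, a * b = b * a := by
  classical
  have hsol : ∃ n, derivedSeries G n = ⊥ := Group.IsSolvable.solvable
  have h0 : Nat.find hsol ≠ 0 := by
    intro h0
    have := Nat.find_spec hsol
    rw [h0, derivedSeries_zero] at this
    exact top_ne_bot this
  obtain ⟨m, hm⟩ := Nat.exists_eq_succ_of_ne_zero h0
  refine ⟨derivedSeries G m, inferInstance, ?_, ?_⟩
  · intro h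
    have := Nat.find_min' hsol h
    omega
  · intro a ha b hb
    have h1 : derivedSeries G (m + 1) = ⊥ := by
      have := Nat.find_spec hsol
      rwa [hm] at this
    rw [derivedSeries_succ] at h1
    have h2 : ⁅a, b⁆ ∈ ⁅derivedSeries G m, derivedSeries G m⁆ := Subgroup.commutator_mem_commutator ha hb
    rw [h1, Subgroup.mem_bot] at h2
    exact commutatorElement_eq_one_iff_mul_comm.mp h2

theorem cc1a_normal_cycle (M : Subgroup (Perm α)) (r : ℕ) (hr : r.Prime) (h3 : 3 ≤ r)
    (hcard : Fintype.card α = r) (hrN : r ∣ Nat.card M)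
    (hpr : ∀ p : ℕ, p.Prime → p ∣ Nat.card M → p = 2 ∨ p = r) :
    ∃ c ∈ M, orderOf c = r ∧ (∀ x y : α, ∃ k : ℕ, (c ^ k) x = y) ∧
      (∀ m ∈ M, m * c * m⁻¹ ∈ Subgroup.zpowers c) ∧
      (∀ g : Perm α, Commute g c → g ∈ Subgroup.zpowers c) := by
  have : Fact r.Prime := ⟨hr⟩
  -- `M` is solvable
  have hsolv : Group.IsSolvable ↥M :=
    Cfsg.Agent.Lib.Helper3.isSolvable_of_two_primes_aux 2 r Nat.prime_two hr (Nat.card ↥M) ↥M rfl hpr
  -- an element of order `r` in `M`
  obtain ⟨c0, hc0⟩ := exists_prime_orderOf_dvd_card' r hrN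
  have hc0' : orderOf (c0 : Perm α) = r := by rw [Subgroup.orderOf_coe]; exact hc0
  have hfull0 := cc1a_full_cycle hr hcard hc0'
  -- `M` is transitive, hence primitive
  have htr : MulAction.IsPretransitive ↥M α := by
    refine ⟨fun x y => ?_⟩
    obtain ⟨k, hk⟩ := hfull0 x y
    exact ⟨c0 ^ k, hk⟩
  have hprim : MulAction.IsPreprimitive ↥M α := by
    apply MulAction.IsPreprimitive.of_prime_card
    rw [Nat.card_eq_fintype_card, hcard]
    exact hr
  -- nontrivial abelian normal subgroup
  have : Nontrivial ↥M := by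
    refine ⟨⟨c0, 1, ?_⟩⟩
    intro h
    rw [h, orderOf_one] at hc0
    omega
  obtain ⟨A, hAn, hAne, hAcomm⟩ := cc1a_exists_abelian_normal (G := ↥M)
  have := hAn
  -- `A` acts nontrivially, hence transitively
  have hfix : MulAction.fixedPoints ↥A α ≠ Set.univ := by
    intro h
    apply hAne
    rw [Subgroup.eq_bot_iff_forall]
    intro a ha
    apply Subtype.ext
    ext x
    have hx : x ∈ MulAction.fixedPoints ↥A α := by rw [h]; exact Set.mem_univ x
    exact hx ⟨a, ha⟩
  have hAtr : MulAction.IsPretransitive ↥A α :=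
    MulAction.IsQuasiPreprimitive.isPretransitive_of_normal hfix
  have hne : Nonempty α := by
    rw [← Fintype.card_pos_iff, hcard]; omega
  obtain ⟨x0⟩ := hne
  have hrA : r ∣ Nat.card ↥A := by
    have h1 : (MulAction.stabilizer ↥A x0).index = Nat.card α :=
      MulAction.index_stabilizer_of_transitive ↥A x0
    rw [Nat.card_eq_fintype_card, hcard] at h1
    rw [← h1]
    exact Subgroup.index_dvd_card _
  obtain ⟨c1, hc1⟩ := exists_prime_orderOf_dvd_card' r hrA
  have hc1' : orderOf (((c1 : ↥M)) : Perm α) = r := by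
    rw [Subgroup.orderOf_coe, Subgroup.orderOf_coe]; exact hc1
  have hfull := cc1a_full_cycle hr hcard hc1'
  refine ⟨((c1 : ↥M) : Perm α), (c1 : ↥M).2, hc1', hfull, ?_, fun g hg => cc1a_centralizer hfull hg⟩
  intro m hm
  apply cc1a_centralizer hfull
  have hconj : (⟨m, hm⟩ : ↥M) * (c1 : ↥M) * (⟨m, hm⟩ : ↥M)⁻¹ ∈ A := hAn.conj_mem _ c1.2 _
  have hcomm := hAcomm _ hconj _ c1.2
  have := congrArg (Subtype.val : ↥M → Perm α) hcomm
  exact this

end cc1a

end Cfsg.Agent.Lib.Helper46.Ah
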