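import Cfsg.Agent.Lib.Helper94.HypBasis4

set_option autoImplicit false

namespace Cfsg.Agent.Lib.Helper94

open scoped Matrix
open Cfsg

set_option linter.unusedSectionVars false
set_option linter.unnecessarySimpa false
set_option linter.style.haveILetI false
set_option linter.unusedVariables false

variable {ι : Type} [Fintype ι] [DecidableEq ι] {F : Type*} [Field F]

lemma inv_of_mulVec_eq (g : Matrix.GeneralLinearGroup ι F) {a b : ι → F} (hab : (g : Matrix ι ι F) *ᵥ a = b) :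
    ((g⁻¹ : Matrix.GeneralLinearGroup ι F) : Matrix ι ι F) *ᵥ b = a := by
  rw [← hab, inv_mulVec_mulVec]

/-- core lemma: a system of pairwise orthogonal anisotropic planes over a field of characteristic two, refining an
orthogonal decomposition, whose nonzero vectors are exactly the vectors of norm one of the blocks -/
lemma planes_core [Fintype F] {Q : (ι → F) → F} (hQ : Geo.IsNondegenerateQuadraticForm Q) (h2 : (2 : F) = 0)
    {t : ℕ} (D : Fin t → Submodule F (ι → F)) (h : DirectSum.IsInternal D)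
    {κ : Type} (blk : κ → Fin t) (b1 b2 : κ → (ι → F))
    (hb1D : ∀ π, b1 π ∈ D (blk π)) (hb2D : ∀ π, b2 π ∈ D (blk π))
    (hQ1 : ∀ π, Q (b1 π) = 1) (hQ2 : ∀ π, Q (b2 π) = 1) (h12 : ∀ π, pol Q (b1 π) (b2 π) = 1)
    (ho11 : ∀ π π', π ≠ π' → pol Q (b1 π) (b1 π') = 0) (ho12 : ∀ π π', π ≠ π' → pol Q (b1 π) (b2 π') = 0)
    (ho22 : ∀ π π', π ≠ π' → pol Q (b2 π) (b2 π') = 0)
    (hstruct : ∀ i, ∀ v ∈ D i, Q v = 1 → ∃ π, v = b1 π ∨ v = b2 π ∨ v = b1 π + b2 π)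
    (π0 π0' π1 π2 : κ) (h00' : π0 ≠ π0') (hblk0 : blk π0' = blk π0) (hb01 : blk π0 ≠ blk π1)
    (hb02 : blk π0 ≠ blk π2) (hb12 : blk π1 ≠ blk π2) :
    ∃ K : Subgroup (Matrix.GeneralLinearGroup ι F),
      Geo.decompositionStabilizer D ⊓ Geo.omegaGL Q < K ∧ K < Geo.omegaGL Q := by
  classical
  have h10 : (1 : F) ≠ 0 := one_ne_zero
  have hself : ∀ v : ι → F, pol Q v v = 0 := fun v => by rw [pol_self hQ, h2, zero_mul]
  have h01 : π0 ≠ π1 := fun hh => hb01 (congrArg blk hh)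
  have h02 : π0 ≠ π2 := fun hh => hb02 (congrArg blk hh)
  have h0'1 : π0' ≠ π1 := fun hh => hb01 (by rw [← hblk0]; exact congrArg blk hh)
  have h0'2 : π0' ≠ π2 := fun hh => hb02 (by rw [← hblk0]; exact congrArg blk hh)
  have hπ12 : π1 ≠ π2 := fun hh => hb12 (congrArg blk hh)
  have ho21 : ∀ π π', π ≠ π' → pol Q (b2 π) (b1 π') = 0 := fun π π' hne => by
    rw [pol_comm]; exact ho12 π' π (Ne.symm hne)
  have h21 : ∀ π, pol Q (b2 π) (b1 π) = 1 := fun π => by rw [pol_comm]; exact h12 π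
  have hQ3 : ∀ π, Q (b1 π + b2 π) = 1 := fun π => by
    rw [Q_add Q, hQ1, hQ2, h12]; linear_combination h2
  have hb1ne : ∀ π, b1 π ≠ 0 := fun π h0 => by
    have := hQ1 π; rw [h0, Q_zero hQ] at this; exact h10 this.symm
  set S : Set (ι → F) := {v | ∃ i, v ∈ D i ∧ Q v = 1} with hS
  have hS1 : ∀ π, b1 π ∈ S := fun π => ⟨blk π, hb1D π, hQ1 π⟩
  have hS2 : ∀ π, b2 π ∈ S := fun π => ⟨blk π, hb2D π, hQ2 π⟩
  have hS3 : ∀ π, b1 π + b2 π ∈ S := fun π => ⟨blk π, (D _).add_mem (hb1D π) (hb2D π), hQ3 π⟩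
  -- the swaps
  have hswap : ∀ π π', π ≠ π' → ∃ τ : Matrix.GeneralLinearGroup ι F, τ ∈ isometryGroup F Q ∧
      τ ∈ stabilizing (glToMat ι F) S ∧ (τ : Matrix ι ι F) *ᵥ b1 π = b1 π' ∧
      (τ : Matrix ι ι F) *ᵥ b1 π' = b1 π ∧
      ∀ π'', π'' ≠ π → π'' ≠ π' → (τ : Matrix ι ι F) *ᵥ b1 π'' = b1 π'' := by
    intro π π' hne
    obtain ⟨τ, hτi, hτ1, hτ2, hτ3, hτ4, hτfix⟩ := swap_exists hQ h2 (b1 π) (b2 π) (b1 π') (b2 π') (hQ1 π) (hQ2 π)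
      (hQ1 π') (hQ2 π') (h12 π) (h12 π') (ho11 π π' hne) (ho12 π π' hne) (ho21 π π' hne) (ho22 π π' hne)
    have hfix1 : ∀ π'', π'' ≠ π → π'' ≠ π' → (τ : Matrix ι ι F) *ᵥ b1 π'' = b1 π'' := fun π'' hn1 hn2 =>
      hτfix _ (ho11 π'' π hn1) (ho12 π'' π hn1) (ho11 π'' π' hn2) (ho12 π'' π' hn2)
    have hfix2 : ∀ π'', π'' ≠ π → π'' ≠ π' → (τ : Matrix ι ι F) *ᵥ b2 π'' = b2 π'' := fun π'' hn1 hn2 =>
      hτfix _ (ho21 π'' π hn1) (ho22 π'' π hn1) (ho21 π'' π' hn2) (ho22 π'' π' hn2)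
    refine ⟨τ, hτi, ?_, hτ1, hτ3, hfix1⟩
    apply stab_of_forward
    rintro v ⟨i, hv, hQv⟩
    obtain ⟨π'', hv'⟩ := hstruct i v hv hQv
    by_cases e1 : π'' = π
    · subst e1
      rcases hv' with rfl | rfl | rfl
      · rw [hτ1]; exact hS1 _
      · rw [hτ2]; exact hS2 _
      · rw [Matrix.mulVec_add, hτ1, hτ2]; exact hS3 _
    · by_cases e2 : π'' = π'
      · subst e2
        rcases hv' with rfl | rfl | rfl
        · rw [hτ3]; exact hS1 _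
        · rw [hτ4]; exact hS2 _
        · rw [Matrix.mulVec_add, hτ3, hτ4]; exact hS3 _
      · rcases hv' with rfl | rfl | rfl
        · rw [hfix1 _ e1 e2]; exact hS1 _
        · rw [hfix2 _ e1 e2]; exact hS2 _
        · rw [Matrix.mulVec_add, hfix1 _ e1 e2, hfix2 _ e1 e2]; exact hS3 _
  obtain ⟨τ₁, hτ₁i, hτ₁S, hτ₁a, hτ₁b, hτ₁fix⟩ := hswap π0' π1 h0'1
  obtain ⟨τ₂, hτ₂i, hτ₂S, hτ₂a, hτ₂b, hτ₂fix⟩ := hswap π1 π2 hπ12
  obtain ⟨g₀, hg₀⟩ : ∃ g₀, g₀ = τ₁ * τ₂ * τ₁⁻¹ * τ₂⁻¹ := ⟨_, rfl⟩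
  have hg₀Ω : g₀ ∈ Geo.omegaGL Q := by rw [hg₀]; exact comm_mem_omega hτ₁i hτ₂i
  have hg₀S : g₀ ∈ stabilizing (glToMat ι F) S := by
    rw [hg₀]
    exact mul_mem (mul_mem (mul_mem hτ₁S hτ₂S) (inv_mem hτ₁S)) (inv_mem hτ₂S)
  have hg₀v : ∀ v : ι → F, (g₀ : Matrix ι ι F) *ᵥ v = (τ₁ : Matrix ι ι F) *ᵥ ((τ₂ : Matrix ι ι F) *ᵥ
      (((τ₁⁻¹ : Matrix.GeneralLinearGroup ι F) : Matrix ι ι F) *ᵥ
        (((τ₂⁻¹ : Matrix.GeneralLinearGroup ι F) : Matrix ι ι F) *ᵥ v))) := by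
    intro v
    rw [hg₀, Units.val_mul, Units.val_mul, Units.val_mul, ← Matrix.mulVec_mulVec, ← Matrix.mulVec_mulVec,
      ← Matrix.mulVec_mulVec]
  have hg₀a : (g₀ : Matrix ι ι F) *ᵥ b1 π0 = b1 π0 := by
    rw [hg₀v, inv_of_mulVec_eq τ₂ (hτ₂fix π0 h01 h02), inv_of_mulVec_eq τ₁ (hτ₁fix π0 h00' h01),
      hτ₂fix π0 h01 h02, hτ₁fix π0 h00' h01]
  have hg₀b : (g₀ : Matrix ι ι F) *ᵥ b1 π0' = b1 π2 := by
    rw [hg₀v, inv_of_mulVec_eq τ₂ (hτ₂fix π0' h0'1 h0'2), inv_of_mulVec_eq τ₁ hτ₁b, hτ₂a,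
      hτ₁fix π2 (Ne.symm h0'2) (Ne.symm hπ12)]
  -- g₁
  obtain ⟨u, hu⟩ : ∃ u, u = b1 π0 + b1 π1 + b1 π2 := ⟨_, rfl⟩
  have hQu : Q u = 1 := by
    rw [hu, Q_add Q, Q_add Q, hQ1, hQ1, hQ1, ho11 π0 π1 h01, pol_add_left hQ, ho11 π0 π2 h02, ho11 π1 π2 hπ12]
    linear_combination h2
  have hQu0 : Q u ≠ 0 := by rw [hQu]; exact h10
  have hQw0 : Q (b2 π1) ≠ 0 := by rw [hQ2]; exact h10
  have huw : pol Q u (b2 π1) = 1 := by
    rw [hu, pol_add_left hQ, pol_add_left hQ, ho12 π0 π1 h01, h12, ho12 π2 π1 (Ne.symm hπ12)]; ring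
  obtain ⟨g₁, hg₁⟩ : ∃ g₁, g₁ = rGL hQ u hQu0 * rGL hQ (b2 π1) hQw0 := ⟨_, rfl⟩
  have hg₁Ω : g₁ ∈ Geo.omegaGL Q := by
    rw [hg₁]
    refine rr_mem_omega hQ _ _ hQu0 hQw0 (by rw [hQ2, hQu]) ?_
    rw [Q_sub hQ, hQu, hQ2, huw]; simpa using h10
  have hb20u : pol Q (b2 π0) u = 1 := by
    rw [hu, pol_add_right hQ, pol_add_right hQ, h21, ho21 π0 π1 h01, ho21 π0 π2 h02]; ring
  have hg₁b : (g₁ : Matrix ι ι F) *ᵥ b2 π0 = b2 π0 - u := by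
    rw [hg₁, Units.val_mul, ← Matrix.mulVec_mulVec, rGL_fix hQ _ _ hQw0 (ho22 π0 π1 h01), rGL_one hQ _ _ hQu, hb20u,
      one_smul]
  refine ⟨stabilizing (glToMat ι F) S ⊓ Geo.omegaGL Q, ?_, ?_⟩
  · rw [SetLike.lt_iff_le_and_exists]
    refine ⟨?_, g₀, ?_, ?_⟩
    · intro g hg
      rw [Subgroup.mem_inf] at hg ⊢
      refine ⟨?_, hg.2⟩
      have hgi := (mem_isom g).1 (omega_le_isom hg.2)
      obtain ⟨σ, hσ⟩ := (mem_decStab' D g).1 hg.1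
      apply stab_of_forward
      rintro v ⟨i, hv, hQv⟩
      refine ⟨σ i, ?_, by rw [hgi v]; exact hQv⟩
      rw [← hσ i, ← Matrix.toLin'_apply]
      exact Submodule.mem_map_of_mem hv
    · rw [Subgroup.mem_inf]
      exact ⟨hg₀S, hg₀Ω⟩
    · intro hmem
      rw [Subgroup.mem_inf] at hmem
      obtain ⟨σ, hσ⟩ := (mem_decStab' D _).1 hmem.1
      have hga : (g₀ : Matrix ι ι F) *ᵥ b1 π0 ∈ D (σ (blk π0)) := by
        rw [← hσ (blk π0), ← Matrix.toLin'_apply]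
        exact Submodule.mem_map_of_mem (hb1D π0)
      have hgb : (g₀ : Matrix ι ι F) *ᵥ b1 π0' ∈ D (σ (blk π0)) := by
        rw [← hσ (blk π0), ← Matrix.toLin'_apply]
        exact Submodule.mem_map_of_mem (by rw [← hblk0]; exact hb1D π0')
      rw [hg₀a] at hga
      rw [hg₀b] at hgb
      have e1 := eq_of_mem_mem D h hga (hb1D π0) (hb1ne π0)
      have e2 := eq_of_mem_mem D h hgb (hb1D π2) (hb1ne π2)
      exact hb02 (e1.symm.trans e2)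
  · rw [SetLike.lt_iff_le_and_exists]
    refine ⟨inf_le_right, g₁, hg₁Ω, ?_⟩
    intro hmem
    rw [Subgroup.mem_inf] at hmem
    have hst := ((mem_stabz S _).1 hmem.1 (b2 π0)).1 (hS2 π0)
    rw [hg₁b] at hst
    obtain ⟨i, hi, _⟩ := hst
    have c1 : compL D h (blk π1) (b2 π0 - u) = -(b1 π1) := by
      rw [hu]
      simp only [map_sub, map_add]
      rw [compL_same D h (hb1D π1), compL_ne D h (hb2D π0) hb01, compL_ne D h (hb1D π0) hb01,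
        compL_ne D h (hb1D π2) hb12.symm]
      simp
    have c2 : compL D h (blk π2) (b2 π0 - u) = -(b1 π2) := by
      rw [hu]
      simp only [map_sub, map_add]
      rw [compL_same D h (hb1D π2), compL_ne D h (hb2D π0) hb02, compL_ne D h (hb1D π0) hb02,
        compL_ne D h (hb1D π1) hb12]
      simp
    have e1 : i = blk π1 := by
      by_contra hne
      rw [compL_ne D h hi hne] at c1
      exact neg_ne_zero.mpr (hb1ne π1) c1.symm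
    have e2 : i = blk π2 := by
      by_contra hne
      rw [compL_ne D h hi hne] at c2
      exact neg_ne_zero.mpr (hb1ne π2) c2.symm
    exact hb12 (e1.symm.trans e2)

end Cfsg.Agent.Lib.Helper94
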