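import Cfsg.Agent.Lib.Helper94.Decomp4Plus2

set_option autoImplicit false

namespace Cfsg.Agent.Lib.Helper94

open scoped Matrix
open Cfsg

set_option linter.unusedSectionVars false
set_option linter.unnecessarySimpa false
set_option linter.style.haveILetI false
set_option linter.unusedVariables false

variable {ι : Type} [Fintype ι] [DecidableEq ι] {F : Type*} [Field F]

/-- the two anisotropic planes of a hyperbolic space of dimension four over the field with two elements -/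
lemma block4_facts [Fintype F] {Q : (ι → F) → F} (hQ : Geo.IsNondegenerateQuadraticForm Q)
    (hq : Fintype.card F = 2) (W : Submodule F (ι → F)) (e1 f1 e2 f2 : ι → F)
    (hQe1 : Q e1 = 0) (hQf1 : Q f1 = 0) (hQe2 : Q e2 = 0) (hQf2 : Q f2 = 0)
    (he1f1 : pol Q e1 f1 = 1) (he2f2 : pol Q e2 f2 = 1) (he1e2 : pol Q e1 e2 = 0) (he1f2 : pol Q e1 f2 = 0)
    (hf1e2 : pol Q f1 e2 = 0) (hf1f2 : pol Q f1 f2 = 0)
    (hspan : ∀ v ∈ W, ∃ α β γ δ : F, v = α • e1 + β • f1 + γ • e2 + δ • f2) :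
    Q (e1 + f1) = 1 ∧ Q (e1 + e2 + f2) = 1 ∧ Q (e2 + f2) = 1 ∧ Q (e2 + e1 + f1) = 1 ∧
    pol Q (e1 + f1) (e1 + e2 + f2) = 1 ∧ pol Q (e2 + f2) (e2 + e1 + f1) = 1 ∧
    pol Q (e1 + f1) (e2 + f2) = 0 ∧ pol Q (e1 + f1) (e2 + e1 + f1) = 0 ∧
    pol Q (e1 + e2 + f2) (e2 + f2) = 0 ∧ pol Q (e1 + e2 + f2) (e2 + e1 + f1) = 0 ∧
    (∀ v ∈ W, Q v = 1 → v = e1 + f1 ∨ v = e1 + e2 + f2 ∨ v = (e1 + f1) + (e1 + e2 + f2) ∨
      v = e2 + f2 ∨ v = e2 + e1 + f1 ∨ v = (e2 + f2) + (e2 + e1 + f1)) := by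
  have h2 := f2_two hq
  have h10 : (1 : F) ≠ 0 := one_ne_zero
  have he1e1 : pol Q e1 e1 = 0 := by rw [pol_self hQ, hQe1, mul_zero]
  have hf1f1 : pol Q f1 f1 = 0 := by rw [pol_self hQ, hQf1, mul_zero]
  have he2e2 : pol Q e2 e2 = 0 := by rw [pol_self hQ, hQe2, mul_zero]
  have hf2f2 : pol Q f2 f2 = 0 := by rw [pol_self hQ, hQf2, mul_zero]
  have hf1e1 : pol Q f1 e1 = 1 := by rw [pol_comm]; exact he1f1
  have hf2e2 : pol Q f2 e2 = 1 := by rw [pol_comm]; exact he2f2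
  have he2e1 : pol Q e2 e1 = 0 := by rw [pol_comm]; exact he1e2
  have hf2e1 : pol Q f2 e1 = 0 := by rw [pol_comm]; exact he1f2
  have he2f1 : pol Q e2 f1 = 0 := by rw [pol_comm]; exact hf1e2
  have hf2f1 : pol Q f2 f1 = 0 := by rw [pol_comm]; exact hf1f2
  refine ⟨?_, ?_, ?_, ?_, ?_, ?_, ?_, ?_, ?_, ?_, ?_⟩
  · rw [Q_add Q, hQe1, hQf1, he1f1]; ring
  · rw [Q_add Q, Q_add Q, hQe1, hQe2, hQf2, he1e2, pol_add_left hQ, he1f2, he2f2]; ring
  · rw [Q_add Q, hQe2, hQf2, he2f2]; ring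
  · rw [Q_add Q, Q_add Q, hQe1, hQe2, hQf1, he2e1, pol_add_left hQ, he2f1, he1f1]; ring
  · simp only [pol_add_left hQ, pol_add_right hQ, he1e1, hf1f1, he2e2, hf2f2, hf1e1, hf2e2, he2e1, hf2e1, he2f1, hf2f1,
      he1f1, he2f2, he1e2, he1f2, hf1e2, hf1f2]
    ring
  · simp only [pol_add_left hQ, pol_add_right hQ, he1e1, hf1f1, he2e2, hf2f2, hf1e1, hf2e2, he2e1, hf2e1, he2f1, hf2f1,
      he1f1, he2f2, he1e2, he1f2, hf1e2, hf1f2]
    ring
  · simp only [pol_add_left hQ, pol_add_right hQ, he1e1, hf1f1, he2e2, hf2f2, hf1e1, hf2e2, he2e1, hf2e1, he2f1, hf2f1,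
      he1f1, he2f2, he1e2, he1f2, hf1e2, hf1f2]
    ring
  · simp only [pol_add_left hQ, pol_add_right hQ, he1e1, hf1f1, he2e2, hf2f2, hf1e1, hf2e2, he2e1, hf2e1, he2f1, hf2f1,
      he1f1, he2f2, he1e2, he1f2, hf1e2, hf1f2]
    linear_combination h2
  · simp only [pol_add_left hQ, pol_add_right hQ, he1e1, hf1f1, he2e2, hf2f2, hf1e1, hf2e2, he2e1, hf2e1, he2f1, hf2f1,
      he1f1, he2f2, he1e2, he1f2, hf1e2, hf1f2]
    linear_combination h2
  · simp only [pol_add_left hQ, pol_add_right hQ, he1e1, hf1f1, he2e2, hf2f2, hf1e1, hf2e2, he2e1, hf2e1, he2f1, hf2f1,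
      he1f1, he2f2, he1e2, he1f2, hf1e2, hf1f2]
    linear_combination h2
  · intro v hv hQv
    obtain ⟨α, β, γ, δ, rfl⟩ := hspan v hv
    have hQv' : α * β + γ * δ = 1 := by
      simp only [Q_add Q, Q_smul hQ, pol_add_left hQ, pol_smul_left hQ, pol_smul_right hQ, hQe1, hQf1, hQe2, hQf2,
        he1e1, hf1f1, he2e2, hf2f2, hf1e1, hf2e2, he2e1, hf2e1, he2f1, hf2f1,
        he1f1, he2f2, he1e2, he1f2, hf1e2, hf1f2] at hQv
      linear_combination hQv
    have h2e1 : (2 : F) • e1 = 0 := by rw [h2, zero_smul]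
    have h2e2 : (2 : F) • e2 = 0 := by rw [h2, zero_smul]
    rcases f2_cases hq α with rfl | rfl <;> rcases f2_cases hq β with rfl | rfl <;>
      rcases f2_cases hq γ with rfl | rfl <;> rcases f2_cases hq δ with rfl | rfl
    · exfalso; apply h10; linear_combination -hQv'
    · exfalso; apply h10; linear_combination -hQv'
    · exfalso; apply h10; linear_combination -hQv'
    · -- 0 0 1 1
      right; right; right; left; module
    · exfalso; apply h10; linear_combination -hQv'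
    · exfalso; apply h10; linear_combination -hQv'
    · exfalso; apply h10; linear_combination -hQv'
    · -- 0 1 1 1 : f1 + e2 + f2 = P1 + P2
      right; right; left
      have : (e1 + f1) + (e1 + e2 + f2) = (2 : F) • e1 + (f1 + e2 + f2) := by module
      rw [this, h2e1]; module
    · exfalso; apply h10; linear_combination -hQv'
    · exfalso; apply h10; linear_combination -hQv'
    · exfalso; apply h10; linear_combination -hQv'
    · -- 1 0 1 1
      right; left; module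
    · -- 1 1 0 0
      left; module
    · -- 1 1 0 1 : e1 + f1 + f2 = R1 + R2
      right; right; right; right; right
      have : (e2 + f2) + (e2 + e1 + f1) = (2 : F) • e2 + (e1 + f1 + f2) := by module
      rw [this, h2e2]; module
    · -- 1 1 1 0
      right; right; right; right; left; module
    · exfalso; apply h10; linear_combination h2 - hQv'

/-- decompositions into hyperbolic spaces of dimension four over the field with two elements -/
theorem decomp4_plus_two [Fintype F] {Q : (ι → F) → F} (hQ : Geo.IsNondegenerateQuadraticForm Q)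
    (hq : Fintype.card F = 2) {t : ℕ} (D : Fin t → Submodule F (ι → F))
    (hD : Geo.IsOrthogonalMDecomposition Q 4 D) (hplus : ∀ i, Geo.IsPlusTypeOn Q (D i)) (ht : 3 ≤ t) :
    ∃ K : Subgroup (Matrix.GeneralLinearGroup ι F),
      Geo.decompositionStabilizer D ⊓ Geo.omegaGL Q < K ∧ K < Geo.omegaGL Q := by
  have h : DirectSum.IsInternal D :=
    DirectSum.isInternal_submodule_of_iSupIndep_of_iSup_eq_top hD.decomp.decomp.indep hD.decomp.decomp.iSup_eq_top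
  have h2 := f2_two hq
  have hex : ∀ i, ∃ e1 f1 e2 f2 : ι → F, e1 ∈ D i ∧ f1 ∈ D i ∧ e2 ∈ D i ∧ f2 ∈ D i ∧ Q e1 = 0 ∧ Q f1 = 0 ∧ Q e2 = 0 ∧
      Q f2 = 0 ∧ pol Q e1 f1 = 1 ∧ pol Q e2 f2 = 1 ∧ pol Q e1 e2 = 0 ∧ pol Q e1 f2 = 0 ∧ pol Q f1 e2 = 0 ∧
      pol Q f1 f2 = 0 ∧ ∀ v ∈ D i, ∃ α β γ δ : F, v = α • e1 + β • f1 + γ • e2 + δ • f2 := fun i =>
    exists_hyp_basis4 hQ (D i) (hD.decomp.decomp.finrank_eq i) (hD.decomp.nondegenerate i) (hplus i)
  choose e1 f1 e2 f2 he1 hf1 he2 hf2 hQe1 hQf1 hQe2 hQf2 he1f1 he2f2 he1e2 he1f2 hf1e2 hf1f2 hspan using hex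
  have fac := fun i => block4_facts hQ hq (D i) (e1 i) (f1 i) (e2 i) (f2 i) (hQe1 i) (hQf1 i) (hQe2 i) (hQf2 i)
    (he1f1 i) (he2f2 i) (he1e2 i) (he1f2 i) (hf1e2 i) (hf1f2 i) (hspan i)
  have o : ∀ {i j : Fin t}, i ≠ j → ∀ x ∈ D i, ∀ y ∈ D j, pol Q x y = 0 :=
    fun hij x hx y hy => hD.decomp.orthogonal _ _ hij x hx y hy
  have hP1D : ∀ i, e1 i + f1 i ∈ D i := fun i => (D i).add_mem (he1 i) (hf1 i)
  have hP2D : ∀ i, e1 i + e2 i + f2 i ∈ D i := fun i => (D i).add_mem ((D i).add_mem (he1 i) (he2 i)) (hf2 i)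
  have hR1D : ∀ i, e2 i + f2 i ∈ D i := fun i => (D i).add_mem (he2 i) (hf2 i)
  have hR2D : ∀ i, e2 i + e1 i + f1 i ∈ D i := fun i => (D i).add_mem ((D i).add_mem (he2 i) (he1 i)) (hf1 i)
  obtain ⟨b1, hb1⟩ : ∃ b1 : Fin t × Bool → (ι → F),
      b1 = fun π => cond π.2 (e2 π.1 + f2 π.1) (e1 π.1 + f1 π.1) := ⟨_, rfl⟩
  obtain ⟨b2, hb2⟩ : ∃ b2 : Fin t × Bool → (ι → F),
      b2 = fun π => cond π.2 (e2 π.1 + e1 π.1 + f1 π.1) (e1 π.1 + e2 π.1 + f2 π.1) := ⟨_, rfl⟩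
  have b1f : ∀ i, b1 (i, false) = e1 i + f1 i := fun i => by rw [hb1]; rfl
  have b1t : ∀ i, b1 (i, true) = e2 i + f2 i := fun i => by rw [hb1]; rfl
  have b2f : ∀ i, b2 (i, false) = e1 i + e2 i + f2 i := fun i => by rw [hb2]; rfl
  have b2t : ∀ i, b2 (i, true) = e2 i + e1 i + f1 i := fun i => by rw [hb2]; rfl
  have hb1D : ∀ π : Fin t × Bool, b1 π ∈ D π.1 := by
    rintro ⟨i, c⟩; cases c
    · rw [b1f]; exact hP1D i
    · rw [b1t]; exact hR1D i
  have hb2D : ∀ π : Fin t × Bool, b2 π ∈ D π.1 := by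
    rintro ⟨i, c⟩; cases c
    · rw [b2f]; exact hP2D i
    · rw [b2t]; exact hR2D i
  set i0 : Fin t := ⟨0, by omega⟩ with hi0
  set i1 : Fin t := ⟨1, by omega⟩ with hi1
  set i2 : Fin t := ⟨2, by omega⟩ with hi2
  have h01 : i0 ≠ i1 := by simp [hi0, hi1, Fin.ext_iff]
  have h02 : i0 ≠ i2 := by simp [hi0, hi2, Fin.ext_iff]
  have h12 : i1 ≠ i2 := by simp [hi1, hi2, Fin.ext_iff]
  clear_value i0 i1 i2
  refine planes_core hQ h2 D h (fun π : Fin t × Bool => π.1) b1 b2 hb1D hb2D ?_ ?_ ?_ ?_ ?_ ?_ ?_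
    (i0, false) (i0, true) (i1, false) (i2, false) (by simp) rfl h01 h02 h12
  · rintro ⟨i, c⟩; cases c
    · rw [b1f]; exact (fac i).1
    · rw [b1t]; exact (fac i).2.2.1
  · rintro ⟨i, c⟩; cases c
    · rw [b2f]; exact (fac i).2.1
    · rw [b2t]; exact (fac i).2.2.2.1
  · rintro ⟨i, c⟩; cases c
    · rw [b1f, b2f]; exact (fac i).2.2.2.2.1
    · rw [b1t, b2t]; exact (fac i).2.2.2.2.2.1
  · rintro ⟨i, c⟩ ⟨j, c'⟩ hne
    by_cases hij : i = j
    · subst hij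
      cases c <;> cases c'
      · exact absurd rfl hne
      · rw [b1f, b1t]; exact (fac i).2.2.2.2.2.2.1
      · rw [b1f, b1t, pol_comm]; exact (fac i).2.2.2.2.2.2.1
      · exact absurd rfl hne
    · exact o hij _ (hb1D (i, c)) _ (hb1D (j, c'))
  · rintro ⟨i, c⟩ ⟨j, c'⟩ hne
    by_cases hij : i = j
    · subst hij
      cases c <;> cases c'
      · exact absurd rfl hne
      · rw [b1f, b2t]; exact (fac i).2.2.2.2.2.2.2.1
      · rw [b1t, b2f, pol_comm]; exact (fac i).2.2.2.2.2.2.2.2.1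
      · exact absurd rfl hne
    · exact o hij _ (hb1D (i, c)) _ (hb2D (j, c'))
  · rintro ⟨i, c⟩ ⟨j, c'⟩ hne
    by_cases hij : i = j
    · subst hij
      cases c <;> cases c'
      · exact absurd rfl hne
      · rw [b2f, b2t]; exact (fac i).2.2.2.2.2.2.2.2.2.1
      · rw [b2f, b2t, pol_comm]; exact (fac i).2.2.2.2.2.2.2.2.2.1
      · exact absurd rfl hne
    · exact o hij _ (hb2D (i, c)) _ (hb2D (j, c'))
  · intro i v hv hQv
    rcases (fac i).2.2.2.2.2.2.2.2.2.2 v hv hQv with hh | hh | hh | hh | hh | hh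
    · exact ⟨(i, false), Or.inl (by rw [b1f]; exact hh)⟩
    · exact ⟨(i, false), Or.inr (Or.inl (by rw [b2f]; exact hh))⟩
    · exact ⟨(i, false), Or.inr (Or.inr (by rw [b1f, b2f]; exact hh))⟩
    · exact ⟨(i, true), Or.inl (by rw [b1t]; exact hh)⟩
    · exact ⟨(i, true), Or.inr (Or.inl (by rw [b2t]; exact hh))⟩
    · exact ⟨(i, true), Or.inr (Or.inr (by rw [b1t, b2t]; exact hh))⟩

end Cfsg.Agent.Lib.Helper94
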