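import Cfsg.Agent.Lib.Helper94.Frame3

set_option autoImplicit false

namespace Cfsg.Agent.Lib.Helper94

open scoped Matrix
open Cfsg

set_option linter.unusedSectionVars false
set_option linter.unnecessarySimpa false
set_option linter.style.haveILetI false
set_option linter.unusedVariables false

variable {ι : Type} [Fintype ι] [DecidableEq ι] {F : Type*} [Field F]

/-- core lemma for orthogonal decompositions in odd characteristic whose blocks contain a vector `a` of norm `δ` such that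
every vector of norm `δ` of the block is `±a` or orthogonal to `a`; four blocks are needed. -/
lemma frame_core1 [Fintype F] {Q : (ι → F) → F} (hQ : Geo.IsNondegenerateQuadraticForm Q)
    (h2 : (2 : F) ≠ 0) {t : ℕ} (D : Fin t → Submodule F (ι → F)) (h : DirectSum.IsInternal D)
    (horth : ∀ i j, i ≠ j → Geo.AreOrthogonalFor (QuadraticMap.polar Q) (D i) (D j))
    (i0 i1 i2 i3 : Fin t) (h01 : i0 ≠ i1) (h02 : i0 ≠ i2) (h03 : i0 ≠ i3) (h12 : i1 ≠ i2) (h13 : i1 ≠ i3)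
    (h23 : i2 ≠ i3) (δ : F) (hδ : δ ≠ 0)
    (a0 a1 a2 a3 b0 : ι → F) (ha0 : a0 ∈ D i0) (ha1 : a1 ∈ D i1) (ha2 : a2 ∈ D i2) (ha3 : a3 ∈ D i3)
    (hQa0 : Q a0 = δ) (hQa1 : Q a1 = δ) (hQa2 : Q a2 = δ) (hQa3 : Q a3 = δ)
    (hs0 : ∀ v ∈ D i0, Q v = δ → v = a0 ∨ v = -a0 ∨ pol Q v a0 = 0)
    (hs1 : ∀ v ∈ D i1, Q v = δ → v = a1 ∨ v = -a1 ∨ pol Q v a1 = 0)
    (hs2 : ∀ v ∈ D i2, Q v = δ → v = a2 ∨ v = -a2 ∨ pol Q v a2 = 0)
    (hb0 : b0 ∈ D i0) (hb0ne : b0 ≠ 0) (hb0a0 : pol Q b0 a0 = 0) :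
    ∃ K : Subgroup (Matrix.GeneralLinearGroup ι F),
      Geo.decompositionStabilizer D ⊓ Geo.omegaGL Q < K ∧ K < Geo.omegaGL Q := by
  have h2δ : 2 * δ ≠ 0 := mul_ne_zero h2 hδ
  have h4δ : 4 * δ ≠ 0 := by
    have : (4 : F) = 2 * 2 := by norm_num
    rw [this]; exact mul_ne_zero (mul_ne_zero h2 h2) hδ
  have o : ∀ {i j : Fin t}, i ≠ j → ∀ x ∈ D i, ∀ y ∈ D j, pol Q x y = 0 := fun hij x hx y hy => horth _ _ hij x hx y hy
  have hs : ∀ {x : ι → F}, Q x = δ → pol Q x x = 2 * δ := fun hx => by rw [pol_self hQ, hx]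
  -- the set S
  set S : Set (ι → F) := {v | ∃ i, v ∈ D i ∧ Q v = δ} with hS
  have hSneg : ∀ v ∈ S, -v ∈ S := by
    rintro v ⟨i, hv, hQv⟩
    exact ⟨i, (D i).neg_mem hv, by rw [Q_neg hQ, hQv]⟩
  -- the element g₀
  have hQu : Q (a0 - a1) = 2 * δ := by rw [Q_sub hQ, hQa0, hQa1, o h01 a0 ha0 a1 ha1]; ring
  have hQw : Q (a0 - a2) = 2 * δ := by rw [Q_sub hQ, hQa0, hQa2, o h02 a0 ha0 a2 ha2]; ring
  have hQu0 : Q (a0 - a1) ≠ 0 := by rw [hQu]; exact h2δ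
  have hQw0 : Q (a0 - a2) ≠ 0 := by rw [hQw]; exact h2δ
  have hQuw : Q ((a0 - a1) - (a0 - a2)) ≠ 0 := by
    have : (a0 - a1) - (a0 - a2) = a2 - a1 := by abel
    rw [this, Q_sub hQ, hQa2, hQa1, o h12.symm a2 ha2 a1 ha1]
    have : δ + δ - 0 = 2 * δ := by ring
    rw [this]; exact h2δ
  obtain ⟨g₀, hg₀⟩ : ∃ g₀, g₀ = rGL hQ (a0 - a1) hQu0 * rGL hQ (a0 - a2) hQw0 := ⟨_, rfl⟩
  have hg₀Ω : g₀ ∈ Geo.omegaGL Q := by
    rw [hg₀]; exact rr_mem_omega hQ _ _ hQu0 hQw0 (by rw [hQw, hQu]) hQuw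
  have hg₀a0 : (g₀ : Matrix ι ι F) *ᵥ a0 = a2 := by
    rw [hg₀, Units.val_mul, ← Matrix.mulVec_mulVec, rGL_swap_left hQ a0 a2 (by rw [hQa2, hQa0]) hQw0,
      rGL_fix hQ _ _ hQu0 (by rw [pol_sub_right hQ, o h02.symm a2 ha2 a0 ha0, o h12.symm a2 ha2 a1 ha1, sub_zero])]
  have hg₀a2 : (g₀ : Matrix ι ι F) *ᵥ a2 = a1 := by
    rw [hg₀, Units.val_mul, ← Matrix.mulVec_mulVec, rGL_swap_right hQ a0 a2 (by rw [hQa2, hQa0]) hQw0,
      rGL_swap_left hQ a0 a1 (by rw [hQa1, hQa0]) hQu0]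
  have hg₀a1 : (g₀ : Matrix ι ι F) *ᵥ a1 = a0 := by
    rw [hg₀, Units.val_mul, ← Matrix.mulVec_mulVec,
      rGL_fix hQ _ _ hQw0 (by rw [pol_sub_right hQ, o h01.symm a1 ha1 a0 ha0, o h12 a1 ha1 a2 ha2, sub_zero]),
      rGL_swap_right hQ a0 a1 (by rw [hQa1, hQa0]) hQu0]
  have hg₀fix : ∀ x : ι → F, pol Q x a0 = 0 → pol Q x a1 = 0 → pol Q x a2 = 0 →
      (g₀ : Matrix ι ι F) *ᵥ x = x := by
    intro x h0 h1 h2'
    rw [hg₀, Units.val_mul, ← Matrix.mulVec_mulVec,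
      rGL_fix hQ _ _ hQw0 (by rw [pol_sub_right hQ, h0, h2', sub_zero]),
      rGL_fix hQ _ _ hQu0 (by rw [pol_sub_right hQ, h0, h1, sub_zero])]
  have hg₀fwd : ∀ v ∈ S, (g₀ : Matrix ι ι F) *ᵥ v ∈ S := by
    rintro v ⟨i, hv, hQv⟩
    by_cases hi0 : i = i0
    · subst hi0
      rcases hs0 v hv hQv with rfl | rfl | hp
      · rw [hg₀a0]; exact ⟨i2, ha2, hQa2⟩
      · rw [Matrix.mulVec_neg, hg₀a0]; exact hSneg _ ⟨i2, ha2, hQa2⟩
      · rw [hg₀fix v hp (o h01 v hv a1 ha1) (o h02 v hv a2 ha2)]; exact ⟨i, hv, hQv⟩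
    · by_cases hi1 : i = i1
      · subst hi1
        rcases hs1 v hv hQv with rfl | rfl | hp
        · rw [hg₀a1]; exact ⟨i0, ha0, hQa0⟩
        · rw [Matrix.mulVec_neg, hg₀a1]; exact hSneg _ ⟨i0, ha0, hQa0⟩
        · rw [hg₀fix v (o hi0 v hv a0 ha0) hp (o h12 v hv a2 ha2)]; exact ⟨i, hv, hQv⟩
      · by_cases hi2 : i = i2
        · subst hi2
          rcases hs2 v hv hQv with rfl | rfl | hp
          · rw [hg₀a2]; exact ⟨i1, ha1, hQa1⟩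
          · rw [Matrix.mulVec_neg, hg₀a2]; exact hSneg _ ⟨i1, ha1, hQa1⟩
          · rw [hg₀fix v (o hi0 v hv a0 ha0) (o hi1 v hv a1 ha1) hp]; exact ⟨i, hv, hQv⟩
        · rw [hg₀fix v (o hi0 v hv a0 ha0) (o hi1 v hv a1 ha1) (o hi2 v hv a2 ha2)]
          exact ⟨i, hv, hQv⟩
  have ha0ne : a0 ≠ 0 := by
    intro h0; rw [h0, Q_zero hQ] at hQa0; exact hδ hQa0.symm
  have ha2ne : a2 ≠ 0 := by
    intro h0; rw [h0, Q_zero hQ] at hQa2; exact hδ hQa2.symm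
  -- the element g₁
  have hQu' : Q (a0 + a1 + a2 + a3) = 4 * δ := by
    rw [Q_add Q, Q_add Q, Q_add Q, hQa0, hQa1, hQa2, hQa3, o h01 a0 ha0 a1 ha1, pol_add_left hQ, pol_add_left hQ,
      pol_add_left hQ, o h02 a0 ha0 a2 ha2, o h12 a1 ha1 a2 ha2, o h03 a0 ha0 a3 ha3, o h13 a1 ha1 a3 ha3,
      o h23 a2 ha2 a3 ha3]
    ring
  have hQu'0 : Q (a0 + a1 + a2 + a3) ≠ 0 := by rw [hQu']; exact h4δ
  have hQ2a0 : Q ((2 : F) • a0) = 4 * δ := by rw [Q_smul hQ, hQa0]; ring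
  have hQ2a00 : Q ((2 : F) • a0) ≠ 0 := by rw [hQ2a0]; exact h4δ
  have hpu'a0 : pol Q (a0 + a1 + a2 + a3) a0 = 2 * δ := by
    rw [pol_add_left hQ, pol_add_left hQ, pol_add_left hQ, hs hQa0, o h01.symm a1 ha1 a0 ha0,
      o h02.symm a2 ha2 a0 ha0, o h03.symm a3 ha3 a0 ha0]
    ring
  have hQu'w' : Q ((a0 + a1 + a2 + a3) - (2 : F) • a0) ≠ 0 := by
    rw [Q_sub hQ, hQu', hQ2a0, pol_smul_right hQ, hpu'a0]
    have : 4 * δ + 4 * δ - 2 * (2 * δ) = 4 * δ := by ring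
    rw [this]; exact h4δ
  obtain ⟨g₁, hg₁⟩ : ∃ g₁, g₁ = rGL hQ (a0 + a1 + a2 + a3) hQu'0 * rGL hQ ((2 : F) • a0) hQ2a00 := ⟨_, rfl⟩
  have hg₁Ω : g₁ ∈ Geo.omegaGL Q := by
    rw [hg₁]; exact rr_mem_omega hQ _ _ hQu'0 hQ2a00 (by rw [hQ2a0, hQu']) hQu'w'
  have hpa1u' : pol Q a1 (a0 + a1 + a2 + a3) = 2 * δ := by
    rw [pol_add_right hQ, pol_add_right hQ, pol_add_right hQ, hs hQa1, o h01.symm a1 ha1 a0 ha0,
      o h12 a1 ha1 a2 ha2, o h13 a1 ha1 a3 ha3]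
    ring
  obtain ⟨c, hc⟩ : ∃ c : F, c = (4 * δ)⁻¹ * (2 * δ) := ⟨_, rfl⟩
  have hc0 : c ≠ 0 := by rw [hc]; exact mul_ne_zero (inv_ne_zero h4δ) h2δ
  have hg₁a1 : (g₁ : Matrix ι ι F) *ᵥ a1 = a1 - c • (a0 + a1 + a2 + a3) := by
    rw [hg₁, Units.val_mul, ← Matrix.mulVec_mulVec,
      rGL_fix hQ _ _ hQ2a00 (by rw [pol_smul_right hQ, o h01.symm a1 ha1 a0 ha0, mul_zero]), rGL_mulVec, hpa1u',
      hQu', ← hc]
  refine ⟨stabilizing (glToMat ι F) S ⊓ Geo.omegaGL Q, ?_, ?_⟩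
  · rw [SetLike.lt_iff_le_and_exists]
    refine ⟨?_, g₀, ?_, ?_⟩
    · intro g hg
      rw [Subgroup.mem_inf] at hg ⊢
      refine ⟨?_, hg.2⟩
      have hgi := (mem_isom g).1 (omega_le_isom hg.2)
      obtain ⟨σ, hσ⟩ := (mem_decStab' D g).1 hg.1
      apply stab_of_forward
      rintro v ⟨i, hv, hQv⟩
      refine ⟨σ i, ?_, by rw [hgi v]; exact hQv⟩
      rw [← hσ i, ← Matrix.toLin'_apply]
      exact Submodule.mem_map_of_mem hv
    · rw [Subgroup.mem_inf]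
      exact ⟨stab_of_forward S g₀ hg₀fwd, hg₀Ω⟩
    · intro hmem
      rw [Subgroup.mem_inf] at hmem
      obtain ⟨σ, hσ⟩ := (mem_decStab' D _).1 hmem.1
      have hga0 : (g₀ : Matrix ι ι F) *ᵥ a0 ∈ D (σ i0) := by
        rw [← hσ i0, ← Matrix.toLin'_apply]
        exact Submodule.mem_map_of_mem ha0
      have hgb0 : (g₀ : Matrix ι ι F) *ᵥ b0 ∈ D (σ i0) := by
        rw [← hσ i0, ← Matrix.toLin'_apply]
        exact Submodule.mem_map_of_mem hb0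
      rw [hg₀a0] at hga0
      rw [hg₀fix b0 hb0a0 (o h01 b0 hb0 a1 ha1) (o h02 b0 hb0 a2 ha2)] at hgb0
      have e1 := eq_of_mem_mem D h hga0 ha2 ha2ne
      have e2 := eq_of_mem_mem D h hgb0 hb0 hb0ne
      exact h02 (e2.symm.trans e1)
  · rw [SetLike.lt_iff_le_and_exists]
    refine ⟨inf_le_right, g₁, hg₁Ω, ?_⟩
    intro hmem
    rw [Subgroup.mem_inf] at hmem
    have hst := ((mem_stabz S _).1 hmem.1 a1).1 ⟨i1, ha1, hQa1⟩
    rw [hg₁a1] at hst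
    obtain ⟨i, hi, _⟩ := hst
    have c0 : compL D h i0 (a1 - c • (a0 + a1 + a2 + a3)) = -(c • a0) := by
      simp only [map_sub, map_add, map_smul]
      rw [compL_same D h ha0, compL_ne D h ha1 h01.symm, compL_ne D h ha2 h02.symm, compL_ne D h ha3 h03.symm]
      simp
    have c2 : compL D h i2 (a1 - c • (a0 + a1 + a2 + a3)) = -(c • a2) := by
      simp only [map_sub, map_add, map_smul]
      rw [compL_same D h ha2, compL_ne D h ha1 h12, compL_ne D h ha0 h02, compL_ne D h ha3 h23.symm]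
      simp
    have n0 : -(c • a0) ≠ 0 := neg_ne_zero.mpr (smul_ne_zero hc0 ha0ne)
    have n2 : -(c • a2) ≠ 0 := neg_ne_zero.mpr (smul_ne_zero hc0 ha2ne)
    have e0 : i = i0 := by
      by_contra hne
      rw [compL_ne D h hi hne] at c0
      exact n0 c0.symm
    have e2 : i = i2 := by
      by_contra hne
      rw [compL_ne D h hi hne] at c2
      exact n2 c2.symm
    exact h02 (e0.symm.trans e2)

end Cfsg.Agent.Lib.Helper94
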