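import Cfsg.Agent.Lib.Helper94.PlusPlane3

set_option autoImplicit false

namespace Cfsg.Agent.Lib.Helper94

open scoped Matrix
open Cfsg

set_option linter.unusedSectionVars false
set_option linter.unnecessarySimpa false
set_option linter.style.haveILetI false
set_option linter.unusedVariables false

variable {ι : Type} [Fintype ι] [DecidableEq ι] {F : Type*} [Field F] [Fintype F]

lemma f2_cases (hq : Fintype.card F = 2) (a : F) : a = 0 ∨ a = 1 := by
  classical
  by_contra hcon
  push Not at hcon
  have h3 : ({0, 1, a} : Finset F).card = 3 := by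
    rw [Finset.card_insert_of_notMem, Finset.card_insert_of_notMem, Finset.card_singleton]
    · simpa using hcon.2.symm
    · simp only [Finset.mem_insert, Finset.mem_singleton, not_or]
      exact ⟨zero_ne_one, hcon.1.symm⟩
  have := Finset.card_le_univ ({0, 1, a} : Finset F)
  omega

lemma f2_two (hq : Fintype.card F = 2) : (2 : F) = 0 := by
  have := card_nsmul_eq_zero (G := F) (x := 1)
  rw [hq] at this
  simpa using this

/-- core lemma: hyperbolic plane over the field with two elements, with a singular `s` and a nonsingular `z`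
orthogonal to it and paired to one. -/
lemma plusPlane2_core {Q : (ι → F) → F} (hQ : Geo.IsNondegenerateQuadraticForm Q) (hq : Fintype.card F = 2)
    (W : Submodule F (ι → F)) (e e' s z : ι → F) (he : e ∈ W) (he' : e' ∈ W)
    (hspan : ∀ v ∈ W, ∃ α β : F, v = α • e + β • e')
    (hQe : Q e = 0) (hQe' : Q e' = 0) (hee' : pol Q e e' = 1)
    (hse : pol Q s e = 0) (hse' : pol Q s e' = 0) (hze : pol Q z e = 0) (hze' : pol Q z e' = 0)
    (hQs : Q s = 0) (hQz : Q z = 1) (hsz : pol Q s z = 1) :
    ∃ K : Subgroup (Matrix.GeneralLinearGroup ι F),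
      Geo.subspaceStabilizer W ⊓ Geo.omegaGL Q < K ∧ K < Geo.omegaGL Q := by
  have h2 := f2_two hq
  have he'e : pol Q e' e = 1 := by rw [pol_comm]; exact hee'
  have hpee : pol Q e e = 0 := by rw [pol_self hQ, hQe, mul_zero]
  have hpe'e' : pol Q e' e' = 0 := by rw [pol_self hQ, hQe', mul_zero]
  have hes : pol Q e s = 0 := by rw [pol_comm]; exact hse
  have he's : pol Q e' s = 0 := by rw [pol_comm]; exact hse'
  have hez : pol Q e z = 0 := by rw [pol_comm]; exact hze
  have he'z : pol Q e' z = 0 := by rw [pol_comm]; exact hze'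
  have hzs : pol Q z s = 1 := by rw [pol_comm]; exact hsz
  set d : ι → F := e + e' with hd
  have hdW : d ∈ W := W.add_mem he he'
  have hQd : Q d = 1 := by rw [hd, Q_add Q, hQe, hQe', hee']; ring
  have hdd : pol Q d d = 0 := by rw [pol_self hQ, h2, zero_mul]
  have hzd : pol Q z d = 0 := by rw [hd, pol_add_right hQ, hze, hze', add_zero]
  have hsd : pol Q s d = 0 := by rw [hd, pol_add_right hQ, hse, hse', add_zero]
  have hdz : pol Q d z = 0 := by rw [pol_comm]; exact hzd
  have hds : pol Q d s = 0 := by rw [pol_comm]; exact hsd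
  have hed : pol Q e d = 1 := by rw [hd, pol_add_right hQ, hpee, hee', zero_add]
  have hde : pol Q d e = 1 := by rw [pol_comm]; exact hed
  -- vectors orthogonal to W lying in W vanish
  have hperp : ∀ v ∈ W, pol Q v e = 0 → pol Q v e' = 0 → v = 0 := by
    intro v hv h1 h1'
    obtain ⟨α, β, hab⟩ := hspan v hv
    have e1 : pol Q v e = β := by
      rw [hab, pol_add_left hQ, pol_smul_left hQ, pol_smul_left hQ, hpee, he'e]; ring
    have e1' : pol Q v e' = α := by
      rw [hab, pol_add_left hQ, pol_smul_left hQ, pol_smul_left hQ, hee', hpe'e']; ring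
    rw [h1] at e1; rw [h1'] at e1'
    rw [← e1, ← e1', zero_smul, zero_smul, add_zero] at hab
    exact hab
  have hzW : z ∉ W := by
    intro hz
    have := hperp z hz hze hze'
    rw [this, Q_zero hQ] at hQz
    exact zero_ne_one hQz
  have hzsW : z - s ∉ W := by
    intro hz
    have := hperp (z - s) hz (by rw [pol_sub_left hQ, hze, hse, sub_zero])
      (by rw [pol_sub_left hQ, hze', hse', sub_zero])
    have hzs' : z = s := sub_eq_zero.mp this
    rw [hzs', hQs] at hQz
    exact zero_ne_one hQz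
  set S : Set (ι → F) := {v | v ∈ W ∧ Q v = 1} with hS
  have hS_eq : ∀ v, v ∈ S ↔ v = d := by
    intro v
    constructor
    · rintro ⟨hvW, hQv⟩
      obtain ⟨α, β, rfl⟩ := hspan v hvW
      have hab : α * β = 1 := by
        rw [Q_add Q, Q_smul hQ, Q_smul hQ, hQe, hQe', pol_smul_left hQ, pol_smul_right hQ, hee'] at hQv
        linear_combination hQv
      rcases f2_cases hq α with rfl | rfl
      · rw [zero_mul] at hab; exact absurd hab zero_ne_one
      · rw [one_mul] at hab; subst hab; rw [hd]; simp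
    · rintro rfl
      exact ⟨hdW, hQd⟩
  -- Q-values
  have hQds : Q (d + s) = 1 := by rw [Q_add Q, hQd, hQs, hds]; ring
  have hQez : Q (e + z) = 1 := by rw [Q_add Q, hQe, hQz, hez]; ring
  have hQz0 : Q z ≠ 0 := by rw [hQz]; exact one_ne_zero
  have hQd0 : Q d ≠ 0 := by rw [hQd]; exact one_ne_zero
  have hQds0 : Q (d + s) ≠ 0 := by rw [hQds]; exact one_ne_zero
  have hQez0 : Q (e + z) ≠ 0 := by rw [hQez]; exact one_ne_zero
  have hQzds : Q (z - (d + s)) ≠ 0 := by
    rw [Q_sub hQ, hQz, hQds, pol_add_right hQ, hzd, hzs]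
    intro h; apply one_ne_zero (α := F); linear_combination h
  have hQezd : Q (e + z - d) ≠ 0 := by
    rw [Q_sub hQ, hQez, hQd, pol_add_left hQ, hed, hzd]
    intro h; apply one_ne_zero (α := F); linear_combination h
  refine ⟨stabilizing (glToMat ι F) S ⊓ Geo.omegaGL Q, ?_, ?_⟩
  · rw [SetLike.lt_iff_le_and_exists]
    refine ⟨?_, rGL hQ z hQz0 * rGL hQ (d + s) hQds0, ?_, ?_⟩
    · intro g hg
      rw [Subgroup.mem_inf] at hg ⊢
      refine ⟨?_, hg.2⟩
      have hgi := (mem_isom g).1 (omega_le_isom hg.2)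
      have hgW := (mem_subStab W g).1 hg.1
      rw [mem_stabz]
      intro v
      constructor
      · rintro ⟨hvW, hQv⟩
        exact ⟨(hgW v).1 hvW, by rw [hgi v]; exact hQv⟩
      · rintro ⟨hvW, hQv⟩
        exact ⟨(hgW v).2 hvW, by rw [← hgi v]; exact hQv⟩
    · rw [Subgroup.mem_inf]
      refine ⟨?_, rr_mem_omega hQ z (d + s) hQz0 hQds0 (by rw [hQds, hQz]) hQzds⟩
      have hgd : ((rGL hQ z hQz0 * rGL hQ (d + s) hQds0 : Matrix.GeneralLinearGroup ι F) : Matrix ι ι F) *ᵥ d
          = d := by
        rw [Units.val_mul, ← Matrix.mulVec_mulVec, rGL_mulVec hQ (d + s), pol_add_right hQ, hdd, hds, add_zero,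
          mul_zero, zero_smul, sub_zero, rGL_mulVec, hdz, mul_zero, zero_smul, sub_zero]
      rw [mem_stabz]
      intro v
      rw [hS_eq, hS_eq]
      constructor
      · rintro rfl; exact hgd
      · intro h; exact mulVec_injective' _ (h.trans hgd.symm)
    · intro hmem
      rw [Subgroup.mem_inf] at hmem
      have hgW := (mem_subStab W _).1 hmem.1 e
      have hge : ((rGL hQ z hQz0 * rGL hQ (d + s) hQds0 : Matrix.GeneralLinearGroup ι F) : Matrix ι ι F) *ᵥ e
          = e - (d + s) + z := by
        rw [Units.val_mul, ← Matrix.mulVec_mulVec, rGL_mulVec hQ (d + s), pol_add_right hQ, hed, hes, add_zero,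
          hQds, inv_one, one_mul, one_smul, rGL_mulVec, pol_sub_left hQ, pol_add_left hQ, hez, hdz, hsz, hQz,
          inv_one]
        have : (1 * (0 - (0 + 1)) : F) = -1 := by ring
        rw [this, neg_smul, one_smul, sub_neg_eq_add]
      rw [hge] at hgW
      apply hzsW
      have h1 := hgW.1 he
      have h2' : z - s = (e - (d + s) + z) - e + d := by abel
      rw [h2']
      exact W.add_mem (W.sub_mem h1 he) hdW
  · rw [SetLike.lt_iff_le_and_exists]
    refine ⟨inf_le_right, rGL hQ (e + z) hQez0 * rGL hQ d hQd0,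
      rr_mem_omega hQ (e + z) d hQez0 hQd0 (by rw [hQd, hQez]) hQezd, ?_⟩
    intro hmem
    rw [Subgroup.mem_inf] at hmem
    have hst := ((mem_stabz S _).1 hmem.1 d).1 ⟨hdW, hQd⟩
    have hgd : ((rGL hQ (e + z) hQez0 * rGL hQ d hQd0 : Matrix.GeneralLinearGroup ι F) : Matrix ι ι F) *ᵥ d
        = d - (e + z) := by
      rw [Units.val_mul, ← Matrix.mulVec_mulVec, rGL_mulVec hQ d, hdd, mul_zero, zero_smul, sub_zero,
        rGL_mulVec, pol_add_right hQ, hde, hdz, add_zero, hQez, inv_one, one_mul, one_smul]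
    rw [hgd] at hst
    apply hzW
    have h1 : d - (e + z) ∈ W := hst.1
    have h2' : z = d - e - (d - (e + z)) := by abel
    rw [h2']
    exact W.sub_mem (W.sub_mem hdW he) h1

section proj
variable {Q : (ι → F) → F} (hQ : Geo.IsNondegenerateQuadraticForm Q)
include hQ

/-- projection away from a pair `a, b` with `pol a b = 1`, `pol a a = 0 = pol b b` -/
lemma proj_pair (a b : ι → F) (hab : pol Q a b = 1) (haa : pol Q a a = 0) (hbb : pol Q b b = 0)
    (v : ι → F) :
    pol Q (v - pol Q v b • a - pol Q v a • b) a = 0 ∧ pol Q (v - pol Q v b • a - pol Q v a • b) b = 0 := by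
  have hba : pol Q b a = 1 := by rw [pol_comm]; exact hab
  constructor
  · rw [pol_sub_left hQ, pol_sub_left hQ, pol_smul_left hQ, pol_smul_left hQ, haa, hba]; ring
  · rw [pol_sub_left hQ, pol_sub_left hQ, pol_smul_left hQ, pol_smul_left hQ, hab, hbb]; ring

lemma proj_pair_other (a b c : ι → F) (hca : pol Q c a = 0) (hcb : pol Q c b = 0) (v : ι → F) :
    pol Q (v - pol Q v b • a - pol Q v a • b) c = pol Q v c := by
  rw [pol_sub_left hQ, pol_sub_left hQ, pol_smul_left hQ, pol_smul_left hQ, pol_comm Q a c, pol_comm Q b c,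
    hca, hcb]
  ring

end proj

/-- existence of a singular and a nonsingular vector, paired to one, orthogonal to a hyperbolic pair, over the
field with two elements in dimension at least five -/
lemma exists_sz {Q : (ι → F) → F} (hQ : Geo.IsNondegenerateQuadraticForm Q) (hq : Fintype.card F = 2)
    (hcard : 5 ≤ Fintype.card ι) (e e' : ι → F)
    (hQe : Q e = 0) (hQe' : Q e' = 0) (hee' : pol Q e e' = 1) :
    ∃ s z : ι → F, pol Q s e = 0 ∧ pol Q s e' = 0 ∧ pol Q z e = 0 ∧ pol Q z e' = 0 ∧
      Q s = 0 ∧ Q z = 1 ∧ pol Q s z = 1 := by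
  have h2 := f2_two hq
  have hpol_self : ∀ v : ι → F, pol Q v v = 0 := fun v => by rw [pol_self hQ, h2, zero_mul]
  have hQ01 : ∀ v : ι → F, Q v = 0 ∨ Q v = 1 := fun v => f2_cases hq (Q v)
  have hpee := hpol_self e
  have hpe'e' := hpol_self e'
  -- a vector outside a span of at most four vectors
  have hout : ∀ a b c d : ι → F, ∃ v : ι → F, v ∉ Submodule.span F ({a, b, c, d} : Set (ι → F)) := by
    intro a b c d
    classical
    by_contra hcon
    push Not at hcon
    have htop : Submodule.span F ({a, b, c, d} : Set (ι → F)) = ⊤ := eq_top_iff.mpr fun x _ => hcon x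
    have h1 : Module.finrank F (Submodule.span F (({a, b, c, d} : Finset (ι → F)) : Set (ι → F))) ≤
        ({a, b, c, d} : Finset (ι → F)).card := finrank_span_finset_le_card _
    have h2' : ({a, b, c, d} : Finset (ι → F)).card ≤ 4 := Finset.card_le_four
    have h3 : ((({a, b, c, d} : Finset (ι → F)) : Set (ι → F))) = ({a, b, c, d} : Set (ι → F)) := by
      simp
    rw [h3, htop, finrank_top, Module.finrank_fintype_fun_eq_card] at h1
    omega
  -- first pair x, y orthogonal to e, e'
  obtain ⟨x₀, hx₀⟩ := hout e e' 0 0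
  set x : ι → F := x₀ - pol Q x₀ e' • e - pol Q x₀ e • e' with hx
  have hxe : pol Q x e = 0 := (proj_pair hQ e e' hee' hpee hpe'e' x₀).1
  have hxe' : pol Q x e' = 0 := (proj_pair hQ e e' hee' hpee hpe'e' x₀).2
  have hx0 : x ≠ 0 := by
    intro h0
    apply hx₀
    have : x₀ = pol Q x₀ e' • e + pol Q x₀ e • e' := by
      have : x₀ - pol Q x₀ e' • e - pol Q x₀ e • e' = 0 := h0
      rw [sub_sub, sub_eq_zero] at this
      exact this
    rw [this]
    apply Submodule.add_mem
    · exact Submodule.smul_mem _ _ (Submodule.subset_span (by simp))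
    · exact Submodule.smul_mem _ _ (Submodule.subset_span (by simp))
  clear_value x
  obtain ⟨⟨y₀, hy₀⟩, _⟩ := hQ.nondegenerate x hx0
  have hy₀' : pol Q y₀ x = 1 := by
    rcases f2_cases hq (pol Q y₀ x) with h | h
    · exact absurd h hy₀
    · exact h
  set y : ι → F := y₀ - pol Q y₀ e' • e - pol Q y₀ e • e' with hy
  have hye : pol Q y e = 0 := (proj_pair hQ e e' hee' hpee hpe'e' y₀).1
  have hye' : pol Q y e' = 0 := (proj_pair hQ e e' hee' hpee hpe'e' y₀).2
  have hyx : pol Q y x = 1 := by
    rw [hy, proj_pair_other hQ e e' x hxe hxe' y₀, hy₀']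
  clear_value y
  have hxy : pol Q x y = 1 := by rw [pol_comm]; exact hyx
  rcases hQ01 x with hQx | hQx <;> rcases hQ01 y with hQy | hQy
  · -- Q x = 0, Q y = 0
    refine ⟨x, x + y, hxe, hxe', ?_, ?_, hQx, ?_, ?_⟩
    · rw [pol_add_left hQ, hxe, hye, add_zero]
    · rw [pol_add_left hQ, hxe', hye', add_zero]
    · rw [Q_add Q, hQx, hQy, hxy]; ring
    · rw [pol_add_right hQ, hpol_self, hxy, zero_add]
  · exact ⟨x, y, hxe, hxe', hye, hye', hQx, hQy, hxy⟩
  · exact ⟨y, x, hye, hye', hxe, hxe', hQy, hQx, hyx⟩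
  · -- anisotropic plane: go further out
    obtain ⟨p₀, hp₀⟩ := hout e e' x y
    set p₁ : ι → F := p₀ - pol Q p₀ e' • e - pol Q p₀ e • e' with hp₁
    have hp₁e : pol Q p₁ e = 0 := (proj_pair hQ e e' hee' hpee hpe'e' p₀).1
    have hp₁e' : pol Q p₁ e' = 0 := (proj_pair hQ e e' hee' hpee hpe'e' p₀).2
    set p : ι → F := p₁ - pol Q p₁ y • x - pol Q p₁ x • y with hp
    have hpx : pol Q p x = 0 := (proj_pair hQ x y hxy (hpol_self x) (hpol_self y) p₁).1
    have hpy : pol Q p y = 0 := (proj_pair hQ x y hxy (hpol_self x) (hpol_self y) p₁).2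
    have hpe : pol Q p e = 0 := by
      rw [hp, proj_pair_other hQ x y e (by rw [pol_comm]; exact hxe) (by rw [pol_comm]; exact hye) p₁, hp₁e]
    have hpe' : pol Q p e' = 0 := by
      rw [hp, proj_pair_other hQ x y e' (by rw [pol_comm]; exact hxe') (by rw [pol_comm]; exact hye') p₁, hp₁e']
    have hp0 : p ≠ 0 := by
      intro h0
      apply hp₀
      have e1 : p₁ = pol Q p₁ y • x + pol Q p₁ x • y := by
        have : p₁ - pol Q p₁ y • x - pol Q p₁ x • y = 0 := h0
        rw [sub_sub, sub_eq_zero] at this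
        exact this
      have e2 : p₀ = p₁ + (pol Q p₀ e' • e + pol Q p₀ e • e') := by
        rw [hp₁]; abel
      rw [e2, e1]
      apply Submodule.add_mem
      · apply Submodule.add_mem
        · exact Submodule.smul_mem _ _ (Submodule.subset_span (by simp))
        · exact Submodule.smul_mem _ _ (Submodule.subset_span (by simp))
      · apply Submodule.add_mem
        · exact Submodule.smul_mem _ _ (Submodule.subset_span (by simp))
        · exact Submodule.smul_mem _ _ (Submodule.subset_span (by simp))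
    clear_value p
    rcases hQ01 p with hQp | hQp
    · -- Q p = 0: find q with pol p q = 1
      obtain ⟨⟨q₀, hq₀⟩, _⟩ := hQ.nondegenerate p hp0
      have hq₀' : pol Q q₀ p = 1 := by
        rcases f2_cases hq (pol Q q₀ p) with h | h
        · exact absurd h hq₀
        · exact h
      set q : ι → F := q₀ - pol Q q₀ e' • e - pol Q q₀ e • e' with hqd
      have hqe : pol Q q e = 0 := (proj_pair hQ e e' hee' hpee hpe'e' q₀).1
      have hqe' : pol Q q e' = 0 := (proj_pair hQ e e' hee' hpee hpe'e' q₀).2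
      have hqp : pol Q q p = 1 := by
        rw [hqd, proj_pair_other hQ e e' p hpe hpe' q₀, hq₀']
      clear_value q
      have hpq : pol Q p q = 1 := by rw [pol_comm]; exact hqp
      rcases hQ01 q with hQq | hQq
      · refine ⟨p, p + q, hpe, hpe', ?_, ?_, hQp, ?_, ?_⟩
        · rw [pol_add_left hQ, hpe, hqe, add_zero]
        · rw [pol_add_left hQ, hpe', hqe', add_zero]
        · rw [Q_add Q, hQp, hQq, hpq]; ring
        · rw [pol_add_right hQ, hpol_self, hpq, zero_add]
      · exact ⟨p, q, hpe, hpe', hqe, hqe', hQp, hQq, hpq⟩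
    · -- Q p = 1: s = p + y, z = x
      refine ⟨p + y, x, ?_, ?_, hxe, hxe', ?_, hQx, ?_⟩
      · rw [pol_add_left hQ, hpe, hye, add_zero]
      · rw [pol_add_left hQ, hpe', hye', add_zero]
      · rw [Q_add Q, hQp, hQy, hpy]; linear_combination h2
      · rw [pol_add_left hQ, hpx, hyx, zero_add]

/-- over the field with two elements the stabiliser in Ω of a plus-type plane is not maximal (dimension ≥ 5) -/
theorem plusPlane2 {Q : (ι → F) → F} (hQ : Geo.IsNondegenerateQuadraticForm Q) (hq : Fintype.card F = 2)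
    (hcard : 5 ≤ Fintype.card ι)
    (W : Submodule F (ι → F)) (hdim : Module.finrank F W = 2)
    (hW : Geo.IsNondegenerateOn (QuadraticMap.polar Q) W) (hplus : Geo.IsPlusTypeOn Q W) :
    ∃ K : Subgroup (Matrix.GeneralLinearGroup ι F),
      Geo.subspaceStabilizer W ⊓ Geo.omegaGL Q < K ∧ K < Geo.omegaGL Q := by
  obtain ⟨e, e', he, he', hQe, hQe', hee', hspan⟩ := exists_hyp_pair hQ W hdim hW hplus
  obtain ⟨s, z, hse, hse', hze, hze', hQs, hQz, hsz⟩ := exists_sz hQ hq hcard e e' hQe hQe' hee'
  exact plusPlane2_core hQ hq W e e' s z he he' hspan hQe hQe' hee' hse hse' hze hze' hQs hQz hsz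

end Cfsg.Agent.Lib.Helper94
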