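import Cfsg.Agent.Lib.Helper94.DecompUtil
import Cfsg.Agent.Lib.Helper94.PlusPlane2

set_option autoImplicit false

namespace Cfsg.Agent.Lib.Helper94

open scoped Matrix
open Cfsg

set_option linter.unusedSectionVars false
set_option linter.unnecessarySimpa false
set_option linter.style.haveILetI false
set_option linter.unusedVariables false

variable {ι : Type} [Fintype ι] [DecidableEq ι] {F : Type*} [Field F]

lemma rGL_one {Q : (ι → F) → F} (hQ : Geo.IsNondegenerateQuadraticForm Q) (u : ι → F) (hu : Q u ≠ 0)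
    (hu1 : Q u = 1) (x : ι → F) : (rGL hQ u hu : Matrix ι ι F) *ᵥ x = x - pol Q x u • u := by
  rw [rGL_mulVec, hu1, inv_one, one_mul]

lemma rGL_mul_self {Q : (ι → F) → F} (hQ : Geo.IsNondegenerateQuadraticForm Q) (u : ι → F) (hu : Q u ≠ 0) :
    rGL hQ u hu * rGL hQ u hu = 1 := by
  conv_lhs => rw [← rGL_inv hQ u hu]
  exact inv_mul_cancel _

/-- a product of two reflections of the same norm lies in `Ω` provided there is an intermediate vector -/
lemma rr_mem_omega' {Q : (ι → F) → F} (hQ : Geo.IsNondegenerateQuadraticForm Q) (u w z : ι → F)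
    (hu : Q u ≠ 0) (hw : Q w ≠ 0) (hz : Q z ≠ 0) (huz : Q z = Q u) (hzw : Q w = Q z)
    (hd1 : Q (u - z) ≠ 0) (hd2 : Q (z - w) ≠ 0) :
    rGL hQ u hu * rGL hQ w hw ∈ Geo.omegaGL Q := by
  have h1 := rr_mem_omega hQ u z hu hz huz hd1
  have h2 := rr_mem_omega hQ z w hz hw hzw hd2
  have := mul_mem h1 h2
  have e : rGL hQ u hu * rGL hQ z hz * (rGL hQ z hz * rGL hQ w hw) = rGL hQ u hu * rGL hQ w hw := by
    rw [mul_assoc, ← mul_assoc (rGL hQ z hz), rGL_mul_self, one_mul]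
  rwa [e] at this

/-- decompositions into hyperbolic planes over the field with two elements -/
theorem decomp2_plus_two [Fintype F] {Q : (ι → F) → F} (hQ : Geo.IsNondegenerateQuadraticForm Q)
    (hq : Fintype.card F = 2) {t : ℕ} (D : Fin t → Submodule F (ι → F))
    (hD : Geo.IsOrthogonalMDecomposition Q 2 D) (hplus : ∀ i, Geo.IsPlusTypeOn Q (D i)) (ht : 5 ≤ t) :
    ∃ K : Subgroup (Matrix.GeneralLinearGroup ι F),
      Geo.decompositionStabilizer D ⊓ Geo.omegaGL Q < K ∧ K < Geo.omegaGL Q := by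
  have h : DirectSum.IsInternal D :=
    DirectSum.isInternal_submodule_of_iSupIndep_of_iSup_eq_top hD.decomp.decomp.indep hD.decomp.decomp.iSup_eq_top
  have h2 := f2_two hq
  have h10 : (1 : F) ≠ 0 := one_ne_zero
  have hex : ∀ i, ∃ e f : ι → F, e ∈ D i ∧ f ∈ D i ∧ Q e = 0 ∧ Q f = 0 ∧ pol Q e f = 1 ∧
      ∀ v ∈ D i, ∃ α β : F, v = α • e + β • f := fun i =>
    exists_hyp_pair hQ (D i) (hD.decomp.decomp.finrank_eq i) (hD.decomp.nondegenerate i) (hplus i)
  choose e f he hf hQe hQf hef hspan using hex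
  have o : ∀ {i j : Fin t}, i ≠ j → ∀ x ∈ D i, ∀ y ∈ D j, pol Q x y = 0 :=
    fun hij x hx y hy => hD.decomp.orthogonal _ _ hij x hx y hy
  have hee : ∀ i, pol Q (e i) (e i) = 0 := fun i => by rw [pol_self hQ, hQe, mul_zero]
  have hff : ∀ i, pol Q (f i) (f i) = 0 := fun i => by rw [pol_self hQ, hQf, mul_zero]
  have hfe : ∀ i, pol Q (f i) (e i) = 1 := fun i => by rw [pol_comm]; exact hef i
  obtain ⟨a, ha⟩ : ∃ a : Fin t → (ι → F), a = fun i => e i + f i := ⟨_, rfl⟩
  have haD : ∀ i, a i ∈ D i := fun i => by rw [ha]; exact (D i).add_mem (he i) (hf i)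
  have hQa : ∀ i, Q (a i) = 1 := fun i => by
    rw [ha]; show Q (e i + f i) = 1
    rw [Q_add Q, hQe, hQf, hef]; ring
  have haa : ∀ i j, pol Q (a i) (a j) = 0 := by
    intro i j
    by_cases hij : i = j
    · subst hij; rw [pol_self hQ, h2, zero_mul]
    · exact o hij _ (haD i) _ (haD j)
  have hea : ∀ i, pol Q (e i) (a i) = 1 := fun i => by
    rw [ha]; show pol Q (e i) (e i + f i) = 1
    rw [pol_add_right hQ, hee, hef, zero_add]
  have hfa : ∀ i, pol Q (f i) (a i) = 1 := fun i => by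
    rw [ha]; show pol Q (f i) (e i + f i) = 1
    rw [pol_add_right hQ, hff, hfe, add_zero]
  have hane : ∀ i, a i ≠ 0 := fun i h0 => by
    have := hQa i; rw [h0, Q_zero hQ] at this; exact h10 this.symm
  have hene : ∀ i, e i ≠ 0 := fun i h0 => by
    have := hef i; rw [h0, pol_zero_left hQ] at this; exact h10 this.symm
  -- structure of the blocks
  have hstruct : ∀ i, ∀ v ∈ D i, Q v = 1 → v = a i := by
    intro i v hv hQv
    obtain ⟨α, β, rfl⟩ := hspan i v hv
    have hab : α * β = 1 := by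
      rw [Q_add Q, Q_smul hQ, Q_smul hQ, hQe, hQf, pol_smul_left hQ, pol_smul_right hQ, hef] at hQv
      linear_combination hQv
    rcases f2_cases hq α with h | h
    · rw [h, zero_mul] at hab; exact absurd hab.symm h10
    · rcases f2_cases hq β with h' | h'
      · rw [h', mul_zero] at hab; exact absurd hab.symm h10
      · rw [h, h', one_smul, one_smul, ha]
  set i0 : Fin t := ⟨0, by omega⟩ with hi0
  set i1 : Fin t := ⟨1, by omega⟩ with hi1
  set i2 : Fin t := ⟨2, by omega⟩ with hi2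
  set i3 : Fin t := ⟨3, by omega⟩ with hi3
  set i4 : Fin t := ⟨4, by omega⟩ with hi4
  have h01 : i0 ≠ i1 := by simp [hi0, hi1, Fin.ext_iff]
  have h02 : i0 ≠ i2 := by simp [hi0, hi2, Fin.ext_iff]
  have h03 : i0 ≠ i3 := by simp [hi0, hi3, Fin.ext_iff]
  have h04 : i0 ≠ i4 := by simp [hi0, hi4, Fin.ext_iff]
  have h12 : i1 ≠ i2 := by simp [hi1, hi2, Fin.ext_iff]
  have h13 : i1 ≠ i3 := by simp [hi1, hi3, Fin.ext_iff]
  have h23 : i2 ≠ i3 := by simp [hi2, hi3, Fin.ext_iff]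
  clear_value i0 i1 i2 i3 i4
  set S : Set (ι → F) := {v | ∃ i, v ∈ D i ∧ Q v = 1} with hS
  -- the vectors x, y, z
  obtain ⟨x, hx⟩ : ∃ x, x = a i0 + a i1 + a i2 := ⟨_, rfl⟩
  obtain ⟨y, hy⟩ : ∃ y, y = a i0 + a i1 + a i3 := ⟨_, rfl⟩
  obtain ⟨z, hz⟩ : ∃ z, z = e i0 + a i4 := ⟨_, rfl⟩
  have hax : ∀ i, pol Q (a i) x = 0 := fun i => by
    rw [hx, pol_add_right hQ, pol_add_right hQ, haa, haa, haa]; ring
  have hay : ∀ i, pol Q (a i) y = 0 := fun i => by
    rw [hy, pol_add_right hQ, pol_add_right hQ, haa, haa, haa]; ring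
  have hQx : Q x = 1 := by
    rw [hx, Q_add Q, Q_add Q, hQa, hQa, hQa, haa, pol_add_left hQ, haa, haa]
    linear_combination h2
  have hQy : Q y = 1 := by
    rw [hy, Q_add Q, Q_add Q, hQa, hQa, hQa, haa, pol_add_left hQ, haa, haa]
    linear_combination h2
  have he0a : ∀ j, j ≠ i0 → pol Q (e i0) (a j) = 0 := fun j hj => o (Ne.symm hj) _ (he i0) _ (haD j)
  have hQz : Q z = 1 := by
    rw [hz, Q_add Q, hQe, hQa, he0a i4 h04.symm]; ring
  have he0x : pol Q (e i0) x = 1 := by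
    rw [hx, pol_add_right hQ, pol_add_right hQ, hea, he0a i1 h01.symm, he0a i2 h02.symm]; ring
  have he0y : pol Q (e i0) y = 1 := by
    rw [hy, pol_add_right hQ, pol_add_right hQ, hea, he0a i1 h01.symm, he0a i3 h03.symm]; ring
  have hxz : pol Q x z = 1 := by
    rw [hz, pol_add_right hQ, pol_comm Q x (a i4), hax, pol_comm Q x (e i0), he0x]; ring
  have hzy : pol Q z y = 1 := by
    rw [hz, pol_add_left hQ, hay, he0y]; ring
  have hxy : pol Q x y = 0 := by
    rw [hx, pol_add_left hQ, pol_add_left hQ, hay, hay, hay]; ring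
  have hQx0 : Q x ≠ 0 := by rw [hQx]; exact h10
  have hQy0 : Q y ≠ 0 := by rw [hQy]; exact h10
  have hQz0 : Q z ≠ 0 := by rw [hQz]; exact h10
  obtain ⟨g₀, hg₀⟩ : ∃ g₀, g₀ = rGL hQ x hQx0 * rGL hQ y hQy0 := ⟨_, rfl⟩
  have hg₀Ω : g₀ ∈ Geo.omegaGL Q := by
    rw [hg₀]
    refine rr_mem_omega' hQ x y z hQx0 hQy0 hQz0 (by rw [hQz, hQx]) (by rw [hQy, hQz]) ?_ ?_
    · rw [Q_sub hQ, hQx, hQz, hxz]; simpa using h10
    · rw [Q_sub hQ, hQy, hQz, hzy]; simpa using h10
  have hg₀fix : ∀ v : ι → F, pol Q v x = 0 → pol Q v y = 0 → (g₀ : Matrix ι ι F) *ᵥ v = v := by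
    intro v h1 h2'
    rw [hg₀, Units.val_mul, ← Matrix.mulVec_mulVec, rGL_fix hQ _ _ hQy0 h2', rGL_fix hQ _ _ hQx0 h1]
  have hg₀e : (g₀ : Matrix ι ι F) *ᵥ e i0 = e i0 - y - x := by
    rw [hg₀, Units.val_mul, ← Matrix.mulVec_mulVec, rGL_one hQ _ _ hQy, he0y, one_smul, rGL_one hQ _ _ hQx,
      pol_sub_left hQ, he0x, pol_comm Q y x, hxy, sub_zero, one_smul]
  -- g₁
  have hQu : Q (e i0 + a i1) = 1 := by
    rw [Q_add Q, hQe, hQa, he0a i1 h01.symm]; ring
  have hf0a : ∀ j, j ≠ i0 → pol Q (f i0) (a j) = 0 := fun j hj => o (Ne.symm hj) _ (hf i0) _ (haD j)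
  have hQw : Q (f i0 + a i1) = 1 := by
    rw [Q_add Q, hQf, hQa, hf0a i1 h01.symm]; ring
  have hQu0 : Q (e i0 + a i1) ≠ 0 := by rw [hQu]; exact h10
  have hQw0 : Q (f i0 + a i1) ≠ 0 := by rw [hQw]; exact h10
  have ha1e0 : pol Q (a i1) (e i0) = 0 := by rw [pol_comm]; exact he0a i1 h01.symm
  have ha1f0 : pol Q (a i1) (f i0) = 0 := by rw [pol_comm]; exact hf0a i1 h01.symm
  have huw : pol Q (e i0 + a i1) (f i0 + a i1) = 1 := by
    rw [pol_add_left hQ, pol_add_right hQ, pol_add_right hQ, hef, he0a i1 h01.symm, ha1f0, haa]; ring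
  obtain ⟨g₁, hg₁⟩ : ∃ g₁, g₁ = rGL hQ (e i0 + a i1) hQu0 * rGL hQ (f i0 + a i1) hQw0 := ⟨_, rfl⟩
  have hg₁Ω : g₁ ∈ Geo.omegaGL Q := by
    rw [hg₁]
    refine rr_mem_omega hQ _ _ hQu0 hQw0 (by rw [hQw, hQu]) ?_
    rw [Q_sub hQ, hQu, hQw, huw]; simpa using h10
  have ha0e0 : pol Q (a i0) (e i0) = 1 := by rw [pol_comm]; exact hea i0
  have ha0f0 : pol Q (a i0) (f i0) = 1 := by rw [pol_comm]; exact hfa i0
  have hg₁a : (g₁ : Matrix ι ι F) *ᵥ a i0 = e i0 - a i1 := by
    have e1 : a i0 - (f i0 + a i1) = e i0 - a i1 := by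
      rw [ha]; show e i0 + f i0 - (f i0 + (e i1 + f i1)) = e i0 - (e i1 + f i1)
      abel
    rw [hg₁, Units.val_mul, ← Matrix.mulVec_mulVec, rGL_one hQ _ _ hQw, pol_add_right hQ, ha0f0, haa, add_zero,
      one_smul, e1, rGL_fix hQ _ _ hQu0]
    rw [pol_sub_left hQ, pol_add_right hQ, pol_add_right hQ, hee, he0a i1 h01.symm, ha1e0, haa]; ring
  refine ⟨stabilizing (glToMat ι F) S ⊓ Geo.omegaGL Q, ?_, ?_⟩
  · rw [SetLike.lt_iff_le_and_exists]
    refine ⟨?_, g₀, ?_, ?_⟩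
    · intro g hg
      rw [Subgroup.mem_inf] at hg ⊢
      refine ⟨?_, hg.2⟩
      have hgi := (mem_isom g).1 (omega_le_isom hg.2)
      obtain ⟨σ, hσ⟩ := (mem_decStab' D g).1 hg.1
      apply stab_of_forward
      rintro v ⟨i, hv, hQv⟩
      refine ⟨σ i, ?_, by rw [hgi v]; exact hQv⟩
      rw [← hσ i, ← Matrix.toLin'_apply]
      exact Submodule.mem_map_of_mem hv
    · rw [Subgroup.mem_inf]
      refine ⟨stab_of_forward S g₀ ?_, hg₀Ω⟩
      rintro v ⟨i, hv, hQv⟩
      rw [hstruct i v hv hQv, hg₀fix _ (hax i) (hay i)]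
      exact ⟨i, haD i, hQa i⟩
    · intro hmem
      rw [Subgroup.mem_inf] at hmem
      obtain ⟨σ, hσ⟩ := (mem_decStab' D _).1 hmem.1
      have hge : (g₀ : Matrix ι ι F) *ᵥ e i0 ∈ D (σ i0) := by
        rw [← hσ i0, ← Matrix.toLin'_apply]
        exact Submodule.mem_map_of_mem (he i0)
      rw [hg₀e] at hge
      have c2 : compL D h i2 (e i0 - y - x) = -(a i2) := by
        rw [hx, hy]
        simp only [map_sub, map_add]
        rw [compL_same D h (haD i2), compL_ne D h (he i0) h02, compL_ne D h (haD i0) h02, compL_ne D h (haD i1) h12,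
          compL_ne D h (haD i3) h23.symm]
        simp
      have c3 : compL D h i3 (e i0 - y - x) = -(a i3) := by
        rw [hx, hy]
        simp only [map_sub, map_add]
        rw [compL_same D h (haD i3), compL_ne D h (he i0) h03, compL_ne D h (haD i0) h03, compL_ne D h (haD i1) h13,
          compL_ne D h (haD i2) h23]
        simp
      have e2 : σ i0 = i2 := by
        by_contra hne
        rw [compL_ne D h hge hne] at c2
        exact neg_ne_zero.mpr (hane i2) c2.symm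
      have e3 : σ i0 = i3 := by
        by_contra hne
        rw [compL_ne D h hge hne] at c3
        exact neg_ne_zero.mpr (hane i3) c3.symm
      exact h23 (e2.symm.trans e3)
  · rw [SetLike.lt_iff_le_and_exists]
    refine ⟨inf_le_right, g₁, hg₁Ω, ?_⟩
    intro hmem
    rw [Subgroup.mem_inf] at hmem
    have hst := ((mem_stabz S _).1 hmem.1 (a i0)).1 ⟨i0, haD i0, hQa i0⟩
    rw [hg₁a] at hst
    obtain ⟨i, hi, _⟩ := hst
    have c0 : compL D h i0 (e i0 - a i1) = e i0 := by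
      simp only [map_sub]
      rw [compL_same D h (he i0), compL_ne D h (haD i1) h01.symm, sub_zero]
    have c1 : compL D h i1 (e i0 - a i1) = -(a i1) := by
      simp only [map_sub]
      rw [compL_same D h (haD i1), compL_ne D h (he i0) h01, zero_sub]
    have e0 : i = i0 := by
      by_contra hne
      rw [compL_ne D h hi hne] at c0
      exact hene i0 c0.symm
    have e1 : i = i1 := by
      by_contra hne
      rw [compL_ne D h hi hne] at c1
      exact neg_ne_zero.mpr (hane i1) c1.symm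
    exact h01 (e0.symm.trans e1)

end Cfsg.Agent.Lib.Helper94
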