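import Cfsg.Agent.Lib.Helper94.DecompPlus2
import Cfsg.Agent.S5656

set_option autoImplicit false

namespace Cfsg.Agent.Lib.Helper94

open scoped Matrix
open Cfsg

set_option linter.unusedSectionVars false
set_option linter.unnecessarySimpa false
set_option linter.style.haveILetI false
set_option linter.unusedVariables false

variable {ι : Type} [Fintype ι] [DecidableEq ι] {F : Type*} [Field F]

lemma sum_sq_char2 (h2 : (2 : F) = 0) {κ : Type*} (s : Finset κ) (c : κ → F) :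
    (∑ i ∈ s, c i) ^ 2 = ∑ i ∈ s, (c i) ^ 2 := by
  classical
  induction s using Finset.induction_on with
  | empty => simp
  | insert a s ha ih =>
    rw [Finset.sum_insert ha, Finset.sum_insert ha, ← ih]
    linear_combination (c a * ∑ i ∈ s, c i) * h2

lemma neg_eq_self_char2 (h2 : (2 : F) = 0) (v : ι → F) : -v = v := by
  have : v + v = 0 := by rw [← two_smul F v, h2, zero_smul]
  exact neg_eq_of_add_eq_zero_left this

/-- decompositions into hyperbolic planes over the field with four elements -/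
theorem decomp2_plus_four [Fintype F] {Q : (ι → F) → F} (hQ : Geo.IsNondegenerateQuadraticForm Q)
    (hq : Fintype.card F = 4) {t : ℕ} (D : Fin t → Submodule F (ι → F))
    (hD : Geo.IsOrthogonalMDecomposition Q 2 D) (hplus : ∀ i, Geo.IsPlusTypeOn Q (D i)) (ht : 3 ≤ t) :
    ∃ K : Subgroup (Matrix.GeneralLinearGroup ι F),
      Geo.decompositionStabilizer D ⊓ Geo.omegaGL Q < K ∧ K < Geo.omegaGL Q := by
  have h : DirectSum.IsInternal D :=
    DirectSum.isInternal_submodule_of_iSupIndep_of_iSup_eq_top hD.decomp.decomp.indep hD.decomp.decomp.iSup_eq_top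
  have h2 := Cfsg.Agent.S5656.f4_two hq
  have h4 := Cfsg.Agent.S5656.f4_pow4 hq
  have h3 : ∀ {x : F}, x ≠ 0 → x ^ 3 = 1 := fun hx => Cfsg.Agent.S5656.cube_one h4 hx
  obtain ⟨ω, hω0, hω1⟩ := Cfsg.Agent.S5656.f4_exists hq
  have hω : ω ^ 2 + ω + 1 = 0 := by
    have : (ω - 1) * (ω ^ 2 + ω + 1) = 0 := by linear_combination h3 hω0
    rcases mul_eq_zero.mp this with h' | h'
    · exact absurd (sub_eq_zero.mp h') hω1
    · exact h'
  have h10 : (1 : F) ≠ 0 := one_ne_zero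
  have hneg : ∀ v : ι → F, -v = v := neg_eq_self_char2 h2
  have hnegF : ∀ c : F, -c = c := fun c => by linear_combination (-c) * h2
  have hex : ∀ i, ∃ e f : ι → F, e ∈ D i ∧ f ∈ D i ∧ Q e = 0 ∧ Q f = 0 ∧ pol Q e f = 1 ∧
      ∀ v ∈ D i, ∃ α β : F, v = α • e + β • f := fun i =>
    exists_hyp_pair hQ (D i) (hD.decomp.decomp.finrank_eq i) (hD.decomp.nondegenerate i) (hplus i)
  choose e f he hf hQe hQf hef hspan using hex
  have horth := hD.decomp.orthogonal
  have o : ∀ {i j : Fin t}, i ≠ j → ∀ x ∈ D i, ∀ y ∈ D j, pol Q x y = 0 :=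
    fun hij x hx y hy => horth _ _ hij x hx y hy
  have hee : ∀ i, pol Q (e i) (e i) = 0 := fun i => by rw [pol_self hQ, hQe, mul_zero]
  have hff : ∀ i, pol Q (f i) (f i) = 0 := fun i => by rw [pol_self hQ, hQf, mul_zero]
  have hfe : ∀ i, pol Q (f i) (e i) = 1 := fun i => by rw [pol_comm]; exact hef i
  -- the norm one vectors
  obtain ⟨pp, hpp⟩ : ∃ pp : Fin t → F → (ι → F), pp = fun i α => α • e i + α ^ 2 • f i := ⟨_, rfl⟩
  have hpp' : ∀ i α, pp i α = α • e i + α ^ 2 • f i := fun i α => by rw [hpp]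
  have hppD : ∀ i α, pp i α ∈ D i := fun i α => by
    rw [hpp']; exact (D i).add_mem ((D i).smul_mem _ (he i)) ((D i).smul_mem _ (hf i))
  have hQpp : ∀ i α, Q (pp i α) = α ^ 3 := fun i α => by
    rw [hpp', Q_add Q, Q_smul hQ, Q_smul hQ, hQe, hQf, pol_smul_left hQ, pol_smul_right hQ, hef]; ring
  have hpp_add : ∀ i α β, pp i α + pp i β = pp i (α + β) := fun i α β => by
    rw [hpp', hpp', hpp', Cfsg.Agent.S5656.sq_add' h2, add_smul, add_smul]; abel
  have hpp_zero : ∀ i, pp i 0 = 0 := fun i => by rw [hpp']; simp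
  have hpp_pol : ∀ i α β, pol Q (pp i α) (pp i β) = α * β ^ 2 + α ^ 2 * β := fun i α β => by
    rw [hpp', hpp', pol_add_left hQ, pol_add_right hQ, pol_add_right hQ, pol_smul_left hQ, pol_smul_left hQ,
      pol_smul_left hQ, pol_smul_left hQ, pol_smul_right hQ, pol_smul_right hQ, pol_smul_right hQ, pol_smul_right hQ,
      hee, hef, hfe, hff]
    ring
  have hpp_V : ∀ i α, pp i α = 0 ∨ Q (pp i α) = 1 := fun i α => by
    by_cases hα : α = 0
    · left; rw [hα, hpp_zero]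
    · right; rw [hQpp, h3 hα]
  have hstruct : ∀ i, ∀ v ∈ D i, (v = 0 ∨ Q v = 1) → ∃ α, v = pp i α := by
    intro i v hv hv01
    rcases hv01 with rfl | hQv
    · exact ⟨0, (hpp_zero i).symm⟩
    · obtain ⟨α, β, rfl⟩ := hspan i v hv
      have hab : α * β = 1 := by
        rw [Q_add Q, Q_smul hQ, Q_smul hQ, hQe, hQf, pol_smul_left hQ, pol_smul_right hQ, hef] at hQv
        linear_combination hQv
      have hα : α ≠ 0 := by
        intro h0; rw [h0, zero_mul] at hab; exact h10 hab.symm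
      have hβ : β = α ^ 2 := by linear_combination (-β) * h3 hα + α ^ 2 * hab
      exact ⟨α, by rw [hpp', hβ]⟩
  -- the F₂-structure
  set V₀ : Set (ι → F) := {v | ∀ i, compL D h i v = 0 ∨ Q (compL D h i v) = 1} with hV₀
  have hV_iff : ∀ x, x ∈ V₀ → ∀ i, ∃ α, compL D h i x = pp i α := fun x hx i =>
    hstruct i _ (compL_mem D h i x) (hx i)
  have hV_of : ∀ x, (∀ i, ∃ α, compL D h i x = pp i α) → x ∈ V₀ := by
    intro x hx i
    obtain ⟨α, hα⟩ := hx i
    rw [hα]; exact hpp_V i α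
  have hV_add : ∀ x u, x ∈ V₀ → u ∈ V₀ → x + u ∈ V₀ := by
    intro x u hx hu
    apply hV_of
    intro i
    obtain ⟨α, hα⟩ := hV_iff x hx i
    obtain ⟨β, hβ⟩ := hV_iff u hu i
    exact ⟨α + β, by rw [map_add, hα, hβ, hpp_add]⟩
  have hV_pol : ∀ x u, x ∈ V₀ → u ∈ V₀ → pol Q x u = 0 ∨ pol Q x u = 1 := by
    intro x u hx hu
    have hsq : (pol Q x u) ^ 2 = pol Q x u := by
      rw [pol_eq_sum_comp hQ D h horth x u, sum_sq_char2 h2]
      apply Finset.sum_congr rfl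
      intro i _
      obtain ⟨α, hα⟩ := hV_iff x hx i
      obtain ⟨β, hβ⟩ := hV_iff u hu i
      rw [hα, hβ, hpp_pol]
      have e1 : (α * β ^ 2 + α ^ 2 * β) ^ 2 = α ^ 2 * β ^ 4 + α ^ 4 * β ^ 2 := by
        linear_combination (α ^ 3 * β ^ 3) * h2
      rw [e1, h4, h4]; ring
    have : pol Q x u * (pol Q x u - 1) = 0 := by linear_combination hsq
    rcases mul_eq_zero.mp this with h' | h'
    · left; exact h'
    · right; exact sub_eq_zero.mp h'
  have hV_refl : ∀ u (hu0 : Q u ≠ 0), u ∈ V₀ → Q u = 1 → ∀ x ∈ V₀, (rGL hQ u hu0 : Matrix ι ι F) *ᵥ x ∈ V₀ := by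
    intro u hu0 hu hQu x hx
    rw [rGL_one hQ u hu0 hQu]
    rcases hV_pol x u hx hu with h' | h'
    · rw [h', zero_smul, sub_zero]; exact hx
    · rw [h', one_smul, sub_eq_add_neg, hneg]; exact hV_add x u hx hu
  have hV_block : ∀ i, ∀ v ∈ D i, (v = 0 ∨ Q v = 1) → v ∈ V₀ := by
    intro i v hv hv01 j
    by_cases hij : i = j
    · subst hij; rw [compL_same D h hv]; exact hv01
    · left; exact compL_ne D h hv hij
  set i0 : Fin t := ⟨0, by omega⟩ with hi0
  set i1 : Fin t := ⟨1, by omega⟩ with hi1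
  set i2 : Fin t := ⟨2, by omega⟩ with hi2
  have h01 : i0 ≠ i1 := by simp [hi0, hi1, Fin.ext_iff]
  have h02 : i0 ≠ i2 := by simp [hi0, hi2, Fin.ext_iff]
  have h12 : i1 ≠ i2 := by simp [hi1, hi2, Fin.ext_iff]
  clear_value i0 i1 i2
  -- orthogonal sums over three blocks
  have pol3 : ∀ x0 ∈ D i0, ∀ x1 ∈ D i1, ∀ x2 ∈ D i2, ∀ y0 ∈ D i0, ∀ y1 ∈ D i1, ∀ y2 ∈ D i2,
      pol Q (x0 + x1 + x2) (y0 + y1 + y2) = pol Q x0 y0 + pol Q x1 y1 + pol Q x2 y2 := by
    intro x0 hx0 x1 hx1 x2 hx2 y0 hy0 y1 hy1 y2 hy2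
    rw [pol_add_left hQ, pol_add_left hQ, pol_add_right hQ, pol_add_right hQ, pol_add_right hQ, pol_add_right hQ,
      pol_add_right hQ, pol_add_right hQ, o h01 x0 hx0 y1 hy1, o h02 x0 hx0 y2 hy2, o h01.symm x1 hx1 y0 hy0,
      o h12 x1 hx1 y2 hy2, o h02.symm x2 hx2 y0 hy0, o h12.symm x2 hx2 y1 hy1]
    ring
  have Q3 : ∀ x0 ∈ D i0, ∀ x1 ∈ D i1, ∀ x2 ∈ D i2, Q (x0 + x1 + x2) = Q x0 + Q x1 + Q x2 := by
    intro x0 hx0 x1 hx1 x2 hx2
    rw [Q_add Q, Q_add Q, pol_add_left hQ, o h01 x0 hx0 x1 hx1, o h02 x0 hx0 x2 hx2, o h12 x1 hx1 x2 hx2]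
    ring
  -- the vectors u and u'
  obtain ⟨u, hu⟩ : ∃ u, u = pp i0 1 + pp i1 1 + pp i2 1 := ⟨_, rfl⟩
  obtain ⟨u', hu'⟩ : ∃ u', u' = pp i0 ω + pp i1 1 + pp i2 1 := ⟨_, rfl⟩
  have huV : u ∈ V₀ := by
    rw [hu]
    exact hV_add _ _ (hV_add _ _ (hV_block i0 _ (hppD _ _) (hpp_V _ _)) (hV_block i1 _ (hppD _ _) (hpp_V _ _)))
      (hV_block i2 _ (hppD _ _) (hpp_V _ _))
  have hu'V : u' ∈ V₀ := by
    rw [hu']
    exact hV_add _ _ (hV_add _ _ (hV_block i0 _ (hppD _ _) (hpp_V _ _)) (hV_block i1 _ (hppD _ _) (hpp_V _ _)))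
      (hV_block i2 _ (hppD _ _) (hpp_V _ _))
  have hQu : Q u = 1 := by
    rw [hu, Q3 _ (hppD _ _) _ (hppD _ _) _ (hppD _ _), hQpp, hQpp, hQpp]
    linear_combination h2
  have hQu' : Q u' = 1 := by
    rw [hu', Q3 _ (hppD _ _) _ (hppD _ _) _ (hppD _ _), hQpp, hQpp, hQpp, h3 hω0]
    linear_combination h2
  have huu' : pol Q u u' = 1 := by
    rw [hu, hu', pol3 _ (hppD _ _) _ (hppD _ _) _ (hppD _ _) _ (hppD _ _) _ (hppD _ _) _ (hppD _ _), hpp_pol, hpp_pol,
      hpp_pol]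
    linear_combination hω + h2
  have hQu0 : Q u ≠ 0 := by rw [hQu]; exact h10
  have hQu'0 : Q u' ≠ 0 := by rw [hQu']; exact h10
  obtain ⟨g₀, hg₀⟩ : ∃ g₀, g₀ = rGL hQ u hQu0 * rGL hQ u' hQu'0 := ⟨_, rfl⟩
  have hg₀Ω : g₀ ∈ Geo.omegaGL Q := by
    rw [hg₀]
    refine rr_mem_omega hQ u u' hQu0 hQu'0 (by rw [hQu', hQu]) ?_
    rw [Q_sub hQ, hQu, hQu', huu']; simpa using h10
  have hpp1 : ∀ i, pp i 1 = e i + f i := fun i => by rw [hpp']; simp
  have he1u' : pol Q (e i1) u' = 1 := by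
    rw [hu', pol_add_right hQ, pol_add_right hQ, o h01.symm _ (he i1) _ (hppD _ _), o h12 _ (he i1) _ (hppD _ _), hpp1,
      pol_add_right hQ, hee, hef]
    ring
  have he1u : pol Q (e i1) u = 1 := by
    rw [hu, pol_add_right hQ, pol_add_right hQ, o h01.symm _ (he i1) _ (hppD _ _), o h12 _ (he i1) _ (hppD _ _), hpp1,
      pol_add_right hQ, hee, hef]
    ring
  have hg₀e : (g₀ : Matrix ι ι F) *ᵥ e i1 = e i1 - u' := by
    rw [hg₀, Units.val_mul, ← Matrix.mulVec_mulVec, rGL_one hQ _ _ hQu', he1u', one_smul, rGL_fix hQ _ _ hQu0]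
    rw [pol_sub_left hQ, he1u, pol_comm Q u' u, huu', sub_self]
  -- g₁
  obtain ⟨w, hw⟩ : ∃ w, w = (e i0 + ω • f i0) + (e i1 + ω ^ 2 • f i1) := ⟨_, rfl⟩
  have hw0D : e i0 + ω • f i0 ∈ D i0 := (D i0).add_mem (he i0) ((D i0).smul_mem _ (hf i0))
  have hw1D : e i1 + ω ^ 2 • f i1 ∈ D i1 := (D i1).add_mem (he i1) ((D i1).smul_mem _ (hf i1))
  have hQw : Q w = 1 := by
    rw [hw, Q_add Q, o h01 _ hw0D _ hw1D, Q_add Q, Q_add Q, Q_smul hQ, Q_smul hQ, hQe, hQe, hQf, hQf,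
      pol_smul_right hQ, pol_smul_right hQ, hef, hef]
    linear_combination hω - h2
  have hQw0 : Q w ≠ 0 := by rw [hQw]; exact h10
  have hQp1 : Q (pp i1 1) = 1 := by rw [hQpp]; ring
  have hQp10 : Q (pp i1 1) ≠ 0 := by rw [hQp1]; exact h10
  have hwp1 : pol Q w (pp i1 1) = 1 + ω ^ 2 := by
    rw [hw, pol_add_left hQ, o h01 _ hw0D _ (hppD _ _), hpp1, pol_add_left hQ, pol_add_right hQ, pol_add_right hQ,
      pol_smul_left hQ, pol_smul_left hQ, hee, hef, hfe, hff]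
    ring
  obtain ⟨g₁, hg₁⟩ : ∃ g₁, g₁ = rGL hQ w hQw0 * rGL hQ (pp i1 1) hQp10 := ⟨_, rfl⟩
  have hg₁Ω : g₁ ∈ Geo.omegaGL Q := by
    rw [hg₁]
    refine rr_mem_omega hQ _ _ hQw0 hQp10 (by rw [hQp1, hQw]) ?_
    rw [Q_sub hQ, hQw, hQp1, hwp1]
    intro h0
    apply hω0
    linear_combination hω - h2 + h0
  have hp0w : pol Q (pp i0 1) w = 1 + ω := by
    rw [hw, pol_add_right hQ, o h01 _ (hppD _ _) _ hw1D, hpp1, pol_add_left hQ, pol_add_right hQ, pol_add_right hQ,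
      pol_smul_right hQ, pol_smul_right hQ, hee, hef, hfe, hff]
    ring
  have hg₁p : (g₁ : Matrix ι ι F) *ᵥ pp i0 1 = pp i0 1 - (1 + ω) • w := by
    rw [hg₁, Units.val_mul, ← Matrix.mulVec_mulVec, rGL_fix hQ _ _ hQp10 (o h01 _ (hppD _ _) _ (hppD _ _)),
      rGL_one hQ _ _ hQw, hp0w]
  refine ⟨stabilizing (glToMat ι F) V₀ ⊓ Geo.omegaGL Q, ?_, ?_⟩
  · rw [SetLike.lt_iff_le_and_exists]
    refine ⟨?_, g₀, ?_, ?_⟩
    · intro g hg
      rw [Subgroup.mem_inf] at hg ⊢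
      refine ⟨?_, hg.2⟩
      have hgi := (mem_isom g).1 (omega_le_isom hg.2)
      obtain ⟨σ, hσ⟩ := (mem_decStab' D g).1 hg.1
      apply stab_of_forward
      intro v hv j
      obtain ⟨i, rfl⟩ := σ.surjective j
      rw [compL_perm D h g σ hσ i v]
      rcases hv i with h' | h'
      · left; rw [h', Matrix.mulVec_zero]
      · right; rw [hgi]; exact h'
    · rw [Subgroup.mem_inf]
      refine ⟨stab_of_forward V₀ g₀ ?_, hg₀Ω⟩
      intro v hv
      rw [hg₀, Units.val_mul, ← Matrix.mulVec_mulVec]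
      exact hV_refl u hQu0 huV hQu _ (hV_refl u' hQu'0 hu'V hQu' v hv)
    · intro hmem
      rw [Subgroup.mem_inf] at hmem
      obtain ⟨σ, hσ⟩ := (mem_decStab' D _).1 hmem.1
      have hge : (g₀ : Matrix ι ι F) *ᵥ e i1 ∈ D (σ i1) := by
        rw [← hσ i1, ← Matrix.toLin'_apply]
        exact Submodule.mem_map_of_mem (he i1)
      rw [hg₀e] at hge
      have c0 : compL D h i0 (e i1 - u') = -(pp i0 ω) := by
        rw [hu']
        simp only [map_sub, map_add]
        rw [compL_same D h (hppD i0 ω), compL_ne D h (he i1) h01.symm, compL_ne D h (hppD i1 1) h01.symm,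
          compL_ne D h (hppD i2 1) h02.symm]
        simp
      have c2 : compL D h i2 (e i1 - u') = -(pp i2 1) := by
        rw [hu']
        simp only [map_sub, map_add]
        rw [compL_same D h (hppD i2 1), compL_ne D h (he i1) h12, compL_ne D h (hppD i1 1) h12,
          compL_ne D h (hppD i0 ω) h02]
        simp
      have n0 : pp i0 ω ≠ 0 := by
        intro h0
        have := hQpp i0 ω
        rw [h0, Q_zero hQ, h3 hω0] at this
        exact h10 this.symm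
      have n2 : pp i2 1 ≠ 0 := by
        intro h0
        have := hQpp i2 1
        rw [h0, Q_zero hQ, one_pow] at this
        exact h10 this.symm
      have e0 : σ i1 = i0 := by
        by_contra hne
        rw [compL_ne D h hge hne] at c0
        exact neg_ne_zero.mpr n0 c0.symm
      have e2 : σ i1 = i2 := by
        by_contra hne
        rw [compL_ne D h hge hne] at c2
        exact neg_ne_zero.mpr n2 c2.symm
      exact h02 (e0.symm.trans e2)
  · rw [SetLike.lt_iff_le_and_exists]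
    refine ⟨inf_le_right, g₁, hg₁Ω, ?_⟩
    intro hmem
    rw [Subgroup.mem_inf] at hmem
    have hst := ((mem_stabz V₀ _).1 hmem.1 (pp i0 1)).1 (hV_block i0 _ (hppD _ _) (hpp_V _ _))
    rw [hg₁p] at hst
    obtain ⟨α, hα⟩ := hV_iff _ hst i0
    have c0 : compL D h i0 (pp i0 1 - (1 + ω) • w) = (-ω) • e i0 + (1 - (1 + ω) * ω) • f i0 := by
      rw [hw]
      simp only [map_sub, map_add, map_smul]
      rw [compL_same D h (hppD i0 1), compL_same D h (he i0), compL_same D h (hf i0), compL_ne D h (he i1) h01.symm,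
        compL_ne D h (hf i1) h01.symm, hpp1]
      module
    have hcoef : 1 - (1 + ω) * ω = 0 := by linear_combination h2 - hω
    rw [c0, hcoef, hpp'] at hα
    have hα2 : α ^ 2 = 0 := by
      have := congrArg (fun v => pol Q v (e i0)) hα
      simp only [pol_smul_left hQ, pol_add_left hQ, hee, hfe] at this
      linear_combination -this
    have hα0 : α = 0 := by simpa using hα2
    rw [hα0] at hα
    have : ω = 0 := by
      have := congrArg (fun v => pol Q v (f i0)) hα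
      simp only [pol_smul_left hQ, pol_add_left hQ, hef, hff] at this
      simpa using this
    exact hω0 this

end Cfsg.Agent.Lib.Helper94
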