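import Cfsg.Agent.Lib.Helper94.DecompUtil

set_option autoImplicit false

namespace Cfsg.Agent.Lib.Helper94

open scoped Matrix
open Cfsg

set_option linter.unusedSectionVars false
set_option linter.unnecessarySimpa false
set_option linter.style.haveILetI false
set_option linter.unusedVariables false

variable {ι : Type} [Fintype ι] [DecidableEq ι] {F : Type*} [Field F]

/-- structure of a hyperbolic plane over a field in which every nonzero square is `1` or `-1` -/
lemma hyp_block_struct {Q : (ι → F) → F} (hQ : Geo.IsNondegenerateQuadraticForm Q)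
    (hsq : ∀ α : F, α ≠ 0 → α ^ 2 = 1 ∨ α ^ 2 = -1) (W : Submodule F (ι → F)) (e f : ι → F)
    (hQe : Q e = 0) (hQf : Q f = 0) (hef : pol Q e f = 1)
    (hspan : ∀ v ∈ W, ∃ α β : F, v = α • e + β • f) :
    Q (e + f) = 1 ∧ (∀ v ∈ W, Q v = 1 → v = e + f ∨ v = -(e + f) ∨ pol Q v (e + f) = 0) ∧ e - f ≠ 0 ∧
      pol Q (e - f) (e + f) = 0 := by
  have hee : pol Q e e = 0 := by rw [pol_self hQ, hQe, mul_zero]
  have hff : pol Q f f = 0 := by rw [pol_self hQ, hQf, mul_zero]
  have hfe : pol Q f e = 1 := by rw [pol_comm]; exact hef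
  refine ⟨by rw [Q_add Q, hQe, hQf, hef]; ring, ?_, ?_, ?_⟩
  · intro v hv hQv
    obtain ⟨α, β, rfl⟩ := hspan v hv
    have hab : α * β = 1 := by
      rw [Q_add Q, Q_smul hQ, Q_smul hQ, hQe, hQf, pol_smul_left hQ, pol_smul_right hQ, hef] at hQv
      linear_combination hQv
    have hα : α ≠ 0 := by
      intro h0; rw [h0, zero_mul] at hab; exact zero_ne_one hab
    have hpol : pol Q (α • e + β • f) (e + f) = α + β := by
      rw [pol_add_left hQ, pol_smul_left hQ, pol_smul_left hQ, pol_add_right hQ, pol_add_right hQ, hee, hef, hfe, hff]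
      ring
    rcases hsq α hα with h1 | h1
    · have hβ : β = α := by linear_combination α * hab - β * h1
      have hα' : (α - 1) * (α + 1) = 0 := by linear_combination h1
      rcases mul_eq_zero.mp hα' with h | h
      · left
        have : α = 1 := by linear_combination h
        rw [hβ, this, one_smul, one_smul]
      · right; left
        have : α = -1 := by linear_combination h
        rw [hβ, this, neg_one_smul, neg_one_smul, neg_add]
    · right; right
      rw [hpol]
      have : α * (α + β) = 0 := by linear_combination h1 + hab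
      rcases mul_eq_zero.mp this with h | h
      · exact absurd h hα
      · exact h
  · intro h0
    have : pol Q (e - f) f = 0 := by rw [h0, pol_zero_left hQ]
    rw [pol_sub_left hQ, hef, hff, sub_zero] at this
    exact one_ne_zero this
  · rw [pol_sub_left hQ, pol_add_right hQ, pol_add_right hQ, hee, hef, hfe, hff]; ring

/-- decompositions into hyperbolic planes over the fields with three or five elements -/
theorem decomp2_plus_odd [Fintype F] {Q : (ι → F) → F} (hQ : Geo.IsNondegenerateQuadraticForm Q)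
    (h2 : (2 : F) ≠ 0) (hsq : ∀ α : F, α ≠ 0 → α ^ 2 = 1 ∨ α ^ 2 = -1)
    {t : ℕ} (D : Fin t → Submodule F (ι → F))
    (hD : Geo.IsOrthogonalMDecomposition Q 2 D) (hplus : ∀ i, Geo.IsPlusTypeOn Q (D i)) (ht : 4 ≤ t) :
    ∃ K : Subgroup (Matrix.GeneralLinearGroup ι F),
      Geo.decompositionStabilizer D ⊓ Geo.omegaGL Q < K ∧ K < Geo.omegaGL Q := by
  have h : DirectSum.IsInternal D :=
    DirectSum.isInternal_submodule_of_iSupIndep_of_iSup_eq_top hD.decomp.decomp.indep hD.decomp.decomp.iSup_eq_top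
  have hex : ∀ i, ∃ e f : ι → F, e ∈ D i ∧ f ∈ D i ∧ Q e = 0 ∧ Q f = 0 ∧ pol Q e f = 1 ∧
      ∀ v ∈ D i, ∃ α β : F, v = α • e + β • f := fun i =>
    exists_hyp_pair hQ (D i) (hD.decomp.decomp.finrank_eq i) (hD.decomp.nondegenerate i) (hplus i)
  choose e f he hf hQe hQf hef hspan using hex
  set i0 : Fin t := ⟨0, by omega⟩ with hi0
  set i1 : Fin t := ⟨1, by omega⟩ with hi1
  set i2 : Fin t := ⟨2, by omega⟩ with hi2
  set i3 : Fin t := ⟨3, by omega⟩ with hi3
  have st := fun i => hyp_block_struct hQ hsq (D i) (e i) (f i) (hQe i) (hQf i) (hef i) (hspan i)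
  exact frame_core1 hQ h2 D h hD.decomp.orthogonal i0 i1 i2 i3
    (by simp [hi0, hi1, Fin.ext_iff]) (by simp [hi0, hi2, Fin.ext_iff]) (by simp [hi0, hi3, Fin.ext_iff])
    (by simp [hi1, hi2, Fin.ext_iff]) (by simp [hi1, hi3, Fin.ext_iff]) (by simp [hi2, hi3, Fin.ext_iff])
    1 one_ne_zero (e i0 + f i0) (e i1 + f i1) (e i2 + f i2) (e i3 + f i3) (e i0 - f i0)
    ((D i0).add_mem (he i0) (hf i0)) ((D i1).add_mem (he i1) (hf i1)) ((D i2).add_mem (he i2) (hf i2))
    ((D i3).add_mem (he i3) (hf i3)) (st i0).1 (st i1).1 (st i2).1 (st i3).1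
    (st i0).2.1 (st i1).2.1 (st i2).2.1 ((D i0).sub_mem (he i0) (hf i0)) (st i0).2.2.1 (st i0).2.2.2

end Cfsg.Agent.Lib.Helper94
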