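import Cfsg.Agent.Lib.Helper94.DecompPlus

set_option autoImplicit false

namespace Cfsg.Agent.Lib.Helper94

open scoped Matrix
open Cfsg

set_option linter.unusedSectionVars false
set_option linter.unnecessarySimpa false
set_option linter.style.haveILetI false
set_option linter.unusedVariables false

variable {ι : Type} [Fintype ι] [DecidableEq ι] {F : Type*} [Field F]

section decomp
variable {t : ℕ} (D : Fin t → Submodule F (ι → F)) (h : DirectSum.IsInternal D)

lemma compL_mem (i : Fin t) (v : ι → F) : compL D h i v ∈ D i := by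
  rw [compL_eq]; exact Submodule.coe_mem _

lemma sum_compL (v : ι → F) : ∑ i, compL D h i v = v := by
  have hv : v ∈ iSup D := by rw [h.submodule_iSup_eq_top]; trivial
  refine Submodule.iSup_induction D (motive := fun v => ∑ i, compL D h i v = v) hv ?_ ?_ ?_
  · intro j x hx
    rw [Finset.sum_eq_single j]
    · exact compL_same D h hx
    · intro i _ hij; exact compL_ne D h hx (Ne.symm hij)
    · simp
  · simp
  · intro x y hx hy; simp only [map_add, Finset.sum_add_distrib, hx, hy]

/-- components of the image under an element permuting the blocks -/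
lemma compL_perm (g : Matrix.GeneralLinearGroup ι F) (σ : Equiv.Perm (Fin t))
    (hσ : ∀ i, (D i).map (Matrix.toLin' (g : Matrix ι ι F)) = D (σ i)) (i : Fin t) (v : ι → F) :
    compL D h (σ i) ((g : Matrix ι ι F) *ᵥ v) = (g : Matrix ι ι F) *ᵥ (compL D h i v) := by
  have hmem : ∀ j, (g : Matrix ι ι F) *ᵥ (compL D h j v) ∈ D (σ j) := by
    intro j
    rw [← hσ j, ← Matrix.toLin'_apply]
    exact Submodule.mem_map_of_mem (compL_mem D h j v)
  conv_lhs => rw [← sum_compL D h v, Matrix.mulVec_sum, map_sum]
  rw [Finset.sum_eq_single i]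
  · exact compL_same D h (hmem i)
  · intro j _ hji
    exact compL_ne D h (hmem j) (fun hh => hji (σ.injective hh))
  · simp

end decomp

/-- the number of coordinates is the number of blocks times their dimension -/
lemma card_eq_mul {t m : ℕ} {D : Fin t → Submodule F (ι → F)} (hD : Geo.IsMDecomposition m D) :
    Fintype.card ι = t * m := by
  have h : DirectSum.IsInternal D :=
    DirectSum.isInternal_submodule_of_iSupIndep_of_iSup_eq_top hD.indep hD.iSup_eq_top
  have e : (DirectSum (Fin t) fun i => D i) ≃ₗ[F] (ι → F) := LinearEquiv.ofBijective (DirectSum.coeLinearMap D) h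
  have := e.finrank_eq
  rw [Module.finrank_directSum, Module.finrank_fintype_fun_eq_card] at this
  rw [← this]
  simp [hD.finrank_eq]

/-- plus type is transported along isometries -/
lemma plus_transport {Q : (ι → F) → F} {W W' : Submodule F (ι → F)} (hiso : Geo.AreIsometricFor Q W W')
    (hp : Geo.IsPlusTypeOn Q W) : Geo.IsPlusTypeOn Q W' := by
  obtain ⟨e, he⟩ := hiso
  obtain ⟨U, hUW, hUts, hUdim⟩ := hp
  have hinj : Function.Injective (W'.subtype ∘ₗ e.toLinearMap) := by
    intro x y hxy
    apply e.injective
    apply Subtype.ext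
    simpa using hxy
  refine ⟨(U.comap W.subtype).map (W'.subtype ∘ₗ e.toLinearMap), ?_, ?_, ?_⟩
  · rintro x ⟨w, _, rfl⟩
    simp
  · rintro x ⟨w, hw, rfl⟩
    have : Q ((e w : W') : ι → F) = 0 := by rw [he w]; exact hUts _ hw
    simpa using this
  · have e1 : Module.finrank F ((U.comap W.subtype).map (W'.subtype ∘ₗ e.toLinearMap)) =
        Module.finrank F (U.comap W.subtype) :=
      (Submodule.equivMapOfInjective _ hinj (U.comap W.subtype)).finrank_eq.symm
    have e2 : Module.finrank F (U.comap W.subtype) = Module.finrank F U :=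
      (Submodule.comapSubtypeEquivOfLe hUW).finrank_eq
    rw [e1, e2, hUdim, e.finrank_eq]

section polsum
variable {Q : (ι → F) → F} (hQ : Geo.IsNondegenerateQuadraticForm Q)
include hQ

lemma pol_sum_left {κ : Type*} (s : Finset κ) (x : κ → (ι → F)) (y : ι → F) :
    pol Q (∑ i ∈ s, x i) y = ∑ i ∈ s, pol Q (x i) y := by
  classical
  induction s using Finset.induction_on with
  | empty => simp [pol_zero_left hQ]
  | insert a s ha ih => rw [Finset.sum_insert ha, Finset.sum_insert ha, pol_add_left hQ, ih]

lemma pol_sum_right {κ : Type*} (s : Finset κ) (x : ι → F) (y : κ → (ι → F)) :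
    pol Q x (∑ i ∈ s, y i) = ∑ i ∈ s, pol Q x (y i) := by
  classical
  induction s using Finset.induction_on with
  | empty => simp [pol_zero_right hQ]
  | insert a s ha ih => rw [Finset.sum_insert ha, Finset.sum_insert ha, pol_add_right hQ, ih]

/-- the polar form is the sum of the polar forms of the components for an orthogonal decomposition -/
lemma pol_eq_sum_comp {t : ℕ} (D : Fin t → Submodule F (ι → F)) (h : DirectSum.IsInternal D)
    (horth : ∀ i j, i ≠ j → Geo.AreOrthogonalFor (QuadraticMap.polar Q) (D i) (D j)) (x y : ι → F) :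
    pol Q x y = ∑ i, pol Q (compL D h i x) (compL D h i y) := by
  conv_lhs => rw [← sum_compL D h x, ← sum_compL D h y]
  rw [pol_sum_left hQ]
  apply Finset.sum_congr rfl
  intro i _
  rw [pol_sum_right hQ, Finset.sum_eq_single i]
  · intro j _ hji
    exact horth i j (Ne.symm hji) _ (compL_mem D h i x) _ (compL_mem D h j y)
  · simp

end polsum

end Cfsg.Agent.Lib.Helper94
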