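import Mathlib

set_option autoImplicit false
set_option linter.unusedVariables false
set_option linter.unusedSectionVars false

/-!
# An arithmetic bound for least common multiples of the numbers `q^d ± 1`

`(q - 1) * lcm_i (q ^ d_i ± 1) ≤ q ^ (∑ d_i + 1)`.
-/

namespace Cfsg.Agent.Lib.Helper94.EO

/-- the lcm of the `q^d + 1` -/
def Lp (q : ℕ) (B : Multiset ℕ) : ℕ := (B.map (fun d => q ^ d + 1)).lcm

/-- the lcm of the `q^d - 1` -/
def Lm (q : ℕ) (B : Multiset ℕ) : ℕ := (B.map (fun d => q ^ d - 1)).lcm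

theorem Lp_zero (q : ℕ) : Lp q 0 = 1 := by simp [Lp]

theorem Lm_zero (q : ℕ) : Lm q 0 = 1 := by simp [Lm]

theorem Lp_cons (q d : ℕ) (B : Multiset ℕ) : Lp q (d ::ₘ B) = Nat.lcm (q ^ d + 1) (Lp q B) := by
  simp [Lp, Multiset.lcm_cons]
  rfl

theorem Lm_cons (q d : ℕ) (B : Multiset ℕ) : Lm q (d ::ₘ B) = Nat.lcm (q ^ d - 1) (Lm q B) := by
  simp [Lm, Multiset.lcm_cons]
  rfl

theorem Lp_add (q : ℕ) (B₁ B₂ : Multiset ℕ) : Lp q (B₁ + B₂) = Nat.lcm (Lp q B₁) (Lp q B₂) := by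
  simp [Lp, Multiset.map_add, Multiset.lcm_add]
  rfl

theorem Lm_add (q : ℕ) (B₁ B₂ : Multiset ℕ) : Lm q (B₁ + B₂) = Nat.lcm (Lm q B₁) (Lm q B₂) := by
  simp [Lm, Multiset.map_add, Multiset.lcm_add]
  rfl

theorem dvd_Lp (q : ℕ) {B : Multiset ℕ} {d : ℕ} (hd : d ∈ B) : q ^ d + 1 ∣ Lp q B := by
  unfold Lp
  exact Multiset.dvd_lcm (Multiset.mem_map_of_mem _ hd)

theorem Lp_pos (q : ℕ) (B : Multiset ℕ) : 0 < Lp q B := by
  induction B using Multiset.induction_on with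
  | empty => rw [Lp_zero]; exact one_pos
  | cons d B ih =>
    rw [Lp_cons]
    exact Nat.lcm_pos (Nat.succ_pos _) ih

/-- downward closure of the inequality in the exponent -/
theorem P_mono (q : ℕ) (hq : 2 ≤ q) (L S s t : ℕ) (hst : s ≤ t)
    (h : (q ^ t - 1) * L ≤ q ^ (S + t)) : (q ^ s - 1) * L ≤ q ^ (S + s) := by
  obtain ⟨r, rfl⟩ := Nat.exists_eq_add_of_le hst
  have hq0 : 0 < q := by omega
  have h1 : (q ^ s - 1) * q ^ r ≤ q ^ (s + r) - 1 := by
    have h2 : 1 ≤ q ^ r := Nat.one_le_pow _ _ hq0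
    have h3 : 1 ≤ q ^ s := Nat.one_le_pow _ _ hq0
    rw [pow_add, Nat.sub_mul, one_mul]
    omega
  have h2 : (q ^ s - 1) * L * q ^ r ≤ q ^ (S + s) * q ^ r := by
    calc (q ^ s - 1) * L * q ^ r = (q ^ s - 1) * q ^ r * L := by ring
      _ ≤ (q ^ (s + r) - 1) * L := Nat.mul_le_mul_right _ h1
      _ ≤ q ^ (S + (s + r)) := h
      _ = q ^ (S + s) * q ^ r := by rw [← pow_add]; ring_nf
  exact Nat.le_of_mul_le_mul_right h2 (Nat.pow_pos hq0)

/-- `q^(2^w) + 1` divides `q^d + 1` when `d / 2^w` is odd -/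
theorem dvd_pow_add_one (q w d : ℕ) (hd : 2 ^ w ∣ d) (hodd : ¬ 2 ^ (w + 1) ∣ d) :
    q ^ 2 ^ w + 1 ∣ q ^ d + 1 := by
  obtain ⟨c, rfl⟩ := hd
  have hc : Odd c := by
    rw [← Nat.not_even_iff_odd]
    rintro ⟨r, rfl⟩
    apply hodd
    refine ⟨r, ?_⟩
    rw [pow_succ]; ring
  have := Odd.nat_add_dvd_pow_add_pow (q ^ 2 ^ w) 1 hc
  rwa [one_pow, ← pow_mul] at this

/-- the base inequality -/
theorem base_ineq (E Bq : ℕ) (hE : 1 ≤ E) (hB : E ≤ Bq) : (E - 1) * (Bq + 1) ≤ Bq * E := by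
  obtain ⟨a, rfl⟩ : ∃ a, E = a + 1 := ⟨E - 1, by omega⟩
  obtain ⟨b, rfl⟩ := Nat.exists_eq_add_of_le hB
  rw [Nat.add_sub_cancel]
  nlinarith

/-- the step inequality -/
theorem step_ineq (E Bq : ℕ) (hE : 1 ≤ E) (hB : E ≤ Bq) :
    (E - 1) * (Bq + 1) * (E * E) ≤ Bq * E * (E * E - 1) := by
  obtain ⟨a, rfl⟩ : ∃ a, E = a + 1 := ⟨E - 1, by omega⟩
  obtain ⟨b, rfl⟩ := Nat.exists_eq_add_of_le hB
  have h1 : (a + 1) * (a + 1) - 1 = a * (a + 2) := by
    have : (a + 1) * (a + 1) = a * (a + 2) + 1 := by ring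
    omega
  rw [Nat.add_sub_cancel, h1]
  nlinarith [Nat.zero_le (a * (a + 1) * b)]

/-- the main bound for the `q^d + 1` -/
theorem plus_bound (q : ℕ) (hq : 2 ≤ q) : ∀ (n : ℕ) (B : Multiset ℕ), Multiset.card B = n →
    B ≠ 0 → (∀ d ∈ B, 1 ≤ d) → ∀ w : ℕ, (∀ d ∈ B, 2 ^ w ∣ d) →
    (q ^ 2 ^ w - 1) * Lp q B ≤ q ^ (B.sum + 2 ^ w) := by
  intro n
  induction n using Nat.strong_induction_on with
  | _ n ih =>
    intro B hcard hB0 hB1
    have hq0 : 0 < q := by omega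
    -- downward induction on `w`
    have key : ∀ j w : ℕ, B.sum + 1 = w + j → (∀ d ∈ B, 2 ^ w ∣ d) →
        (q ^ 2 ^ w - 1) * Lp q B ≤ q ^ (B.sum + 2 ^ w) := by
      intro j
      induction j with
      | zero =>
        intro w hw hdiv
        exfalso
        obtain ⟨d, hd⟩ := Multiset.exists_mem_of_ne_zero hB0
        have h1 : 2 ^ w ≤ d := Nat.le_of_dvd (hB1 d hd) (hdiv d hd)
        have h2 : d ≤ B.sum := Multiset.le_sum_of_mem hd
        have h3 : w < 2 ^ w := Nat.lt_two_pow_self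
        omega
      | succ j ihj =>
        intro w hw hdiv
        by_cases hall : ∀ d ∈ B, 2 ^ (w + 1) ∣ d
        · have h1 := ihj (w + 1) (by omega) hall
          exact P_mono q hq (Lp q B) B.sum (2 ^ w) (2 ^ (w + 1))
            (Nat.pow_le_pow_right (by norm_num) (by omega)) h1
        · push Not at hall
          obtain ⟨d₀, hd₀, hd₀odd⟩ := hall
          obtain ⟨B', rfl⟩ := Multiset.exists_cons_of_mem hd₀
          have hd₀w : 2 ^ w ∣ d₀ := hdiv d₀ hd₀
          have hd₀1 : 1 ≤ d₀ := hB1 d₀ hd₀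
          have hEB : q ^ 2 ^ w ≤ q ^ d₀ :=
            Nat.pow_le_pow_right hq0 (Nat.le_of_dvd hd₀1 hd₀w)
          have hE1 : 1 ≤ q ^ 2 ^ w := Nat.one_le_pow _ _ hq0
          have hcard' : Multiset.card B' < n := by
            rw [← hcard, Multiset.card_cons]; omega
          have hB'1 : ∀ d ∈ B', 1 ≤ d := fun d hd => hB1 d (Multiset.mem_cons_of_mem hd)
          have hB'w : ∀ d ∈ B', 2 ^ w ∣ d := fun d hd => hdiv d (Multiset.mem_cons_of_mem hd)
          rw [Lp_cons, Multiset.sum_cons]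
          by_cases hB'0 : B' = 0
          · subst hB'0
            rw [Lp_zero, Nat.lcm_one_right, Multiset.sum_zero, add_zero, pow_add]
            exact base_ineq _ _ hE1 hEB
          · by_cases hsame : ∃ y ∈ B', ¬ 2 ^ (w + 1) ∣ y
            · -- another element with the same valuation
              obtain ⟨y, hy, hyodd⟩ := hsame
              have hIH := ih _ hcard' B' rfl hB'0 hB'1 w hB'w
              have hG1 : q ^ 2 ^ w + 1 ∣ q ^ d₀ + 1 := dvd_pow_add_one q w d₀ hd₀w hd₀odd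
              have hG2 : q ^ 2 ^ w + 1 ∣ Lp q B' :=
                (dvd_pow_add_one q w y (hB'w y hy) hyodd).trans (dvd_Lp q hy)
              have hG : q ^ 2 ^ w + 1 ∣ Nat.gcd (q ^ d₀ + 1) (Lp q B') := Nat.dvd_gcd hG1 hG2
              have hgl := Nat.gcd_mul_lcm (q ^ d₀ + 1) (Lp q B')
              have hGpos : 0 < Nat.gcd (q ^ d₀ + 1) (Lp q B') :=
                Nat.gcd_pos_of_pos_left _ (Nat.succ_pos _)
              have hGle : q ^ 2 ^ w + 1 ≤ Nat.gcd (q ^ d₀ + 1) (Lp q B') := Nat.le_of_dvd hGpos hG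
              have hlcm : Nat.lcm (q ^ d₀ + 1) (Lp q B') ≤ q ^ d₀ * Lp q B' := by
                have h1 : (q ^ 2 ^ w + 1) * Nat.lcm (q ^ d₀ + 1) (Lp q B') ≤
                    (q ^ 2 ^ w + 1) * (q ^ d₀ * Lp q B') := by
                  calc (q ^ 2 ^ w + 1) * Nat.lcm (q ^ d₀ + 1) (Lp q B')
                      ≤ Nat.gcd (q ^ d₀ + 1) (Lp q B') * Nat.lcm (q ^ d₀ + 1) (Lp q B') :=
                        Nat.mul_le_mul_right _ hGle
                    _ = (q ^ d₀ + 1) * Lp q B' := hgl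
                    _ ≤ (q ^ 2 ^ w + 1) * q ^ d₀ * Lp q B' := by
                        apply Nat.mul_le_mul_right
                        have : 1 ≤ q ^ d₀ := Nat.one_le_pow _ _ hq0
                        nlinarith
                    _ = (q ^ 2 ^ w + 1) * (q ^ d₀ * Lp q B') := by ring
                exact Nat.le_of_mul_le_mul_left h1 (Nat.succ_pos _)
              calc (q ^ 2 ^ w - 1) * Nat.lcm (q ^ d₀ + 1) (Lp q B')
                  ≤ (q ^ 2 ^ w - 1) * (q ^ d₀ * Lp q B') := Nat.mul_le_mul_left _ hlcm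
                _ = q ^ d₀ * ((q ^ 2 ^ w - 1) * Lp q B') := by ring
                _ ≤ q ^ d₀ * q ^ (B'.sum + 2 ^ w) := Nat.mul_le_mul_left _ hIH
                _ = q ^ (d₀ + B'.sum + 2 ^ w) := by rw [← pow_add]; ring_nf
            · push Not at hsame
              have hIH := ih _ hcard' B' rfl hB'0 hB'1 (w + 1) hsame
              have hCE : q ^ 2 ^ (w + 1) = q ^ 2 ^ w * q ^ 2 ^ w := by
                rw [← pow_add]; congr 1; rw [pow_succ]; ring
              rw [hCE] at hIH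
              have hlcm : Nat.lcm (q ^ d₀ + 1) (Lp q B') ≤ (q ^ d₀ + 1) * Lp q B' :=
                Nat.le_of_dvd (Nat.mul_pos (Nat.succ_pos _) (Lp_pos q B'))
                  (Nat.lcm_dvd_mul _ _)
              have hstep := step_ineq (q ^ 2 ^ w) (q ^ d₀) hE1 hEB
              have hCpos : 0 < q ^ 2 ^ w * q ^ 2 ^ w - 1 := by
                have : 2 ≤ q ^ 2 ^ w := by
                  calc 2 ≤ q := hq
                    _ = q ^ 1 := (pow_one q).symm
                    _ ≤ q ^ 2 ^ w := Nat.pow_le_pow_right hq0 (Nat.one_le_two_pow)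
                have h4 : 2 * 2 ≤ q ^ 2 ^ w * q ^ 2 ^ w := Nat.mul_le_mul this this
                omega
              have h1 : (q ^ 2 ^ w - 1) * ((q ^ d₀ + 1) * Lp q B') *
                  (q ^ 2 ^ w * q ^ 2 ^ w - 1) ≤
                  q ^ (d₀ + B'.sum + 2 ^ w) * (q ^ 2 ^ w * q ^ 2 ^ w - 1) := by
                calc (q ^ 2 ^ w - 1) * ((q ^ d₀ + 1) * Lp q B') *
                    (q ^ 2 ^ w * q ^ 2 ^ w - 1)
                    = (q ^ 2 ^ w - 1) * (q ^ d₀ + 1) *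
                      ((q ^ 2 ^ w * q ^ 2 ^ w - 1) * Lp q B') := by ring
                  _ ≤ (q ^ 2 ^ w - 1) * (q ^ d₀ + 1) *
                      q ^ (B'.sum + 2 ^ (w + 1)) := Nat.mul_le_mul_left _ hIH
                  _ = (q ^ 2 ^ w - 1) * (q ^ d₀ + 1) * (q ^ 2 ^ w * q ^ 2 ^ w) * q ^ B'.sum := by
                      rw [pow_add, hCE]; ring
                  _ ≤ q ^ d₀ * q ^ 2 ^ w * (q ^ 2 ^ w * q ^ 2 ^ w - 1) * q ^ B'.sum :=
                      Nat.mul_le_mul_right _ hstep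
                  _ = q ^ (d₀ + B'.sum + 2 ^ w) * (q ^ 2 ^ w * q ^ 2 ^ w - 1) := by
                      rw [pow_add, pow_add]; ring
              have h2 := Nat.le_of_mul_le_mul_right h1 hCpos
              calc (q ^ 2 ^ w - 1) * Nat.lcm (q ^ d₀ + 1) (Lp q B')
                  ≤ (q ^ 2 ^ w - 1) * ((q ^ d₀ + 1) * Lp q B') := Nat.mul_le_mul_left _ hlcm
                _ ≤ q ^ (d₀ + B'.sum + 2 ^ w) := h2
    intro w hdiv
    by_cases hw : w ≤ B.sum + 1
    · exact key (B.sum + 1 - w) w (by omega) hdiv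
    · exfalso
      obtain ⟨d, hd⟩ := Multiset.exists_mem_of_ne_zero hB0
      have h1 : 2 ^ w ≤ d := Nat.le_of_dvd (hB1 d hd) (hdiv d hd)
      have h2 : d ≤ B.sum := Multiset.le_sum_of_mem hd
      have h3 : w < 2 ^ w := Nat.lt_two_pow_self
      omega

/-- the bound for mixed families -/
theorem lcm_bound (q : ℕ) (hq : 2 ≤ q) (Bp : Multiset ℕ) (hp : ∀ d ∈ Bp, 1 ≤ d) :
    ∀ Bm : Multiset ℕ, (∀ d ∈ Bm, 1 ≤ d) → (Bp ≠ 0 ∨ Bm ≠ 0) →
    (q - 1) * Nat.lcm (Lp q Bp) (Lm q Bm) ≤ q ^ (Bp.sum + Bm.sum + 1) := by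
  have hq0 : 0 < q := by omega
  intro Bm
  induction Bm using Multiset.induction_on with
  | empty =>
    intro _ h0
    have hBp : Bp ≠ 0 := by
      rcases h0 with h | h
      · exact h
      · exact absurd rfl h
    rw [Lm_zero, Nat.lcm_one_right, Multiset.sum_zero, add_zero]
    have := plus_bound q hq _ Bp rfl hBp hp 0 (fun d _ => by simp)
    simpa using this
  | cons d Bm ih =>
    intro hm _
    have hd1 : 1 ≤ d := hm d (Multiset.mem_cons_self d Bm)
    have hm' : ∀ d ∈ Bm, 1 ≤ d := fun x hx => hm x (Multiset.mem_cons_of_mem hx)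
    rw [Lm_cons, Multiset.sum_cons]
    by_cases h0 : Bp ≠ 0 ∨ Bm ≠ 0
    · have hIH := ih hm' h0
      have hpos : 0 < q ^ d - 1 := by
        have : 2 ^ 1 ≤ q ^ d :=
          (Nat.pow_le_pow_left hq 1).trans (Nat.pow_le_pow_right hq0 hd1)
        omega
      have h1 : Nat.lcm (Lp q Bp) (Nat.lcm (q ^ d - 1) (Lm q Bm)) ∣
          (q ^ d - 1) * Nat.lcm (Lp q Bp) (Lm q Bm) := by
        apply Nat.lcm_dvd
        · exact (Nat.dvd_lcm_left _ _).trans (Dvd.intro_left _ rfl)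
        · apply Nat.lcm_dvd
          · exact Dvd.intro _ rfl
          · exact (Nat.dvd_lcm_right _ _).trans (Dvd.intro_left _ rfl)
      have hLpos : 0 < Nat.lcm (Lp q Bp) (Lm q Bm) := by
        apply Nat.lcm_pos (Lp_pos q Bp)
        unfold Lm
        apply Nat.pos_of_ne_zero
        intro h
        rw [Multiset.lcm_eq_zero_iff] at h
        obtain ⟨x, hx, hx0⟩ := Multiset.mem_map.mp h
        have hx1 := hm' x hx
        have : 2 ^ 1 ≤ q ^ x :=
          (Nat.pow_le_pow_left hq 1).trans (Nat.pow_le_pow_right hq0 hx1)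
        omega
      have h2 := Nat.le_of_dvd (Nat.mul_pos hpos hLpos) h1
      calc (q - 1) * Nat.lcm (Lp q Bp) (Nat.lcm (q ^ d - 1) (Lm q Bm))
          ≤ (q - 1) * ((q ^ d - 1) * Nat.lcm (Lp q Bp) (Lm q Bm)) := Nat.mul_le_mul_left _ h2
        _ = (q ^ d - 1) * ((q - 1) * Nat.lcm (Lp q Bp) (Lm q Bm)) := by ring
        _ ≤ q ^ d * q ^ (Bp.sum + Bm.sum + 1) :=
            Nat.mul_le_mul (Nat.sub_le _ _) hIH
        _ = q ^ (Bp.sum + (d + Bm.sum) + 1) := by rw [← pow_add]; ring_nf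
    · push Not at h0
      obtain ⟨rfl, rfl⟩ := h0
      rw [Lp_zero, Lm_zero, Nat.lcm_one_right, Nat.lcm_one_left, Multiset.sum_zero, add_zero,
        zero_add]
      have h1 : 1 ≤ q ^ d := Nat.one_le_pow _ _ hq0
      calc (q - 1) * (q ^ d - 1) ≤ q * q ^ d := Nat.mul_le_mul (Nat.sub_le _ _) (Nat.sub_le _ _)
        _ = q ^ (d + 1) := by rw [pow_succ]; ring

end Cfsg.Agent.Lib.Helper94.EO
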