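import Mathlib
import Cfsg.Agent.Lib.Helper94.EO1
import Cfsg.Agent.Lib.Helper39.SpT7

set_option autoImplicit false
set_option linter.unusedVariables false
set_option linter.unusedSectionVars false
set_option linter.unusedSimpArgs false
set_option linter.style.haveILetI false

/-!
# The shape of the order of an isometry: the merging step
-/

namespace Cfsg.Agent.Lib.Helper94.EO

open Module Polynomial
open LinearMap (BilinForm)

section glue
variable {F : Type*} [Field F] {V : Type*} [AddCommGroup V] [Module F V]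

lemma restrict_pow_coe (T : Module.End F V) (U : Submodule F V) (hU : ∀ x ∈ U, T x ∈ U) (j : ℕ)
    (x : U) : (((T.restrict hU) ^ j) x : V) = (T ^ j) (x : V) := by
  induction j generalizing x with
  | zero => simp
  | succ j ih =>
    rw [pow_succ, Module.End.mul_apply, ih, pow_succ, Module.End.mul_apply]
    rfl

lemma glue (T : Module.End F V) (U W : Submodule F V) (hU : ∀ x ∈ U, T x ∈ U)
    (hW : ∀ x ∈ W, T x ∈ W) (hsup : U ⊔ W = ⊤) (N : ℕ) (c : F)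
    (h₁ : (T.restrict hU) ^ N = c • (1 : Module.End F U))
    (h₂ : (T.restrict hW) ^ N = c • (1 : Module.End F W)) : T ^ N = c • (1 : Module.End F V) := by
  apply LinearMap.ext
  intro v
  obtain ⟨u, hu, w, hw, rfl⟩ := Submodule.mem_sup.1 (show v ∈ U ⊔ W by rw [hsup]; trivial)
  have e1 := restrict_pow_coe T U hU N ⟨u, hu⟩
  have e2 := restrict_pow_coe T W hW N ⟨w, hw⟩
  rw [h₁] at e1
  rw [h₂] at e2
  simp only [LinearMap.smul_apply, Module.End.one_apply, Submodule.coe_smul] at e1 e2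
  rw [map_add, ← e1, ← e2, LinearMap.smul_apply, Module.End.one_apply, smul_add]

end glue

section signs
variable {F : Type*} [Field F]

lemma sign_pow (p : ℕ) (hp : p.Prime) [CharP F p] (s : F) (hs : s = 1 ∨ s = -1) (j : ℕ) :
    s ^ (p ^ j) = s := by
  rcases hs with rfl | rfl
  · exact one_pow _
  · by_cases h2 : p = 2
    · subst h2
      have : (-1 : F) = 1 := by
        have h3 : ((2 : ℕ) : F) = 0 := CharP.cast_eq_zero F 2
        have h4 : (2 : F) = 0 := by exact_mod_cast h3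
        calc (-1 : F) = 1 - 2 := by ring
          _ = 1 := by rw [h4, sub_zero]
      rw [this, one_pow]
    · exact Odd.neg_one_pow ((hp.odd_of_ne_two h2).pow)

lemma sign_sq (s : F) (hs : s = 1 ∨ s = -1) : s ^ 2 = 1 := by
  rcases hs with rfl | rfl <;> simp

lemma sign_pow_even (s : F) (hs : s = 1 ∨ s = -1) (L : ℕ) (hL : Even L) : s ^ L = 1 := by
  obtain ⟨r, rfl⟩ := hL
  rw [← two_mul, pow_mul, sign_sq s hs, one_pow]

lemma sign_eq_of_two (p : ℕ) [CharP F p] (h2 : p = 2) (s : F) (hs : s = 1 ∨ s = -1) : s = 1 := by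
  subst h2
  rcases hs with rfl | rfl
  · rfl
  · have h3 : ((2 : ℕ) : F) = 0 := CharP.cast_eq_zero F 2
    have h4 : (2 : F) = 0 := by exact_mod_cast h3
    calc (-1 : F) = 1 - 2 := by ring
      _ = 1 := by rw [h4, sub_zero]

end signs

section phi
variable {F : Type*} [Field F]

/-- the possible shapes of the order of an isometry of a symplectic space of dimension `2n` -/
def Phi (p q : ℕ) {V : Type*} [AddCommGroup V] [Module F V] (n : ℕ) (T : Module.End F V) : Prop :=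
  (∃ (e : ℕ) (s : F), p ^ e ≤ q ^ n ∧ (s = 1 ∨ s = -1) ∧ T ^ (p ^ e) = s • (1 : Module.End F V)) ∨
  (p ≠ 2 ∧ ∃ e : ℕ, p ^ e * q ≤ q ^ n ∧ T ^ (2 * p ^ e) = 1) ∨
  (∃ (Bp Bm : Multiset ℕ) (e : ℕ), (Bp ≠ 0 ∨ Bm ≠ 0) ∧ (∀ d ∈ Bp, 1 ≤ d) ∧ (∀ d ∈ Bm, 1 ≤ d) ∧
     p ^ e * q ^ (Bp.sum + Bm.sum) ≤ q ^ n ∧ T ^ (Nat.lcm (Lp q Bp) (Lm q Bm) * p ^ e) = 1)

variable {V : Type*} [AddCommGroup V] [Module F V]

lemma pow_smul_one (T : Module.End F V) (N : ℕ) (s : F) (h : T ^ N = s • (1 : Module.End F V))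
    (j : ℕ) : T ^ (N * j) = s ^ j • (1 : Module.End F V) := by
  rw [pow_mul, h, _root_.smul_pow, one_pow]

lemma Lm_pos (q : ℕ) (hq : 2 ≤ q) (B : Multiset ℕ) (hB : ∀ d ∈ B, 1 ≤ d) : 0 < Lm q B := by
  unfold Lm
  apply Nat.pos_of_ne_zero
  intro h
  rw [Multiset.lcm_eq_zero_iff] at h
  obtain ⟨x, hx, hx0⟩ := Multiset.mem_map.mp h
  have hx1 := hB x hx
  have : 2 ^ 1 ≤ q ^ x :=
    (Nat.pow_le_pow_left hq 1).trans (Nat.pow_le_pow_right (by omega) hx1)
  omega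

lemma dvd_Lm (q : ℕ) {B : Multiset ℕ} {d : ℕ} (hd : d ∈ B) : q ^ d - 1 ∣ Lm q B := by
  unfold Lm
  exact Multiset.dvd_lcm (Multiset.mem_map_of_mem _ hd)

/-- for odd `q` the lcm is even -/
lemma even_L (q : ℕ) (hq : Odd q) (Bp Bm : Multiset ℕ) (h0 : Bp ≠ 0 ∨ Bm ≠ 0) :
    Even (Nat.lcm (Lp q Bp) (Lm q Bm)) := by
  rcases h0 with h | h
  · obtain ⟨d, hd⟩ := Multiset.exists_mem_of_ne_zero h
    have h1 : Even (q ^ d + 1) := Odd.add_odd (hq.pow) odd_one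
    exact (even_iff_two_dvd.mpr ((even_iff_two_dvd.mp h1).trans (dvd_Lp q hd))).trans_dvd
      (Nat.dvd_lcm_left _ _) |> fun h => h
  · obtain ⟨d, hd⟩ := Multiset.exists_mem_of_ne_zero h
    have h1 : Even (q ^ d - 1) := Nat.Odd.sub_odd (hq.pow) odd_one
    have h2 : 2 ∣ Nat.lcm (Lp q Bp) (Lm q Bm) :=
      ((even_iff_two_dvd.mp h1).trans (dvd_Lm q hd)).trans (Nat.dvd_lcm_right _ _)
    exact even_iff_two_dvd.mpr h2

/-- the bound given by a shape -/
theorem Phi_bound (p q : ℕ) (hp : p.Prime) (hq : 2 ≤ q) (n : ℕ) (T : Module.End F V)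
    (h : Phi (F := F) p q n T) :
    ∃ N : ℕ, 0 < N ∧ (T ^ N = 1 ∨ T ^ N = -1) ∧ (q - 1) * N ≤ q ^ (n + 1) := by
  have hq0 : 0 < q := by omega
  rcases h with ⟨e, s, hb, hs, hT⟩ | ⟨-, e, hb, hT⟩ | ⟨Bp, Bm, e, h0, h1, h2, hb, hT⟩
  · refine ⟨p ^ e, Nat.pow_pos hp.pos, ?_, ?_⟩
    · rcases hs with rfl | rfl
      · left; rw [hT, one_smul]
      · right; rw [hT, neg_smul, one_smul]
    · calc (q - 1) * p ^ e ≤ q * q ^ n := Nat.mul_le_mul (Nat.sub_le _ _) hb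
        _ = q ^ (n + 1) := by rw [pow_succ]; ring
  · refine ⟨2 * p ^ e, Nat.mul_pos (by norm_num) (Nat.pow_pos hp.pos), Or.inl hT, ?_⟩
    have h3 : (q - 1) * 2 ≤ q * q := by
      obtain ⟨r, rfl⟩ : ∃ r, q = r + 2 := ⟨q - 2, by omega⟩
      have : r + 2 - 1 = r + 1 := by omega
      rw [this]
      nlinarith
    calc (q - 1) * (2 * p ^ e) = (q - 1) * 2 * p ^ e := by ring
      _ ≤ q * q * p ^ e := Nat.mul_le_mul_right _ h3
      _ = q * (p ^ e * q) := by ring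
      _ ≤ q * q ^ n := Nat.mul_le_mul_left _ hb
      _ = q ^ (n + 1) := by rw [pow_succ]; ring
  · have hL := lcm_bound q hq Bp h1 Bm h2 h0
    have hLpos : 0 < Nat.lcm (Lp q Bp) (Lm q Bm) := Nat.lcm_pos (Lp_pos q Bp) (Lm_pos q hq Bm h2)
    refine ⟨Nat.lcm (Lp q Bp) (Lm q Bm) * p ^ e, Nat.mul_pos hLpos (Nat.pow_pos hp.pos),
      Or.inl hT, ?_⟩
    calc (q - 1) * (Nat.lcm (Lp q Bp) (Lm q Bm) * p ^ e)
        = (q - 1) * Nat.lcm (Lp q Bp) (Lm q Bm) * p ^ e := by ring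
      _ ≤ q ^ (Bp.sum + Bm.sum + 1) * p ^ e := Nat.mul_le_mul_right _ hL
      _ = q * (p ^ e * q ^ (Bp.sum + Bm.sum)) := by rw [pow_succ]; ring
      _ ≤ q * q ^ n := Nat.mul_le_mul_left _ hb
      _ = q ^ (n + 1) := by rw [pow_succ]; ring

end phi

end Cfsg.Agent.Lib.Helper94.EO
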