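import Mathlib
import Cfsg.Agent.Lib.Helper94.EO2

set_option autoImplicit false
set_option linter.unusedVariables false
set_option linter.unusedSectionVars false
set_option linter.unusedSimpArgs false
set_option linter.style.haveILetI false

/-!
# The shape of the order of an isometry: merging two orthogonal summands
-/

namespace Cfsg.Agent.Lib.Helper94.EO

open Module

variable {F : Type*} [Field F]
variable {V V₁ V₂ : Type*} [AddCommGroup V] [Module F V] [AddCommGroup V₁] [Module F V₁]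
  [AddCommGroup V₂] [Module F V₂]

lemma pow_one_of_dvd {W : Type*} [AddCommGroup W] [Module F W] (T : Module.End F W) {a b : ℕ}
    (h : T ^ a = 1) (hab : a ∣ b) : T ^ b = 1 := by
  obtain ⟨c, rfl⟩ := hab
  rw [pow_mul, h, one_pow]

lemma pmax_eq (p e₁ e₂ : ℕ) : p ^ max e₁ e₂ = p ^ e₁ * p ^ (max e₁ e₂ - e₁) ∧
    p ^ max e₁ e₂ = p ^ e₂ * p ^ (max e₁ e₂ - e₂) := by
  constructor
  · rw [← pow_add]; congr 1; omega
  · rw [← pow_add]; congr 1; omega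

lemma pmax_cases (p e₁ e₂ : ℕ) : p ^ max e₁ e₂ = p ^ e₁ ∨ p ^ max e₁ e₂ = p ^ e₂ := by
  rcases max_cases e₁ e₂ with ⟨h, -⟩ | ⟨h, -⟩
  · left; rw [h]
  · right; rw [h]

/-- ordered cases of the merging step -/
theorem Phi_merge_aux (p q : ℕ) (hp : p.Prime) [CharP F p] (hq : 2 ≤ q)
    (hqodd : p ≠ 2 → Odd q)
    (T : Module.End F V) (T₁ : Module.End F V₁) (T₂ : Module.End F V₂)
    (hglue : ∀ (N : ℕ) (c : F), T₁ ^ N = c • (1 : Module.End F V₁) →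
      T₂ ^ N = c • (1 : Module.End F V₂) → T ^ N = c • (1 : Module.End F V))
    (n₁ n₂ : ℕ) (hn₁ : 1 ≤ n₁) (hn₂ : 1 ≤ n₂) (h₁ : Phi (F := F) p q n₁ T₁)
    (h₂ : Phi (F := F) p q n₂ T₂)
    (hord : (∃ (e : ℕ) (s : F), p ^ e ≤ q ^ n₁ ∧ (s = 1 ∨ s = -1) ∧
        T₁ ^ (p ^ e) = s • (1 : Module.End F V₁)) ∨
      ((p ≠ 2 ∧ ∃ e : ℕ, p ^ e * q ≤ q ^ n₁ ∧ T₁ ^ (2 * p ^ e) = 1) ∧
        ¬ (∃ (e : ℕ) (s : F), p ^ e ≤ q ^ n₂ ∧ (s = 1 ∨ s = -1) ∧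
          T₂ ^ (p ^ e) = s • (1 : Module.End F V₂))) ∨
      ((∃ (Bp Bm : Multiset ℕ) (e : ℕ), (Bp ≠ 0 ∨ Bm ≠ 0) ∧ (∀ d ∈ Bp, 1 ≤ d) ∧
        (∀ d ∈ Bm, 1 ≤ d) ∧ p ^ e * q ^ (Bp.sum + Bm.sum) ≤ q ^ n₁ ∧
        T₁ ^ (Nat.lcm (Lp q Bp) (Lm q Bm) * p ^ e) = 1) ∧
       (∃ (Bp Bm : Multiset ℕ) (e : ℕ), (Bp ≠ 0 ∨ Bm ≠ 0) ∧ (∀ d ∈ Bp, 1 ≤ d) ∧
        (∀ d ∈ Bm, 1 ≤ d) ∧ p ^ e * q ^ (Bp.sum + Bm.sum) ≤ q ^ n₂ ∧
        T₂ ^ (Nat.lcm (Lp q Bp) (Lm q Bm) * p ^ e) = 1))) :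
    Phi (F := F) p q (n₁ + n₂) T := by
  have hq0 : 0 < q := by omega
  have hp0 : 0 < p := hp.pos
  have hq1 : ∀ k, 1 ≤ q ^ k := fun k => Nat.one_le_pow _ _ hq0
  have hp1 : ∀ k, 1 ≤ p ^ k := fun k => Nat.one_le_pow _ _ hp0
  have hqn₁ : q ^ n₁ ≤ q ^ (n₁ + n₂) := Nat.pow_le_pow_right hq0 (by omega)
  have hqn₂ : q ^ n₂ ≤ q ^ (n₁ + n₂) := Nat.pow_le_pow_right hq0 (by omega)
  have hqn₁' : q ^ n₁ * q ≤ q ^ (n₁ + n₂) := by
    rw [← pow_succ]; exact Nat.pow_le_pow_right hq0 (by omega)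
  have hqn₂' : q ^ n₂ * q ≤ q ^ (n₁ + n₂) := by
    rw [← pow_succ]; exact Nat.pow_le_pow_right hq0 (by omega)
  rcases hord with ⟨e₁, s₁, hb₁, hs₁, hT₁⟩ | ⟨⟨hp2, e₁, hb₁, hT₁⟩, hnot⟩ |
      ⟨⟨Bp₁, Bm₁, e₁, h0₁, hBp₁, hBm₁, hb₁, hT₁⟩, ⟨Bp₂, Bm₂, e₂, h0₂, hBp₂, hBm₂, hb₂, hT₂⟩⟩
  · -- first summand of pure type
    rcases h₂ with ⟨e₂, s₂, hb₂, hs₂, hT₂⟩ | ⟨hp2, e₂, hb₂, hT₂⟩ |
      ⟨Bp, Bm, e₂, h0, hBp, hBm, hb₂, hT₂⟩
    · obtain ⟨hm₁, hm₂⟩ := pmax_eq p e₁ e₂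
      have hP₁ : T₁ ^ (p ^ max e₁ e₂) = s₁ • (1 : Module.End F V₁) := by
        rw [hm₁, pow_smul_one T₁ _ s₁ hT₁, sign_pow p hp s₁ hs₁]
      have hP₂ : T₂ ^ (p ^ max e₁ e₂) = s₂ • (1 : Module.End F V₂) := by
        rw [hm₂, pow_smul_one T₂ _ s₂ hT₂, sign_pow p hp s₂ hs₂]
      by_cases hss : s₁ = s₂
      · left
        refine ⟨max e₁ e₂, s₁, ?_, hs₁, hglue _ _ hP₁ (hss ▸ hP₂)⟩
        rcases pmax_cases p e₁ e₂ with h | h
        · rw [h]; exact hb₁.trans hqn₁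
        · rw [h]; exact hb₂.trans hqn₂
      · right; left
        have hp2 : p ≠ 2 := by
          intro h2
          apply hss
          rw [sign_eq_of_two p h2 s₁ hs₁, sign_eq_of_two p h2 s₂ hs₂]
        refine ⟨hp2, max e₁ e₂, ?_, ?_⟩
        · rcases pmax_cases p e₁ e₂ with h | h
          · rw [h]; exact (Nat.mul_le_mul_right _ hb₁).trans hqn₁'
          · rw [h]; exact (Nat.mul_le_mul_right _ hb₂).trans hqn₂'
        · have hQ₁ : T₁ ^ (2 * p ^ max e₁ e₂) = (1 : F) • (1 : Module.End F V₁) := by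
            rw [mul_comm, pow_smul_one T₁ _ s₁ hP₁, sign_sq s₁ hs₁]
          have hQ₂ : T₂ ^ (2 * p ^ max e₁ e₂) = (1 : F) • (1 : Module.End F V₂) := by
            rw [mul_comm, pow_smul_one T₂ _ s₂ hP₂, sign_sq s₂ hs₂]
          rw [hglue _ _ hQ₁ hQ₂, one_smul]
    · right; left
      obtain ⟨hm₁, hm₂⟩ := pmax_eq p e₁ e₂
      refine ⟨hp2, max e₁ e₂, ?_, ?_⟩
      · rcases pmax_cases p e₁ e₂ with h | h
        · rw [h]; exact (Nat.mul_le_mul_right _ hb₁).trans hqn₁'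
        · rw [h]; exact hb₂.trans hqn₂
      · have hQ₁ : T₁ ^ (2 * p ^ max e₁ e₂) = (1 : F) • (1 : Module.End F V₁) := by
          rw [hm₁, show 2 * (p ^ e₁ * p ^ (max e₁ e₂ - e₁)) =
            p ^ e₁ * (2 * p ^ (max e₁ e₂ - e₁)) by ring, pow_smul_one T₁ _ s₁ hT₁,
            sign_pow_even s₁ hs₁ _ (even_two_mul _)]
        have hQ₂ : T₂ ^ (2 * p ^ max e₁ e₂) = (1 : F) • (1 : Module.End F V₂) := by
          rw [one_smul]
          exact pow_one_of_dvd T₂ hT₂ ⟨p ^ (max e₁ e₂ - e₂), by rw [hm₂]; ring⟩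
        rw [hglue _ _ hQ₁ hQ₂, one_smul]
    · right; right
      obtain ⟨hm₁, hm₂⟩ := pmax_eq p e₁ e₂
      refine ⟨Bp, Bm, max e₁ e₂, h0, hBp, hBm, ?_, ?_⟩
      · rcases pmax_cases p e₁ e₂ with h | h
        · rw [h, pow_add q n₁ n₂]
          have : q ^ (Bp.sum + Bm.sum) ≤ q ^ n₂ :=
            (Nat.le_mul_of_pos_left _ (hp1 e₂)).trans hb₂
          exact Nat.mul_le_mul hb₁ this
        · rw [h]; exact hb₂.trans hqn₂
      · have hQ₁ : T₁ ^ (Nat.lcm (Lp q Bp) (Lm q Bm) * p ^ max e₁ e₂) =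
            (1 : F) • (1 : Module.End F V₁) := by
          rw [hm₁, show Nat.lcm (Lp q Bp) (Lm q Bm) * (p ^ e₁ * p ^ (max e₁ e₂ - e₁)) =
            p ^ e₁ * (Nat.lcm (Lp q Bp) (Lm q Bm) * p ^ (max e₁ e₂ - e₁)) by ring,
            pow_smul_one T₁ _ s₁ hT₁]
          by_cases h2 : p = 2
          · rw [sign_eq_of_two p h2 s₁ hs₁, one_pow]
          · rw [sign_pow_even s₁ hs₁ _ ((even_L q (hqodd h2) Bp Bm h0).mul_right _)]
        have hQ₂ : T₂ ^ (Nat.lcm (Lp q Bp) (Lm q Bm) * p ^ max e₁ e₂) =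
            (1 : F) • (1 : Module.End F V₂) := by
          rw [one_smul]
          exact pow_one_of_dvd T₂ hT₂ ⟨p ^ (max e₁ e₂ - e₂), by rw [hm₂]; ring⟩
        rw [hglue _ _ hQ₁ hQ₂, one_smul]
  · -- first summand of mixed type, second not pure
    rcases h₂ with hpure | ⟨-, e₂, hb₂, hT₂⟩ | ⟨Bp, Bm, e₂, h0, hBp, hBm, hb₂, hT₂⟩
    · exact absurd hpure hnot
    · right; left
      obtain ⟨hm₁, hm₂⟩ := pmax_eq p e₁ e₂
      refine ⟨hp2, max e₁ e₂, ?_, ?_⟩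
      · rcases pmax_cases p e₁ e₂ with h | h
        · rw [h]; exact hb₁.trans hqn₁
        · rw [h]; exact hb₂.trans hqn₂
      · have hQ₁ : T₁ ^ (2 * p ^ max e₁ e₂) = (1 : F) • (1 : Module.End F V₁) := by
          rw [one_smul]
          exact pow_one_of_dvd T₁ hT₁ ⟨p ^ (max e₁ e₂ - e₁), by rw [hm₁]; ring⟩
        have hQ₂ : T₂ ^ (2 * p ^ max e₁ e₂) = (1 : F) • (1 : Module.End F V₂) := by
          rw [one_smul]
          exact pow_one_of_dvd T₂ hT₂ ⟨p ^ (max e₁ e₂ - e₂), by rw [hm₂]; ring⟩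
        rw [hglue _ _ hQ₁ hQ₂, one_smul]
    · right; right
      obtain ⟨hm₁, hm₂⟩ := pmax_eq p e₁ e₂
      refine ⟨Bp, Bm, max e₁ e₂, h0, hBp, hBm, ?_, ?_⟩
      · rcases pmax_cases p e₁ e₂ with h | h
        · rw [h, pow_add q n₁ n₂]
          have h3 : q ^ (Bp.sum + Bm.sum) ≤ q ^ n₂ :=
            (Nat.le_mul_of_pos_left _ (hp1 e₂)).trans hb₂
          have h4 : p ^ e₁ ≤ q ^ n₁ := (Nat.le_mul_of_pos_right _ hq0).trans hb₁
          exact Nat.mul_le_mul h4 h3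
        · rw [h]; exact hb₂.trans hqn₂
      · obtain ⟨r, hr⟩ := even_L q (hqodd hp2) Bp Bm h0
        have hQ₁ : T₁ ^ (Nat.lcm (Lp q Bp) (Lm q Bm) * p ^ max e₁ e₂) =
            (1 : F) • (1 : Module.End F V₁) := by
          rw [one_smul]
          exact pow_one_of_dvd T₁ hT₁ ⟨r * p ^ (max e₁ e₂ - e₁), by rw [hm₁, hr]; ring⟩
        have hQ₂ : T₂ ^ (Nat.lcm (Lp q Bp) (Lm q Bm) * p ^ max e₁ e₂) =
            (1 : F) • (1 : Module.End F V₂) := by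
          rw [one_smul]
          exact pow_one_of_dvd T₂ hT₂ ⟨p ^ (max e₁ e₂ - e₂), by rw [hm₂]; ring⟩
        rw [hglue _ _ hQ₁ hQ₂, one_smul]
  · -- both of torus type
    right; right
    obtain ⟨hm₁, hm₂⟩ := pmax_eq p e₁ e₂
    refine ⟨Bp₁ + Bp₂, Bm₁ + Bm₂, max e₁ e₂, ?_, ?_, ?_, ?_, ?_⟩
    · rcases h0₁ with h | h
      · left
        intro h'
        apply h
        exact (add_eq_zero.mp h').1
      · right
        intro h'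
        apply h
        exact (add_eq_zero.mp h').1
    · intro d hd
      rcases Multiset.mem_add.mp hd with h | h
      · exact hBp₁ d h
      · exact hBp₂ d h
    · intro d hd
      rcases Multiset.mem_add.mp hd with h | h
      · exact hBm₁ d h
      · exact hBm₂ d h
    · rw [Multiset.sum_add, Multiset.sum_add]
      have h3 : q ^ (Bp₁.sum + Bm₁.sum) ≤ q ^ n₁ := (Nat.le_mul_of_pos_left _ (hp1 e₁)).trans hb₁
      have h4 : q ^ (Bp₂.sum + Bm₂.sum) ≤ q ^ n₂ := (Nat.le_mul_of_pos_left _ (hp1 e₂)).trans hb₂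
      rcases pmax_cases p e₁ e₂ with h | h
      · rw [h]
        calc p ^ e₁ * q ^ (Bp₁.sum + Bp₂.sum + (Bm₁.sum + Bm₂.sum))
            = (p ^ e₁ * q ^ (Bp₁.sum + Bm₁.sum)) * q ^ (Bp₂.sum + Bm₂.sum) := by
              rw [mul_assoc, ← pow_add]; ring_nf
          _ ≤ q ^ n₁ * q ^ n₂ := Nat.mul_le_mul hb₁ h4
          _ = q ^ (n₁ + n₂) := (pow_add _ _ _).symm
      · rw [h]
        calc p ^ e₂ * q ^ (Bp₁.sum + Bp₂.sum + (Bm₁.sum + Bm₂.sum))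
            = q ^ (Bp₁.sum + Bm₁.sum) * (p ^ e₂ * q ^ (Bp₂.sum + Bm₂.sum)) := by
              rw [mul_left_comm, ← pow_add]; ring_nf
          _ ≤ q ^ n₁ * q ^ n₂ := Nat.mul_le_mul h3 hb₂
          _ = q ^ (n₁ + n₂) := (pow_add _ _ _).symm
    · rw [Lp_add, Lm_add]
      have hd₁ : Nat.lcm (Lp q Bp₁) (Lm q Bm₁) ∣
          Nat.lcm (Nat.lcm (Lp q Bp₁) (Lp q Bp₂)) (Nat.lcm (Lm q Bm₁) (Lm q Bm₂)) :=
        Nat.lcm_dvd ((Nat.dvd_lcm_left _ _).trans (Nat.dvd_lcm_left _ _))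
          ((Nat.dvd_lcm_left _ _).trans (Nat.dvd_lcm_right _ _))
      have hd₂ : Nat.lcm (Lp q Bp₂) (Lm q Bm₂) ∣
          Nat.lcm (Nat.lcm (Lp q Bp₁) (Lp q Bp₂)) (Nat.lcm (Lm q Bm₁) (Lm q Bm₂)) :=
        Nat.lcm_dvd ((Nat.dvd_lcm_right _ _).trans (Nat.dvd_lcm_left _ _))
          ((Nat.dvd_lcm_right _ _).trans (Nat.dvd_lcm_right _ _))
      have hQ₁ : T₁ ^ (Nat.lcm (Nat.lcm (Lp q Bp₁) (Lp q Bp₂))
          (Nat.lcm (Lm q Bm₁) (Lm q Bm₂)) * p ^ max e₁ e₂) =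
          (1 : F) • (1 : Module.End F V₁) := by
        rw [one_smul]
        apply pow_one_of_dvd T₁ hT₁
        rw [hm₁]
        exact Nat.mul_dvd_mul hd₁ (Dvd.intro _ rfl)
      have hQ₂ : T₂ ^ (Nat.lcm (Nat.lcm (Lp q Bp₁) (Lp q Bp₂))
          (Nat.lcm (Lm q Bm₁) (Lm q Bm₂)) * p ^ max e₁ e₂) =
          (1 : F) • (1 : Module.End F V₂) := by
        rw [one_smul]
        apply pow_one_of_dvd T₂ hT₂
        rw [hm₂]
        exact Nat.mul_dvd_mul hd₂ (Dvd.intro _ rfl)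
      rw [hglue _ _ hQ₁ hQ₂, one_smul]

end Cfsg.Agent.Lib.Helper94.EO
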