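import Mathlib
import Cfsg.Agent.Lib.Helper94.EO3

set_option autoImplicit false
set_option linter.unusedVariables false
set_option linter.unusedSectionVars false
set_option linter.unusedSimpArgs false
set_option linter.style.haveILetI false
set_option maxHeartbeats 1600000

/-!
# The shape of the order of an isometry: indecomposable isometries
-/

namespace Cfsg.Agent.Lib.Helper94.EO

open Module Polynomial
open LinearMap (BilinForm)
open Cfsg.Agent.Lib.Helper40.Symp Cfsg.Agent.Lib.Helper40.PrimeOrder Cfsg.Agent.Lib.Helper40.PSp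
open Cfsg.Agent.Lib.Helper39.SpT

section merge
variable {F : Type*} [Field F]
variable {V V₁ V₂ : Type*} [AddCommGroup V] [Module F V] [AddCommGroup V₁] [Module F V₁]
  [AddCommGroup V₂] [Module F V₂]

/-- the merging step -/
theorem Phi_merge (p q : ℕ) (hp : p.Prime) [CharP F p] (hq : 2 ≤ q)
    (hqodd : p ≠ 2 → Odd q)
    (T : Module.End F V) (T₁ : Module.End F V₁) (T₂ : Module.End F V₂)
    (hglue : ∀ (N : ℕ) (c : F), T₁ ^ N = c • (1 : Module.End F V₁) →
      T₂ ^ N = c • (1 : Module.End F V₂) → T ^ N = c • (1 : Module.End F V))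
    (n₁ n₂ : ℕ) (hn₁ : 1 ≤ n₁) (hn₂ : 1 ≤ n₂) (h₁ : Phi (F := F) p q n₁ T₁)
    (h₂ : Phi (F := F) p q n₂ T₂) : Phi (F := F) p q (n₁ + n₂) T := by
  classical
  have hglue' : ∀ (N : ℕ) (c : F), T₂ ^ N = c • (1 : Module.End F V₂) →
      T₁ ^ N = c • (1 : Module.End F V₁) → T ^ N = c • (1 : Module.End F V) :=
    fun N c a b => hglue N c b a
  by_cases hpure₁ : ∃ (e : ℕ) (s : F), p ^ e ≤ q ^ n₁ ∧ (s = 1 ∨ s = -1) ∧
      T₁ ^ (p ^ e) = s • (1 : Module.End F V₁)
  · exact Phi_merge_aux p q hp hq hqodd T T₁ T₂ hglue n₁ n₂ hn₁ hn₂ h₁ h₂ (Or.inl hpure₁)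
  by_cases hpure₂ : ∃ (e : ℕ) (s : F), p ^ e ≤ q ^ n₂ ∧ (s = 1 ∨ s = -1) ∧
      T₂ ^ (p ^ e) = s • (1 : Module.End F V₂)
  · have := Phi_merge_aux p q hp hq hqodd T T₂ T₁ hglue' n₂ n₁ hn₂ hn₁ h₂ h₁ (Or.inl hpure₂)
    rwa [add_comm] at this
  rcases h₁ with a | b | c
  · exact absurd a hpure₁
  · exact Phi_merge_aux p q hp hq hqodd T T₁ T₂ hglue n₁ n₂ hn₁ hn₂ (Or.inr (Or.inl b)) h₂
      (Or.inr (Or.inl ⟨b, hpure₂⟩))
  · rcases h₂ with a' | b' | c'
    · exact absurd a' hpure₂
    · have := Phi_merge_aux p q hp hq hqodd T T₂ T₁ hglue' n₂ n₁ hn₂ hn₁ (Or.inr (Or.inl b'))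
        (Or.inr (Or.inr c)) (Or.inr (Or.inl ⟨b', hpure₁⟩))
      rwa [add_comm] at this
    · exact Phi_merge_aux p q hp hq hqodd T T₁ T₂ hglue n₁ n₂ hn₁ hn₂ (Or.inr (Or.inr c))
        (Or.inr (Or.inr c')) (Or.inr (Or.inr ⟨c, c'⟩))

end merge

section indec
variable {F : Type*} [Field F] [Fintype F] {V : Type*} [AddCommGroup V] [Module F V]
  [FiniteDimensional F V]
variable {ω : BilinForm F V} {T : Module.End F V}

lemma clog_pow_le (p k n : ℕ) (hp : 2 ≤ p) (hk : k ≤ p ^ n) : p ^ Nat.clog p k ≤ p ^ n :=
  Nat.pow_le_pow_right (by omega) (Nat.clog_le_of_le_pow hk)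

lemma le_two_pow_pred (k : ℕ) (hk : 1 ≤ k) : k ≤ 2 ^ (k - 1) := by
  have := @Nat.lt_two_pow_self (k - 1)
  omega

lemma card_eq_pow (p : ℕ) [Fact p.Prime] [CharP F p] : ∃ f : ℕ, 0 < f ∧ Fintype.card F = p ^ f := by
  obtain ⟨⟨f, hf⟩, -, hc⟩ := FiniteField.card F p
  exact ⟨f, hf, hc⟩

lemma p_le_card (p : ℕ) [Fact p.Prime] [CharP F p] : p ≤ Fintype.card F := by
  obtain ⟨f, hf, hc⟩ := card_eq_pow (F := F) p
  rw [hc]
  calc p = p ^ 1 := (pow_one p).symm
    _ ≤ p ^ f := Nat.pow_le_pow_right (Fact.out : p.Prime).pos hf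

/-- unipotent operators -/
lemma unip_pow (p : ℕ) [Fact p.Prime] [CharP F p] (S : Module.End F V) (k : ℕ)
    (hS : aeval S ((X - 1 : F[X]) ^ k) = 0) : S ^ (p ^ Nat.clog p k) = 1 := by
  have hp : p.Prime := Fact.out
  have hkle : k ≤ p ^ Nat.clog p k := Nat.le_pow_clog hp.one_lt k
  have := pow_eq_one_of_dvd (T := S) p ((X - 1 : F[X]) ^ k) hS 1 (Nat.clog p k) (by
    rw [pow_one]
    exact pow_dvd_pow _ hkle)
  rwa [one_mul] at this

/-- the shape of the order of an orthogonally indecomposable isometry -/
theorem Phi_indec [Nontrivial V] (p : ℕ) [Fact p.Prime] [CharP F p] (n : ℕ) (hn : 1 ≤ n)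
    (hfr : finrank F V = 2 * n) (h : SpIso ω T) (a : ℕ) (ha : 0 < a) (hTa : T ^ a = 1)
    (hind : ∀ U : Submodule F V, (∀ x ∈ U, T x ∈ U) → NondegOn ω U → U = ⊥ ∨ U = ⊤) :
    Phi (F := F) p (Fintype.card F) n T := by
  classical
  have hp : p.Prime := Fact.out
  have hp2 : 2 ≤ p := hp.two_le
  have hpq : p ≤ Fintype.card F := p_le_card p
  obtain ⟨π, k, k', hπm, hπi, hπ0, hk1, hπa, hPT, hPμ, hcases⟩ := struct_indec h a ha hTa hind
  have hμ0 : minpoly F T ≠ 0 := minpoly.ne_zero (Algebra.IsIntegral.isIntegral T)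
  have hπ'm := recip_monic π hπ0
  have hdegP : (π ^ k * (recip π) ^ k').natDegree = (k + k') * π.natDegree := by
    rw [natDegree_mul (pow_ne_zero _ hπm.ne_zero) (pow_ne_zero _ hπ'm.ne_zero), natDegree_pow,
      natDegree_pow, recip_natDegree π hπ0]
    ring
  have hdegle : (k + k') * π.natDegree ≤ 2 * n := by
    rw [← hdegP, ← hfr]
    exact (natDegree_le_of_dvd hPμ hμ0).trans natDegree_minpoly_le
  have hkle : k ≤ p ^ Nat.clog p k := Nat.le_pow_clog hp.one_lt k
  have hDpos : 0 < π.natDegree := Irreducible.natDegree_pos hπi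
  have hqpos : 0 < Fintype.card F := Fintype.card_pos
  have hq2 : 2 ≤ Fintype.card F := hp2.trans hpq
  -- the `p`-part is small
  have hclog : p ^ Nat.clog p k ≤ Fintype.card F ^ (k - 1) := by
    calc p ^ Nat.clog p k ≤ p ^ (k - 1) :=
          clog_pow_le p k (k - 1) hp2 ((le_two_pow_pred k hk1).trans
            (Nat.pow_le_pow_left hp2 _))
      _ ≤ Fintype.card F ^ (k - 1) := Nat.pow_le_pow_left hpq _
  have hX1m : (X - 1 : F[X]).Monic := by simpa using monic_X_sub_C (1 : F)
  have hX1d : (X - 1 : F[X]).natDegree = 1 := by simpa using natDegree_X_sub_C (1 : F)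
  have hXp1m : (X + 1 : F[X]).Monic := by simpa using monic_X_add_C (1 : F)
  have hXp1d : (X + 1 : F[X]).natDegree = 1 := by simpa using natDegree_X_add_C (1 : F)
  rcases hcases with ⟨hrec, hk'⟩ | ⟨hrec, hk'⟩
  · -- self-reciprocal
    rw [hk', pow_zero, mul_one] at hPT
    rw [hk', add_zero] at hdegle
    by_cases h1 : π = X - 1
    · left
      have hk2n : k ≤ 2 * n := by
        rw [h1, hX1d, mul_one] at hdegle
        exact hdegle
      refine ⟨Nat.clog p k, 1, ?_, Or.inl rfl, ?_⟩
      · calc p ^ Nat.clog p k ≤ p ^ n := by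
              apply clog_pow_le p k n hp2
              calc k ≤ 2 * n := hk2n
                _ ≤ 2 ^ n := by
                    have := @Nat.lt_two_pow_self n
                    rcases Nat.lt_or_ge n 3 with h3 | h3
                    · interval_cases n <;> simp_all
                    · have : ∀ m, 3 ≤ m → 2 * m ≤ 2 ^ m := by
                        intro m hm
                        induction m, hm using Nat.le_induction with
                        | base => norm_num
                        | succ m hm ih => rw [pow_succ]; omega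
                      exact this n h3
                _ ≤ p ^ n := Nat.pow_le_pow_left hp2 _
          _ ≤ Fintype.card F ^ n := Nat.pow_le_pow_left hpq _
      · rw [one_smul]
        rw [h1] at hPT
        exact unip_pow p T k hPT
    · by_cases h2 : π = X + 1
      · left
        have hk2n : k ≤ 2 * n := by
          rw [h2, hXp1d, mul_one] at hdegle
          exact hdegle
        have hS : aeval (-T) ((X - 1 : F[X]) ^ k) = 0 := by
          rw [h2] at hPT
          simp only [map_pow, map_add, map_sub, aeval_X, map_one] at hPT ⊢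
          have : (-T - 1 : Module.End F V) = (-1 : F) • (T + 1) := by
            rw [neg_one_smul]; abel
          rw [this, _root_.smul_pow, hPT, smul_zero]
        have hU := unip_pow p (-T) k hS
        have hnegT : (-T) ^ (p ^ Nat.clog p k) = (-1 : F) ^ (p ^ Nat.clog p k) • T ^ (p ^ Nat.clog p k) := by
          have : -T = (-1 : F) • T := (neg_one_smul F T).symm
          rw [this, _root_.smul_pow]
        rw [hnegT] at hU
        refine ⟨Nat.clog p k, (-1 : F) ^ (p ^ Nat.clog p k), ?_, ?_, ?_⟩
        · calc p ^ Nat.clog p k ≤ p ^ n := by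
                apply clog_pow_le p k n hp2
                calc k ≤ 2 * n := hk2n
                  _ ≤ 2 ^ n := by
                      rcases Nat.lt_or_ge n 3 with h3 | h3
                      · interval_cases n <;> simp_all
                      · have : ∀ m, 3 ≤ m → 2 * m ≤ 2 ^ m := by
                          intro m hm
                          induction m, hm using Nat.le_induction with
                          | base => norm_num
                          | succ m hm ih => rw [pow_succ]; omega
                        exact this n h3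
                  _ ≤ p ^ n := Nat.pow_le_pow_left hp2 _
            _ ≤ Fintype.card F ^ n := Nat.pow_le_pow_left hpq _
        · exact neg_one_pow_eq_or F _
        · have hsq : ((-1 : F) ^ (p ^ Nat.clog p k)) * ((-1 : F) ^ (p ^ Nat.clog p k)) = 1 := by
            rw [← mul_pow]; simp
          calc T ^ (p ^ Nat.clog p k)
              = (((-1 : F) ^ (p ^ Nat.clog p k)) * ((-1 : F) ^ (p ^ Nat.clog p k))) •
                  T ^ (p ^ Nat.clog p k) := by rw [hsq, one_smul]
            _ = ((-1 : F) ^ (p ^ Nat.clog p k)) •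
                  (((-1 : F) ^ (p ^ Nat.clog p k)) • T ^ (p ^ Nat.clog p k)) := by
                rw [mul_smul]
            _ = ((-1 : F) ^ (p ^ Nat.clog p k)) • (1 : Module.End F V) := by rw [hU]
      · -- a genuine self-reciprocal polynomial
        right; right
        have hsq : ¬ π ∣ X ^ 2 - 1 := by
          intro hd
          have hfac : (X ^ 2 - 1 : F[X]) = (X - 1) * (X + 1) := by ring
          rw [hfac] at hd
          rcases hπi.prime.dvd_or_dvd hd with e4 | e4
          · apply h1
            exact (eq_of_monic_of_dvd_of_natDegree_le hπm hX1m e4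
              (by rw [hX1d]; exact hDpos)).symm
          · apply h2
            exact (eq_of_monic_of_dvd_of_natDegree_le hπm hXp1m e4
              (by rw [hXp1d]; exact hDpos)).symm
        obtain ⟨d, hd2, hdvd⟩ := selfrecip_even π hπm hπi hπ0 hrec hsq
        have hd1 : 1 ≤ d := by omega
        have hdk : d * k ≤ n := by
          rw [hd2] at hdegle
          have : 2 * (d * k) ≤ 2 * n := by
            calc 2 * (d * k) = k * (2 * d) := by ring
              _ ≤ 2 * n := hdegle
          omega
        refine ⟨{d}, 0, Nat.clog p k, Or.inl (Multiset.singleton_ne_zero d), ?_, ?_, ?_, ?_⟩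
        · intro x hx
          rw [Multiset.mem_singleton.mp hx]; exact hd1
        · intro x hx
          exact absurd hx (Multiset.notMem_zero x)
        · rw [Multiset.sum_singleton, Multiset.sum_zero, add_zero]
          calc p ^ Nat.clog p k * Fintype.card F ^ d
              ≤ Fintype.card F ^ (k - 1) * Fintype.card F ^ d := Nat.mul_le_mul_right _ hclog
            _ ≤ Fintype.card F ^ (d * (k - 1)) * Fintype.card F ^ d := by
                apply Nat.mul_le_mul_right
                apply Nat.pow_le_pow_right hqpos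
                exact Nat.le_mul_of_pos_left _ hd1
            _ = Fintype.card F ^ (d * k) := by
                rw [← pow_add]; congr 1
                obtain ⟨k0, rfl⟩ : ∃ k0, k = k0 + 1 := ⟨k - 1, by omega⟩
                simp; ring
            _ ≤ Fintype.card F ^ n := Nat.pow_le_pow_right hqpos hdk
        · have hL : Nat.lcm (Lp (Fintype.card F) {d}) (Lm (Fintype.card F) 0) =
              Fintype.card F ^ d + 1 := by
            rw [Lm_zero, Nat.lcm_one_right]
            show Lp (Fintype.card F) (d ::ₘ 0) = _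
            rw [Lp_cons, Lp_zero, Nat.lcm_one_right]
          rw [hL]
          exact pow_eq_one_of_dvd p (π ^ k) hPT _ _
            ((pow_dvd_pow_of_dvd hdvd k).trans (pow_dvd_pow _ hkle))
  · -- a pair of distinct reciprocal factors
    right; right
    rw [hk'] at hPT hdegle
    set M := Fintype.card F ^ π.natDegree - 1 with hM
    have hMpos : 0 < M := by
      have : 2 ^ 1 ≤ Fintype.card F ^ π.natDegree :=
        (Nat.pow_le_pow_left hq2 1).trans (Nat.pow_le_pow_right (by omega) hDpos)
      omega
    have hd1 : π ∣ X ^ M - 1 := by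
      rw [← root_pow_eq_one_iff π hπi]
      exact root_pow_card π hπm hπi hπ0
    have hd2 : recip π ∣ X ^ M - 1 :=
      recip_dvd π _ hπ0 (reverse_X_pow_sub_one M hMpos) hd1
    have hcop : IsCoprime π (recip π) := by
      rw [hπi.coprime_iff_not_dvd]
      intro hd
      apply hrec
      exact eq_of_monic_of_dvd_of_natDegree_le hπm hπ'm hd (by rw [recip_natDegree π hπ0])
    have hd3 : π * recip π ∣ X ^ M - 1 := hcop.mul_dvd hd1 hd2
    have hdk : π.natDegree * k ≤ n := by
      have : 2 * (π.natDegree * k) ≤ 2 * n := by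
        calc 2 * (π.natDegree * k) = (k + k) * π.natDegree := by ring
          _ ≤ 2 * n := hdegle
      omega
    refine ⟨0, {π.natDegree}, Nat.clog p k, Or.inr (Multiset.singleton_ne_zero _), ?_, ?_, ?_, ?_⟩
    · intro x hx
      exact absurd hx (Multiset.notMem_zero x)
    · intro x hx
      rw [Multiset.mem_singleton.mp hx]; exact hDpos
    · rw [Multiset.sum_singleton, Multiset.sum_zero, zero_add]
      calc p ^ Nat.clog p k * Fintype.card F ^ π.natDegree
          ≤ Fintype.card F ^ (k - 1) * Fintype.card F ^ π.natDegree :=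
            Nat.mul_le_mul_right _ hclog
        _ ≤ Fintype.card F ^ (π.natDegree * (k - 1)) * Fintype.card F ^ π.natDegree := by
            apply Nat.mul_le_mul_right
            apply Nat.pow_le_pow_right hqpos
            exact Nat.le_mul_of_pos_left _ hDpos
        _ = Fintype.card F ^ (π.natDegree * k) := by
            rw [← pow_add]; congr 1
            obtain ⟨k0, rfl⟩ : ∃ k0, k = k0 + 1 := ⟨k - 1, by omega⟩
            simp; ring
        _ ≤ Fintype.card F ^ n := Nat.pow_le_pow_right hqpos hdk
    · have hL : Nat.lcm (Lp (Fintype.card F) 0) (Lm (Fintype.card F) {π.natDegree}) = M := by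
        rw [Lp_zero, Nat.lcm_one_left]
        show Lm (Fintype.card F) (π.natDegree ::ₘ 0) = _
        rw [Lm_cons, Lm_zero, Nat.lcm_one_right]
      rw [hL]
      refine pow_eq_one_of_dvd p _ hPT _ _ ?_
      rw [← mul_pow]
      exact (pow_dvd_pow_of_dvd hd3 k).trans (pow_dvd_pow _ hkle)

end indec

end Cfsg.Agent.Lib.Helper94.EO
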