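import Mathlib
import Cfsg.Agent.Lib.Helper94.EO4
import Cfsg.Agent.Lib.Helper36.AltEven

set_option autoImplicit false
set_option linter.unusedVariables false
set_option linter.unusedSectionVars false
set_option linter.unusedSimpArgs false
set_option linter.style.haveILetI false
set_option maxHeartbeats 1600000

/-!
# The shape of the order of an isometry of a symplectic space
-/

namespace Cfsg.Agent.Lib.Helper94.EO

open Module Polynomial
open LinearMap (BilinForm)
open Cfsg.Agent.Lib.Helper40.Symp
open Cfsg.Agent.Lib.Helper39.SpT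

universe u v

section main
variable {F : Type v} [Field F] [Fintype F]

/-- isometries have finite order -/
lemma exists_pow_eq_one {V : Type u} [AddCommGroup V] [Module F V] [FiniteDimensional F V]
    {ω : BilinForm F V} {T : Module.End F V} (h : SpIso ω T) : ∃ a : ℕ, 0 < a ∧ T ^ a = 1 := by
  classical
  have hker : LinearMap.ker T = ⊥ := by
    rw [LinearMap.ker_eq_bot']
    intro x hx
    apply h.nd.1 x
    intro y
    rw [← h.iso x y, hx]
    simp
  have hunit : IsUnit T := (LinearMap.isUnit_iff_ker_eq_bot T).mpr hker
  haveI : Finite (Module.End F V) := Module.finite_of_finite F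
  obtain ⟨uT, huT⟩ := hunit
  have hfin := isOfFinOrder_of_finite uT
  refine ⟨orderOf uT, hfin.orderOf_pos, ?_⟩
  have := pow_orderOf_eq_one uT
  have h2 := congrArg Units.val this
  rw [Units.val_pow_eq_pow_val, huT, Units.val_one] at h2
  exact h2

theorem Phi_main (p : ℕ) [Fact p.Prime] [CharP F p] : ∀ n : ℕ, 1 ≤ n →
    ∀ (V : Type u) [AddCommGroup V] [Module F V] [FiniteDimensional F V] (ω : BilinForm F V)
      (T : Module.End F V), finrank F V = 2 * n → SpIso ω T →
      Phi (F := F) p (Fintype.card F) n T := by
  intro n
  induction n using Nat.strong_induction_on with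
  | _ n ih =>
    intro hn V _ _ _ ω T hfr h
    classical
    have hp : p.Prime := Fact.out
    have hpq : p ≤ Fintype.card F := p_le_card p
    have hq2 : 2 ≤ Fintype.card F := hp.two_le.trans hpq
    have hqodd : p ≠ 2 → Odd (Fintype.card F) := by
      intro h2
      obtain ⟨f, hf, hc⟩ := card_eq_pow (F := F) p
      rw [hc]
      exact (hp.odd_of_ne_two h2).pow
    haveI : Nontrivial V := by
      apply Module.nontrivial_of_finrank_pos (R := F)
      omega
    obtain ⟨a, ha, hTa⟩ := exists_pow_eq_one h
    by_cases hdec : ∃ U : Submodule F V, (∀ x ∈ U, T x ∈ U) ∧ NondegOn ω U ∧ U ≠ ⊥ ∧ U ≠ ⊤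
    · obtain ⟨U, hU, hUnd, hU0, hU1⟩ := hdec
      have hinv : Inv ω T := h.iso
      have hW : ∀ x ∈ ω.orthogonal U, T x ∈ ω.orthogonal U := perp_invt hinv ha hTa U hU
      have hc : IsCompl U (ω.orthogonal U) := isCompl_perp h.alt hUnd
      have hW0 : ω.orthogonal U ≠ ⊥ := by
        intro h0
        apply hU1
        have := hc.sup_eq_top
        rw [h0, sup_bot_eq] at this
        exact this
      have hb₁ : SpIso (ω.restrict U) (T.restrict hU) :=
        { alt := fun x => h.alt x.1
          nd := restrict_nondegenerate h.alt hUnd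
          iso := by
            intro u w
            simp only [BilinForm.restrict_apply, LinearMap.domRestrict_apply,
              LinearMap.coe_restrict_apply]
            exact h.iso _ _ }
      have hb₂ : SpIso (ω.restrict (ω.orthogonal U)) (T.restrict hW) :=
        { alt := fun x => h.alt x.1
          nd := restrict_nondegenerate h.alt (nondegOn_perp h.alt h.nd hUnd)
          iso := by
            intro u w
            simp only [BilinForm.restrict_apply, LinearMap.domRestrict_apply,
              LinearMap.coe_restrict_apply]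
            exact h.iso _ _ }
      have hfr' : finrank F U + finrank F (ω.orthogonal U) = 2 * n := by
        rw [Submodule.finrank_add_eq_of_isCompl hc, hfr]
      obtain ⟨n₁, hn₁⟩ := Cfsg.Agent.Lib.Helper36.even_finrank_of_isAlt_nondegenerate
        (ω.restrict U) hb₁.alt hb₁.nd
      obtain ⟨n₂, hn₂⟩ := Cfsg.Agent.Lib.Helper36.even_finrank_of_isAlt_nondegenerate
        (ω.restrict (ω.orthogonal U)) hb₂.alt hb₂.nd
      have hU0' : 0 < finrank F U := by
        rw [Module.finrank_pos_iff]
        exact Submodule.nontrivial_iff_ne_bot.mpr hU0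
      have hW0' : 0 < finrank F (ω.orthogonal U) := by
        rw [Module.finrank_pos_iff]
        exact Submodule.nontrivial_iff_ne_bot.mpr hW0
      have hnn : n = n₁ + n₂ := by omega
      have h₁ := ih n₁ (by omega) (by omega) U (ω.restrict U) (T.restrict hU) (by omega) hb₁
      have h₂ := ih n₂ (by omega) (by omega) (ω.orthogonal U) (ω.restrict (ω.orthogonal U))
        (T.restrict hW) (by omega) hb₂
      rw [hnn]
      exact Phi_merge p (Fintype.card F) hp hq2 hqodd T (T.restrict hU) (T.restrict hW)
        (fun N c e1 e2 => glue T U (ω.orthogonal U) hU hW hc.sup_eq_top N c e1 e2)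
        n₁ n₂ (by omega) (by omega) h₁ h₂
    · have hind : ∀ U : Submodule F V, (∀ x ∈ U, T x ∈ U) → NondegOn ω U → U = ⊥ ∨ U = ⊤ := by
        intro U hU hUnd
        by_contra hc
        push Not at hc
        exact hdec ⟨U, hU, hUnd, hc.1, hc.2⟩
      exact Phi_indec p n hn hfr h a ha hTa hind

/-- every isometry of a symplectic space of dimension `2n` over the field with `q` elements has
projective order at most `q^(n+1)/(q-1)` -/
theorem order_bound (n : ℕ) (hn : 1 ≤ n) (V : Type u) [AddCommGroup V] [Module F V]
    [FiniteDimensional F V] (ω : BilinForm F V) (T : Module.End F V)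
    (hfr : finrank F V = 2 * n) (h : SpIso ω T) :
    ∃ N : ℕ, 0 < N ∧ (T ^ N = 1 ∨ T ^ N = -1) ∧
      (Fintype.card F - 1) * N ≤ Fintype.card F ^ (n + 1) := by
  obtain ⟨p, hchar⟩ := CharP.exists F
  haveI := hchar
  have hp : p.Prime := by
    rcases CharP.char_is_prime_or_zero F p with h | h
    · exact h
    · exact absurd h (CharP.char_ne_zero_of_finite F p)
  haveI : Fact p.Prime := ⟨hp⟩
  have hpq : p ≤ Fintype.card F := p_le_card p
  have hq2 : 2 ≤ Fintype.card F := hp.two_le.trans hpq
  exact Phi_bound p (Fintype.card F) hp hq2 n T (Phi_main p n hn V ω T hfr h)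

end main

end Cfsg.Agent.Lib.Helper94.EO
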