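import Mathlib
import Cfsg.Agent.Lib.Helper94.EO4

set_option autoImplicit false
set_option linter.unusedSimpArgs false
set_option linter.unusedVariables false
set_option linter.unnecessarySeqFocus false
set_option linter.unusedSectionVars false
set_option linter.style.haveILetI false
set_option maxHeartbeats 1600000

/-!
# Structure of orthogonally indecomposable isometries of reflexive forms

(the argument of `Helper39.SpT6` with the alternating hypothesis removed)
-/

namespace Cfsg.Agent.Lib.Helper94.EO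

open Module Polynomial
open LinearMap (BilinForm)
open Cfsg.Agent.Lib.Helper40.Symp Cfsg.Agent.Lib.Helper40.PrimeOrder Cfsg.Agent.Lib.Helper40.PSp
open Cfsg.Agent.Lib.Helper39.SpT

section defs
variable {F : Type*} [Field F]

/-- a space with a nondegenerate reflexive form and an isometry -/
structure BIso {V : Type*} [AddCommGroup V] [Module F V] (ω : BilinForm F V)
    (T : Module.End F V) : Prop where
  refl : ω.IsRefl
  nd : ω.Nondegenerate
  iso : ∀ u w, ω (T u) (T w) = ω u w

variable {V : Type*} [AddCommGroup V] [Module F V]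

lemma BIso.pow {ω : BilinForm F V} {T : Module.End F V} (h : BIso ω T) (c : ℕ) :
    BIso ω (T ^ c) := by
  refine ⟨h.refl, h.nd, ?_⟩
  induction c with
  | zero => intro u w; simp
  | succ c ih =>
    intro u w
    rw [pow_succ, Module.End.mul_apply, Module.End.mul_apply, ih, h.iso]

lemma BIso.neg {ω : BilinForm F V} {T : Module.End F V} (h : BIso ω T) : BIso ω (-T) := by
  refine ⟨h.refl, h.nd, ?_⟩
  intro u w
  simp only [LinearMap.neg_apply, map_neg, neg_neg]
  exact h.iso u w

end defs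

section orth
variable {F : Type*} [Field F] {V : Type*} [AddCommGroup V] [Module F V]
variable {ω : BilinForm F V} {T : Module.End F V}

lemma reflect_identity_b (h : BIso ω T) (N : ℕ) (f : F[X]) (hf : f.natDegree ≤ N) :
    ∀ u v : V, ω (aeval T f u) ((T ^ N) v) = ω u (aeval T (reflect N f) v) := by
  refine induction_with_natDegree_le
    (fun f => ∀ u v : V, ω (aeval T f u) ((T ^ N) v) = ω u (aeval T (reflect N f) v)) N
    ?_ ?_ ?_ f hf
  · intro u v
    simp
  · intro n r _ hnN u v
    rw [reflect_C_mul_X_pow, revAt_le hnN]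
    simp only [map_mul, aeval_C, map_pow, aeval_X, Module.End.mul_apply,
      Module.algebraMap_end_apply, map_smul, LinearMap.smul_apply, smul_eq_mul]
    congr 1
    have h1 : (T ^ N) v = (T ^ n) ((T ^ (N - n)) v) := by
      rw [← Module.End.mul_apply, ← pow_add, Nat.add_sub_cancel' hnN]
    rw [h1]
    exact (h.pow n).iso _ _
  · intro f g _ _ hf hg u v
    rw [map_add, LinearMap.add_apply, map_add, LinearMap.add_apply, hf, hg, reflect_add,
      map_add, LinearMap.add_apply, map_add]

lemma reverse_identity_b (h : BIso ω T) (f : F[X]) (u v : V) :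
    ω (aeval T f u) ((T ^ f.natDegree) v) = ω u (aeval T f.reverse v) :=
  reflect_identity_b h _ f le_rfl u v

lemma orth_of_coprime_b (h : BIso ω T) (f g : F[X]) (hc : IsCoprime f.reverse g) (u v : V)
    (hu : aeval T f u = 0) (hv : aeval T g v = 0) : ω u v = 0 := by
  obtain ⟨A, B, hAB⟩ := hc
  have h1 : v = aeval T f.reverse (aeval T A v) := by
    have h3 := congrArg (fun q : F[X] => aeval T q v) hAB
    simp only [map_add, map_one, Module.End.one_apply, LinearMap.add_apply] at h3
    rw [mul_comm A, map_mul, map_mul, Module.End.mul_apply, Module.End.mul_apply, hv, map_zero,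
      add_zero] at h3
    exact h3.symm
  rw [h1, ← reverse_identity_b h f u, hu]
  simp

lemma aeval_comm_apply_b (f : F[X]) (x : V) : aeval T f (T x) = T (aeval T f x) := by
  have h1 : aeval T (f * X) = aeval T (X * f) := by rw [mul_comm]
  rw [map_mul, map_mul, aeval_X] at h1
  exact congrArg (fun g : Module.End F V => g x) h1

end orth

section struct
variable {F : Type*} [Field F] {V : Type*} [AddCommGroup V] [Module F V] [FiniteDimensional F V]
variable {ω : BilinForm F V} {T : Module.End F V}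

lemma ker_aeval_ne_bot_of_dvd_minpoly_b (p : F[X]) (hp : ¬ IsUnit p) (hd : p ∣ minpoly F T) :
    LinearMap.ker (aeval T p) ≠ ⊥ := by
  intro hker
  obtain ⟨R, hR⟩ := hd
  have hμ0 : minpoly F T ≠ 0 := minpoly.ne_zero (Algebra.IsIntegral.isIntegral T)
  have hR0 : R ≠ 0 := by
    rintro rfl
    rw [mul_zero] at hR
    exact hμ0 hR
  have h1 : aeval T R = 0 := by
    apply LinearMap.ext
    intro x
    have h2 : aeval T p (aeval T R x) = 0 := by
      rw [← Module.End.mul_apply, ← map_mul, ← hR, minpoly.aeval]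
      rfl
    have : aeval T R x ∈ LinearMap.ker (aeval T p) := h2
    rw [hker] at this
    simpa using this
  have h3 : minpoly F T ∣ R := minpoly.dvd F T h1
  rw [hR] at h3
  have h4 : p * R ∣ 1 * R := by rwa [one_mul]
  have h5 := (mul_dvd_mul_iff_right hR0).mp h4
  exact hp (isUnit_of_dvd_one h5)

/-- the shape of the minimal polynomial of an orthogonally indecomposable isometry -/
theorem struct_indec_b [Nontrivial V] (h : BIso ω T) (a : ℕ) (ha : 0 < a) (hTa : T ^ a = 1)
    (hind : ∀ U : Submodule F V, (∀ x ∈ U, T x ∈ U) → NondegOn ω U → U = ⊥ ∨ U = ⊤) :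
    ∃ (p : F[X]) (k k' : ℕ), p.Monic ∧ Irreducible p ∧ p.coeff 0 ≠ 0 ∧ 1 ≤ k ∧
      p ∣ X ^ a - 1 ∧
      aeval T (p ^ k * (recip p) ^ k') = 0 ∧ (p ^ k * (recip p) ^ k') ∣ minpoly F T ∧
      ((recip p = p ∧ k' = 0) ∨ (recip p ≠ p ∧ k' = k)) := by
  classical
  have hμ0 : minpoly F T ≠ 0 := minpoly.ne_zero (Algebra.IsIntegral.isIntegral T)
  have hμu : ¬ IsUnit (minpoly F T) := minpoly.not_isUnit F T
  have hμa : minpoly F T ∣ X ^ a - 1 := by
    apply minpoly.dvd
    rw [map_sub, map_pow, aeval_X, hTa, map_one, sub_self]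
  obtain ⟨p, hpm, hpi, hpd⟩ := exists_monic_irreducible_factor _ hμu
  have hpa : p ∣ X ^ a - 1 := hpd.trans hμa
  have hp0 : p.coeff 0 ≠ 0 := by
    apply coeff_zero_ne_zero_of_dvd a ha p 1
    rw [pow_one]; exact hpa
  set p' := recip p with hp'
  have hp'm : p'.Monic := recip_monic p hp0
  have hp'i : Irreducible p' := recip_irreducible p hpm hpi hp0
  have hp'0 : p'.coeff 0 ≠ 0 := by
    rw [hp', recip_coeff_zero p hpm]
    exact inv_ne_zero hp0
  have hrr : recip p' = p := recip_recip p hpm hp0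
  -- the `p`-part
  have hfin : FiniteMultiplicity p (minpoly F T) :=
    FiniteMultiplicity.of_not_isUnit hpi.not_isUnit hμ0
  obtain ⟨Q₁, hμ, hQ₁⟩ := hfin.exists_eq_pow_mul_and_not_dvd
  obtain ⟨k, hk⟩ : ∃ k, k = multiplicity p (minpoly F T) := ⟨_, rfl⟩
  rw [← hk] at hμ
  have hk1 : 1 ≤ k := by
    by_contra hcon
    have hk0 : k = 0 := by omega
    rw [hk0, pow_zero, one_mul] at hμ
    rw [hμ] at hpd
    exact hQ₁ hpd
  have hQ₁0 : Q₁ ≠ 0 := by
    rintro rfl
    rw [mul_zero] at hμ
    exact hμ0 hμ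
  -- the `p'`-part
  obtain ⟨k', Q, hμ', hQp, hQp', hkk⟩ : ∃ (k' : ℕ) (Q : F[X]),
      minpoly F T = p ^ k * p' ^ k' * Q ∧ ¬ p ∣ Q ∧ ¬ p' ∣ Q ∧ (p' = p → k' = 0) := by
    by_cases hpp : p' = p
    · refine ⟨0, Q₁, ?_, hQ₁, ?_, fun _ => rfl⟩
      · rw [pow_zero, mul_one]; exact hμ
      · rw [hpp]; exact hQ₁
    · have hfin' : FiniteMultiplicity p' Q₁ :=
        FiniteMultiplicity.of_not_isUnit hp'i.not_isUnit hQ₁0
      obtain ⟨Q, hQe, hQ⟩ := hfin'.exists_eq_pow_mul_and_not_dvd
      refine ⟨multiplicity p' Q₁, Q, ?_, ?_, hQ, fun h => absurd h hpp⟩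
      · rw [hμ]
        conv_lhs => rw [hQe]
        ring
      · intro hd
        apply hQ₁
        rw [hQe]
        exact hd.trans (Dvd.intro_left _ rfl)
  set P := p ^ k * p' ^ k' with hP
  have hcpQ : IsCoprime p Q := (hpi.coprime_iff_not_dvd).mpr hQp
  have hcp'Q : IsCoprime p' Q := (hp'i.coprime_iff_not_dvd).mpr hQp'
  have hcPQ : IsCoprime P Q := (hcpQ.pow_left).mul_left (hcp'Q.pow_left)
  -- the reverse of `P`
  have hrev : P.reverse = C ((p.coeff 0) ^ k * (p'.coeff 0) ^ k') * (p' ^ k * p ^ k') := by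
    rw [hP, reverse_mul_of_domain, reverse_pow', reverse_pow', reverse_eq_of_coeff_zero p hp0,
      reverse_eq_of_coeff_zero p' hp'0, hrr, mul_pow, mul_pow, C_mul, C_pow, C_pow]
    ring
  have hunit : IsUnit (C ((p.coeff 0) ^ k * (p'.coeff 0) ^ k') : F[X]) :=
    isUnit_C.mpr (IsUnit.mk0 _ (mul_ne_zero (pow_ne_zero _ hp0) (pow_ne_zero _ hp'0)))
  have hcrevQ : IsCoprime P.reverse Q := by
    rw [hrev, isCoprime_mul_unit_left_left hunit]
    exact (hcp'Q.pow_left).mul_left (hcpQ.pow_left)
  -- the subspaces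
  set U := LinearMap.ker (aeval T P) with hU
  set W := LinearMap.ker (aeval T Q) with hW
  have hUW : U ⊔ W = ⊤ := by
    rw [hU, hW, sup_ker_aeval_eq_ker_aeval_mul_of_coprime T hcPQ, ← hμ', minpoly.aeval]
    exact LinearMap.ker_zero
  have hUinv : ∀ x ∈ U, T x ∈ U := by
    intro x hx
    rw [hU, LinearMap.mem_ker] at hx ⊢
    rw [aeval_comm_apply_b, hx, map_zero]
  have hUnd : NondegOn ω U := by
    intro x hx hxy
    apply h.nd.1 x
    intro z
    obtain ⟨u, hu, w, hw, rfl⟩ := Submodule.mem_sup.1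
      (show z ∈ U ⊔ W by rw [hUW]; trivial)
    rw [map_add, hxy u hu, zero_add]
    exact orth_of_coprime_b h P Q hcrevQ x w hx hw
  have hU0 : U ≠ ⊥ := by
    have h1 := ker_aeval_ne_bot_of_dvd_minpoly_b (T := T) p hpi.not_isUnit hpd
    intro h0
    apply h1
    rw [eq_bot_iff, ← h0]
    intro x hx
    rw [LinearMap.mem_ker] at hx
    rw [hU, LinearMap.mem_ker]
    obtain ⟨k₀, rfl⟩ : ∃ k₀, k = k₀ + 1 := ⟨k - 1, by omega⟩
    have : P = (p ^ k₀ * p' ^ k') * p := by rw [hP]; ring
    rw [this, map_mul, Module.End.mul_apply, hx, map_zero]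
  have hUtop : U = ⊤ := (hind U hUinv hUnd).resolve_left hU0
  have hPT : aeval T P = 0 := by
    rw [hU] at hUtop
    exact LinearMap.ker_eq_top.mp hUtop
  have hPμ : P ∣ minpoly F T := ⟨Q, hμ'⟩
  refine ⟨p, k, k', hpm, hpi, hp0, hk1, hpa, hPT, hPμ, ?_⟩
  by_cases hpp : p' = p
  · left
    exact ⟨hpp, hkk hpp⟩
  · right
    refine ⟨hpp, ?_⟩
    -- `P.reverse` also annihilates `T`
    have hrevT : aeval T P.reverse = 0 := by
      apply LinearMap.ext
      intro v
      apply h.nd.2
      intro u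
      rw [← reverse_identity_b h P u v, hPT]
      simp
    have h1 : P ∣ P.reverse := hPμ.trans (minpoly.dvd F T hrevT)
    rw [hrev] at h1
    have h2 : P ∣ p' ^ k * p ^ k' := (hunit.dvd_mul_left).mp h1
    have hcpp' : IsCoprime p p' := by
      rw [hpi.coprime_iff_not_dvd]
      intro hd
      apply hpp
      exact eq_of_monic_of_dvd_of_natDegree_le hpm hp'm hd
        (by rw [hp', recip_natDegree p hp0])
    have h3 : p ^ k ∣ p ^ k' := by
      have : p ^ k ∣ p' ^ k * p ^ k' := (Dvd.intro _ rfl).trans h2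
      exact (hcpp'.pow (m := k) (n := k)).dvd_of_dvd_mul_left this
    have h4 : p' ^ k' ∣ p' ^ k := by
      have : p' ^ k' ∣ p' ^ k * p ^ k' := (Dvd.intro_left _ rfl).trans h2
      exact (hcpp'.symm.pow (m := k') (n := k')).dvd_of_dvd_mul_right this
    have h5 : k ≤ k' := (pow_dvd_pow_iff hpm.ne_zero hpi.not_isUnit).mp h3
    have h6 : k' ≤ k := (pow_dvd_pow_iff hp'm.ne_zero hp'i.not_isUnit).mp h4
    omega

end struct
end Cfsg.Agent.Lib.Helper94.EO
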