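import Mathlib
import Cfsg.Agent.Lib.Helper94.EO3

set_option autoImplicit false
set_option linter.unusedVariables false
set_option linter.unusedSectionVars false
set_option linter.unusedSimpArgs false
set_option linter.style.haveILetI false

/-!
# The shape of the order of an isometry of an orthogonal space (odd characteristic)
-/

namespace Cfsg.Agent.Lib.Helper94.EO

open Module

variable {F : Type*} [Field F]

/-- the possible shapes of the order of an isometry, with capacity `c` and dimension bound `D` -/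
def PhiO (p q : ℕ) {V : Type*} [AddCommGroup V] [Module F V] (c D : ℕ) (T : Module.End F V) :
    Prop :=
  (∃ (e : ℕ) (s : F), p ^ e ≤ q ^ c ∧ e ≤ Nat.clog p D ∧ (s = 1 ∨ s = -1) ∧
    T ^ (p ^ e) = s • (1 : Module.End F V)) ∨
  (∃ e : ℕ, p ^ e ≤ q ^ c ∧ e ≤ Nat.clog p D ∧ T ^ (2 * p ^ e) = 1) ∨
  (∃ (Bp Bm : Multiset ℕ) (e : ℕ), (Bp ≠ 0 ∨ Bm ≠ 0) ∧ (∀ d ∈ Bp, 1 ≤ d) ∧ (∀ d ∈ Bm, 1 ≤ d) ∧
     p ^ e * q ^ (Bp.sum + Bm.sum) ≤ q ^ c ∧ T ^ (Nat.lcm (Lp q Bp) (Lm q Bm) * p ^ e) = 1)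

variable {V V₁ V₂ : Type*} [AddCommGroup V] [Module F V] [AddCommGroup V₁] [Module F V₁]
  [AddCommGroup V₂] [Module F V₂]

/-- the weak form of the unipotent shapes -/
lemma PhiO_weak (p q : ℕ) (c D : ℕ) (T : Module.End F V)
    (h : (∃ (e : ℕ) (s : F), p ^ e ≤ q ^ c ∧ e ≤ Nat.clog p D ∧ (s = 1 ∨ s = -1) ∧
        T ^ (p ^ e) = s • (1 : Module.End F V)) ∨
      (∃ e : ℕ, p ^ e ≤ q ^ c ∧ e ≤ Nat.clog p D ∧ T ^ (2 * p ^ e) = 1)) :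
    ∃ e : ℕ, p ^ e ≤ q ^ c ∧ e ≤ Nat.clog p D ∧ T ^ (2 * p ^ e) = 1 := by
  rcases h with ⟨e, s, hb, he, hs, hT⟩ | h
  · refine ⟨e, hb, he, ?_⟩
    rw [mul_comm, pow_smul_one T _ s hT, sign_sq s hs, one_smul]
  · exact h

/-- torus type plus weak unipotent type -/
lemma mergeB (p q : ℕ) (hp : p.Prime) (hq : 2 ≤ q) (hqodd : Odd q)
    (T : Module.End F V) (T₁ : Module.End F V₁) (T₂ : Module.End F V₂)
    (hglue : ∀ (N : ℕ) (c : F), T₁ ^ N = c • (1 : Module.End F V₁) →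
      T₂ ^ N = c • (1 : Module.End F V₂) → T ^ N = c • (1 : Module.End F V))
    (c₁ c₂ D : ℕ)
    (h₁ : ∃ (Bp Bm : Multiset ℕ) (e : ℕ), (Bp ≠ 0 ∨ Bm ≠ 0) ∧ (∀ d ∈ Bp, 1 ≤ d) ∧
      (∀ d ∈ Bm, 1 ≤ d) ∧ p ^ e * q ^ (Bp.sum + Bm.sum) ≤ q ^ c₁ ∧
      T₁ ^ (Nat.lcm (Lp q Bp) (Lm q Bm) * p ^ e) = 1)
    (h₂ : ∃ e : ℕ, p ^ e ≤ q ^ c₂ ∧ T₂ ^ (2 * p ^ e) = 1) :
    PhiO (F := F) p q (c₁ + c₂) D T := by
  have hq0 : 0 < q := by omega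
  have hp1 : ∀ k, 1 ≤ p ^ k := fun k => Nat.one_le_pow _ _ hp.pos
  obtain ⟨Bp, Bm, e₁, h0, hBp, hBm, hb₁, hT₁⟩ := h₁
  obtain ⟨e₂, hb₂, hT₂⟩ := h₂
  right; right
  obtain ⟨hm₁, hm₂⟩ := pmax_eq p e₁ e₂
  refine ⟨Bp, Bm, max e₁ e₂, h0, hBp, hBm, ?_, ?_⟩
  · have h3 : q ^ (Bp.sum + Bm.sum) ≤ q ^ c₁ := (Nat.le_mul_of_pos_left _ (hp1 e₁)).trans hb₁
    rcases pmax_cases p e₁ e₂ with h | h
    · rw [h]; exact hb₁.trans (Nat.pow_le_pow_right hq0 (by omega))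
    · rw [h, pow_add q c₁ c₂, mul_comm (q ^ c₁)]
      exact Nat.mul_le_mul hb₂ h3
  · obtain ⟨r, hr⟩ := even_L q hqodd Bp Bm h0
    have hQ₁ : T₁ ^ (Nat.lcm (Lp q Bp) (Lm q Bm) * p ^ max e₁ e₂) =
        (1 : F) • (1 : Module.End F V₁) := by
      rw [one_smul]
      exact pow_one_of_dvd T₁ hT₁ ⟨p ^ (max e₁ e₂ - e₁), by rw [hm₁]; ring⟩
    have hQ₂ : T₂ ^ (Nat.lcm (Lp q Bp) (Lm q Bm) * p ^ max e₁ e₂) =
        (1 : F) • (1 : Module.End F V₂) := by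
      rw [one_smul]
      exact pow_one_of_dvd T₂ hT₂ ⟨r * p ^ (max e₁ e₂ - e₂), by rw [hm₂, hr]; ring⟩
    rw [hglue _ _ hQ₁ hQ₂, one_smul]

/-- the merging step -/
theorem PhiO_merge (p q : ℕ) (hp : p.Prime) [CharP F p] (hq : 2 ≤ q) (hqodd : Odd q)
    (T : Module.End F V) (T₁ : Module.End F V₁) (T₂ : Module.End F V₂)
    (hglue : ∀ (N : ℕ) (c : F), T₁ ^ N = c • (1 : Module.End F V₁) →
      T₂ ^ N = c • (1 : Module.End F V₂) → T ^ N = c • (1 : Module.End F V))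
    (c₁ c₂ D₁ D₂ : ℕ) (h₁ : PhiO (F := F) p q c₁ D₁ T₁) (h₂ : PhiO (F := F) p q c₂ D₂ T₂) :
    PhiO (F := F) p q (c₁ + c₂) (D₁ + D₂) T := by
  have hq0 : 0 < q := by omega
  have hp1 : ∀ k, 1 ≤ p ^ k := fun k => Nat.one_le_pow _ _ hp.pos
  have hglue' : ∀ (N : ℕ) (c : F), T₂ ^ N = c • (1 : Module.End F V₂) →
      T₁ ^ N = c • (1 : Module.End F V₁) → T ^ N = c • (1 : Module.End F V) :=
    fun N c a b => hglue N c b a
  have hqc₁ : q ^ c₁ ≤ q ^ (c₁ + c₂) := Nat.pow_le_pow_right hq0 (by omega)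
  have hqc₂ : q ^ c₂ ≤ q ^ (c₁ + c₂) := Nat.pow_le_pow_right hq0 (by omega)
  have hD₁ : Nat.clog p D₁ ≤ Nat.clog p (D₁ + D₂) := Nat.clog_mono_right p (by omega)
  have hD₂ : Nat.clog p D₂ ≤ Nat.clog p (D₁ + D₂) := Nat.clog_mono_right p (by omega)
  rcases h₁ with a₁ | b₁ | t₁
  · rcases h₂ with a₂ | b₂ | t₂
    · -- both pure
      obtain ⟨e₁, s₁, hb₁, he₁, hs₁, hT₁⟩ := a₁
      obtain ⟨e₂, s₂, hb₂, he₂, hs₂, hT₂⟩ := a₂
      obtain ⟨hm₁, hm₂⟩ := pmax_eq p e₁ e₂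
      have hP₁ : T₁ ^ (p ^ max e₁ e₂) = s₁ • (1 : Module.End F V₁) := by
        rw [hm₁, pow_smul_one T₁ _ s₁ hT₁, sign_pow p hp s₁ hs₁]
      have hP₂ : T₂ ^ (p ^ max e₁ e₂) = s₂ • (1 : Module.End F V₂) := by
        rw [hm₂, pow_smul_one T₂ _ s₂ hT₂, sign_pow p hp s₂ hs₂]
      have hbb : p ^ max e₁ e₂ ≤ q ^ (c₁ + c₂) := by
        rcases pmax_cases p e₁ e₂ with h | h
        · rw [h]; exact hb₁.trans hqc₁
        · rw [h]; exact hb₂.trans hqc₂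
      have hee : max e₁ e₂ ≤ Nat.clog p (D₁ + D₂) := max_le (he₁.trans hD₁) (he₂.trans hD₂)
      by_cases hss : s₁ = s₂
      · left
        exact ⟨max e₁ e₂, s₁, hbb, hee, hs₁, hglue _ _ hP₁ (hss ▸ hP₂)⟩
      · right; left
        refine ⟨max e₁ e₂, hbb, hee, ?_⟩
        have hQ₁ : T₁ ^ (2 * p ^ max e₁ e₂) = (1 : F) • (1 : Module.End F V₁) := by
          rw [mul_comm, pow_smul_one T₁ _ s₁ hP₁, sign_sq s₁ hs₁]
        have hQ₂ : T₂ ^ (2 * p ^ max e₁ e₂) = (1 : F) • (1 : Module.End F V₂) := by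
          rw [mul_comm, pow_smul_one T₂ _ s₂ hP₂, sign_sq s₂ hs₂]
        rw [hglue _ _ hQ₁ hQ₂, one_smul]
    · -- pure and mixed
      obtain ⟨e₁, hb₁, he₁, hT₁⟩ := PhiO_weak p q c₁ D₁ T₁ (Or.inl a₁)
      obtain ⟨e₂, hb₂, he₂, hT₂⟩ := b₂
      obtain ⟨hm₁, hm₂⟩ := pmax_eq p e₁ e₂
      right; left
      refine ⟨max e₁ e₂, ?_, max_le (he₁.trans hD₁) (he₂.trans hD₂), ?_⟩
      · rcases pmax_cases p e₁ e₂ with h | h
        · rw [h]; exact hb₁.trans hqc₁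
        · rw [h]; exact hb₂.trans hqc₂
      · have hQ₁ : T₁ ^ (2 * p ^ max e₁ e₂) = (1 : F) • (1 : Module.End F V₁) := by
          rw [one_smul]
          exact pow_one_of_dvd T₁ hT₁ ⟨p ^ (max e₁ e₂ - e₁), by rw [hm₁]; ring⟩
        have hQ₂ : T₂ ^ (2 * p ^ max e₁ e₂) = (1 : F) • (1 : Module.End F V₂) := by
          rw [one_smul]
          exact pow_one_of_dvd T₂ hT₂ ⟨p ^ (max e₁ e₂ - e₂), by rw [hm₂]; ring⟩
        rw [hglue _ _ hQ₁ hQ₂, one_smul]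
    · obtain ⟨e₁, hb₁, he₁, hT₁⟩ := PhiO_weak p q c₁ D₁ T₁ (Or.inl a₁)
      have := mergeB p q hp hq hqodd T T₂ T₁ hglue' c₂ c₁ (D₁ + D₂) t₂ ⟨e₁, hb₁, hT₁⟩
      rwa [add_comm] at this
  · obtain ⟨e₁, hb₁, he₁, hT₁⟩ := b₁
    rcases h₂ with a₂ | b₂ | t₂
    · obtain ⟨e₂, hb₂, he₂, hT₂⟩ := PhiO_weak p q c₂ D₂ T₂ (Or.inl a₂)
      obtain ⟨hm₁, hm₂⟩ := pmax_eq p e₁ e₂
      right; left
      refine ⟨max e₁ e₂, ?_, max_le (he₁.trans hD₁) (he₂.trans hD₂), ?_⟩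
      · rcases pmax_cases p e₁ e₂ with h | h
        · rw [h]; exact hb₁.trans hqc₁
        · rw [h]; exact hb₂.trans hqc₂
      · have hQ₁ : T₁ ^ (2 * p ^ max e₁ e₂) = (1 : F) • (1 : Module.End F V₁) := by
          rw [one_smul]
          exact pow_one_of_dvd T₁ hT₁ ⟨p ^ (max e₁ e₂ - e₁), by rw [hm₁]; ring⟩
        have hQ₂ : T₂ ^ (2 * p ^ max e₁ e₂) = (1 : F) • (1 : Module.End F V₂) := by
          rw [one_smul]
          exact pow_one_of_dvd T₂ hT₂ ⟨p ^ (max e₁ e₂ - e₂), by rw [hm₂]; ring⟩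
        rw [hglue _ _ hQ₁ hQ₂, one_smul]
    · obtain ⟨e₂, hb₂, he₂, hT₂⟩ := b₂
      obtain ⟨hm₁, hm₂⟩ := pmax_eq p e₁ e₂
      right; left
      refine ⟨max e₁ e₂, ?_, max_le (he₁.trans hD₁) (he₂.trans hD₂), ?_⟩
      · rcases pmax_cases p e₁ e₂ with h | h
        · rw [h]; exact hb₁.trans hqc₁
        · rw [h]; exact hb₂.trans hqc₂
      · have hQ₁ : T₁ ^ (2 * p ^ max e₁ e₂) = (1 : F) • (1 : Module.End F V₁) := by
          rw [one_smul]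
          exact pow_one_of_dvd T₁ hT₁ ⟨p ^ (max e₁ e₂ - e₁), by rw [hm₁]; ring⟩
        have hQ₂ : T₂ ^ (2 * p ^ max e₁ e₂) = (1 : F) • (1 : Module.End F V₂) := by
          rw [one_smul]
          exact pow_one_of_dvd T₂ hT₂ ⟨p ^ (max e₁ e₂ - e₂), by rw [hm₂]; ring⟩
        rw [hglue _ _ hQ₁ hQ₂, one_smul]
    · have := mergeB p q hp hq hqodd T T₂ T₁ hglue' c₂ c₁ (D₁ + D₂) t₂ ⟨e₁, hb₁, hT₁⟩
      rwa [add_comm] at this
  · rcases h₂ with a₂ | b₂ | t₂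
    · obtain ⟨e₂, hb₂, he₂, hT₂⟩ := PhiO_weak p q c₂ D₂ T₂ (Or.inl a₂)
      exact mergeB p q hp hq hqodd T T₁ T₂ hglue c₁ c₂ (D₁ + D₂) t₁ ⟨e₂, hb₂, hT₂⟩
    · obtain ⟨e₂, hb₂, he₂, hT₂⟩ := b₂
      exact mergeB p q hp hq hqodd T T₁ T₂ hglue c₁ c₂ (D₁ + D₂) t₁ ⟨e₂, hb₂, hT₂⟩
    · -- both of torus type
      obtain ⟨Bp₁, Bm₁, e₁, h0₁, hBp₁, hBm₁, hb₁, hT₁⟩ := t₁
      obtain ⟨Bp₂, Bm₂, e₂, h0₂, hBp₂, hBm₂, hb₂, hT₂⟩ := t₂
      right; right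
      obtain ⟨hm₁, hm₂⟩ := pmax_eq p e₁ e₂
      refine ⟨Bp₁ + Bp₂, Bm₁ + Bm₂, max e₁ e₂, ?_, ?_, ?_, ?_, ?_⟩
      · rcases h0₁ with h | h
        · left
          intro h'
          apply h
          exact (add_eq_zero.mp h').1
        · right
          intro h'
          apply h
          exact (add_eq_zero.mp h').1
      · intro d hd
        rcases Multiset.mem_add.mp hd with h | h
        · exact hBp₁ d h
        · exact hBp₂ d h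
      · intro d hd
        rcases Multiset.mem_add.mp hd with h | h
        · exact hBm₁ d h
        · exact hBm₂ d h
      · rw [Multiset.sum_add, Multiset.sum_add]
        have h3 : q ^ (Bp₁.sum + Bm₁.sum) ≤ q ^ c₁ :=
          (Nat.le_mul_of_pos_left _ (hp1 e₁)).trans hb₁
        have h4 : q ^ (Bp₂.sum + Bm₂.sum) ≤ q ^ c₂ :=
          (Nat.le_mul_of_pos_left _ (hp1 e₂)).trans hb₂
        rcases pmax_cases p e₁ e₂ with h | h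
        · rw [h]
          calc p ^ e₁ * q ^ (Bp₁.sum + Bp₂.sum + (Bm₁.sum + Bm₂.sum))
              = (p ^ e₁ * q ^ (Bp₁.sum + Bm₁.sum)) * q ^ (Bp₂.sum + Bm₂.sum) := by
                rw [mul_assoc, ← pow_add]; ring_nf
            _ ≤ q ^ c₁ * q ^ c₂ := Nat.mul_le_mul hb₁ h4
            _ = q ^ (c₁ + c₂) := (pow_add _ _ _).symm
        · rw [h]
          calc p ^ e₂ * q ^ (Bp₁.sum + Bp₂.sum + (Bm₁.sum + Bm₂.sum))
              = q ^ (Bp₁.sum + Bm₁.sum) * (p ^ e₂ * q ^ (Bp₂.sum + Bm₂.sum)) := by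
                rw [mul_left_comm, ← pow_add]; ring_nf
            _ ≤ q ^ c₁ * q ^ c₂ := Nat.mul_le_mul h3 hb₂
            _ = q ^ (c₁ + c₂) := (pow_add _ _ _).symm
      · rw [Lp_add, Lm_add]
        have hd₁ : Nat.lcm (Lp q Bp₁) (Lm q Bm₁) ∣
            Nat.lcm (Nat.lcm (Lp q Bp₁) (Lp q Bp₂)) (Nat.lcm (Lm q Bm₁) (Lm q Bm₂)) :=
          Nat.lcm_dvd ((Nat.dvd_lcm_left _ _).trans (Nat.dvd_lcm_left _ _))
            ((Nat.dvd_lcm_left _ _).trans (Nat.dvd_lcm_right _ _))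
        have hd₂ : Nat.lcm (Lp q Bp₂) (Lm q Bm₂) ∣
            Nat.lcm (Nat.lcm (Lp q Bp₁) (Lp q Bp₂)) (Nat.lcm (Lm q Bm₁) (Lm q Bm₂)) :=
          Nat.lcm_dvd ((Nat.dvd_lcm_right _ _).trans (Nat.dvd_lcm_left _ _))
            ((Nat.dvd_lcm_right _ _).trans (Nat.dvd_lcm_right _ _))
        have hQ₁ : T₁ ^ (Nat.lcm (Nat.lcm (Lp q Bp₁) (Lp q Bp₂))
            (Nat.lcm (Lm q Bm₁) (Lm q Bm₂)) * p ^ max e₁ e₂) =
            (1 : F) • (1 : Module.End F V₁) := by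
          rw [one_smul]
          apply pow_one_of_dvd T₁ hT₁
          rw [hm₁]
          exact Nat.mul_dvd_mul hd₁ (Dvd.intro _ rfl)
        have hQ₂ : T₂ ^ (Nat.lcm (Nat.lcm (Lp q Bp₁) (Lp q Bp₂))
            (Nat.lcm (Lm q Bm₁) (Lm q Bm₂)) * p ^ max e₁ e₂) =
            (1 : F) • (1 : Module.End F V₂) := by
          rw [one_smul]
          apply pow_one_of_dvd T₂ hT₂
          rw [hm₂]
          exact Nat.mul_dvd_mul hd₂ (Dvd.intro _ rfl)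
        rw [hglue _ _ hQ₁ hQ₂, one_smul]

/-- monotonicity in the capacity and the dimension bound -/
theorem PhiO_mono (p q : ℕ) (hq : 2 ≤ q) (c c' D D' : ℕ) (hc : c ≤ c') (hD : D ≤ D')
    (T : Module.End F V) (h : PhiO (F := F) p q c D T) : PhiO (F := F) p q c' D' T := by
  have hq0 : 0 < q := by omega
  have h1 : q ^ c ≤ q ^ c' := Nat.pow_le_pow_right hq0 hc
  have h2 : Nat.clog p D ≤ Nat.clog p D' := Nat.clog_mono_right p hD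
  rcases h with ⟨e, s, hb, he, hs, hT⟩ | ⟨e, hb, he, hT⟩ | ⟨Bp, Bm, e, h0, hBp, hBm, hb, hT⟩
  · exact Or.inl ⟨e, s, hb.trans h1, he.trans h2, hs, hT⟩
  · exact Or.inr (Or.inl ⟨e, hb.trans h1, he.trans h2, hT⟩)
  · exact Or.inr (Or.inr ⟨Bp, Bm, e, h0, hBp, hBm, hb.trans h1, hT⟩)

/-- the bound given by a shape -/
theorem PhiO_bound (p q : ℕ) (hp : p.Prime) (hp2 : p ≠ 2) (hpq : p ≤ q) (m : ℕ) (hm : 3 ≤ m)
    (c D : ℕ) (hc : c ≤ m) (hD : D ≤ 2 * m + 1) (T : Module.End F V)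
    (h : PhiO (F := F) p q c D T) :
    ∃ N : ℕ, 0 < N ∧ (T ^ N = 1 ∨ T ^ N = -1) ∧ (q - 1) * N ≤ q ^ (m + 1) := by
  have hp3 : 3 ≤ p := by have := hp.two_le; omega
  have hq : 2 ≤ q := by omega
  have hq0 : 0 < q := by omega
  have hqc : q ^ c ≤ q ^ m := Nat.pow_le_pow_right hq0 hc
  rcases h with ⟨e, s, hb, he, hs, hT⟩ | ⟨e, hb, he, hT⟩ | ⟨Bp, Bm, e, h0, h1, h2, hb, hT⟩
  · refine ⟨p ^ e, Nat.pow_pos hp.pos, ?_, ?_⟩
    · rcases hs with rfl | rfl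
      · left; rw [hT, one_smul]
      · right; rw [hT, neg_smul, one_smul]
    · calc (q - 1) * p ^ e ≤ q * q ^ m := Nat.mul_le_mul (Nat.sub_le _ _) (hb.trans hqc)
        _ = q ^ (m + 1) := by rw [pow_succ]; ring
  · refine ⟨2 * p ^ e, Nat.mul_pos (by norm_num) (Nat.pow_pos hp.pos), Or.inl hT, ?_⟩
    have h3 : (q - 1) * 2 ≤ q * q := by
      obtain ⟨r, rfl⟩ : ∃ r, q = r + 2 := ⟨q - 2, by omega⟩
      have : r + 2 - 1 = r + 1 := by omega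
      rw [this]
      nlinarith
    -- `p ^ e ≤ p ^ (m - 1)`
    have h4 : D ≤ p ^ (m - 1) := by
      have h5 : ∀ k, 2 ≤ k → 2 * (k + 1) + 1 ≤ 3 ^ k := by
        intro k hk
        induction k, hk using Nat.le_induction with
        | base => norm_num
        | succ k hk ih => rw [pow_succ]; omega
      have h6 := h5 (m - 1) (by omega)
      have h7 : m - 1 + 1 = m := by omega
      rw [h7] at h6
      calc D ≤ 2 * m + 1 := hD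
        _ ≤ 3 ^ (m - 1) := h6
        _ ≤ p ^ (m - 1) := Nat.pow_le_pow_left hp3 _
    have h8 : p ^ e ≤ q ^ (m - 1) := by
      calc p ^ e ≤ p ^ Nat.clog p D := Nat.pow_le_pow_right hp.pos he
        _ ≤ p ^ (m - 1) := Nat.pow_le_pow_right hp.pos (Nat.clog_le_of_le_pow h4)
        _ ≤ q ^ (m - 1) := Nat.pow_le_pow_left hpq _
    calc (q - 1) * (2 * p ^ e) = (q - 1) * 2 * p ^ e := by ring
      _ ≤ q * q * q ^ (m - 1) := Nat.mul_le_mul h3 h8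
      _ = q ^ (m + 1) := by
          obtain ⟨m0, rfl⟩ : ∃ m0, m = m0 + 1 := ⟨m - 1, by omega⟩
          simp [pow_succ]; ring
  · have hL := lcm_bound q hq Bp h1 Bm h2 h0
    have hLpos : 0 < Nat.lcm (Lp q Bp) (Lm q Bm) := Nat.lcm_pos (Lp_pos q Bp) (Lm_pos q hq Bm h2)
    refine ⟨Nat.lcm (Lp q Bp) (Lm q Bm) * p ^ e, Nat.mul_pos hLpos (Nat.pow_pos hp.pos),
      Or.inl hT, ?_⟩
    calc (q - 1) * (Nat.lcm (Lp q Bp) (Lm q Bm) * p ^ e)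
        = (q - 1) * Nat.lcm (Lp q Bp) (Lm q Bm) * p ^ e := by ring
      _ ≤ q ^ (Bp.sum + Bm.sum + 1) * p ^ e := Nat.mul_le_mul_right _ hL
      _ = q * (p ^ e * q ^ (Bp.sum + Bm.sum)) := by rw [pow_succ]; ring
      _ ≤ q * q ^ m := Nat.mul_le_mul_left _ (hb.trans hqc)
      _ = q ^ (m + 1) := by rw [pow_succ]; ring

end Cfsg.Agent.Lib.Helper94.EO
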