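import Mathlib
import Cfsg.Agent.Lib.Helper94.EO6
import Cfsg.Agent.Lib.Helper94.EO7

set_option autoImplicit false
set_option linter.unusedVariables false
set_option linter.unusedSectionVars false
set_option linter.unusedSimpArgs false
set_option linter.style.haveILetI false
set_option maxHeartbeats 1600000

/-!
# The shape of the order of an isometry of an orthogonal space: the structure theorem
-/

namespace Cfsg.Agent.Lib.Helper94.EO

open Module Polynomial
open LinearMap (BilinForm)
open Cfsg.Agent.Lib.Helper40.Symp Cfsg.Agent.Lib.Helper40.PrimeOrder Cfsg.Agent.Lib.Helper40.PSp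
open Cfsg.Agent.Lib.Helper39.SpT

universe u v

section indec
variable {F : Type*} [Field F] [Fintype F] {V : Type*} [AddCommGroup V] [Module F V]
  [FiniteDimensional F V]
variable {ω : BilinForm F V} {T : Module.End F V}

lemma le_three_pow_half (D : ℕ) (hD : 1 ≤ D) : D ≤ 3 ^ (D / 2) := by
  induction D using Nat.strong_induction_on with
  | _ D ih =>
    rcases Nat.lt_or_ge D 3 with h | h
    · interval_cases D <;> simp
    · have h1 := ih (D - 2) (by omega) (by omega)
      have h2 : D / 2 = (D - 2) / 2 + 1 := by omega
      rw [h2, pow_succ]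
      omega

/-- the shape of the order of an orthogonally indecomposable isometry (odd characteristic) -/
theorem PhiO_indec [Nontrivial V] (p : ℕ) [Fact p.Prime] [CharP F p] (hp2' : p ≠ 2)
    (h : BIso ω T) (a : ℕ) (ha : 0 < a) (hTa : T ^ a = 1)
    (hind : ∀ U : Submodule F V, (∀ x ∈ U, T x ∈ U) → NondegOn ω U → U = ⊥ ∨ U = ⊤) :
    PhiO (F := F) p (Fintype.card F) (finrank F V / 2) (finrank F V) T := by
  classical
  have hp : p.Prime := Fact.out
  have hp2 : 2 ≤ p := hp.two_le
  have hp3 : 3 ≤ p := by omega
  have hpq : p ≤ Fintype.card F := p_le_card p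
  have hD1 : 1 ≤ finrank F V := Module.finrank_pos
  obtain ⟨π, k, k', hπm, hπi, hπ0, hk1, hπa, hPT, hPμ, hcases⟩ := struct_indec_b h a ha hTa hind
  have hμ0 : minpoly F T ≠ 0 := minpoly.ne_zero (Algebra.IsIntegral.isIntegral T)
  have hπ'm := recip_monic π hπ0
  have hdegP : (π ^ k * (recip π) ^ k').natDegree = (k + k') * π.natDegree := by
    rw [natDegree_mul (pow_ne_zero _ hπm.ne_zero) (pow_ne_zero _ hπ'm.ne_zero), natDegree_pow,
      natDegree_pow, recip_natDegree π hπ0]
    ring
  have hdegle : (k + k') * π.natDegree ≤ finrank F V := by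
    rw [← hdegP]
    exact (natDegree_le_of_dvd hPμ hμ0).trans natDegree_minpoly_le
  have hkle : k ≤ p ^ Nat.clog p k := Nat.le_pow_clog hp.one_lt k
  have hDpos : 0 < π.natDegree := Irreducible.natDegree_pos hπi
  have hqpos : 0 < Fintype.card F := Fintype.card_pos
  have hq2 : 2 ≤ Fintype.card F := hp2.trans hpq
  have hclog : p ^ Nat.clog p k ≤ Fintype.card F ^ (k - 1) := by
    calc p ^ Nat.clog p k ≤ p ^ (k - 1) :=
          clog_pow_le p k (k - 1) hp2 ((le_two_pow_pred k hk1).trans
            (Nat.pow_le_pow_left hp2 _))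
      _ ≤ Fintype.card F ^ (k - 1) := Nat.pow_le_pow_left hpq _
  have hX1m : (X - 1 : F[X]).Monic := by simpa using monic_X_sub_C (1 : F)
  have hX1d : (X - 1 : F[X]).natDegree = 1 := by simpa using natDegree_X_sub_C (1 : F)
  have hXp1m : (X + 1 : F[X]).Monic := by simpa using monic_X_add_C (1 : F)
  have hXp1d : (X + 1 : F[X]).natDegree = 1 := by simpa using natDegree_X_add_C (1 : F)
  -- the unipotent bound
  have hunip : k ≤ finrank F V → p ^ Nat.clog p k ≤ Fintype.card F ^ (finrank F V / 2) ∧
      Nat.clog p k ≤ Nat.clog p (finrank F V) := by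
    intro hk
    refine ⟨?_, Nat.clog_mono_right p hk⟩
    calc p ^ Nat.clog p k ≤ p ^ (finrank F V / 2) := by
          apply clog_pow_le p k _ hp2
          calc k ≤ finrank F V := hk
            _ ≤ 3 ^ (finrank F V / 2) := le_three_pow_half _ hD1
            _ ≤ p ^ (finrank F V / 2) := Nat.pow_le_pow_left hp3 _
      _ ≤ Fintype.card F ^ (finrank F V / 2) := Nat.pow_le_pow_left hpq _
  rcases hcases with ⟨hrec, hk'⟩ | ⟨hrec, hk'⟩
  · -- self-reciprocal
    rw [hk', pow_zero, mul_one] at hPT
    rw [hk', add_zero] at hdegle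
    by_cases h1 : π = X - 1
    · left
      have hk2n : k ≤ finrank F V := by
        rw [h1, hX1d, mul_one] at hdegle
        exact hdegle
      obtain ⟨hb, he⟩ := hunip hk2n
      refine ⟨Nat.clog p k, 1, hb, he, Or.inl rfl, ?_⟩
      rw [one_smul]
      rw [h1] at hPT
      exact unip_pow p T k hPT
    · by_cases h2 : π = X + 1
      · left
        have hk2n : k ≤ finrank F V := by
          rw [h2, hXp1d, mul_one] at hdegle
          exact hdegle
        obtain ⟨hb, he⟩ := hunip hk2n
        have hS : aeval (-T) ((X - 1 : F[X]) ^ k) = 0 := by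
          rw [h2] at hPT
          simp only [map_pow, map_add, map_sub, aeval_X, map_one] at hPT ⊢
          have : (-T - 1 : Module.End F V) = (-1 : F) • (T + 1) := by
            rw [neg_one_smul]; abel
          rw [this, _root_.smul_pow, hPT, smul_zero]
        have hU := unip_pow p (-T) k hS
        have hnegT : (-T) ^ (p ^ Nat.clog p k) =
            (-1 : F) ^ (p ^ Nat.clog p k) • T ^ (p ^ Nat.clog p k) := by
          have : -T = (-1 : F) • T := (neg_one_smul F T).symm
          rw [this, _root_.smul_pow]
        rw [hnegT] at hU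
        refine ⟨Nat.clog p k, (-1 : F) ^ (p ^ Nat.clog p k), hb, he, neg_one_pow_eq_or F _, ?_⟩
        have hsq : ((-1 : F) ^ (p ^ Nat.clog p k)) * ((-1 : F) ^ (p ^ Nat.clog p k)) = 1 := by
          rw [← mul_pow]; simp
        calc T ^ (p ^ Nat.clog p k)
            = (((-1 : F) ^ (p ^ Nat.clog p k)) * ((-1 : F) ^ (p ^ Nat.clog p k))) •
                T ^ (p ^ Nat.clog p k) := by rw [hsq, one_smul]
          _ = ((-1 : F) ^ (p ^ Nat.clog p k)) •
                (((-1 : F) ^ (p ^ Nat.clog p k)) • T ^ (p ^ Nat.clog p k)) := by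
              rw [mul_smul]
          _ = ((-1 : F) ^ (p ^ Nat.clog p k)) • (1 : Module.End F V) := by rw [hU]
      · right; right
        have hsq : ¬ π ∣ X ^ 2 - 1 := by
          intro hd
          have hfac : (X ^ 2 - 1 : F[X]) = (X - 1) * (X + 1) := by ring
          rw [hfac] at hd
          rcases hπi.prime.dvd_or_dvd hd with e4 | e4
          · apply h1
            exact (eq_of_monic_of_dvd_of_natDegree_le hπm hX1m e4
              (by rw [hX1d]; exact hDpos)).symm
          · apply h2
            exact (eq_of_monic_of_dvd_of_natDegree_le hπm hXp1m e4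
              (by rw [hXp1d]; exact hDpos)).symm
        obtain ⟨d, hd2, hdvd⟩ := selfrecip_even π hπm hπi hπ0 hrec hsq
        have hd1 : 1 ≤ d := by omega
        have hdk : d * k ≤ finrank F V / 2 := by
          rw [hd2] at hdegle
          rw [Nat.le_div_iff_mul_le (by norm_num)]
          calc d * k * 2 = k * (2 * d) := by ring
            _ ≤ finrank F V := hdegle
        refine ⟨{d}, 0, Nat.clog p k, Or.inl (Multiset.singleton_ne_zero d), ?_, ?_, ?_, ?_⟩
        · intro x hx
          rw [Multiset.mem_singleton.mp hx]; exact hd1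
        · intro x hx
          exact absurd hx (Multiset.notMem_zero x)
        · rw [Multiset.sum_singleton, Multiset.sum_zero, add_zero]
          calc p ^ Nat.clog p k * Fintype.card F ^ d
              ≤ Fintype.card F ^ (k - 1) * Fintype.card F ^ d := Nat.mul_le_mul_right _ hclog
            _ ≤ Fintype.card F ^ (d * (k - 1)) * Fintype.card F ^ d := by
                apply Nat.mul_le_mul_right
                apply Nat.pow_le_pow_right hqpos
                exact Nat.le_mul_of_pos_left _ hd1
            _ = Fintype.card F ^ (d * k) := by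
                rw [← pow_add]; congr 1
                obtain ⟨k0, rfl⟩ : ∃ k0, k = k0 + 1 := ⟨k - 1, by omega⟩
                simp; ring
            _ ≤ Fintype.card F ^ (finrank F V / 2) := Nat.pow_le_pow_right hqpos hdk
        · have hL : Nat.lcm (Lp (Fintype.card F) {d}) (Lm (Fintype.card F) 0) =
              Fintype.card F ^ d + 1 := by
            rw [Lm_zero, Nat.lcm_one_right]
            show Lp (Fintype.card F) (d ::ₘ 0) = _
            rw [Lp_cons, Lp_zero, Nat.lcm_one_right]
          rw [hL]
          exact pow_eq_one_of_dvd p (π ^ k) hPT _ _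
            ((pow_dvd_pow_of_dvd hdvd k).trans (pow_dvd_pow _ hkle))
  · right; right
    rw [hk'] at hPT hdegle
    set M := Fintype.card F ^ π.natDegree - 1 with hM
    have hMpos : 0 < M := by
      have : 2 ^ 1 ≤ Fintype.card F ^ π.natDegree :=
        (Nat.pow_le_pow_left hq2 1).trans (Nat.pow_le_pow_right (by omega) hDpos)
      omega
    have hd1 : π ∣ X ^ M - 1 := by
      rw [← root_pow_eq_one_iff π hπi]
      exact root_pow_card π hπm hπi hπ0
    have hd2 : recip π ∣ X ^ M - 1 :=
      recip_dvd π _ hπ0 (reverse_X_pow_sub_one M hMpos) hd1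
    have hcop : IsCoprime π (recip π) := by
      rw [hπi.coprime_iff_not_dvd]
      intro hd
      apply hrec
      exact eq_of_monic_of_dvd_of_natDegree_le hπm hπ'm hd (by rw [recip_natDegree π hπ0])
    have hd3 : π * recip π ∣ X ^ M - 1 := hcop.mul_dvd hd1 hd2
    have hdk : π.natDegree * k ≤ finrank F V / 2 := by
      rw [Nat.le_div_iff_mul_le (by norm_num)]
      calc π.natDegree * k * 2 = (k + k) * π.natDegree := by ring
        _ ≤ finrank F V := hdegle
    refine ⟨0, {π.natDegree}, Nat.clog p k, Or.inr (Multiset.singleton_ne_zero _), ?_, ?_, ?_, ?_⟩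
    · intro x hx
      exact absurd hx (Multiset.notMem_zero x)
    · intro x hx
      rw [Multiset.mem_singleton.mp hx]; exact hDpos
    · rw [Multiset.sum_singleton, Multiset.sum_zero, zero_add]
      calc p ^ Nat.clog p k * Fintype.card F ^ π.natDegree
          ≤ Fintype.card F ^ (k - 1) * Fintype.card F ^ π.natDegree :=
            Nat.mul_le_mul_right _ hclog
        _ ≤ Fintype.card F ^ (π.natDegree * (k - 1)) * Fintype.card F ^ π.natDegree := by
            apply Nat.mul_le_mul_right
            apply Nat.pow_le_pow_right hqpos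
            exact Nat.le_mul_of_pos_left _ hDpos
        _ = Fintype.card F ^ (π.natDegree * k) := by
            rw [← pow_add]; congr 1
            obtain ⟨k0, rfl⟩ : ∃ k0, k = k0 + 1 := ⟨k - 1, by omega⟩
            simp; ring
        _ ≤ Fintype.card F ^ (finrank F V / 2) := Nat.pow_le_pow_right hqpos hdk
    · have hL : Nat.lcm (Lp (Fintype.card F) 0) (Lm (Fintype.card F) {π.natDegree}) = M := by
        rw [Lp_zero, Nat.lcm_one_left]
        show Lm (Fintype.card F) (π.natDegree ::ₘ 0) = _
        rw [Lm_cons, Lm_zero, Nat.lcm_one_right]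
      rw [hL]
      refine pow_eq_one_of_dvd p _ hPT _ _ ?_
      rw [← mul_pow]
      exact (pow_dvd_pow_of_dvd hd3 k).trans (pow_dvd_pow _ hkle)

end indec

section main
variable {F : Type v} [Field F] [Fintype F]

lemma exists_pow_eq_one_b {V : Type u} [AddCommGroup V] [Module F V] [FiniteDimensional F V]
    {ω : BilinForm F V} {T : Module.End F V} (h : BIso ω T) : ∃ a : ℕ, 0 < a ∧ T ^ a = 1 := by
  classical
  have hker : LinearMap.ker T = ⊥ := by
    rw [LinearMap.ker_eq_bot']
    intro x hx
    apply h.nd.1 x
    intro y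
    rw [← h.iso x y, hx]
    simp
  have hunit : IsUnit T := (LinearMap.isUnit_iff_ker_eq_bot T).mpr hker
  haveI : Finite (Module.End F V) := Module.finite_of_finite F
  obtain ⟨uT, huT⟩ := hunit
  have hfin := isOfFinOrder_of_finite uT
  refine ⟨orderOf uT, hfin.orderOf_pos, ?_⟩
  have := pow_orderOf_eq_one uT
  have h2 := congrArg Units.val this
  rw [Units.val_pow_eq_pow_val, huT, Units.val_one] at h2
  exact h2

lemma restrict_nd_of_refl {V : Type u} [AddCommGroup V] [Module F V] {ω : BilinForm F V}
    (hrefl : ω.IsRefl) {U : Submodule F V} (h : NondegOn ω U) : (ω.restrict U).Nondegenerate := by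
  constructor
  · intro x hx
    apply Subtype.ext
    apply h x.1 x.2
    intro y hy
    exact hx ⟨y, hy⟩
  · intro y hy
    apply Subtype.ext
    apply h y.1 y.2
    intro x hx
    have h1 : ω x y.1 = 0 := hy ⟨x, hx⟩
    exact hrefl _ _ h1

theorem PhiO_main (p : ℕ) [Fact p.Prime] [CharP F p] (hp2 : p ≠ 2) : ∀ D : ℕ, 1 ≤ D →
    ∀ (V : Type u) [AddCommGroup V] [Module F V] [FiniteDimensional F V] (ω : BilinForm F V)
      (T : Module.End F V), finrank F V = D → BIso ω T →
      PhiO (F := F) p (Fintype.card F) (D / 2) D T := by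
  intro D
  induction D using Nat.strong_induction_on with
  | _ D ih =>
    intro hD V _ _ _ ω T hfr h
    classical
    have hp : p.Prime := Fact.out
    have hpq : p ≤ Fintype.card F := p_le_card p
    have hq2 : 2 ≤ Fintype.card F := hp.two_le.trans hpq
    have hqodd : Odd (Fintype.card F) := by
      obtain ⟨f, hf, hc⟩ := card_eq_pow (F := F) p
      rw [hc]
      exact (hp.odd_of_ne_two hp2).pow
    haveI : Nontrivial V := by
      apply Module.nontrivial_of_finrank_pos (R := F)
      omega
    obtain ⟨a, ha, hTa⟩ := exists_pow_eq_one_b h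
    by_cases hdec : ∃ U : Submodule F V, (∀ x ∈ U, T x ∈ U) ∧ NondegOn ω U ∧ U ≠ ⊥ ∧ U ≠ ⊤
    · obtain ⟨U, hU, hUnd, hU0, hU1⟩ := hdec
      have hinv : Inv ω T := h.iso
      have hW : ∀ x ∈ ω.orthogonal U, T x ∈ ω.orthogonal U := perp_invt hinv ha hTa U hU
      have hndU : (ω.restrict U).Nondegenerate := restrict_nd_of_refl h.refl hUnd
      have hc : IsCompl U (ω.orthogonal U) :=
        LinearMap.BilinForm.isCompl_orthogonal_of_restrict_nondegenerate h.refl hndU
      have hndW : (ω.restrict (ω.orthogonal U)).Nondegenerate := by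
        rw [LinearMap.BilinForm.restrict_nondegenerate_iff_isCompl_orthogonal h.refl,
          LinearMap.BilinForm.orthogonal_orthogonal h.nd h.refl]
        exact hc.symm
      have hW0 : ω.orthogonal U ≠ ⊥ := by
        intro h0
        apply hU1
        have := hc.sup_eq_top
        rw [h0, sup_bot_eq] at this
        exact this
      have hb₁ : BIso (ω.restrict U) (T.restrict hU) :=
        { refl := fun x y hxy => h.refl _ _ hxy
          nd := hndU
          iso := by
            intro u w
            simp only [BilinForm.restrict_apply, LinearMap.domRestrict_apply,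
              LinearMap.coe_restrict_apply]
            exact h.iso _ _ }
      have hb₂ : BIso (ω.restrict (ω.orthogonal U)) (T.restrict hW) :=
        { refl := fun x y hxy => h.refl _ _ hxy
          nd := hndW
          iso := by
            intro u w
            simp only [BilinForm.restrict_apply, LinearMap.domRestrict_apply,
              LinearMap.coe_restrict_apply]
            exact h.iso _ _ }
      have hfr' : finrank F U + finrank F (ω.orthogonal U) = D := by
        rw [Submodule.finrank_add_eq_of_isCompl hc, hfr]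
      have hU0' : 0 < finrank F U := by
        rw [Module.finrank_pos_iff]
        exact Submodule.nontrivial_iff_ne_bot.mpr hU0
      have hW0' : 0 < finrank F (ω.orthogonal U) := by
        rw [Module.finrank_pos_iff]
        exact Submodule.nontrivial_iff_ne_bot.mpr hW0
      have h₁ := ih (finrank F U) (by omega) (by omega) U (ω.restrict U) (T.restrict hU) rfl hb₁
      have h₂ := ih (finrank F (ω.orthogonal U)) (by omega) (by omega) (ω.orthogonal U)
        (ω.restrict (ω.orthogonal U)) (T.restrict hW) rfl hb₂
      have hm := PhiO_merge p (Fintype.card F) hp hq2 hqodd T (T.restrict hU) (T.restrict hW)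
        (fun N c e1 e2 => glue T U (ω.orthogonal U) hU hW hc.sup_eq_top N c e1 e2)
        _ _ _ _ h₁ h₂
      exact PhiO_mono p (Fintype.card F) hq2 _ _ _ _ (by omega) (by omega) T hm
    · have hind : ∀ U : Submodule F V, (∀ x ∈ U, T x ∈ U) → NondegOn ω U → U = ⊥ ∨ U = ⊤ := by
        intro U hU hUnd
        by_contra hc
        push Not at hc
        exact hdec ⟨U, hU, hUnd, hc.1, hc.2⟩
      have := PhiO_indec p hp2 h a ha hTa hind
      rwa [hfr] at this

/-- every isometry of a nondegenerate reflexive form on a space of dimension at most `2m+1`,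
`m ≥ 3`, over the field with `q` elements, `q` odd, has projective order at most
`q^(m+1)/(q-1)` -/
theorem order_bound_orth (hodd : Odd (Fintype.card F)) (m : ℕ) (hm : 3 ≤ m) (V : Type u)
    [AddCommGroup V] [Module F V] [FiniteDimensional F V] (ω : BilinForm F V)
    (T : Module.End F V) (hD1 : 1 ≤ finrank F V) (hD : finrank F V ≤ 2 * m + 1)
    (h : BIso ω T) :
    ∃ N : ℕ, 0 < N ∧ (T ^ N = 1 ∨ T ^ N = -1) ∧
      (Fintype.card F - 1) * N ≤ Fintype.card F ^ (m + 1) := by
  obtain ⟨p, hchar⟩ := CharP.exists F
  haveI := hchar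
  have hp : p.Prime := by
    rcases CharP.char_is_prime_or_zero F p with h | h
    · exact h
    · exact absurd h (CharP.char_ne_zero_of_finite F p)
  haveI : Fact p.Prime := ⟨hp⟩
  have hpq : p ≤ Fintype.card F := p_le_card p
  have hp2 : p ≠ 2 := by
    rintro rfl
    obtain ⟨f, hf, hc⟩ := card_eq_pow (F := F) 2
    rw [hc] at hodd
    have : Even (2 ^ f) := (Nat.even_pow' (by omega)).mpr even_two
    exact (Nat.not_even_iff_odd.mpr hodd) this
  exact PhiO_bound p (Fintype.card F) hp hp2 hpq m hm (finrank F V / 2) (finrank F V)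
    (by omega) hD T (PhiO_main p hp2 _ hD1 V ω T rfl h)

end main

end Cfsg.Agent.Lib.Helper94.EO
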