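import Mathlib
import Cfsg.Agent.Lib.Helper94.EO5
import Cfsg.Agent.Lib.Helper94.EO8
import Cfsg.Agent.Lib.Helper94.Quad

set_option autoImplicit false
set_option linter.unusedVariables false
set_option linter.unusedSectionVars false
set_option linter.unusedSimpArgs false
set_option linter.style.haveILetI false
set_option maxHeartbeats 1600000

/-!
# Element orders in orthogonal groups
-/

namespace Cfsg.Agent.Lib.Helper94.EO

open Module
open LinearMap (BilinForm)
open Cfsg Cfsg.Agent.Lib.Helper39.SpT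

variable {ι : Type} [Fintype ι] [DecidableEq ι] {F : Type*} [Field F] [Fintype F]

/-- orders of isometries of a quadratic form with nondegenerate polar form -/
theorem qf_order_bound (QF : QuadraticForm F (ι → F))
    (hnd : (QuadraticMap.polarBilin QF).Nondegenerate) (m : ℕ)
    (hcase : (Odd (Fintype.card F) ∧ 3 ≤ m ∧ Fintype.card ι ≤ 2 * m + 1 ∧ 1 ≤ Fintype.card ι) ∨
      (¬ Odd (Fintype.card F) ∧ 1 ≤ m ∧ Fintype.card ι = 2 * m))
    (x : Matrix.GeneralLinearGroup ι F) (hx : x ∈ isometryGroup F (⇑QF)) :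
    ∃ N : ℕ, 0 < N ∧
      (((x ^ N : Matrix.GeneralLinearGroup ι F) : Matrix ι ι F) = 1 ∨
        ((x ^ N : Matrix.GeneralLinearGroup ι F) : Matrix ι ι F) = -1) ∧
      (Fintype.card F - 1) * N ≤ Fintype.card F ^ (m + 1) := by
  classical
  set T : Module.End F (ι → F) := Matrix.toLin' (x : Matrix ι ι F) with hT
  have hxQ := (Cfsg.Agent.Lib.Helper94.mem_isom x).mp hx
  have hTQ : ∀ v, QF (T v) = QF v := by
    intro v
    rw [hT, Matrix.toLin'_apply]
    exact hxQ v
  have hiso : ∀ u w, QuadraticMap.polarBilin QF (T u) (T w) = QuadraticMap.polarBilin QF u w := by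
    intro u w
    simp only [QuadraticMap.polarBilin_apply_apply, QuadraticMap.polar]
    rw [← map_add, hTQ, hTQ, hTQ]
  have hrefl : (QuadraticMap.polarBilin QF).IsRefl := by
    intro u w h
    rw [QuadraticMap.polarBilin_apply_apply] at h ⊢
    rw [QuadraticMap.polar_comm]
    exact h
  have hfr : finrank F (ι → F) = Fintype.card ι := Module.finrank_fintype_fun_eq_card F
  have hconv : ∀ N : ℕ, (T ^ N = 1 → ((x ^ N : Matrix.GeneralLinearGroup ι F) : Matrix ι ι F) = 1) ∧
      (T ^ N = -1 → ((x ^ N : Matrix.GeneralLinearGroup ι F) : Matrix ι ι F) = -1) := by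
    intro N
    constructor
    · intro h
      apply Matrix.toLin'.injective
      rw [Units.val_pow_eq_pow_val, Matrix.toLin'_pow, ← hT, h, Matrix.toLin'_one]
      rfl
    · intro h
      apply Matrix.toLin'.injective
      rw [Units.val_pow_eq_pow_val, Matrix.toLin'_pow, ← hT, h, map_neg, Matrix.toLin'_one]
      rfl
  rcases hcase with ⟨hodd, hm, hD, hD1⟩ | ⟨heven, hm, hD⟩
  · have hB : BIso (QuadraticMap.polarBilin QF) T := ⟨hrefl, hnd, hiso⟩
    obtain ⟨N, hN0, hTN, hb⟩ := order_bound_orth hodd m hm (ι → F) _ T (by rw [hfr]; exact hD1)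
      (by rw [hfr]; exact hD) hB
    refine ⟨N, hN0, ?_, hb⟩
    rcases hTN with h | h
    · exact Or.inl ((hconv N).1 h)
    · exact Or.inr ((hconv N).2 h)
  · have h2 : (2 : F) = 0 := by
      rw [Nat.not_odd_iff_even] at heven
      have h3 : ringChar F = 2 := FiniteField.even_card_iff_char_two.mpr (Nat.even_iff.mp heven)
      haveI : CharP F 2 := by rw [← h3]; exact ringChar.charP F
      have h4 : ((2 : ℕ) : F) = 0 := CharP.cast_eq_zero F 2
      exact_mod_cast h4
    have halt : (QuadraticMap.polarBilin QF).IsAlt := by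
      intro u
      rw [QuadraticMap.polarBilin_apply_apply, QuadraticMap.polar_self, two_smul, ← two_mul, h2, zero_mul]
    have hS : SpIso (QuadraticMap.polarBilin QF) T := ⟨halt, hnd, hiso⟩
    obtain ⟨N, hN0, hTN, hb⟩ := order_bound m hm (ι → F) _ T (by rw [hfr, hD]) hS
    refine ⟨N, hN0, ?_, hb⟩
    rcases hTN with h | h
    · exact Or.inl ((hconv N).1 h)
    · exact Or.inr ((hconv N).2 h)

/-- from isometries to `PΩ` -/
theorem pomega_order_bound (Q : (ι → F) → F) (B : ℕ)
    (h : ∀ x ∈ isometryGroup F Q, ∃ N : ℕ, 0 < N ∧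
      (((x ^ N : Matrix.GeneralLinearGroup ι F) : Matrix ι ι F) = 1 ∨
        ((x ^ N : Matrix.GeneralLinearGroup ι F) : Matrix ι ι F) = -1) ∧
      (Fintype.card F - 1) * N ≤ B) (g : POmega F Q) :
    (Fintype.card F - 1) * orderOf g ≤ B := by
  classical
  obtain ⟨y, rfl⟩ := QuotientGroup.mk_surjective g
  obtain ⟨N, hN0, hN, hb⟩ := h ((y : isometryGroup F Q) : Matrix.GeneralLinearGroup ι F)
    (y : isometryGroup F Q).2
  have hcen : y ^ N ∈ Subgroup.center (Omega F Q) := by
    rw [Subgroup.mem_center_iff]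
    intro z
    apply Subtype.ext
    apply Subtype.ext
    apply Units.ext
    have e1 : (((((y ^ N : Omega F Q) : isometryGroup F Q) : Matrix.GeneralLinearGroup ι F)) :
        Matrix ι ι F) = (((((y : isometryGroup F Q) : Matrix.GeneralLinearGroup ι F)) ^ N :
          Matrix.GeneralLinearGroup ι F) : Matrix ι ι F) := by
      rw [Subgroup.coe_pow, Subgroup.coe_pow]
    simp only [Subgroup.coe_mul, Units.val_mul]
    rw [e1]
    rcases hN with h1 | h1
    · rw [h1, mul_one, one_mul]
    · rw [h1, mul_neg, neg_mul, mul_one, one_mul]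
  have hgN : (QuotientGroup.mk y : POmega F Q) ^ N = 1 := by
    rw [← QuotientGroup.mk_pow, QuotientGroup.eq_one_iff]
    exact hcen
  have hle : orderOf (QuotientGroup.mk y : POmega F Q) ≤ N :=
    Nat.le_of_dvd hN0 (orderOf_dvd_of_pow_eq_one hgN)
  exact (Nat.mul_le_mul_left _ hle).trans hb

end Cfsg.Agent.Lib.Helper94.EO
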