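import Cfsg.Agent.Lib.Helper94.WtStab

set_option autoImplicit false

namespace Cfsg.Agent.Lib.Helper94

open scoped Matrix
open Cfsg

set_option linter.unusedSectionVars false
set_option linter.unnecessarySimpa false
set_option linter.style.haveILetI false
set_option linter.unusedVariables false

variable {ι : Type} [Fintype ι] [DecidableEq ι] {F : Type*} [Field F]

lemma mat_ext_mulVec (A B : Matrix ι ι F) (H : ∀ z, A *ᵥ z = B *ᵥ z) : A = B := by
  apply Matrix.toLin'.injective
  apply LinearMap.ext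
  intro x
  rw [Matrix.toLin'_apply, Matrix.toLin'_apply]
  exact H x

section fieldsub
variable {r : ℕ} {K : Subalgebra F (Matrix ι ι F)} (hK : Geo.IsFieldSubalgebra r K)
include hK

lemma isField_K [Nonempty ι] : IsField ↥K where
  exists_pair_ne := ⟨0, 1, fun h => by
    have := congrArg Subtype.val h
    simp at this⟩
  mul_comm x y := Subtype.ext (hK.comm x.1 x.2 y.1 y.2)
  mul_inv_cancel {a} ha := by
    obtain ⟨y, hy, hxy⟩ := hK.inv a.1 a.2 (fun h => ha (Subtype.ext h))
    exact ⟨⟨y, hy⟩, Subtype.ext hxy⟩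

/-- nonzero elements of the field act injectively -/
lemma K_inj {x : Matrix ι ι F} (hx : x ∈ K) (hx0 : x ≠ 0) {z : ι → F} (hz : x *ᵥ z = 0) : z = 0 := by
  obtain ⟨y, hy, hxy⟩ := hK.inv x hx hx0
  have hyx : y * x = 1 := by rw [hK.comm y hy x hx]; exact hxy
  have : (y * x) *ᵥ z = 0 := by rw [← Matrix.mulVec_mulVec, hz, Matrix.mulVec_zero]
  rwa [hyx, Matrix.one_mulVec] at this

/-- a generator of the multiplicative group of the field -/
lemma exists_generator_K [Fintype F] [Nonempty ι] :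
    ∃ θ ∈ K, θ ^ (Fintype.card F ^ r - 1) = 1 ∧ ∀ m : ℕ, θ ^ m = 1 → (Fintype.card F ^ r - 1) ∣ m := by
  have hcard : Nat.card ↥K = Fintype.card F ^ r := by
    rw [Module.natCard_eq_pow_finrank (K := F) (V := ↥K), hK.finrank_eq, Nat.card_eq_fintype_card]
  letI : Field ↥K := (isField_K hK).toField
  haveI : Finite ↥K := Subtype.finite
  obtain ⟨g, hg⟩ := IsCyclic.exists_generator (α := (↥K)ˣ)
  have hord : orderOf g = Fintype.card F ^ r - 1 := by
    rw [orderOf_eq_card_of_forall_mem_zpowers hg, Nat.card_units, hcard]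
  have hcoe : ∀ m : ℕ, ((g : ↥K) : Matrix ι ι F) ^ m = (((g ^ m : (↥K)ˣ) : ↥K) : Matrix ι ι F) := by
    intro m
    rw [Units.val_pow_eq_pow_val]
    rfl
  refine ⟨((g : ↥K) : Matrix ι ι F), (g : ↥K).2, ?_, ?_⟩
  · rw [hcoe, ← hord, pow_orderOf_eq_one]
    rfl
  · intro m hm
    rw [← hord, orderOf_dvd_iff_pow_eq_one]
    apply Units.ext
    apply Subtype.ext
    rw [← hcoe, hm]
    rfl

end fieldsub

section frob
variable {r : ℕ} {K : Subalgebra F (Matrix ι ι F)} (hK : Geo.IsFieldSubalgebra r K)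
include hK

/-- the subalgebra of the elements of the field fixed by a power of the Frobenius map -/
lemma exists_frobFixed [Fintype F] [Nonempty ι] (a : ℕ) :
    ∃ L : Subalgebra F (Matrix ι ι F), ∀ x, x ∈ L ↔ x ∈ K ∧ x ^ (Fintype.card F ^ a) = x := by
  obtain ⟨f, hp, hqf⟩ := FiniteField.card F (ringChar F)
  haveI : Fact (ringChar F).Prime := ⟨hp⟩
  haveI : CharP F (ringChar F) := ringChar.charP F
  have hqa : Fintype.card F ^ a = ringChar F ^ ((f : ℕ) * a) := by rw [hqf, pow_mul]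
  refine ⟨{ carrier := {x | x ∈ K ∧ x ^ (Fintype.card F ^ a) = x}
            mul_mem' := ?_
            add_mem' := ?_
            algebraMap_mem' := ?_ }, fun x => Iff.rfl⟩
  · rintro x y ⟨hx, hx'⟩ ⟨hy, hy'⟩
    refine ⟨K.mul_mem hx hy, ?_⟩
    have hc : Commute x y := hK.comm x hx y hy
    rw [hc.mul_pow, hx', hy']
  · rintro x y ⟨hx, hx'⟩ ⟨hy, hy'⟩
    refine ⟨K.add_mem hx hy, ?_⟩
    have hc : Commute x y := hK.comm x hx y hy
    rw [hqa, add_pow_char_pow_of_commute (ringChar F) _ hc, ← hqa, hx', hy']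
  · intro c
    refine ⟨K.algebraMap_mem c, ?_⟩
    rw [← map_pow, FiniteField.pow_card_pow]

end frob

section normalizer

lemma mem_subalgNormalizer (K : Subalgebra F (Matrix ι ι F)) (g : Matrix.GeneralLinearGroup ι F) :
    g ∈ Geo.subalgebraNormalizer K ↔
      ∀ k : Matrix ι ι F, k ∈ K ↔ (g : Matrix ι ι F) * k * ((g⁻¹ : Matrix.GeneralLinearGroup ι F) : Matrix ι ι F) ∈ K :=
  Iff.rfl

lemma conj_pow_eq (g : Matrix.GeneralLinearGroup ι F) (k : Matrix ι ι F) (m : ℕ) :
    ((g : Matrix ι ι F) * k * ((g⁻¹ : Matrix.GeneralLinearGroup ι F) : Matrix ι ι F)) ^ m =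
      (g : Matrix ι ι F) * k ^ m * ((g⁻¹ : Matrix.GeneralLinearGroup ι F) : Matrix ι ι F) :=
  Units.conj_pow g k m

lemma conj_eq_conj_iff (g : Matrix.GeneralLinearGroup ι F) (k k' : Matrix ι ι F) :
    (g : Matrix ι ι F) * k * ((g⁻¹ : Matrix.GeneralLinearGroup ι F) : Matrix ι ι F) =
      (g : Matrix ι ι F) * k' * ((g⁻¹ : Matrix.GeneralLinearGroup ι F) : Matrix ι ι F) ↔ k = k' := by
  constructor
  · intro h
    have h1 := congrArg (fun M => ((g⁻¹ : Matrix.GeneralLinearGroup ι F) : Matrix ι ι F) * M * (g : Matrix ι ι F)) h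
    simp only [← mul_assoc] at h1
    simpa [mul_assoc] using h1
  · intro h; rw [h]

/-- the normaliser of the field normalises the fixed subalgebra of a power of the Frobenius map -/
lemma normalizer_le_of_frobFixed {K L : Subalgebra F (Matrix ι ι F)} (N : ℕ)
    (hL : ∀ x, x ∈ L ↔ x ∈ K ∧ x ^ N = x) : Geo.subalgebraNormalizer K ≤ Geo.subalgebraNormalizer L := by
  intro g hg
  rw [mem_subalgNormalizer] at hg ⊢
  intro k
  rw [hL, hL, ← hg k, conj_pow_eq, conj_eq_conj_iff]

end normalizer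

end Cfsg.Agent.Lib.Helper94
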