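import Cfsg.Agent.Lib.Helper94.ExtField

set_option autoImplicit false

namespace Cfsg.Agent.Lib.Helper94

open scoped Matrix
open Cfsg

set_option linter.unusedSectionVars false
set_option linter.unnecessarySimpa false
set_option linter.style.haveILetI false
set_option linter.unusedVariables false

variable {ι : Type} [Fintype ι] [DecidableEq ι] {F : Type*} [Field F]

/-- in characteristic `p`, an element `x` of a field with `x ^ p = 1` is `1` -/
lemma eq_one_of_pow_char [Fintype F] (x : F) (p : ℕ) [Fact p.Prime] [CharP F p] (hx : x ^ p = 1) : x = 1 := by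
  have h : (x - 1) ^ p = 0 := by rw [sub_pow_char, hx, one_pow, sub_self]
  have := pow_eq_zero_iff (Fact.out (p := p.Prime)).ne_zero |>.1 h
  exact sub_eq_zero.mp this

/-- an element of determinant one centralising the fixed field `L` of a power of the Frobenius map which does not
normalise `K` -/
lemma exists_centralizing_not_normalizing [Fintype F] [Nonempty ι] {r : ℕ} {K : Subalgebra F (Matrix ι ι F)}
    (hK : Geo.IsFieldSubalgebra r K) (hrn : r < Fintype.card ι)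
    (L : Subalgebra F (Matrix ι ι F)) (a : ℕ) (hL : ∀ x, x ∈ L ↔ x ∈ K ∧ x ^ (Fintype.card F ^ a) = x)
    (θ : Matrix ι ι F) (hθK : θ ∈ K) (hθ : θ ^ (Fintype.card F ^ a) ≠ θ) :
    ∃ g : Matrix.GeneralLinearGroup ι F, g ∈ Geo.specialLinear ι F ∧ g ∈ Geo.subalgebraNormalizer L ∧
      g ∉ Geo.subalgebraNormalizer K := by
  classical
  obtain ⟨f, hp, hqf⟩ := FiniteField.card F (ringChar F)
  haveI : Fact (ringChar F).Prime := ⟨hp⟩
  haveI : CharP F (ringChar F) := ringChar.charP F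
  obtain ⟨Nq, hNq⟩ : ∃ Nq : ℕ, Nq = Fintype.card F ^ a := ⟨_, rfl⟩
  rw [← hNq] at hθ
  have hL' : ∀ x, x ∈ L ↔ x ∈ K ∧ x ^ Nq = x := by rw [hNq]; exact hL
  have hqa : Nq = ringChar F ^ ((f : ℕ) * a) := by rw [hNq, hqf, pow_mul]
  have σadd : ∀ x ∈ K, ∀ y ∈ K, (x + y) ^ Nq = x ^ Nq + y ^ Nq := by
    intro x hx y hy
    have hc : Commute x y := hK.comm x hx y hy
    rw [hqa, add_pow_char_pow_of_commute (ringChar F) _ hc]
  have σmul : ∀ x ∈ K, ∀ y ∈ K, (x * y) ^ Nq = x ^ Nq * y ^ Nq := by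
    intro x hx y hy
    have hc : Commute x y := hK.comm x hx y hy
    exact hc.mul_pow Nq
  have σsmul : ∀ (c : F) (x : Matrix ι ι F), (c • x) ^ Nq = c • x ^ Nq := by
    intro c x
    rw [smul_pow, hNq, FiniteField.pow_card_pow]
  -- field and module structure
  letI fK : Field ↥K := (isField_K hK).toField
  let ρ : ↥K →+* Module.End F (ι → F) :=
    (((Matrix.toLinAlgEquiv' : Matrix ι ι F ≃ₐ[F] Module.End F (ι → F)) : Matrix ι ι F →ₐ[F] _).comp K.val).toRingHom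
  letI mK : Module ↥K (ι → F) := Module.compHom (ι → F) ρ
  have hsmul : ∀ (κ : ↥K) (z : ι → F), κ • z = (κ : Matrix ι ι F) *ᵥ z := fun κ z => rfl
  -- the vectors v and w
  obtain ⟨i0⟩ := ‹Nonempty ι›
  obtain ⟨v, hv⟩ : ∃ v : ι → F, v = Pi.single i0 1 := ⟨_, rfl⟩
  have hv0 : v ≠ 0 := by
    intro h0
    have := congrFun h0 i0
    rw [hv] at this
    simp at this
  let ev : ↥K →ₗ[F] (ι → F) :=
    { toFun := fun κ => (κ : Matrix ι ι F) *ᵥ v
      map_add' := fun κ κ' => by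
        show ((κ + κ' : ↥K) : Matrix ι ι F) *ᵥ v = _
        rw [Subalgebra.coe_add, Matrix.add_mulVec]
      map_smul' := fun c κ => by
        show ((c • κ : ↥K) : Matrix ι ι F) *ᵥ v = _
        rw [Subalgebra.coe_smul, Matrix.smul_mulVec]
        rfl }
  have hrange : LinearMap.range ev ≠ ⊤ := by
    intro htop
    have h1 := LinearMap.finrank_range_le ev
    rw [htop, finrank_top, Module.finrank_fintype_fun_eq_card, hK.finrank_eq] at h1
    omega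
  obtain ⟨w, hw⟩ : ∃ w, w ∉ LinearMap.range ev := by
    by_contra hcon
    push Not at hcon
    exact hrange (eq_top_iff.2 fun x _ => hcon x)
  have hwspan : w ∉ Submodule.span ↥K {v} := by
    intro hmem
    obtain ⟨κ, hκ⟩ := Submodule.mem_span_singleton.1 hmem
    exact hw ⟨κ, by rw [← hκ]; rfl⟩
  have hfree : Module.Free ↥K ((ι → F) ⧸ Submodule.span ↥K {v}) := Module.Free.of_divisionRing _ _
  have hproj : Module.Projective ↥K ((ι → F) ⧸ Submodule.span ↥K {v}) := @Module.Projective.of_free _ _ _ _ _ hfree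
  obtain ⟨f0, hf0w, hf0⟩ := Submodule.exists_dual_map_eq_bot_of_notMem hwspan hproj
  have hf0v : f0 v = 0 := by
    have : f0 v ∈ (Submodule.span ↥K {v}).map f0 := Submodule.mem_map_of_mem (Submodule.mem_span_singleton_self v)
    rw [hf0] at this
    simpa using this
  obtain ⟨ψ, hψ⟩ : ∃ ψ : (ι → F) →ₗ[↥K] ↥K, ψ = (f0 w)⁻¹ • f0 := ⟨_, rfl⟩
  have hψv : ψ v = 0 := by rw [hψ, LinearMap.smul_apply, hf0v, smul_zero]
  have hψw : ψ w = 1 := by rw [hψ, LinearMap.smul_apply, smul_eq_mul, inv_mul_cancel₀ hf0w]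
  have hψK : ∀ (κ : ↥K) (z : ι → F), ψ ((κ : Matrix ι ι F) *ᵥ z) = κ * ψ z := by
    intro κ z
    rw [← hsmul, map_smul, smul_eq_mul]
  -- the nilpotent map
  have hcoe_add : ∀ κ κ' : ↥K, ((κ + κ' : ↥K) : Matrix ι ι F) = (κ : Matrix ι ι F) + (κ' : Matrix ι ι F) :=
    fun κ κ' => rfl
  have hcoe_mul : ∀ κ κ' : ↥K, ((κ * κ' : ↥K) : Matrix ι ι F) = (κ : Matrix ι ι F) * (κ' : Matrix ι ι F) :=
    fun κ κ' => rfl
  have hcoe_zero : ((0 : ↥K) : Matrix ι ι F) = 0 := rfl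
  have hcoe_one : ((1 : ↥K) : Matrix ι ι F) = 1 := rfl
  let Nl : (ι → F) →ₗ[F] (ι → F) :=
    { toFun := fun z => ((ψ z : ↥K) : Matrix ι ι F) ^ Nq *ᵥ v
      map_add' := fun z z' => by
        rw [map_add, hcoe_add, σadd _ (ψ z).2 _ (ψ z').2, Matrix.add_mulVec]
      map_smul' := fun c z => by
        have h1 : c • z = ((algebraMap F ↥K c : ↥K) : Matrix ι ι F) *ᵥ z := by
          have : ((algebraMap F ↥K c : ↥K) : Matrix ι ι F) = c • (1 : Matrix ι ι F) := by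
            rw [Subalgebra.coe_algebraMap, Algebra.algebraMap_eq_smul_one]
          rw [this, Matrix.smul_mulVec, Matrix.one_mulVec]
        have h2 : ((algebraMap F ↥K c : ↥K) : Matrix ι ι F) = c • (1 : Matrix ι ι F) := by
          rw [Subalgebra.coe_algebraMap, Algebra.algebraMap_eq_smul_one]
        rw [h1, hψK, hcoe_mul, h2, smul_mul_assoc, one_mul, σsmul, Matrix.smul_mulVec]
        rfl }
  have hNl : ∀ z, Nl z = ((ψ z : ↥K) : Matrix ι ι F) ^ Nq *ᵥ v := fun z => rfl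
  obtain ⟨Nm, hNm⟩ : ∃ Nm : Matrix ι ι F, Nm = LinearMap.toMatrix' Nl := ⟨_, rfl⟩
  have hNmv : ∀ z, Nm *ᵥ z = ((ψ z : ↥K) : Matrix ι ι F) ^ Nq *ᵥ v := fun z => by
    rw [hNm, LinearMap.toMatrix'_mulVec, hNl]
  have hNK : ∀ (κ : Matrix ι ι F), κ ∈ K → Nm *ᵥ (κ *ᵥ v) = 0 := by
    intro κ hκ
    rw [hNmv, hψK ⟨κ, hκ⟩ v, hψv, mul_zero, hcoe_zero, zero_pow, Matrix.zero_mulVec]
    rw [hNq]; exact pow_ne_zero _ Fintype.card_ne_zero
  have hNN : Nm * Nm = 0 := by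
    apply mat_ext_mulVec
    intro z
    rw [← Matrix.mulVec_mulVec, hNmv z, hNK _ (K.pow_mem (ψ z).2 Nq), Matrix.zero_mulVec]
  have h1 : (1 + Nm) * (1 - Nm) = 1 := by
    rw [mul_sub, mul_one, add_mul, one_mul, hNN]; abel
  have h2 : (1 - Nm) * (1 + Nm) = 1 := by
    rw [mul_add, mul_one, sub_mul, one_mul, hNN]; abel
  obtain ⟨g, hg⟩ : ∃ g : Matrix.GeneralLinearGroup ι F, g = ⟨1 + Nm, 1 - Nm, h1, h2⟩ := ⟨_, rfl⟩
  have hgval : (g : Matrix ι ι F) = 1 + Nm := by rw [hg]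
  have hginv : ((g⁻¹ : Matrix.GeneralLinearGroup ι F) : Matrix ι ι F) = 1 - Nm := by rw [hg]; rfl
  have hdet : (1 + Nm).det = 1 := by
    have hp2 : 2 ≤ ringChar F := hp.two_le
    have hNp : Nm ^ (ringChar F) = 0 := by
      obtain ⟨k, hk⟩ : ∃ k, ringChar F = 2 + k := ⟨ringChar F - 2, by omega⟩
      rw [hk, pow_add, pow_two, hNN, zero_mul]
    have hpow : (1 + Nm) ^ (ringChar F) = 1 := by
      rw [add_pow_char_of_commute (ringChar F) (Commute.one_left Nm), one_pow, hNp, add_zero]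
    have hd := congrArg Matrix.det hpow
    rw [Matrix.det_pow, Matrix.det_one] at hd
    exact eq_one_of_pow_char _ (ringChar F) hd
  have hcommL : ∀ ℓ ∈ L, ℓ * Nm = Nm * ℓ := by
    intro ℓ hℓ
    obtain ⟨hℓK, hℓfix⟩ := (hL' ℓ).1 hℓ
    apply mat_ext_mulVec
    intro z
    have e1 : ψ (ℓ *ᵥ z) = (⟨ℓ, hℓK⟩ : ↥K) * ψ z := hψK ⟨ℓ, hℓK⟩ z
    rw [← Matrix.mulVec_mulVec, ← Matrix.mulVec_mulVec, hNmv, hNmv, e1, hcoe_mul]
    show ℓ *ᵥ _ = (ℓ * ((ψ z : ↥K) : Matrix ι ι F)) ^ Nq *ᵥ v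
    rw [σmul _ hℓK _ (ψ z).2, hℓfix, Matrix.mulVec_mulVec]
  have hconjL : ∀ ℓ ∈ L, (1 + Nm) * ℓ * (1 - Nm) = ℓ := by
    intro ℓ hℓ
    have hc := hcommL ℓ hℓ
    have : (1 + Nm) * ℓ = ℓ * (1 + Nm) := by rw [add_mul, mul_add, one_mul, mul_one, hc]
    rw [this, mul_assoc, h1, mul_one]
  have hconjL' : ∀ ℓ ∈ L, (1 - Nm) * ℓ * (1 + Nm) = ℓ := by
    intro ℓ hℓ
    have hc := hcommL ℓ hℓ
    have : (1 - Nm) * ℓ = ℓ * (1 - Nm) := by rw [sub_mul, mul_sub, one_mul, mul_one, hc]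
    rw [this, mul_assoc, h2, mul_one]
  refine ⟨g, by rw [mem_SL, hgval]; exact hdet, ?_, ?_⟩
  · rw [mem_subalgNormalizer]
    intro k
    rw [hgval, hginv]
    constructor
    · intro hk; rw [hconjL k hk]; exact hk
    · intro hk
      have := hconjL' _ hk
      have e : (1 - Nm) * ((1 + Nm) * k * (1 - Nm)) * (1 + Nm) = k := by
        have : (1 - Nm) * ((1 + Nm) * k * (1 - Nm)) * (1 + Nm) =
            ((1 - Nm) * (1 + Nm)) * k * ((1 - Nm) * (1 + Nm)) := by noncomm_ring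
        rw [this, h2, one_mul, mul_one]
      rw [e] at this
      rw [this]; exact hk
  · intro hgK
    rw [mem_subalgNormalizer] at hgK
    have hx'K := (hgK θ).1 hθK
    rw [hgval, hginv] at hx'K
    obtain ⟨x', hx'⟩ : ∃ x', x' = (1 + Nm) * θ * (1 - Nm) := ⟨_, rfl⟩
    rw [← hx'] at hx'K
    have hkey : x' * (1 + Nm) = (1 + Nm) * θ := by
      rw [hx', mul_assoc, h2, mul_one]
    have hθNq : θ ^ Nq ∈ K := K.pow_mem hθK Nq
    have hz : ∀ z, (x' - θ) *ᵥ z = (θ ^ Nq - x') *ᵥ (((ψ z : ↥K) : Matrix ι ι F) ^ Nq *ᵥ v) := by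
      intro z
      have e1 := congrArg (fun M => M *ᵥ z) hkey
      simp only [← Matrix.mulVec_mulVec, Matrix.add_mulVec, Matrix.one_mulVec, Matrix.mulVec_add] at e1
      have e2 : ψ (θ *ᵥ z) = (⟨θ, hθK⟩ : ↥K) * ψ z := hψK ⟨θ, hθK⟩ z
      have e3 : Nm *ᵥ (θ *ᵥ z) = θ ^ Nq *ᵥ (((ψ z : ↥K) : Matrix ι ι F) ^ Nq *ᵥ v) := by
        rw [hNmv, e2, hcoe_mul]
        show (θ * ((ψ z : ↥K) : Matrix ι ι F)) ^ Nq *ᵥ v = _
        rw [σmul _ hθK _ (ψ z).2, Matrix.mulVec_mulVec]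
      rw [e3, hNmv z] at e1
      rw [Matrix.sub_mulVec, Matrix.sub_mulVec]
      have : x' *ᵥ z = θ *ᵥ z + θ ^ Nq *ᵥ (((ψ z : ↥K) : Matrix ι ι F) ^ Nq *ᵥ v) -
          x' *ᵥ (((ψ z : ↥K) : Matrix ι ι F) ^ Nq *ᵥ v) := by
        rw [← e1]; abel
      rw [this]; abel
    by_cases hx : x' = θ
    · have := hz w
      rw [hx, sub_self, Matrix.zero_mulVec, hψw, hcoe_one, one_pow, Matrix.one_mulVec] at this
      have hne : θ ^ Nq - θ ≠ 0 := sub_ne_zero.mpr hθ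
      exact hv0 (K_inj hK (K.sub_mem hθNq hθK) hne this.symm)
    · have hne : x' - θ ≠ 0 := sub_ne_zero.mpr hx
      obtain ⟨y, hy, hxy⟩ := hK.inv _ (K.sub_mem hx'K hθK) hne
      have hyx : y * (x' - θ) = 1 := by rw [hK.comm y hy _ (K.sub_mem hx'K hθK)]; exact hxy
      apply hw
      refine ⟨⟨y * (θ ^ Nq - x') * ((ψ w : ↥K) : Matrix ι ι F) ^ Nq,
        K.mul_mem (K.mul_mem hy (K.sub_mem hθNq hx'K)) (K.pow_mem (ψ w).2 Nq)⟩, ?_⟩
      show (y * (θ ^ Nq - x') * ((ψ w : ↥K) : Matrix ι ι F) ^ Nq) *ᵥ v = w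
      rw [← Matrix.mulVec_mulVec, ← Matrix.mulVec_mulVec, ← hz w, Matrix.mulVec_mulVec, hyx, Matrix.one_mulVec]

end Cfsg.Agent.Lib.Helper94
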