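import Cfsg.Agent.Lib.Helper94.ExtField2

set_option autoImplicit false

namespace Cfsg.Agent.Lib.Helper94

open scoped Matrix
open Cfsg

set_option linter.unusedSectionVars false
set_option linter.unnecessarySimpa false
set_option linter.style.haveILetI false
set_option linter.unusedVariables false

variable {ι : Type} [Fintype ι] [DecidableEq ι] {F : Type*} [Field F]

/-- an element of the special linear group which does not normalise a subalgebra `L` of a field subalgebra containing a
non-scalar matrix -/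
lemma exists_SL_not_normalizing {r : ℕ} {K : Subalgebra F (Matrix ι ι F)}
    (hK : Geo.IsFieldSubalgebra r K) (L : Subalgebra F (Matrix ι ι F)) (hLK : L ≤ K) (hn : 3 ≤ Fintype.card ι)
    (y : Matrix ι ι F) (hyL : y ∈ L) (hys : ∀ c : F, y ≠ c • (1 : Matrix ι ι F)) :
    ∃ g : Matrix.GeneralLinearGroup ι F, g ∈ Geo.specialLinear ι F ∧ g ∉ Geo.subalgebraNormalizer L := by
  classical
  -- a vector which is not an eigenvector
  obtain ⟨v, hvli⟩ : ∃ v : ι → F, LinearIndependent F ![v, y *ᵥ v] := by
    by_contra hcon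
    push Not at hcon
    obtain ⟨c, hc⟩ := LinearMap.exists_eq_smul_id_of_forall_notLinearIndependent (f := Matrix.toLin' y)
      (fun v => by rw [Matrix.toLin'_apply]; exact hcon v)
    apply hys c
    apply mat_ext_mulVec
    intro z
    have := congrArg (fun f => f z) hc
    simp only [Matrix.toLin'_apply, LinearMap.smul_apply, Module.End.one_apply] at this
    rw [this, Matrix.smul_mulVec, Matrix.one_mulVec]
  obtain ⟨w, hw⟩ : ∃ w, w = y *ᵥ v := ⟨_, rfl⟩
  rw [← hw] at hvli
  rw [LinearIndependent.pair_iff] at hvli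
  have hv0 : v ≠ 0 := by
    intro h0
    have := (hvli 1 0 (by rw [h0]; simp)).1
    exact one_ne_zero this
  have hwspan : w ∉ Submodule.span F {v} := by
    intro hmem
    obtain ⟨c, hc⟩ := Submodule.mem_span_singleton.1 hmem
    have := (hvli c (-1) (by rw [hc]; simp)).2
    have h1 : (1 : F) = 0 := by linear_combination -this
    exact one_ne_zero h1
  obtain ⟨f0, hf0w, hf0⟩ := Submodule.exists_dual_map_eq_bot_of_notMem hwspan inferInstance
  have hf0v : f0 v = 0 := by
    have : f0 v ∈ (Submodule.span F {v}).map f0 := Submodule.mem_map_of_mem (Submodule.mem_span_singleton_self v)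
    rw [hf0] at this
    exact (Submodule.mem_bot F).1 this
  obtain ⟨lam, hlam⟩ : ∃ lam : (ι → F) →ₗ[F] F, lam = (f0 w)⁻¹ • f0 := ⟨_, rfl⟩
  have hlv : lam v = 0 := by rw [hlam, LinearMap.smul_apply, hf0v, smul_zero]
  have hlw : lam w = 1 := by rw [hlam, LinearMap.smul_apply, smul_eq_mul, inv_mul_cancel₀ hf0w]
  obtain ⟨g, hgd, hgx⟩ := exists_rank_one lam v (by rw [hlv, add_zero]; exact one_ne_zero)
  refine ⟨g, by rw [mem_SL, hgd, hlv, add_zero], ?_⟩
  intro hgL
  rw [mem_subalgNormalizer] at hgL
  have hy'L := (hgL y).1 hyL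
  obtain ⟨y', hy'⟩ : ∃ y', y' = (g : Matrix ι ι F) * y * ((g⁻¹ : Matrix.GeneralLinearGroup ι F) : Matrix ι ι F) :=
    ⟨_, rfl⟩
  rw [← hy'] at hy'L
  have hkey : y' * (g : Matrix ι ι F) = (g : Matrix ι ι F) * y := by
    rw [hy', mul_assoc, ← Units.val_mul, inv_mul_cancel, Units.val_one, mul_one]
  have hz : ∀ z, y' *ᵥ (z + lam z • v) = y *ᵥ z + lam (y *ᵥ z) • v := by
    intro z
    have e1 := congrArg (fun M => M *ᵥ z) hkey
    simp only [← Matrix.mulVec_mulVec] at e1
    rw [hgx, hgx] at e1
    exact e1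
  -- y' = y + 1
  have hy'v : (y' - y - 1) *ᵥ v = 0 := by
    have := hz v
    rw [hlv, zero_smul, add_zero, ← hw, hlw, one_smul] at this
    rw [Matrix.sub_mulVec, Matrix.sub_mulVec, Matrix.one_mulVec, this, ← hw]; abel
  have hmemK : y' - y - 1 ∈ K := K.sub_mem (K.sub_mem (hLK hy'L) (hLK hyL)) K.one_mem
  have hy'eq : y' = y + 1 := by
    by_contra hne
    have hne' : y' - y - 1 ≠ 0 := by
      intro h0; apply hne
      have : y' = (y' - y - 1) + (y + 1) := by abel
      rw [this, h0, zero_add]
    exact hv0 (K_inj hK hmemK hne' hy'v)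
  -- every vector lies in the span of v and w
  have hall : ∀ z : ι → F, z ∈ Submodule.span F ({v, w} : Set (ι → F)) := by
    intro z
    have := hz z
    rw [hy'eq, Matrix.mulVec_add, Matrix.add_mulVec, Matrix.add_mulVec, Matrix.one_mulVec, Matrix.one_mulVec,
      Matrix.mulVec_smul, ← hw] at this
    have hzeq : z = lam (y *ᵥ z) • v - lam z • w - lam z • v := by
      have h3 : y *ᵥ z + z + (lam z • w + lam z • v) = y *ᵥ z + lam (y *ᵥ z) • v := this
      calc z = (y *ᵥ z + z + (lam z • w + lam z • v)) - y *ᵥ z - (lam z • w + lam z • v) := by abel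
        _ = (y *ᵥ z + lam (y *ᵥ z) • v) - y *ᵥ z - (lam z • w + lam z • v) := by rw [h3]
        _ = lam (y *ᵥ z) • v - lam z • w - lam z • v := by abel
    rw [hzeq]
    have hvm : v ∈ Submodule.span F ({v, w} : Set (ι → F)) := Submodule.subset_span (by simp)
    have hwm : w ∈ Submodule.span F ({v, w} : Set (ι → F)) := Submodule.subset_span (by simp)
    exact Submodule.sub_mem _ (Submodule.sub_mem _ (Submodule.smul_mem _ _ hvm) (Submodule.smul_mem _ _ hwm))
      (Submodule.smul_mem _ _ hvm)
  have htop : Submodule.span F ((({v, w} : Finset (ι → F)) : Set (ι → F))) = ⊤ := by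
    rw [eq_top_iff]
    intro z _
    have := hall z
    simpa using this
  have hfr := finrank_span_finset_le_card (R := F) ({v, w} : Finset (ι → F))
  rw [Set.finrank, htop, finrank_top, Module.finrank_fintype_fun_eq_card] at hfr
  have := Finset.card_le_two (a := v) (b := w)
  omega

end Cfsg.Agent.Lib.Helper94
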