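import Cfsg.Agent.Lib.Helper94.ExtField3

set_option autoImplicit false

namespace Cfsg.Agent.Lib.Helper94

open scoped Matrix
open Cfsg

set_option linter.unusedSectionVars false
set_option linter.unnecessarySimpa false
set_option linter.style.haveILetI false
set_option linter.unusedVariables false

variable {ι : Type} [Fintype ι] [DecidableEq ι] {F : Type*} [Field F]

/-- the normaliser of a field subalgebra of composite degree lies in the normaliser of a proper subfield, which is
strictly larger and proper, also inside the special linear group -/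
theorem ext_field_intermediate [Fintype F] {r : ℕ} (hr1 : 1 < r) (hrp : ¬ r.Prime) (hrn : r < Fintype.card ι)
    {K : Subalgebra F (Matrix ι ι F)} (hK : Geo.IsFieldSubalgebra r K) :
    ∃ M : Subgroup (Matrix.GeneralLinearGroup ι F), Geo.subalgebraNormalizer K ≤ M ∧
      (∃ g, g ∈ Geo.specialLinear ι F ∧ g ∈ M ∧ g ∉ Geo.subalgebraNormalizer K) ∧
      (∃ g, g ∈ Geo.specialLinear ι F ∧ g ∉ M) := by
  classical
  haveI : Nonempty ι := Fintype.card_pos_iff.1 (by omega)
  obtain ⟨a, har, ha2, halt⟩ := Nat.exists_dvd_of_not_prime2 hr1 hrp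
  obtain ⟨b, hb⟩ := har
  obtain ⟨q, hq⟩ : ∃ q, q = Fintype.card F := ⟨_, rfl⟩
  have hq2 : 2 ≤ q := by rw [hq]; exact Fintype.one_lt_card
  obtain ⟨θ, hθK, hθord, hθdvd⟩ := exists_generator_K hK
  rw [← hq] at hθord hθdvd
  obtain ⟨L, hL⟩ := exists_frobFixed hK a
  rw [← hq] at hL
  have hLK : L ≤ K := fun x hx => ((hL x).1 hx).1
  -- number theory
  have hqa : q < q ^ a := by
    calc q = q ^ 1 := (pow_one q).symm
      _ < q ^ a := Nat.pow_lt_pow_right (by omega) (by omega)
  have hqar : q ^ a < q ^ r := Nat.pow_lt_pow_right (by omega) halt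
  have hdiv : q ^ a - 1 ∣ q ^ r - 1 := by
    have := Nat.sub_dvd_pow_sub_pow (q ^ a) 1 b
    rwa [one_pow, ← pow_mul, ← hb] at this
  obtain ⟨m, hm⟩ := hdiv
  have hm0 : 0 < m := by
    rcases Nat.eq_zero_or_pos m with h0 | h0
    · rw [h0, mul_zero] at hm; omega
    · exact h0
  -- θ is not fixed
  have hθinv : θ * θ ^ (q ^ r - 2) = 1 := by
    rw [← pow_succ']
    have : q ^ r - 2 + 1 = q ^ r - 1 := by omega
    rw [this, hθord]
  have hθfix : θ ^ (q ^ a) ≠ θ := by
    intro hfix
    have h1 : θ ^ (q ^ a - 1) = 1 := by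
      have e : θ ^ (q ^ a) = θ ^ (q ^ a - 1) * θ := by
        rw [← pow_succ]; congr 1; omega
      rw [e] at hfix
      have := congrArg (fun M => M * θ ^ (q ^ r - 2)) hfix
      simp only [mul_assoc, hθinv, mul_one] at this
      exact this
    have := Nat.le_of_dvd (by omega) (hθdvd _ h1)
    omega
  -- a non-scalar element of L
  obtain ⟨y, hy⟩ : ∃ y, y = θ ^ m := ⟨_, rfl⟩
  have hyK : y ∈ K := by rw [hy]; exact K.pow_mem hθK m
  have hy1 : y ^ (q ^ a - 1) = 1 := by
    rw [hy, ← pow_mul, mul_comm, ← hm, hθord]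
  have hyL : y ∈ L := by
    rw [hL]
    refine ⟨hyK, ?_⟩
    have e : y ^ (q ^ a) = y ^ (q ^ a - 1) * y := by
      rw [← pow_succ]; congr 1; omega
    rw [e, hy1, one_mul]
  have hys : ∀ c : F, y ≠ c • (1 : Matrix ι ι F) := by
    intro c hc
    by_cases hc0 : c = 0
    · rw [hc0, zero_smul] at hc
      rw [hc, zero_pow (by omega)] at hy1
      exact zero_ne_one hy1
    · have h1 : y ^ (q - 1) = 1 := by
        rw [hc, smul_pow, one_pow, hq, FiniteField.pow_card_sub_one_eq_one c hc0, one_smul]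
      rw [hy, ← pow_mul] at h1
      have hd := hθdvd _ h1
      rw [hm] at hd
      have hd' : q ^ a - 1 ∣ q - 1 := by
        have : m * (q ^ a - 1) ∣ m * (q - 1) := by rwa [mul_comm m (q ^ a - 1)]
        exact Nat.dvd_of_mul_dvd_mul_left hm0 this
      have := Nat.le_of_dvd (by omega) hd'
      omega
  refine ⟨Geo.subalgebraNormalizer L, normalizer_le_of_frobFixed (q ^ a) hL, ?_, ?_⟩
  · obtain ⟨g, h1, h2, h3⟩ := exists_centralizing_not_normalizing hK hrn L a (by rw [← hq]; exact hL) θ hθK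
      (by rw [← hq]; exact hθfix)
    exact ⟨g, h1, h2, h3⟩
  · exact exists_SL_not_normalizing hK L hLK (by omega) y hyL hys

end Cfsg.Agent.Lib.Helper94
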