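import Cfsg.Agent.Lib.Helper94.Tensor

set_option autoImplicit false

namespace Cfsg.Agent.Lib.Helper94

open scoped Matrix Kronecker
open Cfsg

set_option linter.unusedSectionVars false
set_option linter.unnecessarySimpa false
set_option linter.style.haveILetI false
set_option linter.unusedVariables false

variable {ι : Type} [Fintype ι] [DecidableEq ι] {F : Type*} [Field F] {n₁ n₂ : ℕ}

section bil
variable {κ : Type} [Fintype κ] [DecidableEq κ] {f : (κ → F) → (κ → F) → F} (h : Geo.IsBilinearForm f)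
include h

lemma bil_zero_left (x : κ → F) : f 0 x = 0 := by
  have := h.smul_left 0 0 x
  simpa using this

lemma bil_zero_right (x : κ → F) : f x 0 = 0 := by
  have := h.smul_right 0 x 0
  simpa using this

lemma bil_neg_left (x y : κ → F) : f (-x) y = - f x y := by
  have := h.smul_left (-1) x y
  simpa using this

lemma bil_neg_right (x y : κ → F) : f x (-y) = - f x y := by
  have := h.smul_right (-1) x y
  simpa using this

lemma bil_sub_left (x x' y : κ → F) : f (x - x') y = f x y - f x' y := by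
  rw [sub_eq_add_neg, h.add_left, bil_neg_left h, sub_eq_add_neg]

lemma bil_sub_right (x y y' : κ → F) : f x (y - y') = f x y - f x y' := by
  rw [sub_eq_add_neg, h.add_right, bil_neg_right h, sub_eq_add_neg]

end bil

lemma pt_sub_left (u u' : Fin n₁ → F) (w : Fin n₂ → F) : pt (u - u') w = pt u w - pt u' w := by
  funext a; simp [pt, sub_mul]

lemma pt_sub_right (u : Fin n₁ → F) (w w' : Fin n₂ → F) : pt u (w - w') = pt u w - pt u w' := by
  funext a; simp [pt, mul_sub]

lemma tens_sub (e : ι ≃ Fin n₁ × Fin n₂) (P : Matrix.GeneralLinearGroup ι F) (x y : Fin n₁ × Fin n₂ → F) :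
    tens e P (x - y) = tens e P x - tens e P y := by
  unfold tens; rw [← Matrix.mulVec_sub]; rfl

/-- contraction of a tensor with a vector of the first factor -/
def ctrL (f₁ : (Fin n₁ → F) → (Fin n₁ → F) → F) (s : Fin n₁ → F) (x : Fin n₁ × Fin n₂ → F) : Fin n₂ → F :=
  fun k => f₁ (fun i => x (i, k)) s

lemma ctrL_add (f₁ : (Fin n₁ → F) → (Fin n₁ → F) → F) (hf : Geo.IsBilinearForm f₁)
    (s : Fin n₁ → F) (x y : Fin n₁ × Fin n₂ → F) :
    ctrL f₁ s (x + y) = ctrL f₁ s x + ctrL f₁ s y := by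
  funext i
  simp only [ctrL, Pi.add_apply]
  rw [← hf.add_left]; rfl

lemma ctrL_sub (f₁ : (Fin n₁ → F) → (Fin n₁ → F) → F) (hf : Geo.IsBilinearForm f₁)
    (s : Fin n₁ → F) (x y : Fin n₁ × Fin n₂ → F) :
    ctrL f₁ s (x - y) = ctrL f₁ s x - ctrL f₁ s y := by
  funext i
  simp only [ctrL, Pi.sub_apply]
  rw [← bil_sub_left hf]; rfl

lemma ctrL_smul (f₁ : (Fin n₁ → F) → (Fin n₁ → F) → F) (hf : Geo.IsBilinearForm f₁)
    (s : Fin n₁ → F) (c : F) (x : Fin n₁ × Fin n₂ → F) :
    ctrL f₁ s (c • x) = c • ctrL f₁ s x := by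
  funext i
  simp only [ctrL, Pi.smul_apply, smul_eq_mul]
  rw [← hf.smul_left]; rfl

lemma ctrL_pt (f₁ : (Fin n₁ → F) → (Fin n₁ → F) → F) (hf : Geo.IsBilinearForm f₁)
    (s : Fin n₁ → F) (u : Fin n₁ → F) (w : Fin n₂ → F) :
    ctrL f₁ s (pt u w) = f₁ u s • w := by
  funext i
  simp only [ctrL, Pi.smul_apply, smul_eq_mul, pt]
  rw [mul_comm, ← hf.smul_left]
  congr 1
  funext k
  simp [mul_comm]

/-- Over the field with three elements, the stabiliser in `Ω(Q)` of a tensor decomposition whose first factor is a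
three-dimensional orthogonal space is not maximal: it preserves the set of tensors `a ⊗ s` with `a` in the (unique up to
signs) orthonormal frame of the first factor. -/
theorem tensor3_left_not_max [Fintype F] {Q : (ι → F) → F} (hQ : Geo.IsNondegenerateQuadraticForm Q)
    (hq : Fintype.card F = 3) (n₂ : ℕ) (hn₂ : 2 ≤ n₂) (e : ι ≃ Fin 3 × Fin n₂)
    (P : Matrix.GeneralLinearGroup ι F) (f₁ : (Fin 3 → F) → (Fin 3 → F) → F)
    (f₂ : (Fin n₂ → F) → (Fin n₂ → F) → F) (hf₁ : Geo.IsSymmetricForm f₁) (hf₂ : Geo.IsSymmetricForm f₂)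
    (hT : Geo.IsTensorFormStructure id (QuadraticMap.polar Q) f₁ f₂ e P) :
    ∃ K : Subgroup (Matrix.GeneralLinearGroup ι F),
      Geo.tensorProductSubgroup 3 n₂ e P ⊓ Geo.omegaGL Q < K ∧ K < Geo.omegaGL Q := by
  classical
  have h3 := f3_three hq
  have h2 : (2 : F) ≠ 0 := by
    intro h
    have : (1 : F) = 0 := by linear_combination h3 - h
    exact one_ne_zero this
  have b₁ := hf₁.bilinear
  have b₂ := hf₂.bilinear
  obtain ⟨c, hc, hform'⟩ := tensor_form_pt id (fun _ _ => rfl) (QuadraticMap.polar Q) f₁ f₂ e P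
    (isSesq_of_bilinear b₁) (isSesq_of_bilinear b₂) hT
  -- the frame of the three-dimensional factor
  have hQ₁ := nondeg_diag f₁ hf₁ h2
  have hnd₁ : Geo.IsNondegenerateOn (QuadraticMap.polar (fun v => f₁ v v)) ⊤ := by
    intro w _ hw
    obtain ⟨⟨x, hx⟩, ⟨y, hy⟩⟩ := hQ₁.nondegenerate w hw
    exact ⟨⟨x, Submodule.mem_top, hx⟩, ⟨y, Submodule.mem_top, hy⟩⟩
  obtain ⟨δ, hδ, a, ha⟩ := exists_frame3 hQ₁ hq ⊤ (by simp) hnd₁
  have hval : ∀ j, f₁ (a j) (a j) = δ := ha.val
  have horth : ∀ j j', j ≠ j' → f₁ (a j) (a j') = 0 := by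
    intro j j' hjj
    have := ha.orth j j' hjj
    rw [pol_diag f₁ hf₁] at this
    exact (mul_eq_zero.mp this).resolve_left h2
  have hstruct : ∀ v, f₁ v v = δ → ∃ j, v = a j ∨ v = - a j := fun v hv => ha.struct v Submodule.mem_top hv
  -- an orthogonal pair in the second factor
  have hQ₂ := nondeg_diag f₂ hf₂ h2
  have hnd₂ : Geo.IsNondegenerateOn (QuadraticMap.polar (fun v => f₂ v v)) ⊤ := by
    intro w _ hw
    obtain ⟨⟨x, hx⟩, ⟨y, hy⟩⟩ := hQ₂.nondegenerate w hw
    exact ⟨⟨x, Submodule.mem_top, hx⟩, ⟨y, Submodule.mem_top, hy⟩⟩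
  obtain ⟨b, -, hbQ, hbo, -⟩ := exists_orth_basis hQ₂ h2 ⊤ n₂ (by simp) hnd₂
  obtain ⟨w, hwdef⟩ : ∃ w, w = b ⟨0, by omega⟩ := ⟨_, rfl⟩
  obtain ⟨t, htdef⟩ : ∃ t, t = b ⟨1, by omega⟩ := ⟨_, rfl⟩
  obtain ⟨ε, hεdef⟩ : ∃ ε, ε = f₂ w w := ⟨_, rfl⟩
  obtain ⟨η, hηdef⟩ : ∃ η, η = f₂ t t := ⟨_, rfl⟩
  have hε : ε ≠ 0 := by rw [hεdef, hwdef]; exact hbQ _
  have hη : η ≠ 0 := by rw [hηdef, htdef]; exact hbQ _
  have hwt : f₂ w t = 0 := by
    have := hbo ⟨0, by omega⟩ ⟨1, by omega⟩ (by intro h; simp [Fin.ext_iff] at h)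
    rw [pol_diag f₂ hf₂] at this
    rw [hwdef, htdef]
    exact (mul_eq_zero.mp this).resolve_left h2
  have htw : f₂ t w = 0 := by rw [hf₂.symm]; exact hwt
  -- coordinates
  obtain ⟨T, hTdef⟩ : ∃ T, T = tens e P := ⟨_, rfl⟩
  rw [← hTdef] at hform'
  have hform : ∀ u s u' s', pol Q (T (pt u s)) (T (pt u' s')) = c * (f₁ u u' * f₂ s s') := hform'
  have T_add : ∀ x y, T (x + y) = T x + T y := by rw [hTdef]; exact tens_add e P
  have T_sub : ∀ x y, T (x - y) = T x - T y := by rw [hTdef]; exact tens_sub e P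
  have T_smul : ∀ (k : F) x, T (k • x) = k • T x := by rw [hTdef]; exact tens_smul e P
  have T_inj : Function.Injective T := by rw [hTdef]; exact tens_injective e P
  have hQpol : ∀ z, Q z = - pol Q z z := by
    intro z
    have := pol_self hQ z
    linear_combination (Q z) * h3 + this
  have hQpt : ∀ u s, Q (T (pt u s)) = - (c * (f₁ u u * f₂ s s)) := by
    intro u s; rw [hQpol, hform]
  have h01 : (0 : Fin 3) ≠ 1 := by decide
  have h02 : (0 : Fin 3) ≠ 2 := by decide
  have h12 : (1 : Fin 3) ≠ 2 := by decide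
  -- the set
  let S : Set (ι → F) := {v | ∃ (j : Fin 3) (s : Fin n₂ → F), v = T (pt (a j) s)}
  have hSmem : ∀ j s, T (pt (a j) s) ∈ S := fun j s => ⟨j, s, rfl⟩
  -- contractions
  have C_add : ∀ r x y, ctrL (n₂ := n₂) f₁ r (x + y) = ctrL f₁ r x + ctrL f₁ r y :=
    fun r x y => ctrL_add f₁ b₁ r x y
  have C_sub : ∀ r x y, ctrL (n₂ := n₂) f₁ r (x - y) = ctrL f₁ r x - ctrL f₁ r y :=
    fun r x y => ctrL_sub f₁ b₁ r x y
  have C_smul : ∀ r (k : F) x, ctrL (n₂ := n₂) f₁ r (k • x) = k • ctrL f₁ r x :=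
    fun r k x => ctrL_smul f₁ b₁ r k x
  have C_pt : ∀ r u (s : Fin n₂ → F), ctrL f₁ r (pt u s) = f₁ u r • s :=
    fun r u s => ctrL_pt f₁ b₁ r u s
  -- reflections in frame tensors preserve the set
  have hrefl : ∀ (j₀ : Fin 3) (w₀ : Fin n₂ → F) (hz : Q (T (pt (a j₀) w₀)) ≠ 0),
      rGL hQ _ hz ∈ stabilizing (glToMat ι F) S := by
    intro j₀ w₀ hz
    apply stab_of_forward
    rintro v ⟨j, s, rfl⟩
    rw [rGL_mulVec, hform]
    by_cases hj : j = j₀
    · subst hj
      rw [← T_smul, ← T_sub, ← pt_smul_right, ← pt_sub_right]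
      exact hSmem _ _
    · rw [horth j j₀ hj, zero_mul, mul_zero, mul_zero, zero_smul, sub_zero]
      exact hSmem _ _
  refine ⟨stabilizing (glToMat ι F) S ⊓ Geo.omegaGL Q, ?_, ?_⟩
  · -- H < K
    rw [SetLike.lt_iff_le_and_exists]
    refine ⟨?_, ?_⟩
    · intro g hg
      obtain ⟨hgT, hgS⟩ := Subgroup.mem_inf.mp hg
      refine Subgroup.mem_inf.mpr ⟨?_, hgS⟩
      obtain ⟨A, B, hAB⟩ := mem_tensorProductSubgroup_pt e P g hgT
      rw [← hTdef] at hAB
      have hgI := omega_le_isom hgS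
      obtain ⟨μ₁, μ₂, hμ₁, hμ₂, hA, hB⟩ := tensor_similarity (QuadraticMap.polar Q) f₁ f₂ e P c hc
        (by rw [← hTdef]; exact hform)
        ⟨a 0, a 0, by rw [hval]; exact hδ⟩ ⟨w, w, by rw [← hεdef]; exact hε⟩
        (g : Matrix ι ι F) (fun x y => isom_pol hgI x y)
        (A : Matrix (Fin 3) (Fin 3) F) (B : Matrix (Fin n₂) (Fin n₂) F) (by rw [← hTdef]; exact hAB)
      have hdet := similarity_det f₁ b₁ hf₁.nondegenerate (A : Matrix (Fin 3) (Fin 3) F) μ₁ hA
      have hμ1 : μ₁ = 1 := by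
        have hdA : (A : Matrix (Fin 3) (Fin 3) F).det ≠ 0 := by
          have := (Matrix.isUnit_iff_isUnit_det _).mp (Units.isUnit A)
          exact this.ne_zero
        simp only [Fintype.card_fin] at hdet
        have e1 : (A : Matrix (Fin 3) (Fin 3) F).det ^ 2 = 1 := by
          rcases f3_cases hq (A : Matrix (Fin 3) (Fin 3) F).det with h | h | h
          · exact absurd h hdA
          · rw [h]; ring
          · rw [h]; ring
        have e2 : μ₁ ^ 3 = μ₁ := by
          rcases f3_cases hq μ₁ with h | h | h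
          · exact absurd h hμ₁
          · rw [h]; ring
          · rw [h]; ring
        rw [← e2, ← hdet, e1]
      apply stab_of_forward
      rintro v ⟨j, s, rfl⟩
      rw [hAB]
      have hAa : f₁ ((A : Matrix (Fin 3) (Fin 3) F) *ᵥ a j) ((A : Matrix (Fin 3) (Fin 3) F) *ᵥ a j) = δ := by
        rw [hA, hμ1, one_mul, hval]
      obtain ⟨j', hj' | hj'⟩ := hstruct _ hAa
      · rw [hj']; exact hSmem _ _
      · rw [hj', pt_neg_left, ← pt_neg_right]; exact hSmem _ _
    · -- the witness g₀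
      have hx₀ : Q (T (pt (a 0) w)) ≠ 0 := by
        rw [hQpt, hval, ← hεdef]; exact neg_ne_zero.mpr (mul_ne_zero hc (mul_ne_zero hδ hε))
      have hy₀ : Q (T (pt (a 1) w)) ≠ 0 := by
        rw [hQpt, hval, ← hεdef]; exact neg_ne_zero.mpr (mul_ne_zero hc (mul_ne_zero hδ hε))
      have hxy : Q (T (pt (a 1) w)) = Q (T (pt (a 0) w)) := by rw [hQpt, hQpt, hval, hval]
      have hd : Q (T (pt (a 0) w) - T (pt (a 1) w)) ≠ 0 := by
        rw [← T_sub, ← pt_sub_left, hQpt, bil_sub_left b₁, bil_sub_right b₁, bil_sub_right b₁, hval, hval,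
          horth 0 1 h01, horth 1 0 (Ne.symm h01), ← hεdef]
        refine neg_ne_zero.mpr (mul_ne_zero hc (mul_ne_zero ?_ hε))
        intro h
        apply hδ
        have : 2 * δ = 0 := by linear_combination h
        exact (mul_eq_zero.mp this).resolve_left h2
      refine ⟨rGL hQ _ hx₀ * rGL hQ _ hy₀, ?_, ?_⟩
      · exact Subgroup.mem_inf.mpr ⟨Subgroup.mul_mem _ (hrefl 0 w hx₀) (hrefl 1 w hy₀),
          rr_mem_omega hQ _ _ hx₀ hy₀ hxy hd⟩
      · intro hg
        obtain ⟨hgT, -⟩ := Subgroup.mem_inf.mp hg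
        obtain ⟨A, B, hAB⟩ := mem_tensorProductSubgroup_pt e P _ hgT
        rw [← hTdef] at hAB
        -- the action on `a 2 ⊗ (w + t)`
        have h1 := hAB (a 2) (w + t)
        rw [Units.val_mul, ← Matrix.mulVec_mulVec, rGL_mulVec hQ _ hy₀, hform, horth 2 1 (Ne.symm h12),
          zero_mul, mul_zero, mul_zero, zero_smul, sub_zero, rGL_mulVec hQ _ hx₀, hform,
          horth 2 0 (Ne.symm h02), zero_mul, mul_zero, mul_zero, zero_smul, sub_zero] at h1
        have h1' := T_inj h1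
        -- the action on `a 0 ⊗ (w + t)`
        have h2' := hAB (a 0) (w + t)
        rw [Units.val_mul, ← Matrix.mulVec_mulVec, rGL_mulVec hQ _ hy₀, hform, horth 0 1 h01,
          zero_mul, mul_zero, mul_zero, zero_smul, sub_zero, rGL_mulVec hQ _ hx₀, hform, hval,
          b₂.add_left, htw, add_zero, ← hεdef, ← T_smul, ← T_sub] at h2'
        have h2'' := T_inj h2'
        obtain ⟨lam, hlam⟩ : ∃ lam, lam = (Q (T (pt (a 0) w)))⁻¹ * (c * (δ * ε)) := ⟨_, rfl⟩
        have hlam0 : lam ≠ 0 := by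
          rw [hlam]; exact mul_ne_zero (inv_ne_zero hx₀) (mul_ne_zero hc (mul_ne_zero hδ hε))
        rw [← hlam] at h2''
        obtain ⟨Bs, hBs⟩ : ∃ Bs, Bs = (B : Matrix (Fin n₂) (Fin n₂) F) *ᵥ (w + t) := ⟨_, rfl⟩
        rw [← hBs] at h1' h2''
        have c2 := congrArg (ctrL f₁ (a 2)) h1'
        have c0 := congrArg (ctrL f₁ (a 0)) h2''
        rw [C_pt, C_pt, hval] at c2
        rw [C_sub, C_smul, C_pt, C_pt, C_pt, hval] at c0
        obtain ⟨α₂, hα₂⟩ : ∃ α₂, α₂ = f₁ ((A : Matrix (Fin 3) (Fin 3) F) *ᵥ a 2) (a 2) := ⟨_, rfl⟩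
        obtain ⟨α₀, hα₀⟩ : ∃ α₀, α₀ = f₁ ((A : Matrix (Fin 3) (Fin 3) F) *ᵥ a 0) (a 0) := ⟨_, rfl⟩
        rw [← hα₂] at c2
        rw [← hα₀] at c0
        have key : α₀ • (δ • (w + t)) = α₂ • (δ • (w + t) - lam • δ • w) := by
          rw [c0, c2, smul_smul, smul_smul, mul_comm]
        have k1 := congrArg (fun z => f₂ z t) key
        have k2 := congrArg (fun z => f₂ z w) key
        simp only [b₂.smul_left, b₂.add_left, bil_sub_left b₂, hwt, htw, ← hεdef, ← hηdef] at k1 k2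
        have e1 : α₀ = α₂ := by
          have : (α₀ - α₂) * (δ * η) = 0 := by linear_combination k1
          have := (mul_eq_zero.mp this).resolve_right (mul_ne_zero hδ hη)
          exact sub_eq_zero.mp this
        rw [e1] at k2
        have e2 : α₂ = 0 := by
          have : α₂ * (lam * (δ * ε)) = 0 := by linear_combination k2
          exact (mul_eq_zero.mp this).resolve_right (mul_ne_zero hlam0 (mul_ne_zero hδ hε))
        rw [e2, zero_smul] at c2
        have k3 := congrArg (fun z => f₂ z w) c2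
        simp only [b₂.smul_left, b₂.add_left, htw, ← hεdef, bil_zero_left b₂] at k3
        have : δ * ε = 0 := by linear_combination k3
        exact mul_ne_zero hδ hε this
  · -- K < Ω
    rw [SetLike.lt_iff_le_and_exists]
    have hq1 : f₁ (a 0 + a 1) (a 0 + a 1) = 2 * δ := by
      rw [b₁.add_left, b₁.add_right, b₁.add_right, hval, hval, horth 0 1 h01, horth 1 0 (Ne.symm h01)]; ring
    have hq2 : f₁ (a 0 + a 2) (a 0 + a 2) = 2 * δ := by
      rw [b₁.add_left, b₁.add_right, b₁.add_right, hval, hval, horth 0 2 h02, horth 2 0 (Ne.symm h02)]; ring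
    have hQx : Q (T (pt (a 0 + a 1) w)) = c * (δ * ε) := by
      rw [hQpt, hq1, ← hεdef]; linear_combination (-c * δ * ε) * h3
    have hQy : Q (T (pt (a 0 + a 2) w)) = c * (δ * ε) := by
      rw [hQpt, hq2, ← hεdef]; linear_combination (-c * δ * ε) * h3
    have hne : c * (δ * ε) ≠ 0 := mul_ne_zero hc (mul_ne_zero hδ hε)
    have hx₁ : Q (T (pt (a 0 + a 1) w)) ≠ 0 := by rw [hQx]; exact hne
    have hy₁ : Q (T (pt (a 0 + a 2) w)) ≠ 0 := by rw [hQy]; exact hne
    have hd : Q (T (pt (a 0 + a 1) w) - T (pt (a 0 + a 2) w)) ≠ 0 := by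
      rw [← T_sub, ← pt_sub_left, hQpt]
      have : a 0 + a 1 - (a 0 + a 2) = a 1 - a 2 := by abel
      rw [this, bil_sub_left b₁, bil_sub_right b₁, bil_sub_right b₁, hval, hval,
          horth 1 2 h12, horth 2 1 (Ne.symm h12), ← hεdef]
      refine neg_ne_zero.mpr (mul_ne_zero hc (mul_ne_zero ?_ hε))
      intro h
      apply hδ
      have : 2 * δ = 0 := by linear_combination h
      exact (mul_eq_zero.mp this).resolve_left h2
    refine ⟨inf_le_right, rGL hQ _ hx₁ * rGL hQ _ hy₁,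
      rr_mem_omega hQ _ _ hx₁ hy₁ (by rw [hQx, hQy]) hd, ?_⟩
    intro hg
    obtain ⟨hgS, -⟩ := Subgroup.mem_inf.mp hg
    rw [mem_stabz] at hgS
    obtain ⟨j, s', h1⟩ := (hgS _).mp (hSmem 0 (w + t))
    have hp1 : pol Q (T (pt (a 0) (w + t))) (T (pt (a 0 + a 2) w)) = c * (δ * ε) := by
      rw [hform, b₁.add_right, hval, horth 0 2 h02, b₂.add_left, htw, ← hεdef]; ring
    have hp2 : pol Q (T (pt (a 0) (w + t))) (T (pt (a 0 + a 1) w)) = c * (δ * ε) := by
      rw [hform, b₁.add_right, hval, horth 0 1 h01, b₂.add_left, htw, ← hεdef]; ring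
    have hp3 : pol Q (T (pt (a 0 + a 2) w)) (T (pt (a 0 + a 1) w)) = c * (δ * ε) := by
      rw [hform, b₁.add_left, b₁.add_right, b₁.add_right, hval, horth 0 1 h01, horth 2 0 (Ne.symm h02),
        horth 2 1 (Ne.symm h12), ← hεdef]; ring
    rw [Units.val_mul, ← Matrix.mulVec_mulVec, rGL_mulVec hQ _ hy₁, hp1, hQy, inv_mul_cancel₀ hne, one_smul,
      rGL_mulVec hQ _ hx₁, pol_sub_left hQ, hp2, hp3, sub_self, mul_zero, zero_smul, sub_zero,
      ← T_sub] at h1
    have h1' := T_inj h1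
    have c0 := congrArg (ctrL f₁ (a 0)) h1'
    have c2 := congrArg (ctrL f₁ (a 2)) h1'
    rw [C_sub, C_pt, C_pt, C_pt, hval, b₁.add_left, hval, horth 2 0 (Ne.symm h02), add_zero] at c0
    rw [C_sub, C_pt, C_pt, C_pt, horth 0 2 h02, b₁.add_left, hval, horth 0 2 h02, zero_add, zero_smul,
      zero_sub] at c2
    by_cases hj : j = 0
    · subst hj
      rw [horth 0 2 h02, zero_smul] at c2
      have k := congrArg (fun z => f₂ z w) c2
      simp only [bil_neg_left b₂, b₂.smul_left, ← hεdef, bil_zero_left b₂] at k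
      have : δ * ε = 0 := by linear_combination -k
      exact mul_ne_zero hδ hε this
    · rw [horth j 0 hj, zero_smul] at c0
      have k := congrArg (fun z => f₂ z t) c0
      simp only [bil_sub_left b₂, b₂.smul_left, b₂.add_left, hwt, ← hηdef, bil_zero_left b₂] at k
      have : δ * η = 0 := by linear_combination k
      exact mul_ne_zero hδ hη this

end Cfsg.Agent.Lib.Helper94
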