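import Cfsg.Agent.Lib.Helper94.F4Struct
import Cfsg.Agent.Lib.Helper94.TensorOmega3

set_option autoImplicit false

namespace Cfsg.Agent.Lib.Helper94

open scoped Matrix Kronecker
open Cfsg

set_option linter.unusedSectionVars false
set_option linter.unnecessarySimpa false
set_option linter.style.haveILetI false
set_option linter.unusedVariables false

variable {F : Type*} [Field F]

section transport2
variable {ι : Type} [Fintype ι] [DecidableEq ι] {n₁ n₂ : ℕ}

/-- the isomorphism `GL(Fin n₁ × Fin n₂) ≃ GL ι` underlying `tensorProductSubgroup` -/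
def tPhi (e : ι ≃ Fin n₁ × Fin n₂) (P : Matrix.GeneralLinearGroup ι F) :
    Matrix.GeneralLinearGroup (Fin n₁ × Fin n₂) F ≃* Matrix.GeneralLinearGroup ι F :=
  (Geo.glReindex e.symm).trans (MulAut.conj P)

lemma tmap_eq_map (e : ι ≃ Fin n₁ × Fin n₂) (P : Matrix.GeneralLinearGroup ι F)
    (N : Subgroup (Matrix.GeneralLinearGroup (Fin n₁ × Fin n₂) F)) :
    tmap e P N = N.map (tPhi e P).toMonoidHom := by
  unfold tmap
  rw [Subgroup.map_map]
  rfl

lemma tPhi_mulVec (e : ι ≃ Fin n₁ × Fin n₂) (P : Matrix.GeneralLinearGroup ι F)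
    (k : Matrix.GeneralLinearGroup (Fin n₁ × Fin n₂) F) (x : Fin n₁ × Fin n₂ → F) :
    ((tPhi e P k : Matrix.GeneralLinearGroup ι F) : Matrix ι ι F) *ᵥ tens e P x =
      tens e P ((k : Matrix (Fin n₁ × Fin n₂) (Fin n₁ × Fin n₂) F) *ᵥ x) := by
  unfold tens
  have h1 : ((tPhi e P k : Matrix.GeneralLinearGroup ι F) : Matrix ι ι F) =
      (P : Matrix ι ι F) * ((k : Matrix _ _ F).submatrix e e) * ((P⁻¹ : Matrix.GeneralLinearGroup ι F) : Matrix ι ι F) := by
    simp [tPhi, Geo.glReindex, MulAut.conj_apply, Matrix.reindex_apply]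
  rw [h1, Matrix.mulVec_mulVec, mul_assoc, ← Units.val_mul, inv_mul_cancel, Units.val_one, mul_one,
    ← Matrix.mulVec_mulVec, Matrix.submatrix_mulVec_equiv]
  have : (x ∘ e) ∘ e.symm = x := by funext a; simp
  rw [this]

lemma mem_tmap_invNormalizer (e : ι ≃ Fin n₁ × Fin n₂) (P : Matrix.GeneralLinearGroup ι F)
    (j : Matrix.GeneralLinearGroup (Fin n₁ × Fin n₂) F) (g : Matrix.GeneralLinearGroup ι F) :
    g ∈ tmap e P (invNormalizer j) ↔
      g * tPhi e P j = tPhi e P j * g ∨ g * tPhi e P j = (tPhi e P j)⁻¹ * g := by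
  rw [tmap_eq_map, Subgroup.mem_map_equiv, mem_invNormalizer]
  have hg : g = tPhi e P ((tPhi e P).symm g) := by simp
  constructor
  · rintro (h | h)
    · left
      have := congrArg (tPhi e P) h
      rw [map_mul, map_mul, ← hg] at this
      exact this
    · right
      have := congrArg (tPhi e P) h
      rw [map_mul, map_mul, map_inv, ← hg] at this
      exact this
  · rintro (h | h)
    · left
      apply (tPhi e P).injective
      rw [map_mul, map_mul, ← hg]
      exact h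
    · right
      apply (tPhi e P).injective
      rw [map_mul, map_mul, map_inv, ← hg]
      exact h

/-- every vector is in the image of `tens` -/
lemma tens_surjective (e : ι ≃ Fin n₁ × Fin n₂) (P : Matrix.GeneralLinearGroup ι F) (v : ι → F) :
    ∃ y, tens e P y = v := by
  refine ⟨(((P⁻¹ : Matrix.GeneralLinearGroup ι F) : Matrix ι ι F) *ᵥ v) ∘ e.symm, ?_⟩
  unfold tens
  have : ((((P⁻¹ : Matrix.GeneralLinearGroup ι F) : Matrix ι ι F) *ᵥ v) ∘ e.symm) ∘ e =
      ((P⁻¹ : Matrix.GeneralLinearGroup ι F) : Matrix ι ι F) *ᵥ v := by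
    funext a; simp
  rw [this, mulVec_inv_mulVec]

end transport2

lemma formOfGram_eq_dot {κ : Type} [Fintype κ] (G : Matrix κ κ F) (x y : κ → F) :
    Geo.formOfGram id G x y = x ⬝ᵥ (G *ᵥ y) := by
  unfold Geo.formOfGram
  simp only [dotProduct, Matrix.mulVec, id, Finset.mul_sum, mul_assoc]

/-- a matrix `M` with `Mᵀ G M = G` preserves the form with Gram matrix `G` -/
lemma formOfGram_mulVec {κ : Type} [Fintype κ] [DecidableEq κ] (G M : Matrix κ κ F) (hM : Mᵀ * G * M = G)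
    (x y : κ → F) : Geo.formOfGram id G (M *ᵥ x) (M *ᵥ y) = Geo.formOfGram id G x y := by
  rw [formOfGram_eq_dot, formOfGram_eq_dot, ← Matrix.vecMul_transpose M x, ← Matrix.dotProduct_mulVec,
    Matrix.mulVec_mulVec, Matrix.mulVec_mulVec, hM]

lemma omM_gram (h2 : (2 : F) = 0) (f₁ : (Fin 2 → F) → (Fin 2 → F) → F) (hf₁ : Geo.IsSymplecticForm f₁) :
    (omM F)ᵀ * Geo.gramMatrix f₁ * omM F = Geo.gramMatrix f₁ := by
  have h11 : (1 : F) + 1 = 0 := by rw [← h2]; norm_num
  have g00 : Geo.gramMatrix f₁ 0 0 = 0 := hf₁.alternating _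
  have g11 : Geo.gramMatrix f₁ 1 1 = 0 := hf₁.alternating _
  have g10 : Geo.gramMatrix f₁ 1 0 = Geo.gramMatrix f₁ 0 1 := by
    have h := hf₁.skew (Pi.single 1 1) (Pi.single 0 1)
    have e : -Geo.gramMatrix f₁ 0 1 = Geo.gramMatrix f₁ 0 1 := by
      have : Geo.gramMatrix f₁ 0 1 + Geo.gramMatrix f₁ 0 1 = 0 := by rw [← two_mul, h2, zero_mul]
      linear_combination -this
    change Geo.gramMatrix f₁ 1 0 = -Geo.gramMatrix f₁ 0 1 at h
    rw [h, e]
  rw [Matrix.eta_fin_two (Geo.gramMatrix f₁), g00, g11, g10]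
  unfold omM
  have ht : (!![0, 1; 1, 1] : Matrix (Fin 2) (Fin 2) F)ᵀ = !![0, 1; 1, 1] := by
    ext i j; fin_cases i <;> fin_cases j <;> rfl
  rw [ht, Matrix.mul_fin_two, Matrix.mul_fin_two]
  have : Geo.gramMatrix f₁ 0 1 + Geo.gramMatrix f₁ 0 1 = 0 := by rw [← two_mul, h2, zero_mul]
  simp [this]

section Jact
variable {ι : Type} [Fintype ι] [DecidableEq ι] {n₂ : ℕ}

/-- the `F₄`-multiplication `J` preserves a form which is a tensor product with a symplectic form on `F²` -/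
lemma J_preserves (h2 : (2 : F) = 0) (f : (ι → F) → (ι → F) → F)
    (f₁ : (Fin 2 → F) → (Fin 2 → F) → F) (f₂ : (Fin n₂ → F) → (Fin n₂ → F) → F)
    (hf₁ : Geo.IsSymplecticForm f₁) (e : ι ≃ Fin 2 × Fin n₂) (P : Matrix.GeneralLinearGroup ι F)
    (hT : Geo.IsTensorFormStructure id f f₁ f₂ e P) (v w : ι → F) :
    f (((tPhi e P (jG h2 n₂) : Matrix.GeneralLinearGroup ι F) : Matrix ι ι F) *ᵥ v)
      (((tPhi e P (jG h2 n₂) : Matrix.GeneralLinearGroup ι F) : Matrix ι ι F) *ᵥ w) = f v w := by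
  obtain ⟨y, rfl⟩ := tens_surjective e P v
  obtain ⟨y', rfl⟩ := tens_surjective e P w
  rw [tPhi_mulVec, tPhi_mulVec]
  obtain ⟨c, hc, h⟩ := hT
  unfold tens
  rw [h, h, jG_val, formOfGram_mulVec]
  rw [← Matrix.kroneckerMap_transpose, Matrix.transpose_one, ← Matrix.mul_kronecker_mul,
    ← Matrix.mul_kronecker_mul, omM_gram h2 f₁ hf₁, one_mul, mul_one]

lemma J_pt (h2 : (2 : F) = 0) (e : ι ≃ Fin 2 × Fin n₂) (P : Matrix.GeneralLinearGroup ι F)
    (u : Fin 2 → F) (w : Fin n₂ → F) :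
    ((tPhi e P (jG h2 n₂) : Matrix.GeneralLinearGroup ι F) : Matrix ι ι F) *ᵥ tens e P (pt u w) =
      tens e P (pt (omM F *ᵥ u) w) := by
  rw [tPhi_mulVec, jG_val, kron_mulVec_pt, Matrix.one_mulVec]

lemma Jinv_pt (h2 : (2 : F) = 0) (e : ι ≃ Fin 2 × Fin n₂) (P : Matrix.GeneralLinearGroup ι F)
    (u : Fin 2 → F) (w : Fin n₂ → F) :
    (((tPhi e P (jG h2 n₂))⁻¹ : Matrix.GeneralLinearGroup ι F) : Matrix ι ι F) *ᵥ tens e P (pt u w) =
      tens e P (pt ((omM F * omM F) *ᵥ u) w) := by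
  rw [← map_inv, tPhi_mulVec, jG_inv_val, kron_mulVec_pt, Matrix.one_mulVec]

lemma omM_e0 : omM F *ᵥ ![1, 0] = ![0, 1] := by
  funext i; fin_cases i <;> simp [omM, Matrix.mulVec, dotProduct, Fin.sum_univ_two]

lemma omM_e1 : omM F *ᵥ ![0, 1] = ![1, 1] := by
  funext i; fin_cases i <;> simp [omM, Matrix.mulVec, dotProduct, Fin.sum_univ_two]

lemma omM_e01 (h2 : (2 : F) = 0) : omM F *ᵥ ![1, 1] = ![1, 0] := by
  have h11 : (1 : F) + 1 = 0 := by rw [← h2]; norm_num
  funext i; fin_cases i <;> simp [omM, Matrix.mulVec, dotProduct, Fin.sum_univ_two, h11]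

lemma omM2_e0 (h2 : (2 : F) = 0) : (omM F * omM F) *ᵥ ![1, 0] = ![1, 1] := by
  rw [← Matrix.mulVec_mulVec, omM_e0, omM_e1]

lemma omM2_e1 (h2 : (2 : F) = 0) : (omM F * omM F) *ᵥ ![0, 1] = ![1, 0] := by
  rw [← Matrix.mulVec_mulVec, omM_e1, omM_e01 h2]

end Jact

/-- a nonzero vector orthogonal to two given vectors, in dimension at least three -/
lemma exists_perp_two {κ : Type} [Fintype κ] [DecidableEq κ] (f : (κ → F) → (κ → F) → F)
    (hf : Geo.IsBilinearForm f) (a b : κ → F) (hcard : 2 < Fintype.card κ) :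
    ∃ c : κ → F, c ≠ 0 ∧ f c a = 0 ∧ f c b = 0 := by
  let La : (κ → F) →ₗ[F] F :=
    { toFun := fun r => f r a, map_add' := fun x y => hf.add_left x y a, map_smul' := fun k x => hf.smul_left k x a }
  let Lb : (κ → F) →ₗ[F] F :=
    { toFun := fun r => f r b, map_add' := fun x y => hf.add_left x y b, map_smul' := fun k x => hf.smul_left k x b }
  have hlt : Module.finrank F (F × F) < Module.finrank F (κ → F) := by
    rw [Module.finrank_prod, Module.finrank_self, Module.finrank_fintype_fun_eq_card]; omega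
  have hker := LinearMap.ker_ne_bot_of_finrank_lt (f := La.prod Lb) hlt
  obtain ⟨c, hc, hc0⟩ := Submodule.exists_mem_ne_zero_of_ne_bot hker
  rw [LinearMap.mem_ker, LinearMap.prod_apply] at hc
  have h1 : f c a = 0 := congrArg Prod.fst hc
  have h2 : f c b = 0 := congrArg Prod.snd hc
  exact ⟨c, hc0, h1, h2⟩

end Cfsg.Agent.Lib.Helper94
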