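import Cfsg.Agent.Lib.Helper94.Tensor

set_option autoImplicit false

namespace Cfsg.Agent.Lib.Helper94

open scoped Matrix Kronecker
open Cfsg

set_option linter.unusedSectionVars false
set_option linter.unnecessarySimpa false
set_option linter.style.haveILetI false
set_option linter.unusedVariables false

variable {F : Type*} [Field F]

/-- the companion matrix of `t² + t + 1` -/
def omM (F : Type*) [Field F] : Matrix (Fin 2) (Fin 2) F := !![0, 1; 1, 1]

lemma omM_sq (h2 : (2 : F) = 0) : omM F * omM F = !![1, 1; 1, 0] := by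
  unfold omM
  rw [Matrix.mul_fin_two]
  have : (1 : F) + 1 = 0 := by rw [← h2]; norm_num
  simp [this]

lemma omM_cube (h2 : (2 : F) = 0) : omM F * (omM F * omM F) = 1 := by
  rw [omM_sq h2]
  unfold omM
  rw [Matrix.mul_fin_two]
  have : (1 : F) + 1 = 0 := by rw [← h2]; norm_num
  simp [this, Matrix.one_fin_two]

lemma omM_cube' (h2 : (2 : F) = 0) : (omM F * omM F) * omM F = 1 := by
  rw [mul_assoc]; exact omM_cube h2

/-- every invertible `2 × 2` matrix over the field with two elements normalises `⟨ω⟩` -/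
lemma gl2_normalizes (h01 : ∀ x : F, x = 0 ∨ x = 1) (h2 : (2 : F) = 0) (M : Matrix (Fin 2) (Fin 2) F)
    (hdet : M.det ≠ 0) : M * omM F = omM F * M ∨ M * omM F = (omM F * omM F) * M := by
  have h11 : (1 : F) + 1 = 0 := by rw [← h2]; norm_num
  rw [omM_sq h2]
  rw [Matrix.eta_fin_two M] at hdet ⊢
  rw [Matrix.det_fin_two_of] at hdet
  unfold omM
  rw [Matrix.mul_fin_two, Matrix.mul_fin_two, Matrix.mul_fin_two]
  rcases h01 (M 0 0) with ha | ha <;> rcases h01 (M 0 1) with hb | hb <;>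
    rcases h01 (M 1 0) with hc | hc <;> rcases h01 (M 1 1) with hd | hd <;>
    simp [ha, hb, hc, hd, h11] at hdet ⊢

/-- the elements conjugating `j` to `j` or to its inverse -/
def invNormalizer {G : Type*} [Group G] (j : G) : Subgroup G where
  carrier := {k | k * j * k⁻¹ = j ∨ k * j * k⁻¹ = j⁻¹}
  one_mem' := by left; simp
  mul_mem' {a b} ha hb := by
    have e : a * b * j * (a * b)⁻¹ = a * (b * j * b⁻¹) * a⁻¹ := by group
    rcases hb with hb | hb
    · rcases ha with ha | ha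
      · left; rw [e, hb, ha]
      · right; rw [e, hb, ha]
    · have e' : a * j⁻¹ * a⁻¹ = (a * j * a⁻¹)⁻¹ := by group
      rcases ha with ha | ha
      · right; rw [e, hb, e', ha]
      · left; rw [e, hb, e', ha, inv_inv]
  inv_mem' {a} ha := by
    rcases ha with ha | ha
    · left
      rw [inv_inv]
      conv_lhs => rw [← ha]
      group
    · right
      have h' : a * j⁻¹ * a⁻¹ = j := by
        have : a * j⁻¹ * a⁻¹ = (a * j * a⁻¹)⁻¹ := by group
        rw [this, ha, inv_inv]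
      rw [inv_inv]
      conv_lhs => rw [← h']
      group

lemma mem_invNormalizer {G : Type*} [Group G] (j k : G) :
    k ∈ invNormalizer j ↔ k * j = j * k ∨ k * j = j⁻¹ * k := by
  change (k * j * k⁻¹ = j ∨ k * j * k⁻¹ = j⁻¹) ↔ _
  rw [mul_inv_eq_iff_eq_mul, mul_inv_eq_iff_eq_mul]


section kron
variable {n₂ : ℕ}

/-- `ω ⊗ 1`: multiplication by a primitive cube root of unity for the `F₄`-structure on `F² ⊗ F^(n₂)` -/
def jG (h2 : (2 : F) = 0) (n₂ : ℕ) : Matrix.GeneralLinearGroup (Fin 2 × Fin n₂) F :=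
  ⟨omM F ⊗ₖ (1 : Matrix (Fin n₂) (Fin n₂) F), (omM F * omM F) ⊗ₖ (1 : Matrix (Fin n₂) (Fin n₂) F),
    by rw [← Matrix.mul_kronecker_mul, omM_cube h2, mul_one, Matrix.one_kronecker_one],
    by rw [← Matrix.mul_kronecker_mul, omM_cube' h2, mul_one, Matrix.one_kronecker_one]⟩

lemma jG_val (h2 : (2 : F) = 0) :
    ((jG h2 n₂ : Matrix.GeneralLinearGroup (Fin 2 × Fin n₂) F) : Matrix (Fin 2 × Fin n₂) (Fin 2 × Fin n₂) F) =
      omM F ⊗ₖ (1 : Matrix (Fin n₂) (Fin n₂) F) := rfl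

lemma jG_inv_val (h2 : (2 : F) = 0) :
    (((jG h2 n₂)⁻¹ : Matrix.GeneralLinearGroup (Fin 2 × Fin n₂) F) : Matrix (Fin 2 × Fin n₂) (Fin 2 × Fin n₂) F) =
      (omM F * omM F) ⊗ₖ (1 : Matrix (Fin n₂) (Fin n₂) F) := rfl

lemma kron_le_invNormalizer (h01 : ∀ x : F, x = 0 ∨ x = 1) (h2 : (2 : F) = 0) :
    Geo.kroneckerSubgroup 2 n₂ F ≤ invNormalizer (jG h2 n₂) := by
  rintro k ⟨A, B, hk⟩
  rw [mem_invNormalizer]
  have hdet : (A : Matrix (Fin 2) (Fin 2) F).det ≠ 0 := by
    have := (Matrix.isUnit_iff_isUnit_det _).mp (Units.isUnit A)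
    exact this.ne_zero
  rcases gl2_normalizes h01 h2 (A : Matrix (Fin 2) (Fin 2) F) hdet with h | h
  · left
    apply Units.ext
    rw [Units.val_mul, Units.val_mul, hk, jG_val, ← Matrix.mul_kronecker_mul, ← Matrix.mul_kronecker_mul, h,
      mul_one, one_mul]
  · right
    apply Units.ext
    rw [Units.val_mul, Units.val_mul, hk, jG_val, jG_inv_val, ← Matrix.mul_kronecker_mul,
      ← Matrix.mul_kronecker_mul, h, mul_one, one_mul]

/-- a transvection that does not normalise the `F₄`-structure -/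
def k1G (hn : 2 ≤ n₂) : Matrix.GeneralLinearGroup (Fin 2 × Fin n₂) F :=
  ⟨Matrix.transvection ((1 : Fin 2), (⟨0, by omega⟩ : Fin n₂)) ((0 : Fin 2), (⟨0, by omega⟩ : Fin n₂)) 1,
   Matrix.transvection ((1 : Fin 2), (⟨0, by omega⟩ : Fin n₂)) ((0 : Fin 2), (⟨0, by omega⟩ : Fin n₂)) (-1),
   by
     have h := Matrix.transvection_mul_transvection_same (R := F)
       (i := ((1 : Fin 2), (⟨0, by omega⟩ : Fin n₂))) (j := ((0 : Fin 2), (⟨0, by omega⟩ : Fin n₂)))
       (by simp) 1 (-1)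
     rw [add_neg_cancel, Matrix.transvection_zero] at h
     exact h,
   by
     have h := Matrix.transvection_mul_transvection_same (R := F)
       (i := ((1 : Fin 2), (⟨0, by omega⟩ : Fin n₂))) (j := ((0 : Fin 2), (⟨0, by omega⟩ : Fin n₂)))
       (by simp) (-1) 1
     rw [neg_add_cancel, Matrix.transvection_zero] at h
     exact h⟩

lemma k1G_val (hn : 2 ≤ n₂) :
    ((k1G hn : Matrix.GeneralLinearGroup (Fin 2 × Fin n₂) F) : Matrix (Fin 2 × Fin n₂) (Fin 2 × Fin n₂) F) =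
      Matrix.transvection ((1 : Fin 2), (⟨0, by omega⟩ : Fin n₂)) ((0 : Fin 2), (⟨0, by omega⟩ : Fin n₂)) 1 := rfl

lemma k1G_not_mem (h2 : (2 : F) = 0) (hn : 2 ≤ n₂) : (k1G hn : Matrix.GeneralLinearGroup (Fin 2 × Fin n₂) F) ∉
    invNormalizer (jG h2 n₂) := by
  rw [mem_invNormalizer]
  have h11 : (1 : F) + 1 = 0 := by rw [← h2]; norm_num
  obtain ⟨z, hz⟩ : ∃ z : Fin n₂, z = ⟨0, by omega⟩ := ⟨_, rfl⟩
  obtain ⟨o, ho⟩ : ∃ o : Fin n₂, o = ⟨1, by omega⟩ := ⟨_, rfl⟩
  have hzo : o ≠ z := by rw [hz, ho]; simp [Fin.ext_iff]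
  have hk : ((k1G hn : Matrix.GeneralLinearGroup (Fin 2 × Fin n₂) F) :
      Matrix (Fin 2 × Fin n₂) (Fin 2 × Fin n₂) F) = Matrix.transvection ((1 : Fin 2), z) ((0 : Fin 2), z) 1 := by
    rw [hz]; rfl
  rintro (h | h)
  · have h' := congrArg (fun g : Matrix.GeneralLinearGroup (Fin 2 × Fin n₂) F =>
      (g : Matrix (Fin 2 × Fin n₂) (Fin 2 × Fin n₂) F) ((0 : Fin 2), z) ((0 : Fin 2), z)) h
    simp only [Units.val_mul, hk] at h'
    have e1 := Matrix.transvection_mul_apply_of_ne (i := ((1 : Fin 2), z)) (j := ((0 : Fin 2), z))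
      ((0 : Fin 2), z) ((0 : Fin 2), z) (by simp) (1 : F)
      ((jG h2 n₂ : Matrix.GeneralLinearGroup (Fin 2 × Fin n₂) F) : Matrix (Fin 2 × Fin n₂) (Fin 2 × Fin n₂) F)
    have e2 := Matrix.mul_transvection_apply_same (i := ((1 : Fin 2), z)) (j := ((0 : Fin 2), z))
      ((0 : Fin 2), z) (1 : F)
      ((jG h2 n₂ : Matrix.GeneralLinearGroup (Fin 2 × Fin n₂) F) : Matrix (Fin 2 × Fin n₂) (Fin 2 × Fin n₂) F)
    rw [e1, e2, jG_val] at h'
    simp [omM] at h'
  · have h' := congrArg (fun g : Matrix.GeneralLinearGroup (Fin 2 × Fin n₂) F =>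
      (g : Matrix (Fin 2 × Fin n₂) (Fin 2 × Fin n₂) F) ((0 : Fin 2), o) ((0 : Fin 2), o)) h
    simp only [Units.val_mul, hk] at h'
    have e1 := Matrix.transvection_mul_apply_of_ne (i := ((1 : Fin 2), z)) (j := ((0 : Fin 2), z))
      ((0 : Fin 2), o) ((0 : Fin 2), o) (by simp) (1 : F)
      ((jG h2 n₂ : Matrix.GeneralLinearGroup (Fin 2 × Fin n₂) F) : Matrix (Fin 2 × Fin n₂) (Fin 2 × Fin n₂) F)
    have e2 := Matrix.mul_transvection_apply_of_ne (i := ((1 : Fin 2), z)) (j := ((0 : Fin 2), z))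
      ((0 : Fin 2), o) ((0 : Fin 2), o) (by simp [hzo]) (1 : F)
      (((jG h2 n₂)⁻¹ : Matrix.GeneralLinearGroup (Fin 2 × Fin n₂) F) : Matrix (Fin 2 × Fin n₂) (Fin 2 × Fin n₂) F)
    rw [e1, e2, jG_val, jG_inv_val, omM_sq h2] at h'
    simp [omM] at h'

/-- `ω` on the first `F₄`-coordinate, the identity on the others -/
def k0G (h2 : (2 : F) = 0) (z : Fin n₂) : Matrix.GeneralLinearGroup (Fin 2 × Fin n₂) F :=
  ⟨omM F ⊗ₖ (Matrix.single z z (1 : F)) + (1 : Matrix (Fin 2) (Fin 2) F) ⊗ₖ (1 - Matrix.single z z (1 : F)),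
   (omM F * omM F) ⊗ₖ (Matrix.single z z (1 : F)) +
     (1 : Matrix (Fin 2) (Fin 2) F) ⊗ₖ (1 - Matrix.single z z (1 : F)),
   by
     have hEE : Matrix.single z z (1 : F) * Matrix.single z z (1 : F) = Matrix.single z z (1 : F) := by
       rw [Matrix.single_mul_single_same, mul_one]
     have hEE' : Matrix.single z z (1 : F) * (1 - Matrix.single z z (1 : F)) = 0 := by
       rw [mul_sub, mul_one, hEE, sub_self]
     have hE'E : (1 - Matrix.single z z (1 : F)) * Matrix.single z z (1 : F) = 0 := by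
       rw [sub_mul, one_mul, hEE, sub_self]
     have hE'E' : (1 - Matrix.single z z (1 : F)) * (1 - Matrix.single z z (1 : F)) =
         1 - Matrix.single z z (1 : F) := by
       rw [mul_sub, mul_one, hE'E, sub_zero]
     rw [add_mul, mul_add, mul_add, ← Matrix.mul_kronecker_mul, ← Matrix.mul_kronecker_mul,
       ← Matrix.mul_kronecker_mul, ← Matrix.mul_kronecker_mul, hEE, hEE', hE'E, hE'E', omM_cube h2,
       Matrix.kronecker_zero, Matrix.kronecker_zero, add_zero, zero_add, mul_one, ← Matrix.kronecker_add,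
       add_sub_cancel, Matrix.one_kronecker_one],
   by
     have hEE : Matrix.single z z (1 : F) * Matrix.single z z (1 : F) = Matrix.single z z (1 : F) := by
       rw [Matrix.single_mul_single_same, mul_one]
     have hEE' : Matrix.single z z (1 : F) * (1 - Matrix.single z z (1 : F)) = 0 := by
       rw [mul_sub, mul_one, hEE, sub_self]
     have hE'E : (1 - Matrix.single z z (1 : F)) * Matrix.single z z (1 : F) = 0 := by
       rw [sub_mul, one_mul, hEE, sub_self]
     have hE'E' : (1 - Matrix.single z z (1 : F)) * (1 - Matrix.single z z (1 : F)) =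
         1 - Matrix.single z z (1 : F) := by
       rw [mul_sub, mul_one, hE'E, sub_zero]
     rw [add_mul, mul_add, mul_add, ← Matrix.mul_kronecker_mul, ← Matrix.mul_kronecker_mul,
       ← Matrix.mul_kronecker_mul, ← Matrix.mul_kronecker_mul, hEE, hEE', hE'E, hE'E', omM_cube' h2,
       Matrix.kronecker_zero, Matrix.kronecker_zero, add_zero, zero_add, mul_one, ← Matrix.kronecker_add,
       add_sub_cancel, Matrix.one_kronecker_one]⟩

lemma k0G_val (h2 : (2 : F) = 0) (z : Fin n₂) :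
    ((k0G h2 z : Matrix.GeneralLinearGroup (Fin 2 × Fin n₂) F) : Matrix (Fin 2 × Fin n₂) (Fin 2 × Fin n₂) F) =
      omM F ⊗ₖ (Matrix.single z z (1 : F)) +
        (1 : Matrix (Fin 2) (Fin 2) F) ⊗ₖ (1 - Matrix.single z z (1 : F)) := rfl

lemma k0G_mem (h2 : (2 : F) = 0) (z : Fin n₂) : k0G h2 z ∈ invNormalizer (jG h2 n₂) := by
  rw [mem_invNormalizer]
  left
  apply Units.ext
  rw [Units.val_mul, Units.val_mul, k0G_val, jG_val, add_mul, mul_add, ← Matrix.mul_kronecker_mul,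
    ← Matrix.mul_kronecker_mul, ← Matrix.mul_kronecker_mul, ← Matrix.mul_kronecker_mul]
  simp only [mul_one, one_mul]

lemma k0G_not_mem (h2 : (2 : F) = 0) (z o : Fin n₂) (hzo : o ≠ z) :
    k0G h2 z ∉ Geo.kroneckerSubgroup 2 n₂ F := by
  rintro ⟨A, B, hk⟩
  rw [k0G_val] at hk
  have e1 := congrFun (congrFun hk ((0 : Fin 2), o)) ((0 : Fin 2), o)
  have e2 := congrFun (congrFun hk ((0 : Fin 2), z)) ((0 : Fin 2), z)
  have e3 := congrFun (congrFun hk ((1 : Fin 2), z)) ((0 : Fin 2), z)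
  have hzo' : z ≠ o := hzo.symm
  simp [omM, Matrix.single_apply, hzo, hzo'] at e1 e2 e3
  rcases e2 with h | h
  · rw [h, zero_mul] at e1; exact one_ne_zero e1
  · rw [h, mul_zero] at e3; exact one_ne_zero e3

end kron

section transport
variable {ι : Type} [Fintype ι] [DecidableEq ι] {n₁ n₂ : ℕ}

/-- transport of subgroups of `GL(Fin n₁ × Fin n₂)` along reindexing and conjugation -/
def tmap (e : ι ≃ Fin n₁ × Fin n₂) (P : Matrix.GeneralLinearGroup ι F)
    (N : Subgroup (Matrix.GeneralLinearGroup (Fin n₁ × Fin n₂) F)) : Subgroup (Matrix.GeneralLinearGroup ι F) :=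
  (N.map (Geo.glReindex e.symm).toMonoidHom).map (MulAut.conj P).toMonoidHom

lemma tmap_kron (e : ι ≃ Fin n₁ × Fin n₂) (P : Matrix.GeneralLinearGroup ι F) :
    tmap e P (Geo.kroneckerSubgroup n₁ n₂ F) = Geo.tensorProductSubgroup n₁ n₂ e P := rfl

lemma tmap_lt (e : ι ≃ Fin n₁ × Fin n₂) (P : Matrix.GeneralLinearGroup ι F)
    {N N' : Subgroup (Matrix.GeneralLinearGroup (Fin n₁ × Fin n₂) F)} (h : N < N') :
    tmap e P N < tmap e P N' := by
  unfold tmap
  rw [Subgroup.map_lt_map_iff_of_injective (MulEquiv.injective _),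
    Subgroup.map_lt_map_iff_of_injective (MulEquiv.injective _)]
  exact h

lemma tmap_top (e : ι ≃ Fin n₁ × Fin n₂) (P : Matrix.GeneralLinearGroup ι F) :
    tmap e P (⊤ : Subgroup (Matrix.GeneralLinearGroup (Fin n₁ × Fin n₂) F)) = ⊤ := by
  unfold tmap
  rw [Subgroup.map_top_of_surjective _ (MulEquiv.surjective _),
    Subgroup.map_top_of_surjective _ (MulEquiv.surjective _)]

lemma specialLinear_eq_top (h01 : ∀ x : F, x = 0 ∨ x = 1) : Geo.specialLinear ι F = ⊤ := by
  rw [eq_top_iff]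
  intro g _
  unfold Geo.specialLinear
  rw [MonoidHom.mem_ker]
  apply Units.ext
  rcases h01 ((Matrix.GeneralLinearGroup.det g : Fˣ) : F) with h | h
  · exact absurd h (Units.ne_zero _)
  · exact h

/-- over the field with two elements the stabiliser of a tensor decomposition `2 ⊗ n₂` lies strictly between... the
normaliser of the associated `F₄`-structure -/
theorem tensor2_SL_not_max (h01 : ∀ x : F, x = 0 ∨ x = 1)
    (h2 : (2 : F) = 0) (hn₂ : 2 ≤ n₂)
    (e : ι ≃ Fin 2 × Fin n₂) (P : Matrix.GeneralLinearGroup ι F) :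
    ∃ K : Subgroup (Matrix.GeneralLinearGroup ι F),
      Geo.tensorProductSubgroup 2 n₂ e P ⊓ Geo.specialLinear ι F < K ∧ K < Geo.specialLinear ι F := by
  rw [specialLinear_eq_top h01, inf_top_eq]
  refine ⟨tmap e P (invNormalizer (jG h2 n₂)), ?_, ?_⟩
  · rw [← tmap_kron]
    apply tmap_lt
    rw [SetLike.lt_iff_le_and_exists]
    exact ⟨kron_le_invNormalizer h01 h2, k0G h2 ⟨0, by omega⟩, k0G_mem h2 _,
      k0G_not_mem h2 ⟨0, by omega⟩ ⟨1, by omega⟩ (by simp [Fin.ext_iff])⟩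
  · rw [← tmap_top e P]
    apply tmap_lt
    rw [SetLike.lt_iff_le_and_exists]
    exact ⟨le_top, k1G hn₂, Subgroup.mem_top _, k1G_not_mem h2 hn₂⟩

end transport

end Cfsg.Agent.Lib.Helper94
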