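import Cfsg.Agent.Lib.Helper94.PlusPlane3

set_option autoImplicit false

namespace Cfsg.Agent.Lib.Helper94

open scoped Matrix
open Cfsg

set_option linter.unusedSectionVars false
set_option linter.unnecessarySimpa false
set_option linter.style.haveILetI false
set_option linter.unusedVariables false

variable {ι : Type} [Fintype ι] [DecidableEq ι] {F : Type*} [Field F]

section decomp
variable {t : ℕ}

/-- component maps of an internal direct sum -/
noncomputable def compL (D : Fin t → Submodule F (ι → F)) (h : DirectSum.IsInternal D) (i : Fin t) :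
    (ι → F) →ₗ[F] (ι → F) :=
  letI := h.chooseDecomposition
  (D i).subtype ∘ₗ (DirectSum.component F (Fin t) (fun i => D i) i) ∘ₗ
    (DirectSum.decomposeLinearEquiv D).toLinearMap

variable (D : Fin t → Submodule F (ι → F)) (h : DirectSum.IsInternal D)

lemma compL_eq (i : Fin t) (v : ι → F) :
    compL D h i v = ((@DirectSum.decompose _ _ _ _ _ _ _ D h.chooseDecomposition v) i : ι → F) := rfl

lemma compL_same {i : Fin t} {v : ι → F} (hv : v ∈ D i) : compL D h i v = v := by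
  letI := h.chooseDecomposition
  rw [compL_eq]
  exact DirectSum.decompose_of_mem_same D hv

lemma compL_ne {i j : Fin t} {v : ι → F} (hv : v ∈ D i) (hij : i ≠ j) : compL D h j v = 0 := by
  letI := h.chooseDecomposition
  rw [compL_eq]
  exact DirectSum.decompose_of_mem_ne D hv hij

include h in
lemma eq_of_mem_mem {i j : Fin t} {v : ι → F} (hi : v ∈ D i) (hj : v ∈ D j) (hv : v ≠ 0) : i = j := by
  by_contra hij
  apply hv
  rw [← compL_same D h hj, compL_ne D h hi hij]

end decomp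

lemma mem_decStab' {t : ℕ} (D : Fin t → Submodule F (ι → F)) (g : Matrix.GeneralLinearGroup ι F) :
    g ∈ Geo.decompositionStabilizer D ↔
      ∃ σ : Equiv.Perm (Fin t), ∀ i, (D i).map (Matrix.toLin' (g : Matrix ι ι F)) = D (σ i) := Iff.rfl

/-- on a finite space, a matrix mapping a set into itself stabilises it -/
lemma stab_of_forward [Fintype F] (S : Set (ι → F)) (g : Matrix.GeneralLinearGroup ι F)
    (fwd : ∀ v ∈ S, (g : Matrix ι ι F) *ᵥ v ∈ S) : g ∈ stabilizing (glToMat ι F) S := by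
  classical
  rw [mem_stabz]
  intro v
  refine ⟨fwd v, fun hgv => ?_⟩
  let φ : S → S := fun x => ⟨(g : Matrix ι ι F) *ᵥ x.1, fwd x.1 x.2⟩
  have hinj : Function.Injective φ := by
    intro x y hxy
    apply Subtype.ext
    have : (g : Matrix ι ι F) *ᵥ x.1 = (g : Matrix ι ι F) *ᵥ y.1 := congrArg Subtype.val hxy
    exact mulVec_injective' g this
  have hsurj : Function.Surjective φ := Finite.surjective_of_injective hinj
  obtain ⟨⟨w, hw⟩, hwv⟩ := hsurj ⟨_, hgv⟩
  have : (g : Matrix ι ι F) *ᵥ w = (g : Matrix ι ι F) *ᵥ v := congrArg Subtype.val hwv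
  rw [← mulVec_injective' g this]
  exact hw

/-- a frame of the subspace `W` for the value `δ` -/
structure IsFrame (Q : (ι → F) → F) (W : Submodule F (ι → F)) (δ : F) {k : ℕ} (a : Fin k → (ι → F)) : Prop where
  mem : ∀ j, a j ∈ W
  val : ∀ j, Q (a j) = δ
  orth : ∀ j j', j ≠ j' → pol Q (a j) (a j') = 0
  struct : ∀ v ∈ W, Q v = δ → ∃ j, v = a j ∨ v = - a j

section swap
variable {Q : (ι → F) → F} (hQ : Geo.IsNondegenerateQuadraticForm Q)
include hQ

lemma rGL_swap_left (p q : ι → F) (hpq : Q q = Q p) (hv : Q (p - q) ≠ 0) :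
    (rGL hQ (p - q) hv : Matrix ι ι F) *ᵥ p = q := by
  rw [rGL_mulVec, pol_sub_right hQ, pol_self hQ, Q_sub hQ, hpq]
  have : (Q p + Q p - pol Q p q)⁻¹ * (2 * Q p - pol Q p q) = 1 := by
    have hne : Q p + Q p - pol Q p q ≠ 0 := by
      have := hv; rw [Q_sub hQ, hpq] at this; exact this
    rw [two_mul]; exact inv_mul_cancel₀ hne
  rw [this, one_smul]; abel

lemma rGL_swap_right (p q : ι → F) (hpq : Q q = Q p) (hv : Q (p - q) ≠ 0) :
    (rGL hQ (p - q) hv : Matrix ι ι F) *ᵥ q = p := by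
  rw [rGL_mulVec, pol_sub_right hQ, pol_self hQ, Q_sub hQ, hpq, pol_comm Q q p]
  have : (Q p + Q p - pol Q p q)⁻¹ * (pol Q p q - 2 * Q p) = -1 := by
    have hne : Q p + Q p - pol Q p q ≠ 0 := by
      have := hv; rw [Q_sub hQ, hpq] at this; exact this
    have e : pol Q p q - 2 * Q p = - (Q p + Q p - pol Q p q) := by ring
    rw [e, mul_neg, inv_mul_cancel₀ hne]
  rw [this, neg_smul, one_smul]; abel

lemma rGL_fix (v x : ι → F) (hv : Q v ≠ 0) (hx : pol Q x v = 0) :
    (rGL hQ v hv : Matrix ι ι F) *ᵥ x = x := by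
  rw [rGL_mulVec, hx, mul_zero, zero_smul, sub_zero]

end swap

/-- core lemma for decompositions with frames over the field with three elements -/
lemma frame_core [Fintype F] {Q : (ι → F) → F} (hQ : Geo.IsNondegenerateQuadraticForm Q)
    (hq : Fintype.card F = 3) {t : ℕ} (D : Fin t → Submodule F (ι → F)) (h : DirectSum.IsInternal D)
    (horth : ∀ i j, i ≠ j → Geo.AreOrthogonalFor (QuadraticMap.polar Q) (D i) (D j))
    (i0 i1 : Fin t) (h01 : i0 ≠ i1) (δ : F) (hδ : δ ≠ 0) {k : ℕ} (hk : 2 ≤ k)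
    (a b : Fin k → (ι → F)) (ha : IsFrame Q (D i0) δ a) (hb : IsFrame Q (D i1) δ b) :
    ∃ K : Subgroup (Matrix.GeneralLinearGroup ι F),
      Geo.decompositionStabilizer D ⊓ Geo.omegaGL Q < K ∧ K < Geo.omegaGL Q := by
  have h3 := f3_three hq
  have h2 : (2 : F) = -1 := by linear_combination h3
  have h2δ : 2 * δ ≠ 0 := by
    rw [h2]; exact mul_ne_zero (neg_ne_zero.mpr one_ne_zero) hδ
  set j0 : Fin k := ⟨0, by omega⟩ with hj0
  set j1 : Fin k := ⟨1, by omega⟩ with hj1
  have hj01 : j0 ≠ j1 := by simp [hj0, hj1, Fin.ext_iff]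
  set a0 := a j0 with ha0d
  set a1 := a j1 with ha1d
  set b0 := b j0 with hb0d
  set b1 := b j1 with hb1d
  have ha0 : a0 ∈ D i0 := ha.mem j0
  have ha1 : a1 ∈ D i0 := ha.mem j1
  have hb0 : b0 ∈ D i1 := hb.mem j0
  have hb1 : b1 ∈ D i1 := hb.mem j1
  have hQa0 : Q a0 = δ := ha.val j0
  have hQa1 : Q a1 = δ := ha.val j1
  have hQb0 : Q b0 = δ := hb.val j0
  have hQb1 : Q b1 = δ := hb.val j1
  have ha0a1 : pol Q a0 a1 = 0 := ha.orth j0 j1 hj01
  have ha1a0 : pol Q a1 a0 = 0 := by rw [pol_comm]; exact ha0a1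
  have hb0b1 : pol Q b0 b1 = 0 := hb.orth j0 j1 hj01
  have hb1b0 : pol Q b1 b0 = 0 := by rw [pol_comm]; exact hb0b1
  have o01 : ∀ x ∈ D i0, ∀ y ∈ D i1, pol Q x y = 0 := fun x hx y hy => horth i0 i1 h01 x hx y hy
  have o10 : ∀ x ∈ D i1, ∀ y ∈ D i0, pol Q x y = 0 := fun x hx y hy => horth i1 i0 h01.symm x hx y hy
  have hsa0 : pol Q a0 a0 = 2 * δ := by rw [pol_self hQ, hQa0]
  have hsa1 : pol Q a1 a1 = 2 * δ := by rw [pol_self hQ, hQa1]
  have hsb0 : pol Q b0 b0 = 2 * δ := by rw [pol_self hQ, hQb0]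
  have hsb1 : pol Q b1 b1 = 2 * δ := by rw [pol_self hQ, hQb1]
  clear_value a0 a1 b0 b1
  -- the set S
  set S : Set (ι → F) := {v | ∃ i, v ∈ D i ∧ Q v = δ} with hS
  have hSneg : ∀ v ∈ S, -v ∈ S := by
    rintro v ⟨i, hv, hQv⟩
    exact ⟨i, (D i).neg_mem hv, by rw [Q_neg hQ, hQv]⟩
  -- the element g₀
  have hQu : Q (a0 - b0) = 2 * δ := by rw [Q_sub hQ, hQa0, hQb0, o01 a0 ha0 b0 hb0]; ring
  have hQw : Q (a0 - a1) = 2 * δ := by rw [Q_sub hQ, hQa0, hQa1, ha0a1]; ring
  have hQu0 : Q (a0 - b0) ≠ 0 := by rw [hQu]; exact h2δ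
  have hQw0 : Q (a0 - a1) ≠ 0 := by rw [hQw]; exact h2δ
  have hQuw : Q ((a0 - b0) - (a0 - a1)) ≠ 0 := by
    have : (a0 - b0) - (a0 - a1) = a1 - b0 := by abel
    rw [this, Q_sub hQ, hQa1, hQb0, o01 a1 ha1 b0 hb0]
    have : δ + δ - 0 = 2 * δ := by ring
    rw [this]; exact h2δ
  set g₀ := rGL hQ (a0 - b0) hQu0 * rGL hQ (a0 - a1) hQw0 with hg₀
  have hg₀Ω : g₀ ∈ Geo.omegaGL Q := rr_mem_omega hQ _ _ hQu0 hQw0 (by rw [hQw, hQu]) hQuw
  have hg₀a0 : (g₀ : Matrix ι ι F) *ᵥ a0 = a1 := by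
    rw [hg₀, Units.val_mul, ← Matrix.mulVec_mulVec, rGL_swap_left hQ a0 a1 (by rw [hQa1, hQa0]) hQw0,
      rGL_fix hQ _ _ hQu0 (by rw [pol_sub_right hQ, ha1a0, o01 a1 ha1 b0 hb0, sub_zero])]
  have hg₀a1 : (g₀ : Matrix ι ι F) *ᵥ a1 = b0 := by
    rw [hg₀, Units.val_mul, ← Matrix.mulVec_mulVec, rGL_swap_right hQ a0 a1 (by rw [hQa1, hQa0]) hQw0,
      rGL_swap_left hQ a0 b0 (by rw [hQb0, hQa0]) hQu0]
  have hg₀b0 : (g₀ : Matrix ι ι F) *ᵥ b0 = a0 := by
    rw [hg₀, Units.val_mul, ← Matrix.mulVec_mulVec,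
      rGL_fix hQ _ _ hQw0 (by rw [pol_sub_right hQ, o10 b0 hb0 a0 ha0, o10 b0 hb0 a1 ha1, sub_zero]),
      rGL_swap_right hQ a0 b0 (by rw [hQb0, hQa0]) hQu0]
  have hg₀fix : ∀ x : ι → F, pol Q x a0 = 0 → pol Q x a1 = 0 → pol Q x b0 = 0 →
      (g₀ : Matrix ι ι F) *ᵥ x = x := by
    intro x h0 h1 h2'
    rw [hg₀, Units.val_mul, ← Matrix.mulVec_mulVec,
      rGL_fix hQ _ _ hQw0 (by rw [pol_sub_right hQ, h0, h1, sub_zero]),
      rGL_fix hQ _ _ hQu0 (by rw [pol_sub_right hQ, h0, h2', sub_zero])]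
  have hg₀fwd_pm : ∀ x : ι → F, (g₀ : Matrix ι ι F) *ᵥ x ∈ S → ∀ v, (v = x ∨ v = -x) →
      (g₀ : Matrix ι ι F) *ᵥ v ∈ S := by
    intro x hx v hv
    rcases hv with rfl | rfl
    · exact hx
    · rw [Matrix.mulVec_neg]; exact hSneg _ hx
  have hg₀fwd : ∀ v ∈ S, (g₀ : Matrix ι ι F) *ᵥ v ∈ S := by
    rintro v ⟨i, hv, hQv⟩
    by_cases hi0 : i = i0
    · subst hi0
      obtain ⟨j, hj⟩ := ha.struct v hv hQv
      refine hg₀fwd_pm (a j) ?_ v hj
      by_cases hjj0 : j = j0
      · rw [hjj0, ← ha0d, hg₀a0]; exact ⟨i, ha1, hQa1⟩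
      · by_cases hjj1 : j = j1
        · rw [hjj1, ← ha1d, hg₀a1]; exact ⟨i1, hb0, hQb0⟩
        · rw [hg₀fix (a j) (by rw [ha0d]; exact ha.orth j j0 hjj0) (by rw [ha1d]; exact ha.orth j j1 hjj1)
            (o01 _ (ha.mem j) b0 hb0)]
          exact ⟨i, ha.mem j, ha.val j⟩
    · by_cases hi1 : i = i1
      · subst hi1
        obtain ⟨j, hj⟩ := hb.struct v hv hQv
        refine hg₀fwd_pm (b j) ?_ v hj
        by_cases hjj0 : j = j0
        · rw [hjj0, ← hb0d, hg₀b0]; exact ⟨i0, ha0, hQa0⟩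
        · rw [hg₀fix (b j) (o10 _ (hb.mem j) a0 ha0) (o10 _ (hb.mem j) a1 ha1)
            (by rw [hb0d]; exact hb.orth j j0 hjj0)]
          exact ⟨i, hb.mem j, hb.val j⟩
      · rw [hg₀fix v (horth i i0 hi0 v hv a0 ha0) (horth i i0 hi0 v hv a1 ha1) (horth i i1 hi1 v hv b0 hb0)]
        exact ⟨i, hv, hQv⟩
  -- nonzero-ness
  have ha0ne : a0 ≠ 0 := by
    intro h0; rw [h0, Q_zero hQ] at hQa0; exact hδ hQa0.symm
  have ha1ne : a1 ≠ 0 := by
    intro h0; rw [h0, Q_zero hQ] at hQa1; exact hδ hQa1.symm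
  have hb0ne : b0 ≠ 0 := by
    intro h0; rw [h0, Q_zero hQ] at hQb0; exact hδ hQb0.symm
  -- the element g₁
  have hQu' : Q (a0 + a1 + b0 + b1) = δ := by
    rw [Q_add Q, Q_add Q, Q_add Q, hQa0, hQa1, hQb0, hQb1, ha0a1, pol_add_left hQ, pol_add_left hQ,
      pol_add_left hQ, o01 a0 ha0 b0 hb0, o01 a1 ha1 b0 hb0, o01 a0 ha0 b1 hb1, o01 a1 ha1 b1 hb1, hb0b1]
    linear_combination δ * h3
  have hQu'0 : Q (a0 + a1 + b0 + b1) ≠ 0 := by rw [hQu']; exact hδ
  have hQna0 : Q (-a0) = δ := by rw [Q_neg hQ, hQa0]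
  have hQna00 : Q (-a0) ≠ 0 := by rw [hQna0]; exact hδ
  have hpu'a0 : pol Q (a0 + a1 + b0 + b1) a0 = 2 * δ := by
    rw [pol_add_left hQ, pol_add_left hQ, pol_add_left hQ, hsa0, ha1a0, o10 b0 hb0 a0 ha0, o10 b1 hb1 a0 ha0]
    ring
  have hQu'w' : Q ((a0 + a1 + b0 + b1) - (-a0)) ≠ 0 := by
    rw [Q_sub hQ, hQu', hQna0, pol_neg_right hQ, hpu'a0]
    have : δ + δ - -(2 * δ) = δ + 3 * δ := by ring
    rw [this, h3, zero_mul, add_zero]; exact hδ
  set g₁ := rGL hQ (a0 + a1 + b0 + b1) hQu'0 * rGL hQ (-a0) hQna00 with hg₁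
  have hg₁Ω : g₁ ∈ Geo.omegaGL Q := rr_mem_omega hQ _ _ hQu'0 hQna00 (by rw [hQna0, hQu']) hQu'w'
  have hpa1u' : pol Q a1 (a0 + a1 + b0 + b1) = 2 * δ := by
    rw [pol_add_right hQ, pol_add_right hQ, pol_add_right hQ, hsa1, ha1a0, o01 a1 ha1 b0 hb0, o01 a1 ha1 b1 hb1]
    ring
  have hg₁a1 : (g₁ : Matrix ι ι F) *ᵥ a1 = (a0 + a1 + a1) + (b0 + b1) := by
    rw [hg₁, Units.val_mul, ← Matrix.mulVec_mulVec,
      rGL_fix hQ _ _ hQna00 (by rw [pol_neg_right hQ, ha1a0, neg_zero]), rGL_mulVec, hpa1u', hQu']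
    have : δ⁻¹ * (2 * δ) = -1 := by
      rw [mul_comm 2 δ, ← mul_assoc, inv_mul_cancel₀ hδ, one_mul, h2]
    rw [this, neg_smul, one_smul]; abel
  refine ⟨stabilizing (glToMat ι F) S ⊓ Geo.omegaGL Q, ?_, ?_⟩
  · rw [SetLike.lt_iff_le_and_exists]
    refine ⟨?_, g₀, ?_, ?_⟩
    · intro g hg
      rw [Subgroup.mem_inf] at hg ⊢
      refine ⟨?_, hg.2⟩
      have hgi := (mem_isom g).1 (omega_le_isom hg.2)
      obtain ⟨σ, hσ⟩ := (mem_decStab' D g).1 hg.1
      apply stab_of_forward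
      rintro v ⟨i, hv, hQv⟩
      refine ⟨σ i, ?_, by rw [hgi v]; exact hQv⟩
      rw [← hσ i, ← Matrix.toLin'_apply]
      exact Submodule.mem_map_of_mem hv
    · rw [Subgroup.mem_inf]
      exact ⟨stab_of_forward S g₀ hg₀fwd, hg₀Ω⟩
    · intro hmem
      rw [Subgroup.mem_inf] at hmem
      obtain ⟨σ, hσ⟩ := (mem_decStab' D _).1 hmem.1
      have hga0 : (g₀ : Matrix ι ι F) *ᵥ a0 ∈ D (σ i0) := by
        rw [← hσ i0, ← Matrix.toLin'_apply]
        exact Submodule.mem_map_of_mem ha0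
      have hga1 : (g₀ : Matrix ι ι F) *ᵥ a1 ∈ D (σ i0) := by
        rw [← hσ i0, ← Matrix.toLin'_apply]
        exact Submodule.mem_map_of_mem ha1
      rw [hg₀a0] at hga0
      rw [hg₀a1] at hga1
      have e1 := eq_of_mem_mem D h hga0 ha1 ha1ne
      have e2 := eq_of_mem_mem D h hga1 hb0 hb0ne
      exact h01 (e1.symm.trans e2)
  · rw [SetLike.lt_iff_le_and_exists]
    refine ⟨inf_le_right, g₁, hg₁Ω, ?_⟩
    intro hmem
    rw [Subgroup.mem_inf] at hmem
    have hst := ((mem_stabz S _).1 hmem.1 a1).1 ⟨i0, ha1, hQa1⟩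
    rw [hg₁a1] at hst
    obtain ⟨i, hi, _⟩ := hst
    have c0 : compL D h i0 ((a0 + a1 + a1) + (b0 + b1)) = a0 + a1 + a1 := by
      simp only [map_add]
      rw [compL_same D h ha0, compL_same D h ha1, compL_ne D h hb0 h01.symm, compL_ne D h hb1 h01.symm]
      simp
    have c1 : compL D h i1 ((a0 + a1 + a1) + (b0 + b1)) = b0 + b1 := by
      simp only [map_add]
      rw [compL_ne D h ha0 h01, compL_ne D h ha1 h01, compL_same D h hb0, compL_same D h hb1]
      simp
    have n0 : a0 + a1 + a1 ≠ 0 := by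
      intro h0
      have : pol Q (a0 + a1 + a1) a0 = 0 := by rw [h0, pol_zero_left hQ]
      rw [pol_add_left hQ, pol_add_left hQ, hsa0, ha1a0, add_zero, add_zero] at this
      exact h2δ this
    have n1 : b0 + b1 ≠ 0 := by
      intro h0
      have : pol Q (b0 + b1) b0 = 0 := by rw [h0, pol_zero_left hQ]
      rw [pol_add_left hQ, hsb0, hb1b0, add_zero] at this
      exact h2δ this
    have e0 : i = i0 := by
      by_contra hne
      rw [compL_ne D h hi hne] at c0
      exact n0 c0.symm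
    have e1 : i = i1 := by
      by_contra hne
      rw [compL_ne D h hi hne] at c1
      exact n1 c1.symm
    exact h01 (e0.symm.trans e1)

/-- the polar form restricted to a subspace, as a bilinear form -/
noncomputable def restrB {Q : (ι → F) → F} (hQ : Geo.IsNondegenerateQuadraticForm Q) (W : Submodule F (ι → F)) :
    LinearMap.BilinForm F W :=
  LinearMap.mk₂ F (fun x y : W => pol Q (x : ι → F) (y : ι → F))
    (fun x y z => by simp only [Submodule.coe_add]; exact pol_add_left hQ _ _ _)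
    (fun c x y => by simp only [Submodule.coe_smul]; exact pol_smul_left hQ _ _ _)
    (fun x y z => by simp only [Submodule.coe_add]; exact pol_add_right hQ _ _ _)
    (fun c x y => by simp only [Submodule.coe_smul]; exact pol_smul_right hQ _ _ _)

lemma restrB_apply {Q : (ι → F) → F} (hQ : Geo.IsNondegenerateQuadraticForm Q) (W : Submodule F (ι → F))
    (x y : W) : restrB hQ W x y = pol Q (x : ι → F) (y : ι → F) := rfl

/-- an orthogonal basis of nonsingular vectors of a nondegenerate subspace, in odd characteristic -/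
lemma exists_orth_basis {Q : (ι → F) → F} (hQ : Geo.IsNondegenerateQuadraticForm Q) (h2 : (2 : F) ≠ 0)
    (W : Submodule F (ι → F)) (k : ℕ) (hdim : Module.finrank F W = k)
    (hnd : Geo.IsNondegenerateOn (QuadraticMap.polar Q) W) :
    ∃ b : Fin k → (ι → F), (∀ j, b j ∈ W) ∧ (∀ j, Q (b j) ≠ 0) ∧
      (∀ j j', j ≠ j' → pol Q (b j) (b j') = 0) ∧
      (∀ v ∈ W, ∃ c : Fin k → F, v = ∑ j, c j • b j) := by
  haveI : Invertible (2 : F) := invertibleOfNonzero h2
  have hsymm : LinearMap.IsSymm (restrB hQ W) := ⟨fun x y => pol_comm Q _ _⟩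
  obtain ⟨v, hv⟩ := LinearMap.BilinForm.exists_orthogonal_basis (B := restrB hQ W) hsymm
  subst hdim
  rw [LinearMap.isOrthoᵢ_def] at hv
  refine ⟨fun j => (v j : ι → F), fun j => (v j).2, ?_, ?_, ?_⟩
  · intro j hQj
    have hne : (v j : ι → F) ≠ 0 := by
      intro h0
      exact v.ne_zero j (Subtype.ext h0)
    obtain ⟨⟨x, hxW, hx⟩, _⟩ := hnd (v j) (v j).2 hne
    apply hx
    have hrepr := v.sum_repr ⟨x, hxW⟩
    have : x = ∑ i, (v.repr ⟨x, hxW⟩ i) • (v i : ι → F) := by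
      have := congrArg (Subtype.val) hrepr
      simp only [Submodule.coe_sum, Submodule.coe_smul] at this
      exact this.symm
    rw [this]
    show pol Q _ _ = 0
    have hsum : ∀ (s : Finset (Fin (Module.finrank F W))) (c : Fin (Module.finrank F W) → F),
        pol Q (∑ i ∈ s, c i • (v i : ι → F)) (v j : ι → F) = ∑ i ∈ s, c i * pol Q (v i : ι → F) (v j : ι → F) := by
      intro s c
      classical
      induction s using Finset.induction_on with
      | empty => simp [pol_zero_left hQ]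
      | insert a s ha ih =>
        rw [Finset.sum_insert ha, Finset.sum_insert ha, pol_add_left hQ, pol_smul_left hQ, ih]
    rw [hsum]
    apply Finset.sum_eq_zero
    intro i _
    by_cases hij : i = j
    · rw [hij, pol_self hQ, hQj, mul_zero, mul_zero]
    · have := hv i j hij
      rw [restrB_apply] at this
      rw [this, mul_zero]
  · intro j j' hjj'
    have := hv j j' hjj'
    rw [restrB_apply] at this
    exact this
  · intro x hxW
    refine ⟨fun i => v.repr ⟨x, hxW⟩ i, ?_⟩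
    have hrepr := v.sum_repr ⟨x, hxW⟩
    have := congrArg (Subtype.val) hrepr
    simp only [Submodule.coe_sum, Submodule.coe_smul] at this
    exact this.symm

section frames
variable [Fintype F] {Q : (ι → F) → F} (hQ : Geo.IsNondegenerateQuadraticForm Q) (hq : Fintype.card F = 3)
include hQ hq

lemma Q_comb3 (x y z : ι → F) (hxy : pol Q x y = 0) (hxz : pol Q x z = 0) (hyz : pol Q y z = 0)
    (c0 c1 c2 : F) :
    Q (c0 • x + c1 • y + c2 • z) = c0 ^ 2 * Q x + c1 ^ 2 * Q y + c2 ^ 2 * Q z := by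
  rw [Q_add Q, Q_add Q, Q_smul hQ, Q_smul hQ, Q_smul hQ, pol_add_left hQ, pol_smul_left hQ, pol_smul_left hQ,
    pol_smul_right hQ, pol_smul_right hQ, pol_smul_left hQ, pol_smul_right hQ, hxy, hxz, hyz]
  ring

lemma frame_of_triple (W : Submodule F (ι → F)) (x y z : ι → F) (hx : x ∈ W) (hy : y ∈ W) (hz : z ∈ W)
    (δ : F) (hδ : δ ≠ 0) (hQx : Q x = δ) (hQy : Q y = δ) (hQz : Q z = δ)
    (hxy : pol Q x y = 0) (hxz : pol Q x z = 0) (hyz : pol Q y z = 0)
    (hspan : ∀ v ∈ W, ∃ c0 c1 c2 : F, v = c0 • x + c1 • y + c2 • z) :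
    IsFrame Q W δ ![x, y, z] where
  mem := by intro j; fin_cases j <;> simp [hx, hy, hz]
  val := by intro j; fin_cases j <;> simp [hQx, hQy, hQz]
  orth := by
    have hyx : pol Q y x = 0 := by rw [pol_comm]; exact hxy
    have hzx : pol Q z x = 0 := by rw [pol_comm]; exact hxz
    have hzy : pol Q z y = 0 := by rw [pol_comm]; exact hyz
    intro j j' hjj'
    fin_cases j <;> fin_cases j' <;> simp_all
  struct := by
    have h3 := f3_three hq
    intro v hv hQv
    obtain ⟨c0, c1, c2, rfl⟩ := hspan v hv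
    rw [Q_comb3 hQ hq x y z hxy hxz hyz, hQx, hQy, hQz] at hQv
    have hsum : c0 ^ 2 + c1 ^ 2 + c2 ^ 2 = 1 := by
      have : δ * (c0 ^ 2 + c1 ^ 2 + c2 ^ 2 - 1) = 0 := by linear_combination hQv
      rcases mul_eq_zero.mp this with h | h
      · exact absurd h hδ
      · linear_combination h
    have h10 : (1 : F) ≠ 0 := one_ne_zero
    have h20 : (2 : F) ≠ 0 := by
      intro h; apply h10; linear_combination h3 - h
    rcases f3_cases hq c0 with rfl | rfl | rfl <;> rcases f3_cases hq c1 with rfl | rfl | rfl <;>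
      rcases f3_cases hq c2 with rfl | rfl | rfl
    all_goals first
      | (exfalso; apply h10; linear_combination -hsum)
      | (exfalso; apply h10; linear_combination hsum)
      | (exfalso; apply h10; linear_combination h3 - hsum)
      | (exfalso; apply h10; linear_combination hsum - h3)
      | (exfalso; apply h10; linear_combination -hsum + h3)
      | (exfalso; apply h20; linear_combination hsum - h3)
      | (refine ⟨0, Or.inl ?_⟩; simp; done)
      | (refine ⟨0, Or.inr ?_⟩; simp; done)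
      | (refine ⟨1, Or.inl ?_⟩; simp; done)
      | (refine ⟨1, Or.inr ?_⟩; simp; done)
      | (refine ⟨2, Or.inl ?_⟩; simp; done)
      | (refine ⟨2, Or.inr ?_⟩; simp; done)

/-- a frame from an orthogonal triple with values `ε, ε, ε'` -/
lemma exists_frame_of_triple (W : Submodule F (ι → F)) (x y z : ι → F) (hx : x ∈ W) (hy : y ∈ W) (hz : z ∈ W)
    (hQx : Q x ≠ 0) (hQxy : Q y = Q x) (hQz : Q z ≠ 0)
    (hxy : pol Q x y = 0) (hxz : pol Q x z = 0) (hyz : pol Q y z = 0)
    (hspan : ∀ v ∈ W, ∃ c0 c1 c2 : F, v = c0 • x + c1 • y + c2 • z) :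
    ∃ δ : F, δ ≠ 0 ∧ ∃ a : Fin 3 → (ι → F), IsFrame Q W δ a := by
  have h3 := f3_three hq
  by_cases hzx : Q z = Q x
  · exact ⟨Q x, hQx, ![x, y, z], frame_of_triple hQ hq W x y z hx hy hz (Q x) hQx rfl hQxy hzx hxy hxz hyz hspan⟩
  · -- then Q z = - Q x
    have hzneg : Q z = - Q x := by
      rcases f3_cases hq (Q z) with h | h | h <;> rcases f3_cases hq (Q x) with h' | h' | h'
      all_goals first
        | exact absurd h hQz
        | exact absurd h' hQx
        | (exfalso; apply hzx; rw [h, h']; done)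
        | (rw [h, h']; first | done | ring)
    have hyx : pol Q y x = 0 := by rw [pol_comm]; exact hxy
    refine ⟨Q z, hQz, ![x + y, x - y, z], frame_of_triple hQ hq W (x + y) (x - y) z (W.add_mem hx hy)
      (W.sub_mem hx hy) hz (Q z) hQz ?_ ?_ rfl ?_ ?_ ?_ ?_⟩
    · rw [Q_add Q, hQxy, hxy, hzneg]; linear_combination (Q x) * h3
    · rw [Q_sub hQ, hQxy, hxy, hzneg]; linear_combination (Q x) * h3
    · rw [pol_add_left hQ, pol_sub_right hQ, pol_sub_right hQ, pol_self hQ, pol_self hQ, hxy, hyx, hQxy]; ring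
    · rw [pol_add_left hQ, hxz, hyz, add_zero]
    · rw [pol_sub_left hQ, hxz, hyz, sub_zero]
    · intro v hv
      obtain ⟨c0, c1, c2, rfl⟩ := hspan v hv
      refine ⟨-(c0 + c1), -(c0 - c1), c2, ?_⟩
      have e0 : c0 • x = (-(c0 + c1) + -(c0 - c1)) • x := by
        have : (-(c0 + c1) + -(c0 - c1)) = c0 - 3 * c0 := by ring
        rw [this, h3, zero_mul, sub_zero]
      have e1 : c1 • y = (-(c0 + c1) - -(c0 - c1)) • y := by
        have : (-(c0 + c1) - -(c0 - c1)) = c1 - 3 * c1 := by ring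
        rw [this, h3, zero_mul, sub_zero]
      rw [e0, e1]
      module

/-- in a three-dimensional nondegenerate subspace over the field with three elements there is a frame -/
lemma exists_frame3 (W : Submodule F (ι → F)) (hdim : Module.finrank F W = 3)
    (hnd : Geo.IsNondegenerateOn (QuadraticMap.polar Q) W) :
    ∃ δ : F, δ ≠ 0 ∧ ∃ a : Fin 3 → (ι → F), IsFrame Q W δ a := by
  have h3 := f3_three hq
  have h20 : (2 : F) ≠ 0 := by
    intro h; apply one_ne_zero (α := F); linear_combination h3 - h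
  obtain ⟨b, hbW, hbQ, hborth, hbspan⟩ := exists_orth_basis hQ h20 W 3 hdim hnd
  have hspan' : ∀ v ∈ W, ∃ c0 c1 c2 : F, v = c0 • b 0 + c1 • b 1 + c2 • b 2 := by
    intro v hv
    obtain ⟨c, hc⟩ := hbspan v hv
    exact ⟨c 0, c 1, c 2, by rw [hc, Fin.sum_univ_three]⟩
  have h01 : pol Q (b 0) (b 1) = 0 := hborth 0 1 (by decide)
  have h02 : pol Q (b 0) (b 2) = 0 := hborth 0 2 (by decide)
  have h12 : pol Q (b 1) (b 2) = 0 := hborth 1 2 (by decide)
  have h10 : pol Q (b 1) (b 0) = 0 := hborth 1 0 (by decide)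
  have h20' : pol Q (b 2) (b 0) = 0 := hborth 2 0 (by decide)
  have h21 : pol Q (b 2) (b 1) = 0 := hborth 2 1 (by decide)
  by_cases e01 : Q (b 1) = Q (b 0)
  · exact exists_frame_of_triple hQ hq W (b 0) (b 1) (b 2) (hbW 0) (hbW 1) (hbW 2) (hbQ 0) e01 (hbQ 2)
      h01 h02 h12 hspan'
  · by_cases e02 : Q (b 2) = Q (b 0)
    · refine exists_frame_of_triple hQ hq W (b 0) (b 2) (b 1) (hbW 0) (hbW 2) (hbW 1) (hbQ 0) e02 (hbQ 1)
        h02 h01 h21 ?_
      intro v hv
      obtain ⟨c0, c1, c2, rfl⟩ := hspan' v hv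
      exact ⟨c0, c2, c1, by abel⟩
    · -- then Q (b 1) = Q (b 2)
      have e12 : Q (b 2) = Q (b 1) := by
        rcases f3_cases hq (Q (b 0)) with h | h | h <;> rcases f3_cases hq (Q (b 1)) with h' | h' | h' <;>
          rcases f3_cases hq (Q (b 2)) with h'' | h'' | h''
        all_goals first
          | exact absurd h (hbQ 0)
          | exact absurd h' (hbQ 1)
          | exact absurd h'' (hbQ 2)
          | (exfalso; apply e01; rw [h, h']; done)
          | (exfalso; apply e02; rw [h, h'']; done)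
          | (rw [h', h'']; done)
      refine exists_frame_of_triple hQ hq W (b 1) (b 2) (b 0) (hbW 1) (hbW 2) (hbW 0) (hbQ 1) e12 (hbQ 0)
        h12 h10 h20' ?_
      intro v hv
      obtain ⟨c0, c1, c2, rfl⟩ := hspan' v hv
      exact ⟨c1, c2, c0, by abel⟩

/-- in an anisotropic plane over the field with three elements there is a frame -/
lemma exists_frame2 (W : Submodule F (ι → F)) (hdim : Module.finrank F W = 2)
    (hnd : Geo.IsNondegenerateOn (QuadraticMap.polar Q) W) (hminus : ¬ Geo.IsPlusTypeOn Q W) :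
    ∃ δ : F, δ ≠ 0 ∧ ∃ a : Fin 2 → (ι → F), IsFrame Q W δ a := by
  have h3 := f3_three hq
  have h10 : (1 : F) ≠ 0 := one_ne_zero
  have h20 : (2 : F) ≠ 0 := by
    intro h; apply one_ne_zero (α := F); linear_combination h3 - h
  have haniso : ∀ v ∈ W, v ≠ 0 → Q v ≠ 0 := by
    intro v hv hv0 hQv
    apply hminus
    refine ⟨Submodule.span F {v}, by rw [Submodule.span_singleton_le_iff_mem]; exact hv, ?_, ?_⟩
    · intro w hw
      rw [Submodule.mem_span_singleton] at hw
      obtain ⟨c, rfl⟩ := hw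
      rw [Q_smul hQ, hQv, mul_zero]
    · rw [finrank_span_singleton hv0, hdim]
  obtain ⟨b, hbW, hbQ, hborth, hbspan⟩ := exists_orth_basis hQ h20 W 2 hdim hnd
  have h01 : pol Q (b 0) (b 1) = 0 := hborth 0 1 (by decide)
  have h10' : pol Q (b 1) (b 0) = 0 := hborth 1 0 (by decide)
  have e01 : Q (b 1) = Q (b 0) := by
    by_contra hne
    have hneg : Q (b 1) = - Q (b 0) := by
      rcases f3_cases hq (Q (b 0)) with h | h | h <;> rcases f3_cases hq (Q (b 1)) with h' | h' | h'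
      all_goals first
        | exact absurd h (hbQ 0)
        | exact absurd h' (hbQ 1)
        | (exfalso; apply hne; rw [h, h']; done)
        | (rw [h, h']; first | done | ring)
    have hsing : Q (b 0 + b 1) = 0 := by rw [Q_add Q, hneg, h01]; ring
    have hne0 : b 0 + b 1 ≠ 0 := by
      intro h0
      have : pol Q (b 0 + b 1) (b 0) = 0 := by rw [h0, pol_zero_left hQ]
      rw [pol_add_left hQ, pol_self hQ, h10', add_zero] at this
      exact mul_ne_zero h20 (hbQ 0) this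
    exact haniso _ (W.add_mem (hbW 0) (hbW 1)) hne0 hsing
  refine ⟨Q (b 0), hbQ 0, ![b 0, b 1], ?_⟩
  refine ⟨?_, ?_, ?_, ?_⟩
  · intro j; fin_cases j <;> simp [hbW]
  · intro j; fin_cases j <;> simp [e01]
  · intro j j' hjj'
    fin_cases j <;> fin_cases j' <;> simp_all
  · intro v hv hQv
    obtain ⟨c, rfl⟩ := hbspan v hv
    rw [Fin.sum_univ_two, Q_add Q, Q_smul hQ, Q_smul hQ, pol_smul_left hQ, pol_smul_right hQ, h01, e01] at hQv
    have hsum : c 0 ^ 2 + c 1 ^ 2 = 1 := by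
      have : Q (b 0) * (c 0 ^ 2 + c 1 ^ 2 - 1) = 0 := by linear_combination hQv
      rcases mul_eq_zero.mp this with h | h
      · exact absurd h (hbQ 0)
      · linear_combination h
    rw [Fin.sum_univ_two]
    rcases f3_cases hq (c 0) with h | h | h <;> rcases f3_cases hq (c 1) with h' | h' | h'
    all_goals rw [h, h'] at hsum ⊢
    all_goals first
      | (exfalso; apply h10; linear_combination -hsum)
      | (exfalso; apply h10; linear_combination hsum)
      | (refine ⟨0, Or.inl ?_⟩; simp; done)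
      | (refine ⟨0, Or.inr ?_⟩; simp; done)
      | (refine ⟨1, Or.inl ?_⟩; simp; done)
      | (refine ⟨1, Or.inr ?_⟩; simp; done)

omit hq in
/-- transport of a frame along an isometry of subspaces -/
lemma frame_transport {W W' : Submodule F (ι → F)} (e : W ≃ₗ[F] W')
    (he : ∀ w : W, Q ((e w : W') : ι → F) = Q (w : ι → F)) {δ : F} {k : ℕ} (a : Fin k → (ι → F))
    (ha : IsFrame Q W δ a) : IsFrame Q W' δ (fun j => ((e ⟨a j, ha.mem j⟩ : W') : ι → F)) where
  mem j := (e ⟨a j, ha.mem j⟩).2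
  val j := by rw [he]; exact ha.val j
  orth j j' hjj' := by
    have := ha.orth j j' hjj'
    rw [pol_def] at this ⊢
    have hadd : ((e ⟨a j, ha.mem j⟩ : W') : ι → F) + ((e ⟨a j', ha.mem j'⟩ : W') : ι → F) =
        ((e (⟨a j, ha.mem j⟩ + ⟨a j', ha.mem j'⟩) : W') : ι → F) := by
      rw [map_add, Submodule.coe_add]
    rw [hadd, he, he, he]
    exact this
  struct v hv hQv := by
    set w : W := e.symm ⟨v, hv⟩ with hw
    have hew : e w = ⟨v, hv⟩ := by rw [hw, LinearEquiv.apply_symm_apply]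
    have hQw : Q (w : ι → F) = δ := by
      rw [← he w, hew]; exact hQv
    obtain ⟨j, hj⟩ := ha.struct w w.2 hQw
    refine ⟨j, ?_⟩
    rcases hj with hj | hj
    · left
      have : w = ⟨a j, ha.mem j⟩ := Subtype.ext hj
      rw [← this, hew]
    · right
      have : w = -⟨a j, ha.mem j⟩ := Subtype.ext (by rw [hj]; rfl)
      have h2 : e w = - e ⟨a j, ha.mem j⟩ := by rw [this, map_neg]
      rw [hew] at h2
      have := congrArg Subtype.val h2
      simpa using this

end frames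

/-- decompositions into three-dimensional subspaces over the field with three elements -/
theorem decomp3_not_max [Fintype F] {Q : (ι → F) → F} (hQ : Geo.IsNondegenerateQuadraticForm Q)
    (hq : Fintype.card F = 3) {t : ℕ} (D : Fin t → Submodule F (ι → F))
    (hD : Geo.IsOrthogonalMDecomposition Q 3 D) :
    ∃ K : Subgroup (Matrix.GeneralLinearGroup ι F),
      Geo.decompositionStabilizer D ⊓ Geo.omegaGL Q < K ∧ K < Geo.omegaGL Q := by
  have h : DirectSum.IsInternal D :=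
    DirectSum.isInternal_submodule_of_iSupIndep_of_iSup_eq_top hD.decomp.decomp.indep hD.decomp.decomp.iSup_eq_top
  have ht := hD.decomp.decomp.two_le
  set i0 : Fin t := ⟨0, by omega⟩ with hi0
  set i1 : Fin t := ⟨1, by omega⟩ with hi1
  have h01 : i0 ≠ i1 := by simp [hi0, hi1, Fin.ext_iff]
  obtain ⟨δ, hδ, a, ha⟩ := exists_frame3 hQ hq (D i0) (hD.decomp.decomp.finrank_eq i0) (hD.decomp.nondegenerate i0)
  obtain ⟨e, he⟩ := hD.isometric i0 i1
  exact frame_core hQ hq D h hD.decomp.orthogonal i0 i1 h01 δ hδ (by norm_num) a _ ha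
    (frame_transport hQ e he a ha)

/-- decompositions into anisotropic planes over the field with three elements -/
theorem decomp2_not_max [Fintype F] {Q : (ι → F) → F} (hQ : Geo.IsNondegenerateQuadraticForm Q)
    (hq : Fintype.card F = 3) {t : ℕ} (D : Fin t → Submodule F (ι → F))
    (hD : Geo.IsOrthogonalMDecomposition Q 2 D) (hminus : ∀ i, ¬ Geo.IsPlusTypeOn Q (D i)) :
    ∃ K : Subgroup (Matrix.GeneralLinearGroup ι F),
      Geo.decompositionStabilizer D ⊓ Geo.omegaGL Q < K ∧ K < Geo.omegaGL Q := by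
  have h : DirectSum.IsInternal D :=
    DirectSum.isInternal_submodule_of_iSupIndep_of_iSup_eq_top hD.decomp.decomp.indep hD.decomp.decomp.iSup_eq_top
  have ht := hD.decomp.decomp.two_le
  set i0 : Fin t := ⟨0, by omega⟩ with hi0
  set i1 : Fin t := ⟨1, by omega⟩ with hi1
  have h01 : i0 ≠ i1 := by simp [hi0, hi1, Fin.ext_iff]
  obtain ⟨δ, hδ, a, ha⟩ := exists_frame2 hQ hq (D i0) (hD.decomp.decomp.finrank_eq i0)
    (hD.decomp.nondegenerate i0) (hminus i0)
  obtain ⟨e, he⟩ := hD.isometric i0 i1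
  exact frame_core hQ hq D h hD.decomp.orthogonal i0 i1 h01 δ hδ (le_refl 2) a _ ha
    (frame_transport hQ e he a ha)

end Cfsg.Agent.Lib.Helper94
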