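import Cfsg.Agent.Lib.Helper94.Siegel

set_option autoImplicit false

namespace Cfsg.Agent.Lib.Helper94

open scoped Matrix
open Cfsg

set_option linter.unusedSectionVars false
set_option linter.unnecessarySimpa false
set_option linter.style.haveILetI false
set_option linter.unusedVariables false

variable {ι : Type} [Fintype ι] [DecidableEq ι] {F : Type*} [Field F]

section general
variable {Q : (ι → F) → F} (hQ : Geo.IsNondegenerateQuadraticForm Q)
include hQ

/-- a nonzero singular vector of a nondegenerate subspace has a hyperbolic partner -/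
lemma exists_partner (W : Submodule F (ι → F)) (hW : Geo.IsNondegenerateOn (QuadraticMap.polar Q) W)
    (e : ι → F) (heW : e ∈ W) (he0 : e ≠ 0) (hQe : Q e = 0) :
    ∃ f ∈ W, Q f = 0 ∧ pol Q f e = 1 := by
  obtain ⟨⟨y, hyW, hye⟩, _⟩ := hW e heW he0
  have hye' : pol Q y e ≠ 0 := hye
  set y' : ι → F := (pol Q y e)⁻¹ • y with hy'
  have hy'W : y' ∈ W := W.smul_mem _ hyW
  have hy'e : pol Q y' e = 1 := by
    rw [hy', pol_smul_left hQ, inv_mul_cancel₀ hye']
  clear_value y'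
  refine ⟨y' - (Q y') • e, W.sub_mem hy'W (W.smul_mem _ heW), ?_, ?_⟩
  · rw [Q_sub hQ, Q_smul hQ, hQe, mul_zero, add_zero, pol_smul_right hQ, hy'e, mul_one, sub_self]
  · rw [pol_sub_left hQ, pol_smul_left hQ, pol_self hQ, hQe, mul_zero, mul_zero, sub_zero, hy'e]

/-- a plus-type nondegenerate space of dimension four has a hyperbolic basis -/
lemma exists_hyp_basis4 (W : Submodule F (ι → F)) (hdim : Module.finrank F W = 4)
    (hW : Geo.IsNondegenerateOn (QuadraticMap.polar Q) W) (hplus : Geo.IsPlusTypeOn Q W) :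
    ∃ e1 f1 e2 f2 : ι → F, e1 ∈ W ∧ f1 ∈ W ∧ e2 ∈ W ∧ f2 ∈ W ∧ Q e1 = 0 ∧ Q f1 = 0 ∧ Q e2 = 0 ∧ Q f2 = 0 ∧
      pol Q e1 f1 = 1 ∧ pol Q e2 f2 = 1 ∧ pol Q e1 e2 = 0 ∧ pol Q e1 f2 = 0 ∧ pol Q f1 e2 = 0 ∧ pol Q f1 f2 = 0 ∧
      ∀ v ∈ W, ∃ α β γ δ : F, v = α • e1 + β • f1 + γ • e2 + δ • f2 := by
  obtain ⟨U, hUW, hUts, hUdim⟩ := hplus
  have hU2 : Module.finrank F U = 2 := by omega
  have hUpol : ∀ u ∈ U, ∀ u' ∈ U, pol Q u u' = 0 := by
    intro u hu u' hu'
    rw [pol_def, hUts _ (U.add_mem hu hu'), hUts u hu, hUts u' hu']; ring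
  let b := Module.finBasisOfFinrankEq F U hU2
  have hli : LinearIndependent F (fun i => (b i : ι → F)) :=
    b.linearIndependent.map' U.subtype (Submodule.ker_subtype U)
  rw [Fintype.linearIndependent_iff] at hli
  obtain ⟨e1, he1⟩ : ∃ e1 : ι → F, e1 = (b 0 : ι → F) := ⟨_, rfl⟩
  obtain ⟨b1, hb1⟩ : ∃ b1 : ι → F, b1 = (b 1 : ι → F) := ⟨_, rfl⟩
  have he1U : e1 ∈ U := by rw [he1]; exact (b 0).2
  have hb1U : b1 ∈ U := by rw [hb1]; exact (b 1).2
  have hind : ∀ c0 c1 : F, c0 • e1 + c1 • b1 = 0 → c0 = 0 ∧ c1 = 0 := by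
    intro c0 c1 hc
    have := hli ![c0, c1] (by rw [Fin.sum_univ_two]; simpa [he1, hb1] using hc)
    exact ⟨by simpa using this 0, by simpa using this 1⟩
  have he10 : e1 ≠ 0 := by
    intro h0
    have := (hind 1 0 (by rw [h0]; simp)).1
    exact one_ne_zero this
  have he1W := hUW he1U
  have hQe1 := hUts e1 he1U
  obtain ⟨f1, hf1W, hQf1, hf1e1⟩ := exists_partner hQ W hW e1 he1W he10 hQe1
  have he1f1 : pol Q e1 f1 = 1 := by rw [pol_comm]; exact hf1e1
  have he1e1 : pol Q e1 e1 = 0 := hUpol _ he1U _ he1U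
  have hf1f1 : pol Q f1 f1 = 0 := by rw [pol_self hQ, hQf1, mul_zero]
  -- e2
  obtain ⟨e2, he2⟩ : ∃ e2 : ι → F, e2 = b1 - pol Q b1 f1 • e1 := ⟨_, rfl⟩
  have he2U : e2 ∈ U := by rw [he2]; exact U.sub_mem hb1U (U.smul_mem _ he1U)
  have he2W := hUW he2U
  have hQe2 := hUts e2 he2U
  have he20 : e2 ≠ 0 := by
    intro h0
    rw [he2] at h0
    have := (hind (- pol Q b1 f1) 1 (by rw [← h0]; module)).2
    exact one_ne_zero this
  have he2f1 : pol Q e2 f1 = 0 := by
    rw [he2, pol_sub_left hQ, pol_smul_left hQ, he1f1]; ring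
  have hf1e2 : pol Q f1 e2 = 0 := by rw [pol_comm]; exact he2f1
  have he1e2 : pol Q e1 e2 = 0 := hUpol _ he1U _ he2U
  have he2e1 : pol Q e2 e1 = 0 := hUpol _ he2U _ he1U
  have he2e2 : pol Q e2 e2 = 0 := hUpol _ he2U _ he2U
  obtain ⟨y2, hy2W, hQy2, hy2e2⟩ := exists_partner hQ W hW e2 he2W he20 hQe2
  obtain ⟨y', hy'⟩ : ∃ y' : ι → F, y' = y2 - pol Q y2 f1 • e1 - pol Q y2 e1 • f1 := ⟨_, rfl⟩
  have hy'W : y' ∈ W := by
    rw [hy']; exact W.sub_mem (W.sub_mem hy2W (W.smul_mem _ he1W)) (W.smul_mem _ hf1W)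
  have hy'e1 : pol Q y' e1 = 0 := by
    rw [hy', pol_sub_left hQ, pol_sub_left hQ, pol_smul_left hQ, pol_smul_left hQ, he1e1, hf1e1]; ring
  have hy'f1 : pol Q y' f1 = 0 := by
    rw [hy', pol_sub_left hQ, pol_sub_left hQ, pol_smul_left hQ, pol_smul_left hQ, he1f1, hf1f1]; ring
  have hy'e2 : pol Q y' e2 = 1 := by
    rw [hy', pol_sub_left hQ, pol_sub_left hQ, pol_smul_left hQ, pol_smul_left hQ, he1e2, hf1e2, hy2e2]; ring
  obtain ⟨f2, hf2⟩ : ∃ f2 : ι → F, f2 = y' - Q y' • e2 := ⟨_, rfl⟩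
  have hf2W : f2 ∈ W := by rw [hf2]; exact W.sub_mem hy'W (W.smul_mem _ he2W)
  have hQf2 : Q f2 = 0 := by
    rw [hf2, Q_sub hQ, Q_smul hQ, hQe2, mul_zero, add_zero, pol_smul_right hQ, hy'e2, mul_one, sub_self]
  have hf2e2 : pol Q f2 e2 = 1 := by
    rw [hf2, pol_sub_left hQ, pol_smul_left hQ, he2e2, mul_zero, sub_zero, hy'e2]
  have hf2e1 : pol Q f2 e1 = 0 := by
    rw [hf2, pol_sub_left hQ, pol_smul_left hQ, he2e1, mul_zero, sub_zero, hy'e1]
  have hf2f1 : pol Q f2 f1 = 0 := by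
    rw [hf2, pol_sub_left hQ, pol_smul_left hQ, he2f1, mul_zero, sub_zero, hy'f1]
  have he2f2 : pol Q e2 f2 = 1 := by rw [pol_comm]; exact hf2e2
  have he1f2 : pol Q e1 f2 = 0 := by rw [pol_comm]; exact hf2e1
  have hf1f2 : pol Q f1 f2 = 0 := by rw [pol_comm]; exact hf2f1
  have hf2f2 : pol Q f2 f2 = 0 := by rw [pol_self hQ, hQf2, mul_zero]
  refine ⟨e1, f1, e2, f2, he1W, hf1W, he2W, hf2W, hQe1, hQf1, hQe2, hQf2, he1f1, he2f2, he1e2, he1f2, hf1e2,
    hf1f2, ?_⟩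
  have hli4 : LinearIndependent F ![e1, f1, e2, f2] := by
    rw [Fintype.linearIndependent_iff]
    intro g hg
    have hg' : g 0 • e1 + g 1 • f1 + g 2 • e2 + g 3 • f2 = 0 := by
      rw [← hg, Fin.sum_univ_four]; rfl
    have k0 : g 0 = 0 := by
      have := congrArg (fun v => pol Q v f1) hg'
      simp only [pol_add_left hQ, pol_smul_left hQ, he1f1, hf1f1, he2f1, hf2f1, pol_zero_left hQ] at this
      simpa using this
    have k1 : g 1 = 0 := by
      have := congrArg (fun v => pol Q v e1) hg'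
      simp only [pol_add_left hQ, pol_smul_left hQ, he1e1, hf1e1, he2e1, hf2e1, pol_zero_left hQ] at this
      simpa using this
    have k2 : g 2 = 0 := by
      have := congrArg (fun v => pol Q v f2) hg'
      simp only [pol_add_left hQ, pol_smul_left hQ, he1f2, hf1f2, he2f2, hf2f2, pol_zero_left hQ] at this
      simpa using this
    have k3 : g 3 = 0 := by
      have := congrArg (fun v => pol Q v e2) hg'
      simp only [pol_add_left hQ, pol_smul_left hQ, he1e2, hf1e2, he2e2, hf2e2, pol_zero_left hQ] at this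
      simpa using this
    intro i
    fin_cases i
    · exact k0
    · exact k1
    · exact k2
    · exact k3
  have hspan : Submodule.span F (Set.range ![e1, f1, e2, f2]) = W := by
    apply Submodule.eq_of_le_of_finrank_eq
    · rw [Submodule.span_le]
      rintro x ⟨i, rfl⟩
      fin_cases i
      · exact he1W
      · exact hf1W
      · exact he2W
      · exact hf2W
    · rw [finrank_span_eq_card hli4, hdim]; simp
  intro v hv
  rw [← hspan] at hv
  obtain ⟨c, hc⟩ := (Submodule.mem_span_range_iff_exists_fun F).1 hv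
  refine ⟨c 0, c 1, c 2, c 3, ?_⟩
  rw [← hc, Fin.sum_univ_four]; rfl

end general

end Cfsg.Agent.Lib.Helper94
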