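import Mathlib

/-!
# Formal factorisations `2^e · Φ₁^a · Φ₂^b · Φ₃^c · Φ₄^d · Φ₆^f · Φ₈^g` in `q = r + 1`
-/

set_option autoImplicit false

namespace Cfsg.Agent.Lib.Helper94.Iso8

/-- exponent vectors -/
structure EV where
  e2 : ℕ
  e1 : ℕ
  ep : ℕ
  e3 : ℕ
  e4 : ℕ
  e6 : ℕ
  e8 : ℕ
deriving DecidableEq

/-- the value of an exponent vector at `q = r + 1` -/
def EV.val (r : ℕ) (e : EV) : ℕ :=
  2 ^ e.e2 * r ^ e.e1 * (r + 2) ^ e.ep * ((r + 1) ^ 2 + (r + 1) + 1) ^ e.e3 *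
    ((r + 1) ^ 2 + 1) ^ e.e4 * (r ^ 2 + r + 1) ^ e.e6 * ((r + 1) ^ 4 + 1) ^ e.e8

/-- pointwise order -/
def EV.le (e e' : EV) : Prop :=
  e.e2 ≤ e'.e2 ∧ e.e1 ≤ e'.e1 ∧ e.ep ≤ e'.ep ∧ e.e3 ≤ e'.e3 ∧ e.e4 ≤ e'.e4 ∧ e.e6 ≤ e'.e6 ∧
    e.e8 ≤ e'.e8

instance (e e' : EV) : Decidable (EV.le e e') := by
  unfold EV.le
  infer_instance

theorem EV.val_dvd (r : ℕ) {e e' : EV} (h : EV.le e e') : e.val r ∣ e'.val r := by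
  obtain ⟨h1, h2, h3, h4, h5, h6, h7⟩ := h
  unfold EV.val
  exact mul_dvd_mul (mul_dvd_mul (mul_dvd_mul (mul_dvd_mul (mul_dvd_mul (mul_dvd_mul
    (pow_dvd_pow _ h1) (pow_dvd_pow _ h2)) (pow_dvd_pow _ h3)) (pow_dvd_pow _ h4))
    (pow_dvd_pow _ h5)) (pow_dvd_pow _ h6)) (pow_dvd_pow _ h7)

/-- the lists of maximal orders in `Sp_{2n}(q)`, `q` even, `n ≤ 4` -/
def LstE : ℕ → List EV
  | 1 => [⟨1,0,0,0,0,0,0⟩, ⟨0,0,1,0,0,0,0⟩, ⟨0,1,0,0,0,0,0⟩]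
  | 2 => [⟨2,0,0,0,0,0,0⟩, ⟨1,0,1,0,0,0,0⟩, ⟨1,1,0,0,0,0,0⟩, ⟨0,0,0,0,1,0,0⟩, ⟨0,1,1,0,0,0,0⟩]
  | 3 => [⟨3,0,0,0,0,0,0⟩, ⟨2,0,1,0,0,0,0⟩, ⟨2,1,0,0,0,0,0⟩, ⟨0,0,1,0,0,1,0⟩, ⟨0,1,0,1,0,0,0⟩,
          ⟨1,0,0,0,1,0,0⟩, ⟨1,1,1,0,0,0,0⟩, ⟨0,0,1,0,1,0,0⟩, ⟨0,1,0,0,1,0,0⟩]
  | 4 => [⟨0,0,0,0,0,0,1⟩, ⟨0,1,1,0,1,0,0⟩, ⟨0,1,1,0,0,1,0⟩, ⟨0,1,1,1,0,0,0⟩, ⟨1,0,1,0,0,1,0⟩,
          ⟨1,1,0,1,0,0,0⟩, ⟨1,0,1,0,1,0,0⟩, ⟨1,1,0,0,1,0,0⟩, ⟨2,0,0,0,1,0,0⟩, ⟨2,1,1,0,0,0,0⟩,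
          ⟨3,0,1,0,0,0,0⟩, ⟨3,1,0,0,0,0,0⟩]
  | _ => []

/-- merging -/
theorem LstE_merge : ∀ n₁ n₂ : ℕ, 1 ≤ n₁ → 1 ≤ n₂ → n₁ + n₂ ≤ 4 →
    ∀ e₁ ∈ LstE n₁, ∀ e₂ ∈ LstE n₂, ∃ e ∈ LstE (n₁ + n₂), EV.le e₁ e ∧ EV.le e₂ e := by
  intro n₁ n₂ h1 h2 h4
  have hn₁ : n₁ ≤ 3 := by omega
  have hn₂ : n₂ ≤ 3 := by omega
  interval_cases n₁ <;> interval_cases n₂ <;> first | omega | decide

/-- unipotent blocks: `2^e < 4n` -/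
theorem LstE_unip : ∀ n e : ℕ, 1 ≤ n → n ≤ 4 → 2 ^ e < 4 * n →
    ∃ v ∈ LstE n, EV.le ⟨e,0,0,0,0,0,0⟩ v := by
  intro n e h1 h4 he
  have he4 : e < 4 := by
    by_contra hc
    have : 2 ^ 4 ≤ 2 ^ e := Nat.pow_le_pow_right (by norm_num) (by omega)
    omega
  interval_cases n <;> interval_cases e <;> first | (exfalso; revert he; norm_num; done) | decide

/-- the exponent vector of `(q^d + 1) · 2^e` -/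
def plusV (d e : ℕ) : EV :=
  match d with
  | 1 => ⟨e,0,1,0,0,0,0⟩
  | 2 => ⟨e,0,0,0,1,0,0⟩
  | 3 => ⟨e,0,1,0,0,1,0⟩
  | _ => ⟨e,0,0,0,0,0,1⟩

/-- the exponent vector of `(q^D - 1) · 2^e` -/
def minusV (D e : ℕ) : EV :=
  match D with
  | 1 => ⟨e,1,0,0,0,0,0⟩
  | 2 => ⟨e,1,1,0,0,0,0⟩
  | 3 => ⟨e,1,0,1,0,0,0⟩
  | _ => ⟨e,1,1,0,1,0,0⟩

theorem plusV_val (r d e : ℕ) (h1 : 1 ≤ d) (h4 : d ≤ 4) :
    (plusV d e).val r = ((r + 1) ^ d + 1) * 2 ^ e := by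
  interval_cases d <;> simp only [plusV, EV.val] <;> ring

theorem minusV_val (r D e : ℕ) (h1 : 1 ≤ D) (h4 : D ≤ 4) :
    (minusV D e).val r = ((r + 1) ^ D - 1) * 2 ^ e := by
  have hsub : ∀ x y : ℕ, x = y + 1 → x - 1 = y := by intro x y h; omega
  interval_cases D
  · rw [hsub ((r + 1) ^ 1) r (by ring)]
    simp only [minusV, EV.val]; ring
  · rw [hsub ((r + 1) ^ 2) (r * (r + 2)) (by ring)]
    simp only [minusV, EV.val]; ring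
  · rw [hsub ((r + 1) ^ 3) (r * ((r + 1) ^ 2 + (r + 1) + 1)) (by ring)]
    simp only [minusV, EV.val]; ring
  · rw [hsub ((r + 1) ^ 4) (r * (r + 2) * ((r + 1) ^ 2 + 1)) (by ring)]
    simp only [minusV, EV.val]; ring

theorem LstE_plus : ∀ n d k e : ℕ, 1 ≤ d → 1 ≤ k → d * k ≤ n → n ≤ 4 → 2 ^ e < 2 * k →
    ∃ v ∈ LstE n, EV.le (plusV d e) v := by
  intro n d k e hd hk hdk hn he
  have hdn : d ≤ n := le_trans (Nat.le_mul_of_pos_right d hk) hdk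
  have hkn : k ≤ n := le_trans (Nat.le_mul_of_pos_left k hd) hdk
  have he3 : e < 3 := by
    by_contra hc
    have : 2 ^ 3 ≤ 2 ^ e := Nat.pow_le_pow_right (by norm_num) (by omega)
    omega
  interval_cases n <;> interval_cases d <;> interval_cases k <;> interval_cases e <;>
    first | (exfalso; omega) | (exfalso; revert he; norm_num; done) | decide

theorem LstE_minus : ∀ n d k e : ℕ, 1 ≤ d → 1 ≤ k → d * k ≤ n → n ≤ 4 → 2 ^ e < 2 * k →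
    ∃ v ∈ LstE n, EV.le (minusV d e) v := by
  intro n d k e hd hk hdk hn he
  have hdn : d ≤ n := le_trans (Nat.le_mul_of_pos_right d hk) hdk
  have hkn : k ≤ n := le_trans (Nat.le_mul_of_pos_left k hd) hdk
  have he3 : e < 3 := by
    by_contra hc
    have : 2 ^ 3 ≤ 2 ^ e := Nat.pow_le_pow_right (by norm_num) (by omega)
    omega
  interval_cases n <;> interval_cases d <;> interval_cases k <;> interval_cases e <;>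
    first | (exfalso; omega) | (exfalso; revert he; norm_num; done) | decide

end Cfsg.Agent.Lib.Helper94.Iso8
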