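import Mathlib
import Cfsg.Prelude.Def_Classical
import Cfsg.Agent.Lib.Helper13.Symp
import Cfsg.Agent.Lib.Helper13.Orth

/-!
# `GO₈⁻(q)`, `q` even, inside `Sp₈(q)`
-/

set_option autoImplicit false
set_option linter.unusedVariables false
set_option linter.unusedSectionVars false
set_option linter.unusedSimpArgs false

namespace Cfsg.Agent.Lib.Helper94.Iso8

open Matrix

section embed
variable {F : Type*} [Field F]

/-- the coordinate change -/
def phiFun (a : F) (x : (Fin 3 ⊕ Fin 3) ⊕ Fin 2 → F) : Fin 4 ⊕ Fin 4 → F :=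
  Sum.elim ![x (.inl (.inl 0)), x (.inl (.inl 1)), x (.inl (.inl 2)), x (.inr 0)]
    ![x (.inl (.inr 0)), x (.inl (.inr 1)), x (.inl (.inr 2)), a * x (.inr 1)]

/-- the inverse coordinate change -/
def phiInv (a : F) (u : Fin 4 ⊕ Fin 4 → F) : (Fin 3 ⊕ Fin 3) ⊕ Fin 2 → F :=
  Sum.elim (Sum.elim ![u (.inl 0), u (.inl 1), u (.inl 2)] ![u (.inr 0), u (.inr 1), u (.inr 2)])
    ![u (.inl 3), a⁻¹ * u (.inr 3)]

/-- the coordinate change as a linear equivalence -/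
def phi (a : F) (ha : a ≠ 0) : ((Fin 3 ⊕ Fin 3) ⊕ Fin 2 → F) ≃ₗ[F] (Fin 4 ⊕ Fin 4 → F) where
  toFun := phiFun a
  invFun := phiInv a
  map_add' := by
    intro x y
    funext k
    rcases k with k | k <;> fin_cases k <;> simp [phiFun, mul_add]
  map_smul' := by
    intro c x
    funext k
    rcases k with k | k <;> fin_cases k <;> simp [phiFun, mul_left_comm]
  left_inv := by
    intro x
    funext i
    rcases i with (i | i) | i <;> fin_cases i <;> simp [phiFun, phiInv, ha]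
  right_inv := by
    intro u
    funext k
    rcases k with k | k <;> fin_cases k <;> simp [phiFun, phiInv, ha]

theorem phi_apply (a : F) (ha : a ≠ 0) (x : (Fin 3 ⊕ Fin 3) ⊕ Fin 2 → F) :
    phi a ha x = phiFun a x := rfl

/-- the symplectic form is the polar form of the quadratic form in characteristic 2 -/
theorem sympForm_phi (h2 : (2 : F) = 0) (a b : F) (ha : a ≠ 0)
    (x y : (Fin 3 ⊕ Fin 3) ⊕ Fin 2 → F) :
    Cfsg.sympForm 4 F (phi a ha x) (phi a ha y) =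
      Cfsg.quadFormMinus 3 F a b (x + y) - Cfsg.quadFormMinus 3 F a b x -
        Cfsg.quadFormMinus 3 F a b y := by
  rw [Cfsg.Agent.Lib.Helper13.sympForm_expand, phi_apply, phi_apply]
  simp only [Cfsg.quadFormMinus, Fin.sum_univ_three, Fin.sum_univ_four, phiFun, Sum.elim_inl,
    Sum.elim_inr, Pi.add_apply]
  simp only [Matrix.cons_val_zero, Matrix.cons_val_one, Matrix.cons_val_two, Matrix.cons_val_three,
    Matrix.head_cons, Matrix.tail_cons]
  linear_combination (-(x (.inl (.inl 0)) * y (.inl (.inr 0)) + x (.inl (.inl 1)) * y (.inl (.inr 1))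
    + x (.inl (.inl 2)) * y (.inl (.inr 2)) + x (.inr 0) * y (.inr 0)
    + a * x (.inr 0) * y (.inr 1) + b * x (.inr 1) * y (.inr 1))) * h2

end embed

section embed2
variable {F : Type*} [Field F]

/-- conjugation by the coordinate change, on matrices -/
noncomputable def Xi (a : F) (ha : a ≠ 0) :
    Matrix ((Fin 3 ⊕ Fin 3) ⊕ Fin 2) ((Fin 3 ⊕ Fin 3) ⊕ Fin 2) F ≃+*
      Matrix (Fin 4 ⊕ Fin 4) (Fin 4 ⊕ Fin 4) F :=
  ((Matrix.toLinAlgEquiv' : Matrix ((Fin 3 ⊕ Fin 3) ⊕ Fin 2) ((Fin 3 ⊕ Fin 3) ⊕ Fin 2) F ≃ₐ[F]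
      _).toRingEquiv.trans (phi a ha).conjRingEquiv).trans
    (LinearMap.toMatrixAlgEquiv' : _ ≃ₐ[F] Matrix (Fin 4 ⊕ Fin 4) (Fin 4 ⊕ Fin 4) F).toRingEquiv

theorem Xi_mulVec (a : F) (ha : a ≠ 0)
    (M : Matrix ((Fin 3 ⊕ Fin 3) ⊕ Fin 2) ((Fin 3 ⊕ Fin 3) ⊕ Fin 2) F) (u : Fin 4 ⊕ Fin 4 → F) :
    Xi a ha M *ᵥ u = phi a ha (M *ᵥ ((phi a ha).symm u)) := by
  unfold Xi
  simp only [RingEquiv.trans_apply, AlgEquiv.coe_ringEquiv,
    LinearMap.toMatrixAlgEquiv'_apply, LinearMap.toMatrix'_mulVec]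
  have h1 : ∀ f : (Fin 4 ⊕ Fin 4 → F) →ₗ[F] (Fin 4 ⊕ Fin 4 → F),
      LinearMap.toMatrixAlgEquiv' f = LinearMap.toMatrix' f := fun f => rfl
  rw [h1, LinearMap.toMatrix'_mulVec, LinearEquiv.conjRingEquiv_apply_apply,
    Matrix.toLinAlgEquiv'_apply]

/-- every isometry of the form gives a symplectic matrix of the same order -/
theorem exists_symplectic (h2 : (2 : F) = 0) (a b : F) (ha : a ≠ 0)
    (h : ↥(Cfsg.isometryGroup F (Cfsg.quadFormMinus 3 F a b))) :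
    ∃ g : ↥(Matrix.symplecticGroup (Fin 4) F), orderOf g = orderOf h := by
  classical
  set M : Matrix ((Fin 3 ⊕ Fin 3) ⊕ Fin 2) ((Fin 3 ⊕ Fin 3) ⊕ Fin 2) F :=
    ((h : Matrix.GeneralLinearGroup ((Fin 3 ⊕ Fin 3) ⊕ Fin 2) F) :
      Matrix ((Fin 3 ⊕ Fin 3) ⊕ Fin 2) ((Fin 3 ⊕ Fin 3) ⊕ Fin 2) F) with hM
  have hpres : ∀ x, Cfsg.quadFormMinus 3 F a b (M *ᵥ x) = Cfsg.quadFormMinus 3 F a b x :=
    (Cfsg.Agent.Lib.Helper13.mem_isometryGroup_iff _ _).1 h.2
  have hA : Xi a ha M ∈ Matrix.symplecticGroup (Fin 4) F := by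
    apply Cfsg.Agent.Lib.Helper13.mem_symplectic_of_preserves
    intro u v
    rw [Xi_mulVec, Xi_mulVec, sympForm_phi h2 a b ha, ← Matrix.mulVec_add, hpres, hpres, hpres,
      ← sympForm_phi h2 a b ha, LinearEquiv.apply_symm_apply, LinearEquiv.apply_symm_apply]
  refine ⟨⟨Xi a ha M, hA⟩, ?_⟩
  have e1 : orderOf (⟨Xi a ha M, hA⟩ : ↥(Matrix.symplecticGroup (Fin 4) F)) =
      orderOf (Xi a ha M) := by
    rw [← orderOf_submonoid]
  have e2 : orderOf (Xi a ha M) = orderOf M :=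
    MulEquiv.orderOf_eq (Xi a ha).toMulEquiv M
  have e3 : orderOf h = orderOf M := by
    rw [← Subgroup.orderOf_coe, ← orderOf_units]
  rw [e1, e2, e3]

end embed2

end Cfsg.Agent.Lib.Helper94.Iso8
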