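import Mathlib
import Cfsg.Agent.Lib.Helper94.Iso8Arith
import Cfsg.Agent.Lib.Helper53.Iso8BLKPM
import Cfsg.Agent.Lib.Helper53.Iso8BLKPP
import Cfsg.Agent.Lib.Helper53.Iso8C4
import Cfsg.Agent.Lib.Helper53.Iso8RF
import Cfsg.Agent.Lib.Helper42.Iso8BLKMM
import Cfsg.Agent.Lib.Helper42.Iso8J6M
import Cfsg.Agent.Lib.Helper97.Iso8PT
import Cfsg.Agent.Lib.Helper97.Iso8M2P
import Cfsg.Agent.Lib.Helper61.Iso8MT

/-!
# Elements of the twelve maximal orders in `GO₈⁻(q)`, `q` even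
-/

set_option autoImplicit false
set_option linter.unusedVariables false
set_option linter.unusedSectionVars false
set_option linter.unusedSimpArgs false

namespace Cfsg.Agent.Lib.Helper94.Iso8

lemma cop_rel (x y u v : ℕ) (hy : Odd y) (hrel : v * y = u * x + 2) : Nat.Coprime x y := by
  have hg1 : Nat.gcd x y ∣ x := Nat.gcd_dvd_left _ _
  have hg2 : Nat.gcd x y ∣ y := Nat.gcd_dvd_right _ _
  have hg3 : Nat.gcd x y ∣ 2 := by
    have h1 : Nat.gcd x y ∣ u * x := Dvd.dvd.mul_left hg1 u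
    have h2 : Nat.gcd x y ∣ u * x + 2 := by
      rw [← hrel]
      exact Dvd.dvd.mul_left hg2 v
    exact (Nat.dvd_add_right h1).1 h2
  rcases (Nat.dvd_prime Nat.prime_two).1 hg3 with h | h
  · exact h
  · exfalso
    rw [h] at hg2
    exact (Nat.not_even_iff_odd.2 hy) (even_iff_two_dvd.2 hg2)

lemma mul_dvd_lcm_of (x y X Y : ℕ) (hx : x ∣ X) (hy : y ∣ Y) (hc : Nat.Coprime x y) :
    x * y ∣ Nat.lcm X Y :=
  hc.mul_dvd_of_dvd_of_dvd (hx.trans (Nat.dvd_lcm_left _ _)) (hy.trans (Nat.dvd_lcm_right _ _))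

lemma sub_one_eq (x y : ℕ) (h : x = y + 1) : x - 1 = y := by omega

section constr
variable {F : Type*} [Field F] [Fintype F] [CharP F 2]

/-- the twelve maximal orders are realised (up to multiples) in `GO₈⁻(q)` -/
theorem exists_dvd_order (a b : F)
    (han : ∀ z₁ z₂ : F, z₁ ^ 2 + a * z₁ * z₂ + b * z₂ ^ 2 = 0 → z₁ = 0 ∧ z₂ = 0)
    (r : ℕ) (hq : Fintype.card F = r + 1) (v : EV) (hv : v ∈ LstE 4) :
    ∃ g : ↥(Cfsg.isometryGroup F (Cfsg.quadFormMinus 3 F a b)), v.val r ∣ orderOf g := by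
  have h2 : (2 : F) = 0 := by
    have := CharP.cast_eq_zero F 2
    exact_mod_cast this
  have ha : a ≠ 0 := by
    rintro rfl
    obtain ⟨e, he⟩ := FiniteField.isSquare_of_char_two (ringChar.eq F 2) b
    have := han e 1 (by rw [he]; linear_combination (e * e) * h2)
    exact one_ne_zero this.2
  -- `r` is odd
  have hrodd : Odd r := by
    obtain ⟨n, -, hn⟩ := FiniteField.card F 2
    have h2q : 2 ∣ r + 1 := by
      rw [← hq, hn]
      exact dvd_pow_self 2 n.ne_zero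
    rcases Nat.even_or_odd r with he | ho
    · exfalso
      obtain ⟨c, hc⟩ := he
      omega
    · exact ho
  have hq1 : Even (r + 1) := hrodd.add_one
  have o_r2 : Odd (r + 2) := by
    obtain ⟨c, hc⟩ := hrodd
    exact ⟨c + 1, by omega⟩
  have hq1sq : Even ((r + 1) ^ 2) := (Nat.even_pow.2 ⟨hq1, by norm_num⟩)
  have o_4 : Odd ((r + 1) ^ 2 + 1) := hq1sq.add_one
  have o_6 : Odd (r ^ 2 + r + 1) := by
    have : Even (r ^ 2 + r) := by
      have : r ^ 2 + r = r * (r + 1) := by ring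
      rw [this]
      exact hq1.mul_left r
    exact this.add_one
  have o_3 : Odd ((r + 1) ^ 2 + (r + 1) + 1) := (hq1sq.add hq1).add_one
  -- the building blocks
  have MT0 : HasMinus F a b 0 (r + 2) := by
    have := has_MT a b han 0
    rw [hq] at this
    have e : (r + 1) ^ (0 + 1) + 1 = r + 2 := by ring
    rwa [e] at this
  have MT1 : HasMinus F a b 1 ((r + 1) ^ 2 + 1) := by
    have := has_MT a b han 1
    rwa [hq] at this
  have MT2 : HasMinus F a b 2 ((r + 2) * (r ^ 2 + r + 1)) := by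
    have := has_MT a b han 2
    rw [hq] at this
    have e : (r + 1) ^ (2 + 1) + 1 = (r + 2) * (r ^ 2 + r + 1) := by ring
    rwa [e] at this
  have MT3 : HasMinus F a b 3 ((r + 1) ^ 4 + 1) := by
    have := has_MT a b han 3
    rwa [hq] at this
  have PT1 : HasPlus F 1 r := by
    have := has_PT (F := F) 1 le_rfl
    rw [hq, sub_one_eq ((r + 1) ^ 1) r (by ring)] at this
    exact this
  have PT2 : HasPlus F 2 (r * (r + 2)) := by
    have := has_PT (F := F) 2 (by norm_num)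
    rw [hq, sub_one_eq ((r + 1) ^ 2) (r * (r + 2)) (by ring)] at this
    exact this
  have PT3 : HasPlus F 3 (r * ((r + 1) ^ 2 + (r + 1) + 1)) := by
    have := has_PT (F := F) 3 (by norm_num)
    rw [hq, sub_one_eq ((r + 1) ^ 3) (r * ((r + 1) ^ 2 + (r + 1) + 1)) (by ring)] at this
    exact this
  have RF : HasMinus F a b 0 2 := has_RF a b ha
  have SW : HasPlus F 1 2 := minus_one_zero 0 2 (has_RF (1 : F) 0 one_ne_zero)
  have C4 : HasPlus F 2 4 := has_C4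
  have J6m : HasMinus F a b 2 8 := has_J6m a b ha
  have J6p : HasPlus F 3 8 := minus_one_zero 2 8 (has_J6m (1 : F) 0 one_ne_zero)
  have XX : HasPlus F 2 (Nat.lcm (r + 2) 2) := blk_mm a b ha _ _ MT0 RF
  have fin : ∀ (L N : ℕ), HasMinus F a b 3 L → N ∣ L →
      ∃ g : ↥(Cfsg.isometryGroup F (Cfsg.quadFormMinus 3 F a b)), N ∣ orderOf g := by
    rintro L N ⟨g, hg⟩ hd
    exact ⟨g, by rw [hg]; exact hd⟩
  have c2 : ∀ y, Odd y → Nat.Coprime 2 y := fun y hy => Nat.coprime_two_left.2 hy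
  have c4 : ∀ y, Odd y → Nat.Coprime 4 y := fun y hy => by
    have := Nat.Coprime.pow_left 2 (c2 y hy)
    simpa using this
  have c8 : ∀ y, Odd y → Nat.Coprime 8 y := fun y hy => by
    have := Nat.Coprime.pow_left 3 (c2 y hy)
    simpa using this
  simp only [LstE, List.mem_cons, List.not_mem_nil, or_false] at hv
  rcases hv with rfl | rfl | rfl | rfl | rfl | rfl | rfl | rfl | rfl | rfl | rfl | rfl
  · -- q^4 + 1
    refine fin _ _ MT3 ?_
    simp [EV.val]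
  · -- q^4 - 1
    refine fin _ _ (blk_pm a b 2 1 _ _ PT2 MT1) ?_
    have e : (⟨0,1,1,0,1,0,0⟩ : EV).val r = (r * (r + 2)) * ((r + 1) ^ 2 + 1) := by
      simp [EV.val]
    rw [e]
    exact mul_dvd_lcm_of _ _ _ _ dvd_rfl dvd_rfl
      (cop_rel _ _ 1 1 o_4 (by ring))
  · -- (q^3 + 1)(q - 1)
    refine fin _ _ (blk_pm a b 1 2 _ _ PT1 MT2) ?_
    have e : (⟨0,1,1,0,0,1,0⟩ : EV).val r = r * ((r + 2) * (r ^ 2 + r + 1)) := by
      simp [EV.val]; ring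
    rw [e]
    exact mul_dvd_lcm_of _ _ _ _ dvd_rfl dvd_rfl
      (cop_rel _ _ (r ^ 2 + 3 * r + 3) 1 (o_r2.mul o_6) (by ring))
  · -- (q^3 - 1)(q + 1)
    refine fin _ _ (blk_pm a b 3 0 _ _ PT3 MT0) ?_
    have e : (⟨0,1,1,1,0,0,0⟩ : EV).val r = (r * ((r + 1) ^ 2 + (r + 1) + 1)) * (r + 2) := by
      simp [EV.val]; ring
    rw [e]
    exact mul_dvd_lcm_of _ _ _ _ dvd_rfl dvd_rfl
      (cop_rel _ _ 1 (r ^ 2 + r + 1) o_r2 (by ring))
  · -- 2(q^3 + 1)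
    refine fin _ _ (blk_pm a b 1 2 _ _ SW MT2) ?_
    have e : (⟨1,0,1,0,0,1,0⟩ : EV).val r = 2 * ((r + 2) * (r ^ 2 + r + 1)) := by
      simp [EV.val]; ring
    rw [e]
    exact mul_dvd_lcm_of _ _ _ _ dvd_rfl dvd_rfl (c2 _ (o_r2.mul o_6))
  · -- 2(q^3 - 1)
    refine fin _ _ (blk_pm a b 3 0 _ _ PT3 RF) ?_
    have e : (⟨1,1,0,1,0,0,0⟩ : EV).val r = (r * ((r + 1) ^ 2 + (r + 1) + 1)) * 2 := by
      simp [EV.val]; ring
    rw [e]
    exact mul_dvd_lcm_of _ _ _ _ dvd_rfl dvd_rfl (c2 _ (hrodd.mul o_3)).symm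
  · -- 2(q^2 + 1)(q + 1)
    refine fin _ _ (blk_pm a b 2 1 _ _ XX MT1) ?_
    have e : (⟨1,0,1,0,1,0,0⟩ : EV).val r = ((r + 2) * 2) * ((r + 1) ^ 2 + 1) := by
      simp [EV.val]; ring
    rw [e]
    refine mul_dvd_lcm_of _ _ _ _ ?_ dvd_rfl ?_
    · exact mul_dvd_lcm_of _ _ _ _ dvd_rfl dvd_rfl (c2 _ o_r2).symm
    · exact Nat.Coprime.mul_left (cop_rel _ _ r 1 o_4 (by ring)) (c2 _ o_4)
  · -- 2(q^2 + 1)(q - 1)
    refine fin _ _ (blk_pm a b (1 + 1) 1 _ _ (blk_pp 1 1 _ _ PT1 SW) MT1) ?_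
    have e : (⟨1,1,0,0,1,0,0⟩ : EV).val r = (r * 2) * ((r + 1) ^ 2 + 1) := by
      simp [EV.val]; ring
    rw [e]
    refine mul_dvd_lcm_of _ _ _ _ ?_ dvd_rfl ?_
    · exact mul_dvd_lcm_of _ _ _ _ dvd_rfl dvd_rfl (c2 _ hrodd).symm
    · exact Nat.Coprime.mul_left (cop_rel _ _ (r + 2) 1 o_4 (by ring)) (c2 _ o_4)
  · -- 4(q^2 + 1)
    refine fin _ _ (blk_pm a b 2 1 _ _ C4 MT1) ?_
    have e : (⟨2,0,0,0,1,0,0⟩ : EV).val r = 4 * ((r + 1) ^ 2 + 1) := by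
      simp [EV.val]
    rw [e]
    exact mul_dvd_lcm_of _ _ _ _ dvd_rfl dvd_rfl (c4 _ o_4)
  · -- 4(q^2 - 1)
    refine fin _ _ (blk_pm a b (1 + 2) 0 _ _ (blk_pp 1 2 _ _ PT1 C4) MT0) ?_
    have e : (⟨2,1,1,0,0,0,0⟩ : EV).val r = (r * 4) * (r + 2) := by
      simp [EV.val]; ring
    rw [e]
    refine mul_dvd_lcm_of _ _ _ _ ?_ dvd_rfl ?_
    · exact mul_dvd_lcm_of _ _ _ _ dvd_rfl dvd_rfl (c4 _ hrodd).symm
    · exact Nat.Coprime.mul_left (cop_rel _ _ 1 1 o_r2 (by ring)) (c4 _ o_r2)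
  · -- 8(q + 1)
    refine fin _ _ (blk_pm a b 3 0 _ _ J6p MT0) ?_
    have e : (⟨3,0,1,0,0,0,0⟩ : EV).val r = 8 * (r + 2) := by
      simp [EV.val]
    rw [e]
    exact mul_dvd_lcm_of _ _ _ _ dvd_rfl dvd_rfl (c8 _ o_r2)
  · -- 8(q - 1)
    refine fin _ _ (blk_pm a b 1 2 _ _ PT1 J6m) ?_
    have e : (⟨3,1,0,0,0,0,0⟩ : EV).val r = r * 8 := by
      simp [EV.val]; ring
    rw [e]
    exact mul_dvd_lcm_of _ _ _ _ dvd_rfl dvd_rfl (c8 _ hrodd).symm

end constr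

end Cfsg.Agent.Lib.Helper94.Iso8
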