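import Mathlib
import Cfsg.Agent.Lib.Helper94.EO5
import Cfsg.Agent.Lib.Helper94.Iso8Arith

set_option autoImplicit false
set_option linter.unusedVariables false
set_option linter.unusedSectionVars false
set_option linter.unusedSimpArgs false
set_option linter.style.haveILetI false
set_option maxHeartbeats 1600000

/-!
# Element orders of `Sp_{2n}(q)`, `q` even, `n ≤ 4`: the upper bound
-/

namespace Cfsg.Agent.Lib.Helper94.Iso8

open Module Polynomial
open LinearMap (BilinForm)
open Cfsg.Agent.Lib.Helper40.Symp Cfsg.Agent.Lib.Helper40.PrimeOrder Cfsg.Agent.Lib.Helper40.PSp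
open Cfsg.Agent.Lib.Helper39.SpT
open Cfsg.Agent.Lib.Helper94.EO

lemma exists_e (k : ℕ) (hk : 1 ≤ k) : ∃ e : ℕ, k ≤ 2 ^ e ∧ 2 ^ e < 2 * k := by
  rcases Nat.lt_or_ge 1 k with h1 | h1
  · refine ⟨Nat.clog 2 k, Nat.le_pow_clog (by norm_num) k, ?_⟩
    have h2 := Nat.pow_pred_clog_lt_self (b := 2) (by norm_num) h1
    have h3 : 0 < Nat.clog 2 k := Nat.clog_pos (by norm_num) h1
    obtain ⟨c, hc⟩ : ∃ c, Nat.clog 2 k = c + 1 := ⟨Nat.clog 2 k - 1, by omega⟩
    rw [hc] at h2 ⊢
    simp only [Nat.pred_succ] at h2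
    rw [pow_succ]
    omega
  · refine ⟨0, by simpa using h1, ?_⟩
    simp
    omega

section indec
variable {F : Type*} [Field F] [Fintype F] {V : Type*} [AddCommGroup V] [Module F V]
  [FiniteDimensional F V]
variable {ω : BilinForm F V} {T : Module.End F V}

/-- the shape of the order of an orthogonally indecomposable isometry in characteristic 2 -/
theorem indec_shape [Nontrivial V] [CharP F 2] (n : ℕ) (hn : 1 ≤ n)
    (hfr : finrank F V = 2 * n) (h : SpIso ω T) (a : ℕ) (ha : 0 < a) (hTa : T ^ a = 1)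
    (hind : ∀ U : Submodule F V, (∀ x ∈ U, T x ∈ U) → NondegOn ω U → U = ⊥ ∨ U = ⊤) :
    (∃ e : ℕ, 2 ^ e < 4 * n ∧ T ^ (2 ^ e) = 1) ∨
    (∃ d k e : ℕ, 1 ≤ d ∧ 1 ≤ k ∧ d * k ≤ n ∧ 2 ^ e < 2 * k ∧
      T ^ ((Fintype.card F ^ d + 1) * 2 ^ e) = 1) ∨
    (∃ d k e : ℕ, 1 ≤ d ∧ 1 ≤ k ∧ d * k ≤ n ∧ 2 ^ e < 2 * k ∧
      T ^ ((Fintype.card F ^ d - 1) * 2 ^ e) = 1) := by
  classical
  haveI : Fact (Nat.Prime 2) := ⟨Nat.prime_two⟩
  obtain ⟨π, k, k', hπm, hπi, hπ0, hk1, hπa, hPT, hPμ, hcases⟩ := struct_indec h a ha hTa hind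
  have hμ0 : minpoly F T ≠ 0 := minpoly.ne_zero (Algebra.IsIntegral.isIntegral T)
  have hπ'm := recip_monic π hπ0
  have hdegP : (π ^ k * (recip π) ^ k').natDegree = (k + k') * π.natDegree := by
    rw [natDegree_mul (pow_ne_zero _ hπm.ne_zero) (pow_ne_zero _ hπ'm.ne_zero), natDegree_pow,
      natDegree_pow, recip_natDegree π hπ0]
    ring
  have hdegle : (k + k') * π.natDegree ≤ 2 * n := by
    rw [← hdegP, ← hfr]
    exact (natDegree_le_of_dvd hPμ hμ0).trans natDegree_minpoly_le
  obtain ⟨e, hke, hek⟩ := exists_e k hk1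
  have hDpos : 0 < π.natDegree := Irreducible.natDegree_pos hπi
  have hq2 : 2 ≤ Fintype.card F := Fintype.one_lt_card
  have hX1m : (X - 1 : F[X]).Monic := by simpa using monic_X_sub_C (1 : F)
  have hX1d : (X - 1 : F[X]).natDegree = 1 := by simpa using natDegree_X_sub_C (1 : F)
  rcases hcases with ⟨hrec, hk'⟩ | ⟨hrec, hk'⟩
  · rw [hk', pow_zero, mul_one] at hPT
    rw [hk', add_zero] at hdegle
    by_cases h1 : π = X - 1
    · left
      have hk2n : k ≤ 2 * n := by
        rw [h1, hX1d, mul_one] at hdegle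
        exact hdegle
      refine ⟨e, by omega, ?_⟩
      have := pow_eq_one_of_dvd (T := T) 2 (π ^ k) hPT 1 e (by
        rw [pow_one, h1]
        exact pow_dvd_pow _ hke)
      rwa [one_mul] at this
    · right; left
      have hsq : ¬ π ∣ X ^ 2 - 1 := by
        intro hd
        have hfac : (X ^ 2 - 1 : F[X]) = (X - 1) * (X - 1) := by
          have h2 : (2 : F[X]) = 0 := by
            have h3 : ((2 : ℕ) : F) = 0 := CharP.cast_eq_zero F 2
            have h4 : (2 : F) = 0 := by exact_mod_cast h3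
            have : (2 : F[X]) = C (2 : F) := (map_ofNat C 2).symm
            rw [this, h4, map_zero]
          linear_combination (X - 1) * h2
        rw [hfac] at hd
        rcases hπi.prime.dvd_or_dvd hd with e4 | e4 <;>
        · apply h1
          exact (eq_of_monic_of_dvd_of_natDegree_le hπm hX1m e4
            (by rw [hX1d]; exact hDpos)).symm
      obtain ⟨d, hd2, hdvd⟩ := selfrecip_even π hπm hπi hπ0 hrec hsq
      have hd1 : 1 ≤ d := by omega
      have hdk : d * k ≤ n := by
        rw [hd2] at hdegle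
        have : 2 * (d * k) ≤ 2 * n := by
          calc 2 * (d * k) = k * (2 * d) := by ring
            _ ≤ 2 * n := hdegle
        omega
      refine ⟨d, k, e, hd1, hk1, hdk, hek, ?_⟩
      exact pow_eq_one_of_dvd 2 (π ^ k) hPT _ _
        ((pow_dvd_pow_of_dvd hdvd k).trans (pow_dvd_pow _ hke))
  · right; right
    rw [hk'] at hPT hdegle
    set M := Fintype.card F ^ π.natDegree - 1 with hM
    have hMpos : 0 < M := by
      have : 2 ^ 1 ≤ Fintype.card F ^ π.natDegree :=
        (Nat.pow_le_pow_left hq2 1).trans (Nat.pow_le_pow_right (by omega) hDpos)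
      omega
    have hd1 : π ∣ X ^ M - 1 := by
      rw [← root_pow_eq_one_iff π hπi]
      exact root_pow_card π hπm hπi hπ0
    have hd2 : recip π ∣ X ^ M - 1 :=
      recip_dvd π _ hπ0 (reverse_X_pow_sub_one M hMpos) hd1
    have hcop : IsCoprime π (recip π) := by
      rw [hπi.coprime_iff_not_dvd]
      intro hd
      apply hrec
      exact eq_of_monic_of_dvd_of_natDegree_le hπm hπ'm hd (by rw [recip_natDegree π hπ0])
    have hd3 : π * recip π ∣ X ^ M - 1 := hcop.mul_dvd hd1 hd2
    have hdk : π.natDegree * k ≤ n := by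
      have : 2 * (π.natDegree * k) ≤ 2 * n := by
        calc 2 * (π.natDegree * k) = (k + k) * π.natDegree := by ring
          _ ≤ 2 * n := hdegle
      omega
    refine ⟨π.natDegree, k, e, hDpos, hk1, hdk, hek, ?_⟩
    refine pow_eq_one_of_dvd 2 _ hPT _ _ ?_
    rw [← mul_pow]
    exact (pow_dvd_pow_of_dvd hd3 k).trans (pow_dvd_pow _ hke)

end indec

universe u v

section main
variable {F : Type v} [Field F] [Fintype F]

/-- every isometry of a symplectic space of dimension `2n ≤ 8` over a field with `q = r + 1`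
elements, `q` even, has order dividing one of the numbers in the list -/
theorem spec_upper [CharP F 2] (r : ℕ) (hq : Fintype.card F = r + 1) : ∀ n : ℕ, 1 ≤ n → n ≤ 4 →
    ∀ (V : Type u) [AddCommGroup V] [Module F V] [FiniteDimensional F V] (ω : BilinForm F V)
      (T : Module.End F V), finrank F V = 2 * n → SpIso ω T →
      ∃ v ∈ LstE n, T ^ (v.val r) = 1 := by
  intro n
  induction n using Nat.strong_induction_on with
  | _ n ih =>
    intro hn hn4 V _ _ _ ω T hfr h
    classical
    haveI : Nontrivial V := by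
      apply Module.nontrivial_of_finrank_pos (R := F)
      omega
    obtain ⟨a, ha, hTa⟩ := exists_pow_eq_one h
    by_cases hdec : ∃ U : Submodule F V, (∀ x ∈ U, T x ∈ U) ∧ NondegOn ω U ∧ U ≠ ⊥ ∧ U ≠ ⊤
    · obtain ⟨U, hU, hUnd, hU0, hU1⟩ := hdec
      have hinv : Inv ω T := h.iso
      have hW : ∀ x ∈ ω.orthogonal U, T x ∈ ω.orthogonal U := perp_invt hinv ha hTa U hU
      have hc : IsCompl U (ω.orthogonal U) := isCompl_perp h.alt hUnd
      have hW0 : ω.orthogonal U ≠ ⊥ := by
        intro h0
        apply hU1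
        have := hc.sup_eq_top
        rw [h0, sup_bot_eq] at this
        exact this
      have hb₁ : SpIso (ω.restrict U) (T.restrict hU) :=
        { alt := fun x => h.alt x.1
          nd := restrict_nondegenerate h.alt hUnd
          iso := by
            intro u w
            simp only [BilinForm.restrict_apply, LinearMap.domRestrict_apply,
              LinearMap.coe_restrict_apply]
            exact h.iso _ _ }
      have hb₂ : SpIso (ω.restrict (ω.orthogonal U)) (T.restrict hW) :=
        { alt := fun x => h.alt x.1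
          nd := restrict_nondegenerate h.alt (nondegOn_perp h.alt h.nd hUnd)
          iso := by
            intro u w
            simp only [BilinForm.restrict_apply, LinearMap.domRestrict_apply,
              LinearMap.coe_restrict_apply]
            exact h.iso _ _ }
      have hfr' : finrank F U + finrank F (ω.orthogonal U) = 2 * n := by
        rw [Submodule.finrank_add_eq_of_isCompl hc, hfr]
      obtain ⟨n₁, hn₁⟩ := Cfsg.Agent.Lib.Helper36.even_finrank_of_isAlt_nondegenerate
        (ω.restrict U) hb₁.alt hb₁.nd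
      obtain ⟨n₂, hn₂⟩ := Cfsg.Agent.Lib.Helper36.even_finrank_of_isAlt_nondegenerate
        (ω.restrict (ω.orthogonal U)) hb₂.alt hb₂.nd
      have hU0' : 0 < finrank F U := by
        rw [Module.finrank_pos_iff]
        exact Submodule.nontrivial_iff_ne_bot.mpr hU0
      have hW0' : 0 < finrank F (ω.orthogonal U) := by
        rw [Module.finrank_pos_iff]
        exact Submodule.nontrivial_iff_ne_bot.mpr hW0
      have hnn : n = n₁ + n₂ := by omega
      obtain ⟨v₁, hv₁, hT₁⟩ := ih n₁ (by omega) (by omega) (by omega) U (ω.restrict U)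
        (T.restrict hU) (by omega) hb₁
      obtain ⟨v₂, hv₂, hT₂⟩ := ih n₂ (by omega) (by omega) (by omega) (ω.orthogonal U)
        (ω.restrict (ω.orthogonal U)) (T.restrict hW) (by omega) hb₂
      obtain ⟨v, hv, hle₁, hle₂⟩ := LstE_merge n₁ n₂ (by omega) (by omega) (by omega) v₁ hv₁ v₂ hv₂
      rw [hnn]
      refine ⟨v, hv, ?_⟩
      have e1 : (T.restrict hU) ^ (v.val r) = (1 : F) • (1 : Module.End F U) := by
        rw [one_smul]
        exact pow_one_of_dvd _ hT₁ (EV.val_dvd r hle₁)
      have e2 : (T.restrict hW) ^ (v.val r) = (1 : F) • (1 : Module.End F (ω.orthogonal U)) := by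
        rw [one_smul]
        exact pow_one_of_dvd _ hT₂ (EV.val_dvd r hle₂)
      have := glue T U (ω.orthogonal U) hU hW hc.sup_eq_top (v.val r) 1 e1 e2
      rwa [one_smul] at this
    · have hind : ∀ U : Submodule F V, (∀ x ∈ U, T x ∈ U) → NondegOn ω U → U = ⊥ ∨ U = ⊤ := by
        intro U hU hUnd
        by_contra hc
        push Not at hc
        exact hdec ⟨U, hU, hUnd, hc.1, hc.2⟩
      rcases indec_shape n hn hfr h a ha hTa hind with ⟨e, he, hT⟩ | ⟨d, k, e, hd, hk, hdk, he, hT⟩ |
        ⟨d, k, e, hd, hk, hdk, he, hT⟩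
      · obtain ⟨v, hv, hle⟩ := LstE_unip n e hn hn4 he
        refine ⟨v, hv, pow_one_of_dvd _ hT ?_⟩
        have := EV.val_dvd r hle
        have h1 : (⟨e,0,0,0,0,0,0⟩ : EV).val r = 2 ^ e := by simp [EV.val]
        rwa [h1] at this
      · obtain ⟨v, hv, hle⟩ := LstE_plus n d k e hd hk hdk hn4 he
        refine ⟨v, hv, pow_one_of_dvd _ hT ?_⟩
        have hd4 : d ≤ 4 := le_trans (le_trans (Nat.le_mul_of_pos_right d hk) hdk) hn4
        have := EV.val_dvd r hle
        rwa [plusV_val r d e hd hd4, ← hq] at this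
      · obtain ⟨v, hv, hle⟩ := LstE_minus n d k e hd hk hdk hn4 he
        refine ⟨v, hv, pow_one_of_dvd _ hT ?_⟩
        have hd4 : d ≤ 4 := le_trans (le_trans (Nat.le_mul_of_pos_right d hk) hdk) hn4
        have := EV.val_dvd r hle
        rwa [minusV_val r d e hd hd4, ← hq] at this

end main

end Cfsg.Agent.Lib.Helper94.Iso8
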