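import Mathlib
import Cfsg.Agent.Lib.Helper94.Iso8Main
import Cfsg.Agent.Lib.Helper20.Iso8bC2
import Cfsg.Agent.Lib.Helper53.Iso8bC1
import Cfsg.Agent.Lib.Helper53.Iso8bC3
import Cfsg.Agent.Lib.Helper53.Iso8bC4
import Cfsg.Agent.Lib.Helper53.Iso8bC5
import Cfsg.Agent.Lib.Helper35.Iso8bAFF

set_option autoImplicit false
set_option linter.unusedVariables false
set_option linter.unusedSectionVars false
set_option linter.unusedSimpArgs false
set_option maxHeartbeats 1600000

/-!
# Elements of the Dickson kernel of `GO₈⁻(q)` realising the twelve maximal orders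
-/

namespace Cfsg.Agent.Lib.Helper94.Iso8

open Module Matrix

section gen
variable {F : Type*} [Field F]

lemma nsum_mul_of_pow {ι : Type} [Fintype ι] [DecidableEq ι] (A : Matrix ι ι F) (p : ℕ)
    (hA : A ^ p = 1) (t : ℕ) : nsum A (p * t) = t • nsum A p := by
  induction t with
  | zero => simp [nsum]
  | succ t ih =>
    have h1 : nsum A (p * (t + 1)) = nsum A (p * t) + ∑ i ∈ Finset.range p, A ^ (p * t + i) := by
      unfold nsum
      rw [mul_add, mul_one, Finset.sum_range_add]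
    have h2 : ∑ i ∈ Finset.range p, A ^ (p * t + i) = nsum A p := by
      unfold nsum
      apply Finset.sum_congr rfl
      intro i _
      rw [pow_add, pow_mul, hA, one_pow, one_mul]
    rw [h1, h2, ih, add_smul, one_smul]

lemma odd_smul_char2 [CharP F 2] {ι : Type} [Fintype ι] [DecidableEq ι] (M : Matrix ι ι F) (t : ℕ)
    (ht : Odd t) : t • M = M := by
  obtain ⟨c, rfl⟩ := ht
  have h2 : (2 : ℕ) • M = 0 := by
    ext i j
    have h3 : ((2 : ℕ) : F) = 0 := CharP.cast_eq_zero F 2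
    simp only [Matrix.smul_apply, Matrix.zero_apply, nsmul_eq_mul]
    rw [h3, zero_mul]
  rw [add_smul, one_smul, mul_smul, smul_comm, h2, smul_zero, zero_add]

lemma fixdim_one {ι : Type} [Fintype ι] [DecidableEq ι] :
    fixdim (1 : Matrix ι ι F) = Fintype.card ι := by
  unfold fixdim
  rw [Matrix.toLin'_one]
  have : (LinearMap.id : (ι → F) →ₗ[F] (ι → F)) - 1 = 0 := by
    apply LinearMap.ext
    intro x
    simp
  rw [this, LinearMap.ker_zero, finrank_top, Module.finrank_fintype_fun_eq_card]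

lemma matOf_one {ι : Type} [Fintype ι] [DecidableEq ι] {Q : (ι → F) → F} :
    matOf (1 : ↥(Cfsg.isometryGroup F Q)) = 1 := rfl

lemma mz2_eq_one_of_odd_pow (x : Multiplicative (ZMod 2)) (n : ℕ) (hn : Odd n) (h : x ^ n = 1) :
    x = 1 := by
  obtain ⟨c, rfl⟩ := hn
  have hsq : x ^ 2 = 1 := by
    have : ∀ y : Multiplicative (ZMod 2), y ^ 2 = 1 := by decide
    exact this x
  rw [pow_add, pow_mul, hsq, one_pow, one_mul, pow_one] at h
  exact h

lemma ofAdd_natCast_eq_one_iff (d : ℕ) :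
    Multiplicative.ofAdd ((d : ℕ) : ZMod 2) = 1 ↔ Even d := by
  rw [ofAdd_eq_one]
  exact ZMod.natCast_eq_zero_iff_even

/-- orders of block sums -/
lemma orderOf_of_pow_iff {G G₁ G₂ : Type*} [Group G] [Group G₁] [Group G₂] (g : G) (g₁ : G₁)
    (g₂ : G₂) (h : ∀ N : ℕ, g ^ N = 1 ↔ g₁ ^ N = 1 ∧ g₂ ^ N = 1) :
    orderOf g = Nat.lcm (orderOf g₁) (orderOf g₂) := by
  apply Nat.dvd_antisymm
  · rw [orderOf_dvd_iff_pow_eq_one, h]
    exact ⟨orderOf_dvd_iff_pow_eq_one.1 (Nat.dvd_lcm_left _ _),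
      orderOf_dvd_iff_pow_eq_one.1 (Nat.dvd_lcm_right _ _)⟩
  · have := (h (orderOf g)).1 (pow_orderOf_eq_one g)
    exact Nat.lcm_dvd (orderOf_dvd_of_pow_eq_one this.1) (orderOf_dvd_of_pow_eq_one this.2)

end gen

section comb
variable {F : Type*} [Field F] [CharP F 2]

/-- the fixed space of an odd-order element of the plus part is even-dimensional -/
lemma even_fix_plus (a b : F) (k m : ℕ)
    (D : ↥(Cfsg.isometryGroup F (Cfsg.quadFormMinus (k + m) F a b)) →* Multiplicative (ZMod 2))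
    (hD : ∀ g, D g = Multiplicative.ofAdd ((fixdim (matOf g) : ℕ) : ZMod 2))
    (s : ↥(Cfsg.isometryGroup F (Cfsg.quadFormPlus k F))) (hs : Odd (orderOf s)) :
    Even (fixdim (matOf s)) := by
  obtain ⟨g', hpow, hfix, -⟩ := blk_pm_rich a b k m s
    (1 : ↥(Cfsg.isometryGroup F (Cfsg.quadFormMinus m F a b)))
  have hord : orderOf g' = orderOf s := by
    rw [orderOf_of_pow_iff g' s _ hpow, orderOf_one, Nat.lcm_one_right]
  have hDg : D g' = 1 := by
    apply mz2_eq_one_of_odd_pow (D g') (orderOf g') (by rw [hord]; exact hs)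
    rw [← map_pow, pow_orderOf_eq_one, map_one]
  rw [hD, ofAdd_natCast_eq_one_iff, hfix, matOf_one, fixdim_one] at hDg
  have hc : Even (Fintype.card ((Fin m ⊕ Fin m) ⊕ Fin 2)) := by
    simp only [Fintype.card_sum, Fintype.card_fin]
    exact ⟨m + 1, by ring⟩
  exact (Nat.even_add.1 hDg).2 hc

/-- the fixed space of an odd-order element of the minus part is even-dimensional -/
lemma even_fix_minus (a b : F) (k m : ℕ)
    (D : ↥(Cfsg.isometryGroup F (Cfsg.quadFormMinus (k + m) F a b)) →* Multiplicative (ZMod 2))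
    (hD : ∀ g, D g = Multiplicative.ofAdd ((fixdim (matOf g) : ℕ) : ZMod 2))
    (s : ↥(Cfsg.isometryGroup F (Cfsg.quadFormMinus m F a b))) (hs : Odd (orderOf s)) :
    Even (fixdim (matOf s)) := by
  obtain ⟨g', hpow, hfix, -⟩ := blk_pm_rich a b k m
    (1 : ↥(Cfsg.isometryGroup F (Cfsg.quadFormPlus k F))) s
  have hord : orderOf g' = orderOf s := by
    rw [orderOf_of_pow_iff g' _ s hpow, orderOf_one, Nat.lcm_one_left]
  have hDg : D g' = 1 := by
    apply mz2_eq_one_of_odd_pow (D g') (orderOf g') (by rw [hord]; exact hs)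
    rw [← map_pow, pow_orderOf_eq_one, map_one]
  rw [hD, ofAdd_natCast_eq_one_iff, hfix, matOf_one, fixdim_one] at hDg
  have hc : Even (Fintype.card (Fin k ⊕ Fin k)) := by
    simp only [Fintype.card_sum, Fintype.card_fin]
    exact ⟨k, rfl⟩
  exact (Nat.even_add.1 hDg).1 hc

/-- a 2-part on the plus side and an odd part on the minus side -/
theorem combine_plus (a b : F) (k m : ℕ)
    (D : ↥(Cfsg.isometryGroup F (Cfsg.quadFormMinus (k + m) F a b)) →* Multiplicative (ZMod 2))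
    (hD : ∀ g, D g = Multiplicative.ofAdd ((fixdim (matOf g) : ℕ) : ZMod 2))
    (u : ↥(Cfsg.isometryGroup F (Cfsg.quadFormPlus k F)))
    (s : ↥(Cfsg.isometryGroup F (Cfsg.quadFormMinus m F a b))) (c : ℕ)
    (hu : orderOf u = 2 ^ c) (hue : Even (fixdim (matOf u))) (hun : nsum (matOf u) (2 ^ c) ≠ 0)
    (hs : Odd (orderOf s)) :
    ∃ g : ↥(Cfsg.isometryGroup F (Cfsg.quadFormMinus (k + m) F a b)), D g = 1 ∧
      orderOf g = 2 ^ c * orderOf s ∧ nsum (matOf g) (orderOf g) ≠ 0 := by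
  obtain ⟨g, hpow, hfix, hns⟩ := blk_pm_rich a b k m u s
  have hcop : Nat.Coprime (2 ^ c) (orderOf s) := Nat.Coprime.pow_left _ (Nat.coprime_two_left.2 hs)
  have hord : orderOf g = 2 ^ c * orderOf s := by
    rw [orderOf_of_pow_iff g u s hpow, hu, hcop.lcm_eq_mul]
  refine ⟨g, ?_, hord, ?_⟩
  · rw [hD, ofAdd_natCast_eq_one_iff, hfix]
    exact hue.add (even_fix_minus a b k m D hD s hs)
  · intro h0
    have h1 := ((hns _).1 h0).1
    rw [hord] at h1
    have hup : (matOf u) ^ (2 ^ c) = 1 := by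
      rw [← hu]
      unfold matOf
      rw [← Units.val_pow_eq_pow_val, ← Subgroup.coe_pow, pow_orderOf_eq_one]
      rfl
    rw [nsum_mul_of_pow _ _ hup, odd_smul_char2 _ _ hs] at h1
    exact hun h1

/-- an odd part on the plus side and a 2-part on the minus side -/
theorem combine_minus (a b : F) (k m : ℕ)
    (D : ↥(Cfsg.isometryGroup F (Cfsg.quadFormMinus (k + m) F a b)) →* Multiplicative (ZMod 2))
    (hD : ∀ g, D g = Multiplicative.ofAdd ((fixdim (matOf g) : ℕ) : ZMod 2))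
    (s : ↥(Cfsg.isometryGroup F (Cfsg.quadFormPlus k F)))
    (u : ↥(Cfsg.isometryGroup F (Cfsg.quadFormMinus m F a b))) (c : ℕ)
    (hu : orderOf u = 2 ^ c) (hue : Even (fixdim (matOf u))) (hun : nsum (matOf u) (2 ^ c) ≠ 0)
    (hs : Odd (orderOf s)) :
    ∃ g : ↥(Cfsg.isometryGroup F (Cfsg.quadFormMinus (k + m) F a b)), D g = 1 ∧
      orderOf g = 2 ^ c * orderOf s ∧ nsum (matOf g) (orderOf g) ≠ 0 := by
  obtain ⟨g, hpow, hfix, hns⟩ := blk_pm_rich a b k m s u
  have hcop : Nat.Coprime (2 ^ c) (orderOf s) := Nat.Coprime.pow_left _ (Nat.coprime_two_left.2 hs)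
  have hord : orderOf g = 2 ^ c * orderOf s := by
    rw [orderOf_of_pow_iff g s u hpow, hu, Nat.lcm_comm, hcop.lcm_eq_mul]
  refine ⟨g, ?_, hord, ?_⟩
  · rw [hD, ofAdd_natCast_eq_one_iff, hfix]
    exact (even_fix_plus a b k m D hD s hs).add hue
  · intro h0
    have h1 := ((hns _).1 h0).2
    rw [hord] at h1
    have hup : (matOf u) ^ (2 ^ c) = 1 := by
      rw [← hu]
      unfold matOf
      rw [← Units.val_pow_eq_pow_val, ← Subgroup.coe_pow, pow_orderOf_eq_one]
      rfl
    rw [nsum_mul_of_pow _ _ hup, odd_smul_char2 _ _ hs] at h1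
    exact hun h1

end comb

end Cfsg.Agent.Lib.Helper94.Iso8
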