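import Mathlib
import Cfsg.Agent.Lib.Helper61.Iso8bDKcore
import Cfsg.Agent.Lib.Helper45.Iso8bD1
import Cfsg.Agent.Lib.Helper69.Iso8bD3

/-!
# The Dickson invariant of `GO⁻_{2m+2}(q)`, `q` even (wrapper: `dk_core` + `fix_parity` + `refl_gen`)
-/

set_option autoImplicit false

namespace Cfsg.Agent.Lib.Helper94.Iso8

open Module QuadraticMap Cfsg.Agent.Lib.Helper43 Cfsg.Agent.Lib.Helper8

theorem dickson_minus_w {F : Type*} [Field F] [Fintype F] [CharP F 2] (a b : F)
    (han : ∀ z₁ z₂ : F, z₁ ^ 2 + a * z₁ * z₂ + b * z₂ ^ 2 = 0 → z₁ = 0 ∧ z₂ = 0) (m : ℕ) :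
    ∃ D : ↥(Cfsg.isometryGroup F (Cfsg.quadFormMinus m F a b)) →* Multiplicative (ZMod 2),
      ∀ g, D g = Multiplicative.ofAdd
        ((fixdim (matOf g) : ℕ) : ZMod 2) := by
  have h2 : (2 : F) = 0 := CharTwo.two_eq_zero
  have ha : a ≠ 0 := by
    rintro rfl
    obtain ⟨e, he⟩ := FiniteField.isSquare_of_char_two (ringChar.eq F 2) b
    have := han e 1 (by rw [he]; linear_combination (e * e) * h2)
    exact one_ne_zero this.2
  have hnd : (polarBilin (minusForm m F a b)).Nondegenerate :=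
    minusForm_nondegenerate m F a b h2 ha
  refine dk_core a b han m h2 (fun g v hv => fix_parity h2 _ hnd g v hv) ?_
  refine refl_gen h2 (minusForm 0 F a b) (minusForm_zero_nondegenerate F a b han)
    (fun x hx => minusForm_zero_anisotropic F a b han x hx) ?_ m _ (minusForm m F a b)
    (minusIncl m F) _ _ (minus_family m F a b)
  rw [Module.finrank_fintype_fun_eq_card]
  simp
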