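import Mathlib
import Cfsg.Agent.Lib.Helper94.Iso8bCon

set_option autoImplicit false
set_option linter.unusedVariables false
set_option linter.unusedSectionVars false
set_option linter.unusedSimpArgs false
set_option maxHeartbeats 1600000

/-!
# The twelve maximal orders inside the Dickson kernel (possibly after doubling)
-/

namespace Cfsg.Agent.Lib.Helper94.Iso8

open Module Matrix

/-- divisors of element orders are element orders -/
theorem mem_range_orderOf_of_dvd {G : Type*} [Group G] (x : G) (n : ℕ) (hx : orderOf x ≠ 0)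
    (hn : n ∣ orderOf x) : n ∈ Set.range (orderOf : G → ℕ) :=
  ⟨x ^ (orderOf x / n), orderOf_pow_orderOf_div hx hn⟩

section constr
variable {F : Type*} [Field F] [Fintype F] [CharP F 2]

lemma odd_lcm (x y : ℕ) (hx : Odd x) (hy : Odd y) : Odd (Nat.lcm x y) := by
  have h : Nat.lcm x y ∣ x * y := Nat.lcm_dvd (Dvd.intro _ rfl) (Dvd.intro_left _ rfl)
  exact Odd.of_dvd_nat (hx.mul hy) h

theorem exists_in_kernel (a b : F)
    (han : ∀ z₁ z₂ : F, z₁ ^ 2 + a * z₁ * z₂ + b * z₂ ^ 2 = 0 → z₁ = 0 ∧ z₂ = 0)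
    (r : ℕ) (hq : Fintype.card F = r + 1)
    (D : ↥(Cfsg.isometryGroup F (Cfsg.quadFormMinus 3 F a b)) →* Multiplicative (ZMod 2))
    (hD : ∀ g, D g = Multiplicative.ofAdd ((fixdim (matOf g) : ℕ) : ZMod 2))
    (v : EV) (hv : v ∈ LstE 4) :
    ∃ g : ↥(Cfsg.isometryGroup F (Cfsg.quadFormMinus 3 F a b)), D g = 1 ∧
      (v.val r ∣ orderOf g ∨
        (v.val r ∣ 2 * orderOf g ∧ nsum (matOf g) (orderOf g) ≠ 0)) := by
  classical
  have h2 : (2 : F) = 0 := by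
    have := CharP.cast_eq_zero F 2
    exact_mod_cast this
  have ha : a ≠ 0 := by
    rintro rfl
    obtain ⟨e, he⟩ := FiniteField.isSquare_of_char_two (ringChar.eq F 2) b
    have := han e 1 (by rw [he]; linear_combination (e * e) * h2)
    exact one_ne_zero this.2
  have hrodd : Odd r := by
    obtain ⟨n, -, hn⟩ := FiniteField.card F 2
    have h2q : 2 ∣ r + 1 := by
      rw [← hq, hn]
      exact dvd_pow_self 2 n.ne_zero
    rcases Nat.even_or_odd r with he | ho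
    · exfalso
      obtain ⟨c, hc⟩ := he
      omega
    · exact ho
  have hq1 : Even (r + 1) := hrodd.add_one
  have o_r2 : Odd (r + 2) := by
    obtain ⟨c, hc⟩ := hrodd
    exact ⟨c + 1, by omega⟩
  have hq1sq : Even ((r + 1) ^ 2) := (Nat.even_pow.2 ⟨hq1, by norm_num⟩)
  have o_4 : Odd ((r + 1) ^ 2 + 1) := hq1sq.add_one
  have o_6 : Odd (r ^ 2 + r + 1) := by
    have : Even (r ^ 2 + r) := by
      have : r ^ 2 + r = r * (r + 1) := by ring
      rw [this]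
      exact hq1.mul_left r
    exact this.add_one
  have o_3 : Odd ((r + 1) ^ 2 + (r + 1) + 1) := (hq1sq.add hq1).add_one
  have o_8 : Odd ((r + 1) ^ 4 + 1) := (Nat.even_pow.2 ⟨hq1, by norm_num⟩).add_one
  -- the building blocks
  have MT0 : HasMinus F a b 0 (r + 2) := by
    have := has_MT a b han 0
    rw [hq] at this
    have e : (r + 1) ^ (0 + 1) + 1 = r + 2 := by ring
    rwa [e] at this
  have MT1 : HasMinus F a b 1 ((r + 1) ^ 2 + 1) := by
    have := has_MT a b han 1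
    rwa [hq] at this
  have MT2 : HasMinus F a b 2 ((r + 2) * (r ^ 2 + r + 1)) := by
    have := has_MT a b han 2
    rw [hq] at this
    have e : (r + 1) ^ (2 + 1) + 1 = (r + 2) * (r ^ 2 + r + 1) := by ring
    rwa [e] at this
  have PT1 : HasPlus F 1 r := by
    have := has_PT (F := F) 1 le_rfl
    rw [hq, sub_one_eq ((r + 1) ^ 1) r (by ring)] at this
    exact this
  have PT3 : HasPlus F 3 (r * ((r + 1) ^ 2 + (r + 1) + 1)) := by
    have := has_PT (F := F) 3 (by norm_num)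
    rw [hq, sub_one_eq ((r + 1) ^ 3) (r * ((r + 1) ^ 2 + (r + 1) + 1)) (by ring)] at this
    exact this
  have c2 : ∀ y, Odd y → Nat.Coprime 2 y := fun y hy => Nat.coprime_two_left.2 hy
  -- the trivial 2-parts
  have one_plus : ∀ k : ℕ, 1 ≤ k →
      orderOf (1 : ↥(Cfsg.isometryGroup F (Cfsg.quadFormPlus k F))) = 2 ^ 0 ∧
      Even (fixdim (matOf (1 : ↥(Cfsg.isometryGroup F (Cfsg.quadFormPlus k F))))) ∧
      nsum (matOf (1 : ↥(Cfsg.isometryGroup F (Cfsg.quadFormPlus k F)))) (2 ^ 0) ≠ 0 := by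
    intro k hk
    refine ⟨by simp, ?_, ?_⟩
    · rw [matOf_one, fixdim_one]
      simp only [Fintype.card_sum, Fintype.card_fin]
      exact ⟨k, rfl⟩
    · rw [matOf_one]
      have : Nonempty (Fin k ⊕ Fin k) := ⟨Sum.inl ⟨0, hk⟩⟩
      simp [nsum]
  have one_minus : ∀ m : ℕ,
      orderOf (1 : ↥(Cfsg.isometryGroup F (Cfsg.quadFormMinus m F a b))) = 2 ^ 0 ∧
      Even (fixdim (matOf (1 : ↥(Cfsg.isometryGroup F (Cfsg.quadFormMinus m F a b))))) ∧
      nsum (matOf (1 : ↥(Cfsg.isometryGroup F (Cfsg.quadFormMinus m F a b)))) (2 ^ 0) ≠ 0 := by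
    intro m
    refine ⟨by simp, ?_, ?_⟩
    · rw [matOf_one, fixdim_one]
      simp only [Fintype.card_sum, Fintype.card_fin]
      exact ⟨m + 1, by ring⟩
    · rw [matOf_one]
      have : Nonempty ((Fin m ⊕ Fin m) ⊕ Fin 2) := ⟨Sum.inr 0⟩
      simp [nsum]
  -- odd values: take a power of the element found before
  have oddcase : ∀ w : EV, w ∈ LstE 4 → Odd (w.val r) →
      ∃ g : ↥(Cfsg.isometryGroup F (Cfsg.quadFormMinus 3 F a b)), D g = 1 ∧
        (w.val r ∣ orderOf g ∨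
          (w.val r ∣ 2 * orderOf g ∧ nsum (matOf g) (orderOf g) ≠ 0)) := by
    intro w hw hodd
    obtain ⟨h, hh⟩ := exists_dvd_order a b han r hq w hw
    have hpos : orderOf h ≠ 0 := (orderOf_pos h).ne'
    have hord : orderOf (h ^ (orderOf h / w.val r)) = w.val r := orderOf_pow_orderOf_div hpos hh
    refine ⟨h ^ (orderOf h / w.val r), ?_, Or.inl (by rw [hord])⟩
    apply mz2_eq_one_of_odd_pow _ (w.val r) hodd
    have h5 : (h ^ (orderOf h / w.val r)) ^ (w.val r) = 1 := by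
      have h6 := pow_orderOf_eq_one (h ^ (orderOf h / w.val r))
      rwa [hord] at h6
    rw [← map_pow, h5, map_one]
  simp only [LstE, List.mem_cons, List.not_mem_nil, or_false] at hv
  rcases hv with rfl | rfl | rfl | rfl | rfl | rfl | rfl | rfl | rfl | rfl | rfl | rfl
  · -- q^4 + 1
    apply oddcase _ (by simp [LstE])
    have e : (⟨0,0,0,0,0,0,1⟩ : EV).val r = (r + 1) ^ 4 + 1 := by simp [EV.val]
    rw [e]; exact o_8
  · apply oddcase _ (by simp [LstE])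
    have e : (⟨0,1,1,0,1,0,0⟩ : EV).val r = (r * (r + 2)) * ((r + 1) ^ 2 + 1) := by
      simp [EV.val]
    rw [e]; exact (hrodd.mul o_r2).mul o_4
  · apply oddcase _ (by simp [LstE])
    have e : (⟨0,1,1,0,0,1,0⟩ : EV).val r = r * ((r + 2) * (r ^ 2 + r + 1)) := by
      simp [EV.val]; ring
    rw [e]; exact hrodd.mul (o_r2.mul o_6)
  · apply oddcase _ (by simp [LstE])
    have e : (⟨0,1,1,1,0,0,0⟩ : EV).val r = (r * ((r + 1) ^ 2 + (r + 1) + 1)) * (r + 2) := by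
      simp [EV.val]; ring
    rw [e]; exact (hrodd.mul o_3).mul o_r2
  · -- 2(q^3 + 1): 1 on H, MT(3) on the rest
    obtain ⟨s, hs⟩ := MT2
    obtain ⟨h1, h2', h3⟩ := one_plus 1 le_rfl
    obtain ⟨g, hg1, hg2, hg3⟩ := combine_plus a b 1 2 D hD 1 s 0 h1 h2' h3
      (by rw [hs]; exact o_r2.mul o_6)
    refine ⟨g, hg1, Or.inr ⟨?_, hg3⟩⟩
    have e : (⟨1,0,1,0,0,1,0⟩ : EV).val r = 2 * ((r + 2) * (r ^ 2 + r + 1)) := by
      simp [EV.val]; ring
    rw [e, hg2, hs]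
    simp
  · -- 2(q^3 - 1): PT(3) on H^3, 1 on A
    obtain ⟨s, hs⟩ := PT3
    obtain ⟨h1, h2', h3⟩ := one_minus 0
    obtain ⟨g, hg1, hg2, hg3⟩ := combine_minus a b 3 0 D hD s 1 0 h1 h2' h3
      (by rw [hs]; exact hrodd.mul o_3)
    refine ⟨g, hg1, Or.inr ⟨?_, hg3⟩⟩
    have e : (⟨1,1,0,1,0,0,0⟩ : EV).val r = 2 * (r * ((r + 1) ^ 2 + (r + 1) + 1)) := by
      simp [EV.val]; ring
    rw [e, hg2, hs]
    simp
  · -- 2(q^2 + 1)(q + 1): MT(1) ⊕ MT(2) on a plus 6-space, 1 on A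
    obtain ⟨s, hs⟩ := blk_mm_gen a b ha 0 1 _ _ MT0 MT1
    obtain ⟨h1, h2', h3⟩ := one_minus 0
    obtain ⟨g, hg1, hg2, hg3⟩ := combine_minus a b 3 0 D hD s 1 0 h1 h2' h3
      (by rw [hs]; exact odd_lcm _ _ o_r2 o_4)
    refine ⟨g, hg1, Or.inr ⟨?_, hg3⟩⟩
    have e : (⟨1,0,1,0,1,0,0⟩ : EV).val r = 2 * ((r + 2) * ((r + 1) ^ 2 + 1)) := by
      simp [EV.val]; ring
    rw [e, hg2, hs]
    simp only [pow_zero, one_mul]
    exact Nat.mul_dvd_mul_left 2 (mul_dvd_lcm_of _ _ _ _ dvd_rfl dvd_rfl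
      (cop_rel _ _ r 1 o_4 (by ring)))
  · -- 2(q^2 + 1)(q - 1): 1 on H, PT(1) ⊕ MT(2) on the rest
    obtain ⟨s, hs⟩ := blk_pm a b 1 1 _ _ PT1 MT1
    obtain ⟨h1, h2', h3⟩ := one_plus 1 le_rfl
    obtain ⟨g, hg1, hg2, hg3⟩ := combine_plus a b 1 2 D hD 1 s 0 h1 h2' h3
      (by rw [hs]; exact odd_lcm _ _ hrodd o_4)
    refine ⟨g, hg1, Or.inr ⟨?_, hg3⟩⟩
    have e : (⟨1,1,0,0,1,0,0⟩ : EV).val r = 2 * (r * ((r + 1) ^ 2 + 1)) := by
      simp [EV.val]; ring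
    rw [e, hg2, hs]
    simp only [pow_zero, one_mul]
    exact Nat.mul_dvd_mul_left 2 (mul_dvd_lcm_of _ _ _ _ dvd_rfl dvd_rfl
      (cop_rel _ _ (r + 2) 1 o_4 (by ring)))
  · -- 4(q^2 + 1): swap ⊕ swap on H^2, MT(2) on the rest
    obtain ⟨s, hs⟩ := MT1
    obtain ⟨u, hu1, hu2, hu3⟩ := exists_u_ss (F := F)
    obtain ⟨g, hg1, hg2, hg3⟩ := combine_plus a b 2 1 D hD u s 1 (by rw [hu1]; norm_num) hu2
      (by simpa using hu3) (by rw [hs]; exact o_4)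
    refine ⟨g, hg1, Or.inr ⟨?_, hg3⟩⟩
    have e : (⟨2,0,0,0,1,0,0⟩ : EV).val r = 2 * (2 ^ 1 * ((r + 1) ^ 2 + 1)) := by
      simp [EV.val]; ring
    rw [e, hg2, hs]
  · -- 4(q^2 - 1): swap ⊕ swap on H^2, PT(1) ⊕ MT(1) on the rest
    obtain ⟨s, hs⟩ := blk_pm a b 1 0 _ _ PT1 MT0
    obtain ⟨u, hu1, hu2, hu3⟩ := exists_u_ss (F := F)
    obtain ⟨g, hg1, hg2, hg3⟩ := combine_plus a b 2 1 D hD u s 1 (by rw [hu1]; norm_num) hu2
      (by simpa using hu3) (by rw [hs]; exact odd_lcm _ _ hrodd o_r2)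
    refine ⟨g, hg1, Or.inr ⟨?_, hg3⟩⟩
    have e : (⟨2,1,1,0,0,0,0⟩ : EV).val r = 2 * (2 ^ 1 * (r * (r + 2))) := by
      simp [EV.val]; ring
    rw [e, hg2, hs]
    exact Nat.mul_dvd_mul_left 2 (Nat.mul_dvd_mul_left _ (mul_dvd_lcm_of _ _ _ _ dvd_rfl dvd_rfl
      (cop_rel _ _ 1 1 o_r2 (by ring))))
  · -- 8(q + 1): (4-cycle ⊕ swap) on H^3, MT(1) on A
    obtain ⟨s, hs⟩ := MT0
    obtain ⟨u, hu1, hu2, hu3⟩ := exists_u_cs (F := F)
    obtain ⟨g, hg1, hg2, hg3⟩ := combine_plus a b 3 0 D hD u s 2 (by rw [hu1]; norm_num) hu2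
      (by simpa using hu3) (by rw [hs]; exact o_r2)
    refine ⟨g, hg1, Or.inr ⟨?_, hg3⟩⟩
    have e : (⟨3,0,1,0,0,0,0⟩ : EV).val r = 2 * (2 ^ 2 * (r + 2)) := by
      simp [EV.val]; ring
    rw [e, hg2, hs]
  · -- 8(q - 1): PT(1) on H, (4-cycle ⊕ reflection) on the rest
    obtain ⟨s, hs⟩ := PT1
    obtain ⟨u, hu1, hu2, hu3⟩ := exists_u_cr a b ha
    obtain ⟨g, hg1, hg2, hg3⟩ := combine_minus a b 1 2 D hD s u 2 (by rw [hu1]; norm_num) hu2
      (by simpa using hu3) (by rw [hs]; exact hrodd)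
    refine ⟨g, hg1, Or.inr ⟨?_, hg3⟩⟩
    have e : (⟨3,1,0,0,0,0,0⟩ : EV).val r = 2 * (2 ^ 2 * r) := by
      simp [EV.val]; ring
    rw [e, hg2, hs]

end constr

end Cfsg.Agent.Lib.Helper94.Iso8
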