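import Mathlib
import Cfsg.Agent.Lib.Helper94.Iso8U
import Cfsg.Agent.Lib.Helper94.Iso8bDefs

set_option autoImplicit false
set_option linter.unusedVariables false
set_option linter.unusedSectionVars false
set_option linter.unusedSimpArgs false
set_option linter.style.haveILetI false
set_option maxHeartbeats 1600000

/-!
# Isometries with even-dimensional fixed space and nonzero norm sum
-/

namespace Cfsg.Agent.Lib.Helper94.Iso8

open Module Polynomial
open LinearMap (BilinForm)
open Cfsg.Agent.Lib.Helper40.Symp Cfsg.Agent.Lib.Helper40.PrimeOrder Cfsg.Agent.Lib.Helper40.PSp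
open Cfsg.Agent.Lib.Helper39.SpT
open Cfsg.Agent.Lib.Helper94.EO

section chain
variable {F : Type*} [Field F] {V : Type*} [AddCommGroup V] [Module F V] [FiniteDimensional F V]

/-- the kernels of the powers of `T - 1` -/
noncomputable def Kker (T : Module.End F V) (i : ℕ) : Submodule F V :=
  LinearMap.ker ((T - 1) ^ i)

lemma Kker_mono (T : Module.End F V) (i : ℕ) : Kker T i ≤ Kker T (i + 1) := by
  intro x hx
  unfold Kker at hx ⊢
  rw [LinearMap.mem_ker] at hx ⊢
  rw [pow_succ', Module.End.mul_apply, hx, map_zero]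

/-- a Jordan chain of length `p` forces the kernel of `(T-1)^p` to be large -/
lemma chain_bound (T : Module.End F V) (p : ℕ) (hp : 1 ≤ p) (y : V)
    (hy0 : ((T - 1) ^ p) y = 0) (hy : ((T - 1) ^ (p - 1)) y ≠ 0) :
    ∀ i : ℕ, 1 ≤ i → i ≤ p → finrank F (Kker T 1) + (i - 1) ≤ finrank F (Kker T i) := by
  intro i hi1 hip
  induction i, hi1 using Nat.le_induction with
  | base => simp
  | succ i hi1 ih =>
    have hlt : Kker T i < Kker T (i + 1) := by
      refine lt_of_le_of_ne (Kker_mono T i) ?_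
      intro heq
      -- the witness
      have hw : ((T - 1) ^ (p - (i + 1))) y ∈ Kker T (i + 1) := by
        unfold Kker
        rw [LinearMap.mem_ker, ← Module.End.mul_apply, ← pow_add]
        have : i + 1 + (p - (i + 1)) = p := by omega
        rw [this]
        exact hy0
      rw [← heq] at hw
      unfold Kker at hw
      rw [LinearMap.mem_ker, ← Module.End.mul_apply, ← pow_add] at hw
      have : i + (p - (i + 1)) = p - 1 := by omega
      rw [this] at hw
      exact hy hw
    have h1 := Submodule.finrank_lt_finrank_of_lt hlt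
    have h2 := ih (by omega)
    omega

end chain

universe u v

section main
variable {F : Type v} [Field F] [Fintype F]

/-- the structure theorem: if `T` is an isometry of a symplectic space of dimension `8` over a
field with `q = r + 1` elements, `q` even, of order `n`, with even-dimensional fixed space and
nonzero norm sum, then `2n` divides one of the twelve maximal orders -/
theorem sub_spec_abs [CharP F 2] (r : ℕ) (hq : Fintype.card F = r + 1)
    (V : Type u) [AddCommGroup V] [Module F V] [FiniteDimensional F V] (ω : BilinForm F V)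
    (T : Module.End F V) (hfr : finrank F V = 8) (h : SpIso ω T) (n : ℕ) (hn : 0 < n)
    (hTn : T ^ n = 1) (hmin : ∀ m : ℕ, T ^ m = 1 → n ∣ m)
    (heven : Even (finrank F (LinearMap.ker (T - 1))))
    (hN : (∑ i ∈ Finset.range n, T ^ i) ≠ 0) :
    ∃ v ∈ LstE 4, 2 * n ∣ v.val r := by
  classical
  haveI : Fact (Nat.Prime 2) := ⟨Nat.prime_two⟩
  obtain ⟨a, n', hn'odd, hnn⟩ := Nat.exists_eq_two_pow_mul_odd hn.ne'
  set p := 2 ^ a with hp
  have hp1 : 1 ≤ p := Nat.one_le_two_pow
  have h2F : (2 : F) = 0 := by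
    have := CharP.cast_eq_zero F 2
    exact_mod_cast this
  -- polynomials
  set C : F[X] := ∑ i ∈ Finset.range n', X ^ i with hC
  have hXC : (X - 1 : F[X]) * C = X ^ n' - 1 := by
    rw [hC]
    exact mul_geom_sum X n'
  have hPQ : (X ^ p - 1 : F[X]) * C ^ p = X ^ n - 1 := by
    have h1 : (X ^ p - 1 : F[X]) = (X - 1) ^ p := by
      rw [hp, sub_pow_char_pow, one_pow]
    rw [h1, ← mul_pow, hXC, hp, sub_pow_char_pow, one_pow, ← pow_mul, hnn, mul_comm]
  have hXp : (X ^ p - 1 : F[X]) = (X - 1) ^ p := by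
    rw [hp, sub_pow_char_pow, one_pow]
  -- coprimality
  have hCeval : C.eval 1 = 1 := by
    rw [hC, eval_finsetSum]
    simp only [eval_pow, eval_X, one_pow, Finset.sum_const, Finset.card_range, nsmul_eq_mul,
      mul_one]
    obtain ⟨c, hc⟩ := hn'odd
    rw [hc]
    push_cast
    linear_combination (c : F) * h2F
  have hcop1 : IsCoprime (X - 1 : F[X]) C := by
    have hd : (X - Polynomial.C (1 : F)) ∣ C - Polynomial.C (C.eval 1) :=
      Polynomial.X_sub_C_dvd_sub_C_eval
    rw [hCeval, map_one] at hd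
    obtain ⟨Qq, hQq⟩ := hd
    exact ⟨-Qq, 1, by linear_combination hQq⟩
  have hcop : IsCoprime (X ^ p - 1 : F[X]) (C ^ p) := by
    rw [hXp]
    exact hcop1.pow
  -- the subspaces
  set U : Submodule F V := LinearMap.ker (aeval T (X ^ p - 1 : F[X])) with hU
  set V' : Submodule F V := LinearMap.ker (aeval T (C ^ p)) with hV'
  have hsup : U ⊔ V' = ⊤ := by
    rw [hU, hV', Polynomial.sup_ker_aeval_eq_ker_aeval_mul_of_coprime T hcop, hPQ]
    rw [eq_top_iff]
    intro x _
    rw [LinearMap.mem_ker]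
    simp [hTn]
  have hUmem : ∀ x, x ∈ U ↔ (T ^ p) x = x := by
    intro x
    rw [hU, LinearMap.mem_ker]
    simp [sub_eq_zero]
  have hUinv : ∀ x ∈ U, T x ∈ U := by
    intro x hx
    rw [hUmem] at hx ⊢
    rw [← Module.End.mul_apply, ← pow_succ, pow_succ', Module.End.mul_apply, hx]
  -- orthogonality
  have horth : ∀ x ∈ U, ∀ y ∈ V', ω x y = 0 := by
    intro x hx y hy
    have hrev : (X ^ p - 1 : F[X]).reverse = -(X ^ p - 1) := reverse_X_pow_sub_one p hp1
    refine orth_of_coprime h (X ^ p - 1) (C ^ p) ?_ x y (LinearMap.mem_ker.mp hx)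
      (LinearMap.mem_ker.mp hy)
    rw [hrev]
    exact hcop.neg_left
  have hUnd : NondegOn ω U := by
    intro x hx hxU
    apply h.nd.1 x
    intro z
    have hz : z ∈ U ⊔ V' := by rw [hsup]; trivial
    obtain ⟨u, hu, w, hw, rfl⟩ := Submodule.mem_sup.mp hz
    rw [map_add, hxU u hu, horth x hx w hw, add_zero]
  -- the Jordan chain
  have hsum : (∑ i ∈ Finset.range n, T ^ i) = aeval T ((X - 1 : F[X]) ^ (p - 1) * C ^ p) := by
    have hpoly : (∑ i ∈ Finset.range n, (X : F[X]) ^ i) = (X - 1) ^ (p - 1) * C ^ p := by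
      have hne : (X - 1 : F[X]) ≠ 0 := by
        have := X_sub_C_ne_zero (1 : F)
        simpa using this
      apply mul_left_cancel₀ hne
      rw [mul_geom_sum, ← hPQ, hXp, ← mul_assoc, ← pow_succ']
      congr 2
      omega
    rw [← hpoly, map_sum]
    simp
  rw [hsum] at hN
  obtain ⟨x, hx⟩ : ∃ x, aeval T ((X - 1 : F[X]) ^ (p - 1) * C ^ p) x ≠ 0 := by
    by_contra hcon
    push Not at hcon
    apply hN
    exact LinearMap.ext hcon
  have hxs : x ∈ U ⊔ V' := by rw [hsup]; trivial
  obtain ⟨u, hu, w, hw, rfl⟩ := Submodule.mem_sup.mp hxs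
  have hw0 : aeval T ((X - 1 : F[X]) ^ (p - 1) * C ^ p) w = 0 := by
    rw [map_mul, Module.End.mul_apply, LinearMap.mem_ker.mp hw, map_zero]
  rw [map_add, hw0, add_zero] at hx
  set y : V := aeval T (C ^ p) u with hy
  have hyU : y ∈ U := by
    rw [hU, LinearMap.mem_ker, hy, ← Module.End.mul_apply, ← map_mul, mul_comm, map_mul,
      Module.End.mul_apply, LinearMap.mem_ker.mp hu, map_zero]
  have hTm1 : ∀ i : ℕ, aeval T ((X - 1 : F[X]) ^ i) = (T - 1) ^ i := by
    intro i
    simp
  have hy1 : ((T - 1) ^ (p - 1)) y ≠ 0 := by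
    rw [← hTm1, hy, ← Module.End.mul_apply, ← map_mul]
    exact hx
  have hy0 : ((T - 1) ^ p) y = 0 := by
    rw [← hTm1, ← hXp]
    exact LinearMap.mem_ker.mp hyU
  have hchain := chain_bound T p hp1 y hy0 hy1 p hp1 le_rfl
  have hK1 : Kker T 1 = LinearMap.ker (T - 1) := by
    unfold Kker
    rw [pow_one]
  have hKp : Kker T p = U := by
    unfold Kker
    rw [hU, ← hTm1, ← hXp]
  rw [hK1, hKp] at hchain
  have hfix1 : 1 ≤ finrank F (LinearMap.ker (T - 1)) := by
    have hmem : ((T - 1) ^ (p - 1)) y ∈ LinearMap.ker (T - 1) := by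
      rw [LinearMap.mem_ker, ← Module.End.mul_apply, ← pow_succ']
      have : p - 1 + 1 = p := by omega
      rw [this]
      exact hy0
    have : 0 < finrank F (LinearMap.ker (T - 1)) := by
      rw [Module.finrank_pos_iff_exists_ne_zero]
      exact ⟨⟨_, hmem⟩, fun hc => hy1 (congrArg Subtype.val hc)⟩
    exact this
  have hfix2 : 2 ≤ finrank F (LinearMap.ker (T - 1)) := by
    obtain ⟨c, hc⟩ := heven
    omega
  have hUbig : p + 1 ≤ finrank F U := by omega
  -- the orthogonal decomposition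
  obtain ⟨a₀, ha₀, hTa₀⟩ : ∃ a₀ : ℕ, 0 < a₀ ∧ T ^ a₀ = 1 := ⟨n, hn, hTn⟩
  have hinv : Inv ω T := h.iso
  have hW : ∀ x ∈ ω.orthogonal U, T x ∈ ω.orthogonal U := perp_invt hinv ha₀ hTa₀ U hUinv
  have hc : IsCompl U (ω.orthogonal U) := isCompl_perp h.alt hUnd
  have hb₁ : SpIso (ω.restrict U) (T.restrict hUinv) :=
    { alt := fun x => h.alt x.1
      nd := restrict_nondegenerate h.alt hUnd
      iso := by
        intro u w
        simp only [BilinForm.restrict_apply, LinearMap.domRestrict_apply,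
          LinearMap.coe_restrict_apply]
        exact h.iso _ _ }
  have hb₂ : SpIso (ω.restrict (ω.orthogonal U)) (T.restrict hW) :=
    { alt := fun x => h.alt x.1
      nd := restrict_nondegenerate h.alt (nondegOn_perp h.alt h.nd hUnd)
      iso := by
        intro u w
        simp only [BilinForm.restrict_apply, LinearMap.domRestrict_apply,
          LinearMap.coe_restrict_apply]
        exact h.iso _ _ }
  have hfr' : finrank F U + finrank F (ω.orthogonal U) = 8 := by
    rw [Submodule.finrank_add_eq_of_isCompl hc, hfr]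
  obtain ⟨j, hj⟩ := Cfsg.Agent.Lib.Helper36.even_finrank_of_isAlt_nondegenerate
    (ω.restrict U) hb₁.alt hb₁.nd
  obtain ⟨n₂, hn₂⟩ := Cfsg.Agent.Lib.Helper36.even_finrank_of_isAlt_nondegenerate
    (ω.restrict (ω.orthogonal U)) hb₂.alt hb₂.nd
  have hj4 : j ≤ 4 := by omega
  have hj1 : 1 ≤ j := by omega
  have hpj : 2 ^ (a + 1) < 4 * j := by
    rw [pow_succ, ← hp]
    omega
  obtain ⟨v₁, hv₁, hle₁⟩ := LstE_unip j (a + 1) hj1 hj4 hpj
  have hdv₁ : 2 ^ (a + 1) ∣ v₁.val r := by
    have := EV.val_dvd r hle₁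
    have h1 : (⟨a + 1,0,0,0,0,0,0⟩ : EV).val r = 2 ^ (a + 1) := by simp [EV.val]
    rwa [h1] at this
  -- `T^p = 1` on `U`
  have hT₁ : (T.restrict hUinv) ^ p = 1 := by
    apply LinearMap.ext
    intro x
    apply Subtype.ext
    rw [restrict_pow_coe, Module.End.one_apply]
    exact (hUmem x.1).mp x.2
  have hpd : p ∣ 2 ^ (a + 1) := by
    rw [hp]
    exact pow_dvd_pow 2 (by omega)
  -- finishing
  have hfinish : ∀ v : EV, 2 ^ (a + 1) ∣ v.val r → T ^ (v.val r) = 1 → 2 * n ∣ v.val r := by
    intro v hd1 hT1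
    have hd2 : n ∣ v.val r := hmin _ hT1
    have hd3 : n' ∣ v.val r := (Dvd.intro_left _ hnn.symm).trans hd2
    have hcop2 : Nat.Coprime (2 ^ (a + 1)) n' :=
      Nat.Coprime.pow_left _ (Nat.coprime_two_left.2 hn'odd)
    have := hcop2.mul_dvd_of_dvd_of_dvd hd1 hd3
    have e : 2 ^ (a + 1) * n' = 2 * n := by
      rw [hnn, pow_succ]
      ring
    rwa [e] at this
  by_cases hj44 : j = 4
  · -- `U` is everything
    have hUtop : U = ⊤ := by
      apply Submodule.eq_top_of_finrank_eq
      rw [hfr]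
      omega
    refine ⟨v₁, by rw [← hj44]; exact hv₁, hfinish v₁ hdv₁ ?_⟩
    have hTp : T ^ p = 1 := by
      apply LinearMap.ext
      intro x
      have hx : x ∈ U := by rw [hUtop]; trivial
      rw [Module.End.one_apply]
      exact (hUmem x).mp hx
    exact pow_one_of_dvd T hTp (hpd.trans hdv₁)
  · have hn₂1 : 1 ≤ n₂ := by omega
    have hjn : j + n₂ = 4 := by omega
    obtain ⟨v₂, hv₂, hT₂⟩ := spec_upper r hq n₂ hn₂1 (by omega) (ω.orthogonal U)
      (ω.restrict (ω.orthogonal U)) (T.restrict hW) (by omega) hb₂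
    obtain ⟨v, hv, hl₁, hl₂⟩ := LstE_merge j n₂ hj1 hn₂1 (by omega) v₁ hv₁ v₂ hv₂
    rw [hjn] at hv
    refine ⟨v, hv, hfinish v (hdv₁.trans (EV.val_dvd r hl₁)) ?_⟩
    have e1 : (T.restrict hUinv) ^ (v.val r) = (1 : F) • (1 : Module.End F U) := by
      rw [one_smul]
      exact pow_one_of_dvd _ hT₁ ((hpd.trans hdv₁).trans (EV.val_dvd r hl₁))
    have e2 : (T.restrict hW) ^ (v.val r) = (1 : F) • (1 : Module.End F (ω.orthogonal U)) := by
      rw [one_smul]
      exact pow_one_of_dvd _ hT₂ (EV.val_dvd r hl₂)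
    have := glue T U (ω.orthogonal U) hUinv hW hc.sup_eq_top (v.val r) 1 e1 e2
    rwa [one_smul] at this

end main

end Cfsg.Agent.Lib.Helper94.Iso8
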