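import Mathlib
import Cfsg.Agent.Lib.Helper94.Iso8bSub
import Cfsg.Agent.Lib.Helper8.OrthFormsMinus
import Cfsg.Agent.Lib.Helper13.Orth

set_option autoImplicit false
set_option linter.unusedVariables false
set_option linter.unusedSectionVars false
set_option linter.unusedSimpArgs false
set_option linter.style.haveILetI false
set_option maxHeartbeats 1600000

/-!
# The structure theorem for matrices of `GO₈⁻(q)`
-/

namespace Cfsg.Agent.Lib.Helper94.Iso8

open Module
open LinearMap (BilinForm)
open Cfsg.Agent.Lib.Helper39.SpT Cfsg.Agent.Lib.Helper8 Matrix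

section
variable {F : Type*} [Field F] [Fintype F] [CharP F 2]

/-- isometries of the minus-type form as symplectic isometries of the polar form -/
theorem spIso_of_mem (m : ℕ) (a b : F) (ha : a ≠ 0)
    (g : ↥(Cfsg.isometryGroup F (Cfsg.quadFormMinus m F a b))) :
    SpIso (QuadraticMap.polarBilin (minusForm m F a b)) (Matrix.toLin' (matOf g)) := by
  have h2 : (2 : F) = 0 := by
    have := CharP.cast_eq_zero F 2
    exact_mod_cast this
  have hpres : ∀ x, Cfsg.quadFormMinus m F a b ((matOf g) *ᵥ x) = Cfsg.quadFormMinus m F a b x :=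
    (Cfsg.Agent.Lib.Helper13.mem_isometryGroup_iff _ _).1 g.2
  have hTQ : ∀ v, minusForm m F a b (Matrix.toLin' (matOf g) v) = minusForm m F a b v := by
    intro v
    rw [Matrix.toLin'_apply, ← minusForm_coe]
    exact hpres v
  refine ⟨?_, minusForm_nondegenerate m F a b h2 ha, ?_⟩
  · intro u
    rw [QuadraticMap.polarBilin_apply_apply, QuadraticMap.polar_self, two_smul, ← two_mul, h2,
      zero_mul]
  · intro u w
    simp only [QuadraticMap.polarBilin_apply_apply, QuadraticMap.polar]
    rw [← map_add, hTQ, hTQ, hTQ]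

theorem toLin'_pow_eq_one_iff {ι : Type} [Fintype ι] [DecidableEq ι] (A : Matrix ι ι F) (N : ℕ) :
    (Matrix.toLin' A) ^ N = 1 ↔ A ^ N = 1 := by
  rw [← Matrix.toLin'_pow]
  constructor
  · intro h
    apply Matrix.toLin'.injective
    rw [h, Matrix.toLin'_one]
    rfl
  · intro h
    rw [h, Matrix.toLin'_one]
    rfl

theorem matOf_pow_eq_one_iff {ι : Type} [Fintype ι] [DecidableEq ι] {Q : (ι → F) → F}
    (g : ↥(Cfsg.isometryGroup F Q)) (N : ℕ) : (matOf g) ^ N = 1 ↔ g ^ N = 1 := by
  unfold matOf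
  constructor
  · intro h
    apply Subtype.ext
    apply Units.ext
    rw [Subgroup.coe_pow, Units.val_pow_eq_pow_val, h]
    rfl
  · intro h
    rw [← Units.val_pow_eq_pow_val, ← Subgroup.coe_pow, h]
    rfl

/-- the structure theorem for `GO₈⁻(q)`, `q` even -/
theorem sub_spec (a b : F)
    (han : ∀ z₁ z₂ : F, z₁ ^ 2 + a * z₁ * z₂ + b * z₂ ^ 2 = 0 → z₁ = 0 ∧ z₂ = 0)
    (r : ℕ) (hq : Fintype.card F = r + 1)
    (g : ↥(Cfsg.isometryGroup F (Cfsg.quadFormMinus 3 F a b)))
    (heven : Even (fixdim (matOf g))) (hN : nsum (matOf g) (orderOf g) ≠ 0) :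
    ∃ v ∈ LstE 4, 2 * orderOf g ∣ v.val r := by
  have h2 : (2 : F) = 0 := by
    have := CharP.cast_eq_zero F 2
    exact_mod_cast this
  have ha : a ≠ 0 := by
    rintro rfl
    obtain ⟨e, he⟩ := FiniteField.isSquare_of_char_two (ringChar.eq F 2) b
    have := han e 1 (by rw [he]; linear_combination (e * e) * h2)
    exact one_ne_zero this.2
  have hS := spIso_of_mem 3 a b ha g
  have hfr : finrank F ((Fin 3 ⊕ Fin 3) ⊕ Fin 2 → F) = 8 := by
    rw [Module.finrank_fintype_fun_eq_card]
    simp
  have hpos : 0 < orderOf g := orderOf_pos g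
  refine sub_spec_abs r hq _ _ (Matrix.toLin' (matOf g)) hfr hS (orderOf g) hpos ?_ ?_ heven ?_
  · rw [toLin'_pow_eq_one_iff, matOf_pow_eq_one_iff]
    exact pow_orderOf_eq_one g
  · intro m hm
    rw [toLin'_pow_eq_one_iff, matOf_pow_eq_one_iff] at hm
    exact orderOf_dvd_of_pow_eq_one hm
  · intro hc
    apply hN
    apply Matrix.toLin'.injective
    unfold nsum
    rw [map_sum, map_zero]
    rw [← hc]
    apply Finset.sum_congr rfl
    intro i _
    rw [Matrix.toLin'_pow]

end

end Cfsg.Agent.Lib.Helper94.Iso8
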