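import Cfsg.Agent.Lib.Helper94.Orth

set_option autoImplicit false

namespace Cfsg.Agent.Lib.Helper94

open scoped Matrix
open Cfsg

set_option linter.unusedSectionVars false
set_option linter.unnecessarySimpa false
set_option linter.style.haveILetI false
set_option linter.unusedVariables false

variable {ι : Type} [Fintype ι] [DecidableEq ι] {F : Type*} [Field F]

/-- a totally singular subspace of dimension `k` -/
structure IsMTS (Q : (ι → F) → F) (k : ℕ) (M : Submodule F (ι → F)) : Prop where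
  ts : Geo.IsTotallySingularQuad Q M
  dim : Module.finrank F M = k

/-- intersecting with a hyperplane drops the dimension by at most one -/
lemma codim1_inf (X H M : Submodule F (ι → F)) (hHM : H ≤ M)
    (hdim : Module.finrank F M = Module.finrank F H + 1) :
    Module.finrank F ↥(X ⊓ M) ≤ Module.finrank F ↥(X ⊓ H) + 1 := by
  have h1 := Submodule.finrank_sup_add_finrank_inf_eq (X ⊓ M) H
  have h2 : (X ⊓ M) ⊓ H = X ⊓ H := by rw [inf_assoc, inf_eq_right.2 hHM]
  have h3 : Module.finrank F ↥((X ⊓ M) ⊔ H) ≤ Module.finrank F M :=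
    Submodule.finrank_mono (sup_le inf_le_right hHM)
  rw [h2] at h1
  omega

/-- a hyperplane and a vector outside it span -/
lemma cod1_span (H M : Submodule F (ι → F)) (hHM : H ≤ M)
    (hdim : Module.finrank F M = Module.finrank F H + 1) (y : ι → F) (hyM : y ∈ M) (hyH : y ∉ H) :
    ∀ v ∈ M, ∃ h ∈ H, ∃ c : F, v = h + c • y := by
  have hle : H ⊔ Submodule.span F {y} ≤ M := by
    apply sup_le hHM
    rw [Submodule.span_le]
    intro z hz
    rw [Set.mem_singleton_iff] at hz
    rw [hz]; exact hyM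
  have hlt : H < H ⊔ Submodule.span F {y} := by
    apply lt_of_le_of_ne le_sup_left
    intro heq
    apply hyH
    rw [heq]
    exact Submodule.mem_sup_right (Submodule.mem_span_singleton_self y)
  have h1 := Submodule.finrank_lt_finrank_of_lt hlt
  have heq : H ⊔ Submodule.span F {y} = M := by
    apply Submodule.eq_of_le_of_finrank_le hle
    omega
  intro v hv
  rw [← heq] at hv
  obtain ⟨h, hh, z, hz, rfl⟩ := Submodule.mem_sup.1 hv
  obtain ⟨c, rfl⟩ := Submodule.mem_span_singleton.1 hz
  exact ⟨h, hh, c, rfl⟩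

section maxts
variable {Q : (ι → F) → F} (hQ : Geo.IsNondegenerateQuadraticForm Q) {k : ℕ} (hn : Fintype.card ι = 2 * k)
include hQ hn

lemma mts_orth {M : Submodule F (ι → F)} (hM : IsMTS Q k M) : orth hQ M = M :=
  ts_orth_eq hQ hM.ts (by rw [hM.dim, hn])

/-- adjacent maximal totally singular subspaces meet a third one in dimensions differing by one -/
lemma adj_parity (E M G : Submodule F (ι → F)) (hE : IsMTS Q k E) (hM : IsMTS Q k M) (hG : IsMTS Q k G)
    (hMG : Module.finrank F ↥(M ⊓ G) + 1 = k) :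
    Module.finrank F ↥(E ⊓ M) + Module.finrank F ↥(E ⊓ G) = 2 * Module.finrank F ↥(E ⊓ (M ⊓ G)) + 1 := by
  set H := M ⊓ G with hH
  have hHM : H ≤ M := inf_le_left
  have hHG : H ≤ G := inf_le_right
  have hdM : Module.finrank F M = Module.finrank F H + 1 := by rw [hM.dim]; omega
  have hdG : Module.finrank F G = Module.finrank F H + 1 := by rw [hG.dim]; omega
  have ha1 : Module.finrank F ↥(E ⊓ H) ≤ Module.finrank F ↥(E ⊓ M) :=
    Submodule.finrank_mono (inf_le_inf_left E hHM)
  have hb1 : Module.finrank F ↥(E ⊓ H) ≤ Module.finrank F ↥(E ⊓ G) :=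
    Submodule.finrank_mono (inf_le_inf_left E hHG)
  have ha2 := codim1_inf E H M hHM hdM
  have hb2 := codim1_inf E H G hHG hdG
  -- not both bigger
  have hnot1 : ¬ (Module.finrank F ↥(E ⊓ M) = Module.finrank F ↥(E ⊓ H) + 1 ∧
      Module.finrank F ↥(E ⊓ G) = Module.finrank F ↥(E ⊓ H) + 1) := by
    rintro ⟨h1, h2⟩
    have hy : ∃ y ∈ E ⊓ M, y ∉ E ⊓ H := by
      by_contra hcon
      push_neg at hcon
      have : E ⊓ M ≤ E ⊓ H := hcon
      have := Submodule.finrank_mono this
      omega
    have hz : ∃ z ∈ E ⊓ G, z ∉ E ⊓ H := by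
      by_contra hcon
      push_neg at hcon
      have : E ⊓ G ≤ E ⊓ H := hcon
      have := Submodule.finrank_mono this
      omega
    obtain ⟨y, hy1, hy2⟩ := hy
    obtain ⟨z, hz1, hz2⟩ := hz
    rw [Submodule.mem_inf] at hy1 hz1 hy2 hz2
    have hyH : y ∉ H := fun h => hy2 ⟨hy1.1, h⟩
    have hzH : z ∉ H := fun h => hz2 ⟨hz1.1, h⟩
    have hspan := cod1_span H M hHM hdM y hy1.2 hyH
    have hzM : z ∈ orth hQ M := by
      rw [mem_orth]
      intro v hv
      obtain ⟨h, hh, c, rfl⟩ := hspan v hv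
      rw [pol_add_left hQ, pol_smul_left hQ, ts_pol hG.ts (hHG hh) hz1.2, ts_pol hE.ts hy1.1 hz1.1]
      ring
    rw [mts_orth hQ hn hM] at hzM
    exact hzH ⟨hzM, hz1.2⟩
  -- not both equal
  have hnot2 : ¬ (Module.finrank F ↥(E ⊓ M) = Module.finrank F ↥(E ⊓ H) ∧
      Module.finrank F ↥(E ⊓ G) = Module.finrank F ↥(E ⊓ H)) := by
    rintro ⟨h1, h2⟩
    have e1 : E ⊓ H = E ⊓ M := Submodule.eq_of_le_of_finrank_eq (inf_le_inf_left E hHM) h1.symm
    have e2 : E ⊓ H = E ⊓ G := Submodule.eq_of_le_of_finrank_eq (inf_le_inf_left E hHG) h2.symm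
    have hHts : Geo.IsTotallySingularQuad Q H := ts_mono hM.ts hHM
    have f1 := finrank_inf_orth hQ E H
    rw [mts_orth hQ hn hE, hE.dim, inf_comm H E] at f1
    have hle : E ⊓ H ≤ E ⊓ orth hQ H := inf_le_inf_left E (ts_le_orth hQ hHts)
    have hz : ∃ z ∈ E ⊓ orth hQ H, z ∉ E ⊓ H := by
      by_contra hcon
      push_neg at hcon
      have : E ⊓ orth hQ H ≤ E ⊓ H := hcon
      have := Submodule.finrank_mono this
      omega
    obtain ⟨z, hz1, hz2⟩ := hz
    rw [Submodule.mem_inf] at hz1
    have horth : M ⊔ G = orth hQ H := by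
      apply Submodule.eq_of_le_of_finrank_eq
      · apply sup_le
        · calc M ≤ orth hQ M := ts_le_orth hQ hM.ts
            _ ≤ orth hQ H := orth_anti hQ hHM
        · calc G ≤ orth hQ G := ts_le_orth hQ hG.ts
            _ ≤ orth hQ H := orth_anti hQ hHG
      · have g1 := Submodule.finrank_sup_add_finrank_inf_eq M G
        have g2 := finrank_orth hQ H
        rw [hM.dim, hG.dim, ← hH] at g1
        omega
    have hzMG : z ∈ M ⊔ G := by rw [horth]; exact hz1.2
    obtain ⟨f, hf, g, hg, rfl⟩ := Submodule.mem_sup.1 hzMG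
    have hQz := hE.ts _ hz1.1
    rw [Q_add Q, hM.ts f hf, hG.ts g hg, zero_add, zero_add] at hQz
    by_cases hfH : f ∈ H
    · have : f + g ∈ E ⊓ G := ⟨hz1.1, G.add_mem (hHG hfH) hg⟩
      rw [← e2] at this
      exact hz2 this
    · have hspan := cod1_span H M hHM hdM f hf hfH
      have hgM : g ∈ orth hQ M := by
        rw [mem_orth]
        intro v hv
        obtain ⟨h, hh, c, rfl⟩ := hspan v hv
        rw [pol_add_left hQ, pol_smul_left hQ, ts_pol hG.ts (hHG hh) hg, hQz]
        ring
      rw [mts_orth hQ hn hM] at hgM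
      have : f + g ∈ E ⊓ M := ⟨hz1.1, M.add_mem hf hgM⟩
      rw [← e1] at this
      exact hz2 this
  omega

/-- a neighbour of `M` which is closer to `G` -/
lemma exists_closer (M G : Submodule F (ι → F)) (hM : IsMTS Q k M) (hG : IsMTS Q k G) (hne : M ≠ G) :
    ∃ M' : Submodule F (ι → F), IsMTS Q k M' ∧ Module.finrank F ↥(M ⊓ M') + 1 = k ∧
      Module.finrank F ↥(M ⊓ G) < Module.finrank F ↥(M' ⊓ G) := by
  have hx : ∃ x ∈ G, x ∉ M := by
    by_contra hcon
    push_neg at hcon
    have hle : G ≤ M := hcon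
    apply hne
    symm
    apply Submodule.eq_of_le_of_finrank_eq hle
    rw [hG.dim, hM.dim]
  obtain ⟨x, hxG, hxM⟩ := hx
  have hx0 : x ≠ 0 := by
    intro h0; apply hxM; rw [h0]; exact M.zero_mem
  set X := Submodule.span F {x} with hX
  have hxX : x ∈ X := Submodule.mem_span_singleton_self x
  have hXdim : Module.finrank F X = 1 := finrank_span_singleton hx0
  have hXM : X ⊓ M = ⊥ := by
    rw [eq_bot_iff]
    intro v hv
    rw [Submodule.mem_inf] at hv
    obtain ⟨c, rfl⟩ := Submodule.mem_span_singleton.1 hv.1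
    rw [Submodule.mem_bot]
    by_cases hc : c = 0
    · rw [hc, zero_smul]
    · exfalso
      apply hxM
      have := M.smul_mem c⁻¹ hv.2
      rwa [smul_smul, inv_mul_cancel₀ hc, one_smul] at this
  have hQx : Q x = 0 := hG.ts x hxG
  have hXG : X ≤ G := by
    rw [hX, Submodule.span_le]
    intro z hz
    rw [Set.mem_singleton_iff] at hz
    rw [hz]; exact hxG
  -- the hyperplane of `M`
  have hP := finrank_inf_orth hQ M X
  rw [mts_orth hQ hn hM, hXM, finrank_bot, hXdim, hM.dim] at hP
  set P := M ⊓ orth hQ X with hPdef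
  have hPX : P ⊓ X = ⊥ := by
    rw [eq_bot_iff, ← hXM]
    intro v hv
    rw [Submodule.mem_inf] at hv ⊢
    exact ⟨hv.2, hv.1.1⟩
  have hM'dim : Module.finrank F ↥(P ⊔ X) = k := by
    have := Submodule.finrank_sup_add_finrank_inf_eq P X
    rw [hPX, finrank_bot, hXdim] at this
    omega
  have hM'ts : Geo.IsTotallySingularQuad Q (P ⊔ X) := by
    intro v hv
    obtain ⟨u, hu, z, hz, rfl⟩ := Submodule.mem_sup.1 hv
    obtain ⟨c, rfl⟩ := Submodule.mem_span_singleton.1 hz
    rw [hPdef, Submodule.mem_inf, mem_orth] at hu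
    have hxu : pol Q x u = 0 := hu.2 x hxX
    rw [Q_add Q, hM.ts u hu.1, Q_smul hQ, hQx, pol_smul_right hQ, pol_comm, hxu]
    ring
  refine ⟨P ⊔ X, ⟨hM'ts, hM'dim⟩, ?_, ?_⟩
  · have h1 : P ≤ M ⊓ (P ⊔ X) := le_inf inf_le_left le_sup_left
    have h2 := Submodule.finrank_mono h1
    have h3 : M ⊓ (P ⊔ X) < P ⊔ X := by
      apply lt_of_le_of_ne inf_le_right
      intro heq
      apply hxM
      have : x ∈ M ⊓ (P ⊔ X) := by rw [heq]; exact Submodule.mem_sup_right hxX
      exact this.1
    have h4 := Submodule.finrank_lt_finrank_of_lt h3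
    omega
  · have h1 : (M ⊓ G) ⊔ X ≤ (P ⊔ X) ⊓ G := by
      apply sup_le
      · apply le_inf _ inf_le_right
        refine le_trans ?_ le_sup_left
        intro v hv
        rw [Submodule.mem_inf] at hv
        rw [hPdef, Submodule.mem_inf, mem_orth]
        refine ⟨hv.1, ?_⟩
        intro w hw
        exact ts_pol hG.ts (hXG hw) hv.2
      · exact le_inf le_sup_right hXG
    have h2 : M ⊓ G < (M ⊓ G) ⊔ X := by
      apply lt_of_le_of_ne le_sup_left
      intro heq
      apply hxM
      have : x ∈ M ⊓ G := by rw [heq]; exact Submodule.mem_sup_right hxX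
      exact this.1
    have h3 := Submodule.finrank_lt_finrank_of_lt h2
    have h4 := Submodule.finrank_mono h1
    omega

/-- the triangle parity property of maximal totally singular subspaces -/
lemma triangle_parity_aux (m : ℕ) : ∀ (M G : Submodule F (ι → F)), IsMTS Q k M → IsMTS Q k G →
    k ≤ Module.finrank F ↥(M ⊓ G) + m → ∀ E : Submodule F (ι → F), IsMTS Q k E →
    Even (Module.finrank F ↥(E ⊓ M) + Module.finrank F ↥(E ⊓ G) + Module.finrank F ↥(M ⊓ G) + k) := by
  have hbase : ∀ (M : Submodule F (ι → F)), IsMTS Q k M → ∀ E : Submodule F (ι → F), IsMTS Q k E →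
      Even (Module.finrank F ↥(E ⊓ M) + Module.finrank F ↥(E ⊓ M) + Module.finrank F ↥(M ⊓ M) + k) := by
    intro M hM E hE
    rw [inf_idem, hM.dim]
    exact ⟨Module.finrank F ↥(E ⊓ M) + k, by ring⟩
  induction m with
  | zero =>
    intro M G hM hG hle E hE
    have hMG : M = G := by
      have h1 : M ⊓ G = M := by
        apply Submodule.eq_of_le_of_finrank_le inf_le_left
        rw [hM.dim]; omega
      have h2 : M ⊓ G = G := by
        apply Submodule.eq_of_le_of_finrank_le inf_le_right
        rw [hG.dim]; omega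
      rw [← h1]; exact h2
    subst hMG
    exact hbase M hM E hE
  | succ m ih =>
    intro M G hM hG hle E hE
    by_cases hMG : M = G
    · subst hMG
      exact hbase M hM E hE
    · obtain ⟨M', hM', hadj, hcl⟩ := exists_closer hQ hn M G hM hG hMG
      have hA := ih M' G hM' hG (by omega) E hE
      have hB := ih M' G hM' hG (by omega) M hM
      have hC := adj_parity hQ hn E M M' hE hM hM' hadj
      rw [Nat.even_iff] at hA hB ⊢
      omega

lemma triangle_parity (E M G : Submodule F (ι → F)) (hE : IsMTS Q k E) (hM : IsMTS Q k M) (hG : IsMTS Q k G) :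
    Even (Module.finrank F ↥(E ⊓ M) + Module.finrank F ↥(E ⊓ G) + Module.finrank F ↥(M ⊓ G) + k) :=
  triangle_parity_aux hQ hn k M G hM hG (by omega) E hE

end maxts

end Cfsg.Agent.Lib.Helper94
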