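import Cfsg.Agent.Lib.Helper94.OWitt

set_option autoImplicit false

namespace Cfsg.Agent.Lib.Helper94

open scoped Matrix
open Cfsg

set_option linter.unusedSectionVars false
set_option linter.unnecessarySimpa false
set_option linter.style.haveILetI false
set_option linter.unusedVariables false

variable {ι : Type} [Fintype ι] [DecidableEq ι] {F : Type*} [Field F] [Fintype F]

lemma indep_pair_of_notMem (w a : ι → F) (hw : w ≠ 0) (ha : a ∉ Submodule.span F {w}) :
    LinearIndependent F ![w, a] := by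
  rw [LinearIndependent.pair_iff' hw]
  intro c hc
  apply ha
  rw [Submodule.mem_span_singleton]
  exact ⟨c, hc⟩

section omax
variable {Q : (ι → F) → F} (hQ : Geo.IsNondegenerateQuadraticForm Q) (h2 : (2 : F) ≠ 0)
  (H : Subgroup (Matrix.GeneralLinearGroup ι F))
  (hM : Geo.quadSimilarityGroup Q ⊓ Geo.specialLinear ι F ≤ H)
include hQ h2 hM

omit h2 in
lemma oisom_mem_H (g : Matrix.GeneralLinearGroup ι F) (hg : g ∈ isometryGroup F Q)
    (hd : (g : Matrix ι ι F).det = 1) : g ∈ H := by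
  apply hM
  refine ⟨⟨1, fun v => ?_⟩, (mem_SL g).2 hd⟩
  rw [(mem_isom g).1 hg v, Units.val_one, one_mul]

omit h2 hM in
/-- independence from a separating vector -/
lemma oindep_of_sep (w a y : ι → F) (hw : w ≠ 0) (hwy : pol Q w y = 0) (hay : pol Q a y ≠ 0) :
    LinearIndependent F ![w, a] := by
  rw [LinearIndependent.pair_iff]
  intro s t hst
  have h1 : pol Q (s • w + t • a) y = 0 := by rw [hst, pol_zero_left hQ]
  rw [pol_add_left hQ, pol_smul_left hQ, pol_smul_left hQ, hwy, mul_zero, zero_add] at h1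
  have ht : t = 0 := by
    rcases mul_eq_zero.1 h1 with h | h
    · exact h
    · exact absurd h hay
  rw [ht, zero_smul, add_zero] at hst
  rcases smul_eq_zero.1 hst with h | h
  · exact ⟨h, ht⟩
  · exact absurd h hw

omit hM in
/-- Witt's lemma for pairs with determinant one -/
lemma owitt_pair (hn : 4 < Fintype.card ι) (w a w' a' : ι → F) (h1 : LinearIndependent F ![w, a])
    (h2' : LinearIndependent F ![w', a']) (hww : Q w' = Q w) (haa : Q a' = Q a)
    (hwa : pol Q w' a' = pol Q w a) :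
    ∃ g : Matrix.GeneralLinearGroup ι F, g ∈ isometryGroup F Q ∧ (g : Matrix ι ι F).det = 1 ∧
      (g : Matrix ι ι F) *ᵥ w = w' ∧ (g : Matrix ι ι F) *ᵥ a = a' := by
  have haw : pol Q a' w' = pol Q a w := by rw [pol_comm, hwa, pol_comm]
  obtain ⟨g, hg1, hg2, hg3⟩ := witt_fin_det1 hQ h2 (k := 2) (by omega) ![w, a] ![w', a'] h1 h2'
    (by intro i; fin_cases i <;> simp [hww, haa])
    (by intro i j; fin_cases i <;> fin_cases j <;> simp [pol_self hQ, hww, haa, hwa, haw])
  refine ⟨g, hg1, hg2, ?_, ?_⟩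
  · simpa using hg3 0
  · simpa using hg3 1

/-- Step C: one good totally singular independent pair makes all of them good -/
lemma ostep_C (hn : 4 < Fintype.card ι) {w a : ι → F} (hg : OGood hQ H w a) (hi : LinearIndependent F ![w, a])
    (hw : Q w = 0) (ha : Q a = 0) {w' a' : ι → F} (hi' : LinearIndependent F ![w', a'])
    (hw' : Q w' = 0) (ha' : Q a' = 0) (hwa' : pol Q w' a' = 0) : OGood hQ H w' a' := by
  have hwa : pol Q w a = 0 := hg.1
  obtain ⟨g, hg1, hg2, hg3, hg4⟩ := owitt_pair hQ h2 hn w a w' a' hi hi' (by rw [hw, hw']) (by rw [ha, ha'])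
    (by rw [hwa, hwa'])
  have := ogood_isom hQ H hg (oisom_mem_H hQ H hM g hg1 hg2) hg1
  rw [hg3, hg4] at this
  exact this

omit h2 hM in
lemma ogood_neg_left {w a : ι → F} (h1 : OGood hQ H w a) : OGood hQ H (-w) a := by
  obtain ⟨e1, g1⟩ := h1
  refine ogood_of_eq hQ H (by rw [pol_neg_left hQ, e1, neg_zero]) _ (H.inv_mem g1) ?_
  intro x
  rw [BT_inv_mulVec, smul_neg, sub_eq_add_neg]

/-- an independent good pair gives a totally singular independent good pair -/
lemma ostep_indep (hn : 8 < Fintype.card ι) {w0 a0 : ι → F} (h0 : OGood hQ H w0 a0)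
    (hi : LinearIndependent F ![w0, a0]) :
    ∃ w a : ι → F, OGood hQ H w a ∧ LinearIndependent F ![w, a] ∧ Q w = 0 ∧ Q a = 0 := by
  have hwa : pol Q w0 a0 = 0 := h0.1
  have hw0 : w0 ≠ 0 := by
    have := hi.ne_zero 0
    simpa using this
  obtain ⟨y, y1, hyQ, hyb, hby, hyy1⟩ := exists_sing_orth_k hQ h2 ![w0, a0] (by simp; omega)
  have hyw : pol Q y w0 = 0 := by simpa using hyb 0
  have hya : pol Q y a0 = 0 := by simpa using hyb 1
  have hwy1 : pol Q w0 y1 = 0 := by simpa using hby 0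
  have hay1 : pol Q a0 y1 = 0 := by simpa using hby 1
  have hwy : pol Q w0 y = 0 := by rw [pol_comm]; exact hyw
  have hay : pol Q a0 y = 0 := by rw [pol_comm]; exact hya
  have hi1 : LinearIndependent F ![w0, a0 + y] := by
    apply oindep_of_sep hQ w0 (a0 + y) y1 hw0 hwy1
    rw [pol_add_left hQ, hay1, zero_add]; exact hyy1
  obtain ⟨g, hg1, hg2, hg3, hg4⟩ := owitt_pair hQ h2 (by omega) w0 a0 w0 (a0 + y) hi hi1 rfl
    (by rw [Q_add Q, hyQ, hay]; ring) (by rw [pol_add_right hQ, hwy, add_zero])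
  have h1 := ogood_isom hQ H h0 (oisom_mem_H hQ H hM g hg1 hg2) hg1
  rw [hg3, hg4] at h1
  have h3 : OGood hQ H w0 y := by
    have := ogood_add_right hQ H h1 (ogood_neg_right hQ H h0)
    rw [add_neg_cancel_comm] at this
    exact this
  -- second move
  have hi2 : LinearIndependent F ![w0, y] := oindep_of_sep hQ w0 y y1 hw0 hwy1 hyy1
  have hy0 : y ≠ 0 := by
    rintro rfl
    exact hyy1 (pol_zero_left hQ _)
  obtain ⟨y', y1', hyQ', hyb', hby', hyy1'⟩ := exists_sing_orth_k hQ h2 ![w0, y] (by simp; omega)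
  have hyw' : pol Q y' w0 = 0 := by simpa using hyb' 0
  have hyy' : pol Q y' y = 0 := by simpa using hyb' 1
  have hwy1' : pol Q w0 y1' = 0 := by simpa using hby' 0
  have hyy1'' : pol Q y y1' = 0 := by simpa using hby' 1
  have hwy' : pol Q w0 y' = 0 := by rw [pol_comm]; exact hyw'
  have hi3 : LinearIndependent F ![w0 + y', y] := by
    rw [LinearIndependent.pair_symm_iff]
    apply oindep_of_sep hQ y (w0 + y') y1' hy0 hyy1''
    rw [pol_add_left hQ, hwy1', zero_add]; exact hyy1'
  obtain ⟨g', hg1', hg2', hg3', hg4'⟩ := owitt_pair hQ h2 (by omega) w0 y (w0 + y') y hi2 hi3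
    (by rw [Q_add Q, hyQ', hwy']; ring) rfl (by rw [pol_add_left hQ, hyy', add_zero])
  have h4 := ogood_isom hQ H h3 (oisom_mem_H hQ H hM g' hg1' hg2') hg1'
  rw [hg3', hg4'] at h4
  have h5 : OGood hQ H y' y := by
    have := ogood_add_left hQ H h4 (ogood_neg_left hQ H h3)
    rw [add_neg_cancel_comm] at this
    exact this
  refine ⟨y', y, h5, ?_, hyQ', hyQ⟩
  rw [LinearIndependent.pair_symm_iff]
  exact oindep_of_sep hQ y y' y1' hy0 hyy1'' hyy1'

/-- a dependent good pair gives an independent good pair -/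
lemma ostep_dep (hn : 8 < Fintype.card ι) {w0 : ι → F} {e : F} (h0 : OGood hQ H w0 (e • w0)) (hw0 : w0 ≠ 0)
    (he : e ≠ 0) : ∃ w a : ι → F, OGood hQ H w a ∧ LinearIndependent F ![w, a] := by
  have hQw0 : Q w0 = 0 := by
    have := h0.1
    rw [pol_smul_right hQ, pol_self hQ] at this
    rcases mul_eq_zero.1 this with h | h
    · exact absurd h he
    · rcases mul_eq_zero.1 h with h' | h'
      · exact absurd h' h2
      · exact h'
  have hnot : w0 ∉ Submodule.span F {(0 : ι → F)} := by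
    intro hmem
    rw [Submodule.span_zero_singleton, Submodule.mem_bot] at hmem
    exact hw0 hmem
  obtain ⟨w1, hw1Q, _, hβ⟩ := exists_sing_orth_ne hQ h2 hn 0 w0 hnot
  have hw10 : w1 ≠ 0 := by
    rintro rfl
    exact hβ (pol_zero_left hQ _)
  obtain ⟨g, hg1, hg2, hg3⟩ := witt_fin_det1 hQ h2 (k := 1) (by omega) ![w0] ![w1]
    (linearIndependent_unique_iff.2 (by simpa using hw0)) (linearIndependent_unique_iff.2 (by simpa using hw10))
    (by intro i; fin_cases i; simp [hw1Q, hQw0])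
    (by intro i j; fin_cases i; fin_cases j; simp [pol_self hQ, hw1Q, hQw0])
  have hgw : (g : Matrix ι ι F) *ᵥ w0 = w1 := by simpa using hg3 0
  have h1 := ogood_isom hQ H h0 (oisom_mem_H hQ H hM g hg1 hg2) hg1
  rw [Matrix.mulVec_smul, hgw] at h1
  have h3 := ogood_conj hQ H h0 h1
  rw [pol_smul_right hQ, pol_smul_left hQ] at h3
  refine ⟨_, _, h3, ?_⟩
  rw [LinearIndependent.pair_iff]
  intro s t hst
  have hw01 : pol Q w0 w1 = pol Q w1 w0 := pol_comm Q w0 w1
  have e1 : pol Q (s • (w1 + (e * pol Q w1 w0) • w0) + t • (e • w1 - (e * pol Q w1 w0) • e • w0)) w0 = 0 := by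
    rw [hst, pol_zero_left hQ]
  have e2 : pol Q (s • (w1 + (e * pol Q w1 w0) • w0) + t • (e • w1 - (e * pol Q w1 w0) • e • w0)) w1 = 0 := by
    rw [hst, pol_zero_left hQ]
  simp only [pol_add_left hQ, pol_sub_left hQ, pol_smul_left hQ, pol_self hQ, hQw0, hw1Q, hw01, mul_zero,
    add_zero, sub_zero, zero_add, zero_sub] at e1 e2
  have e3 : s + t * e = 0 := by
    have : (s + t * e) * pol Q w1 w0 = 0 := by linear_combination e1
    rcases mul_eq_zero.1 this with h | h
    · exact h
    · exact absurd h hβ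
  have e4 : (s - t * e) * (e * pol Q w1 w0 * pol Q w1 w0) = 0 := by linear_combination e2
  have e5 : s - t * e = 0 := by
    rcases mul_eq_zero.1 e4 with h | h
    · exact h
    · exact absurd h (mul_ne_zero (mul_ne_zero he hβ) hβ)
  have hs : s = 0 := by
    have : 2 * s = 0 := by linear_combination e3 + e5
    rcases mul_eq_zero.1 this with h | h
    · exact absurd h h2
    · exact h
  rw [hs, zero_add] at e3
  rcases mul_eq_zero.1 e3 with h | h
  · exact ⟨hs, h⟩
  · exact absurd h he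

/-- a nontrivial good pair gives a totally singular independent good pair -/
lemma ostep_TI (hn : 8 < Fintype.card ι) {w0 a0 : ι → F} (h0 : OGood hQ H w0 a0) (hw0 : w0 ≠ 0) (ha0 : a0 ≠ 0) :
    ∃ w a : ι → F, OGood hQ H w a ∧ LinearIndependent F ![w, a] ∧ Q w = 0 ∧ Q a = 0 := by
  by_cases hmem : a0 ∈ Submodule.span F {w0}
  · obtain ⟨e, rfl⟩ := Submodule.mem_span_singleton.1 hmem
    have he : e ≠ 0 := by
      rintro rfl
      exact ha0 (zero_smul F w0)
    obtain ⟨w, a, hg, hi⟩ := ostep_dep hQ h2 H hM hn h0 hw0 he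
    exact ostep_indep hQ h2 H hM hn hg hi
  · exact ostep_indep hQ h2 H hM hn h0 (indep_pair_of_notMem w0 a0 hw0 hmem)

section afterC
variable (hC : ∀ w' a' : ι → F, LinearIndependent F ![w', a'] → Q w' = 0 → Q a' = 0 → pol Q w' a' = 0 →
  OGood hQ H w' a')
include hC

omit hM in
/-- Step D -/
lemma ostep_D (hn : 8 < Fintype.card ι) (w : ι → F) (hw : Q w = 0) (e : F) : OGood hQ H w (e • w) := by
  by_cases hw0 : w = 0
  · rw [hw0]; exact ogood_zero_left hQ H _
  · obtain ⟨z, y1, hzz, hzb, hby, hzy⟩ := exists_sing_orth_k hQ h2 ![w] (by simp; omega)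
    have hzw : pol Q z w = 0 := by simpa using hzb 0
    have hwy : pol Q w y1 = 0 := by simpa using hby 0
    have hwz : pol Q w z = 0 := by rw [pol_comm]; exact hzw
    have h1 : OGood hQ H w z := hC w z (oindep_of_sep hQ w z y1 hw0 hwy hzy) hw hzz hwz
    have h2' : OGood hQ H w (e • w - z) := by
      apply hC w (e • w - z)
      · apply oindep_of_sep hQ w (e • w - z) y1 hw0 hwy
        rw [pol_sub_left hQ, pol_smul_left hQ, hwy, mul_zero, zero_sub]
        exact neg_ne_zero.2 hzy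
      · exact hw
      · rw [Q_sub hQ, Q_smul hQ, hw, hzz, pol_smul_left hQ, hwz]
        ring
      · rw [pol_sub_right hQ, pol_smul_right hQ, pol_self hQ, hw, hwz]
        ring
    have h3 := ogood_add_right hQ H h1 h2'
    rw [add_sub_cancel] at h3
    exact h3

omit hM in
lemma ostep_E1 (hn : 8 < Fintype.card ι) (w a : ι → F) (hw : Q w = 0) (ha : Q a = 0) (hwa : pol Q w a = 0) :
    OGood hQ H w a := by
  by_cases hw0 : w = 0
  · rw [hw0]; exact ogood_zero_left hQ H _
  · by_cases hmem : a ∈ Submodule.span F {w}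
    · obtain ⟨e, rfl⟩ := Submodule.mem_span_singleton.1 hmem
      exact ostep_D hQ h2 H hC hn w hw e
    · exact hC w a (indep_pair_of_notMem w a hw0 hmem) hw ha hwa

omit hM in
lemma ostep_E2 (hn : 8 < Fintype.card ι) (w a : ι → F) (hw : Q w = 0) (hwa : pol Q w a = 0) :
    OGood hQ H w a := by
  obtain ⟨a1, a2, h1, h2', h3, h4, rfl⟩ := sing_sum hQ h2 (by omega) w a (by rw [pol_comm]; exact hwa)
  exact ogood_add_right hQ H (ostep_E1 hQ h2 H hC hn w a1 hw h1 (by rw [pol_comm]; exact h3))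
    (ostep_E1 hQ h2 H hC hn w a2 hw h2' (by rw [pol_comm]; exact h4))

omit hM in
lemma ostep_E3 (hn : 8 < Fintype.card ι) (w a : ι → F) (hwa : pol Q w a = 0) : OGood hQ H w a := by
  obtain ⟨w1, w2, h1, h2', h3, h4, rfl⟩ := sing_sum hQ h2 (by omega) a w hwa
  exact ogood_add_left hQ H (ostep_E2 hQ h2 H hC hn w1 a h1 h3) (ostep_E2 hQ h2 H hC hn w2 a h2' h4)

omit hM in
lemma ocontains_trans (hn : 8 < Fintype.card ι) : ContainsTransvections H := by
  intro g w φ hφ hg
  obtain ⟨a, ha⟩ := pol_riesz hQ φ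
  have hwa : pol Q w a = 0 := by rw [ha]; exact hφ
  obtain ⟨h, hmem⟩ := ostep_E3 hQ h2 H hC hn w a hwa
  have : g = BT hQ w a h := by
    apply GL_ext
    intro x
    rw [hg, BT_mulVec, ha]
  rw [this]
  exact hmem

end afterC

/-- a nontrivial transvection in `H` forces all transvections into `H` -/
lemma ocontains_trans_of_good (hn : 8 < Fintype.card ι) {w0 a0 : ι → F} (h0 : OGood hQ H w0 a0) (hw0 : w0 ≠ 0)
    (ha0 : a0 ≠ 0) : ContainsTransvections H := by
  obtain ⟨w, a, hg, hi, hw, ha⟩ := ostep_TI hQ h2 H hM hn h0 hw0 ha0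
  exact ocontains_trans hQ h2 H
    (fun w' a' hi' hw' ha' hwa' => ostep_C hQ h2 H hM (by omega) hg hi hw ha hi' hw' ha' hwa') hn

end omax

end Cfsg.Agent.Lib.Helper94
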