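import Cfsg.Agent.Lib.Helper94.OMax

set_option autoImplicit false

namespace Cfsg.Agent.Lib.Helper94

open scoped Matrix
open Cfsg

set_option linter.unusedSectionVars false
set_option linter.unnecessarySimpa false
set_option linter.style.haveILetI false
set_option linter.unusedVariables false

variable {ι : Type} [Fintype ι] [DecidableEq ι] {F : Type*} [Field F] [Fintype F]

section comp
variable {Q : (ι → F) → F} (hQ : Geo.IsNondegenerateQuadraticForm Q)
include hQ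

omit hQ [Fintype F] in
lemma pol_comp (h : Matrix.GeneralLinearGroup ι F) (x y : ι → F) :
    pol (fun z => Q ((h : Matrix ι ι F) *ᵥ z)) x y =
      pol Q ((h : Matrix ι ι F) *ᵥ x) ((h : Matrix ι ι F) *ᵥ y) := by
  rw [pol_def, pol_def, Matrix.mulVec_add]

omit [Fintype F] in
/-- the transported quadratic form is nondegenerate -/
lemma nondeg_comp (h : Matrix.GeneralLinearGroup ι F) :
    Geo.IsNondegenerateQuadraticForm (fun z => Q ((h : Matrix ι ι F) *ᵥ z)) where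
  smul c v := by
    show Q ((h : Matrix ι ι F) *ᵥ (c • v)) = c ^ 2 * Q ((h : Matrix ι ι F) *ᵥ v)
    rw [Matrix.mulVec_smul, Q_smul hQ]
  polar_bilinear := by
    refine ⟨fun x y v => ?_, fun c x v => ?_, fun v x y => ?_, fun c v x => ?_⟩
    · show pol (fun z => Q ((h : Matrix ι ι F) *ᵥ z)) (x + y) v = pol _ x v + pol _ y v
      rw [pol_comp, pol_comp, pol_comp, Matrix.mulVec_add, pol_add_left hQ]
    · show pol (fun z => Q ((h : Matrix ι ι F) *ᵥ z)) (c • x) v = c * pol _ x v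
      rw [pol_comp, pol_comp, Matrix.mulVec_smul, pol_smul_left hQ]
    · show pol (fun z => Q ((h : Matrix ι ι F) *ᵥ z)) v (x + y) = pol _ v x + pol _ v y
      rw [pol_comp, pol_comp, pol_comp, Matrix.mulVec_add, pol_add_right hQ]
    · show pol (fun z => Q ((h : Matrix ι ι F) *ᵥ z)) v (c • x) = c * pol _ v x
      rw [pol_comp, pol_comp, Matrix.mulVec_smul, pol_smul_right hQ]
  nondegenerate := by
    intro v hv
    have hhv : (h : Matrix ι ι F) *ᵥ v ≠ 0 := by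
      intro h0
      apply hv
      rw [← inv_mulVec_mulVec h v, h0, Matrix.mulVec_zero]
    obtain ⟨⟨x, hx⟩, ⟨y, hy⟩⟩ := hQ.nondegenerate _ hhv
    refine ⟨⟨((h⁻¹ : Matrix.GeneralLinearGroup ι F) : Matrix ι ι F) *ᵥ x, ?_⟩,
      ⟨((h⁻¹ : Matrix.GeneralLinearGroup ι F) : Matrix ι ι F) *ᵥ y, ?_⟩⟩
    · show pol (fun z => Q ((h : Matrix ι ι F) *ᵥ z)) _ v ≠ 0
      rw [pol_comp, mulVec_inv_mulVec]
      exact hx
    · show pol (fun z => Q ((h : Matrix ι ι F) *ᵥ z)) v _ ≠ 0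
      rw [pol_comp, mulVec_inv_mulVec]
      exact hy

omit [Fintype F] in
/-- long root elements of the transported form are conjugates -/
lemma sGL_comp (h : Matrix.GeneralLinearGroup ι F) (x y : ι → F)
    (h1 : Q ((h : Matrix ι ι F) *ᵥ x) = 0) (h2 : Q ((h : Matrix ι ι F) *ᵥ y) = 0)
    (h12 : pol Q ((h : Matrix ι ι F) *ᵥ x) ((h : Matrix ι ι F) *ᵥ y) = 0) :
    sGL (nondeg_comp hQ h) x y h1 h2 (by rw [pol_comp]; exact h12) =
      h⁻¹ * sGL hQ ((h : Matrix ι ι F) *ᵥ x) ((h : Matrix ι ι F) *ᵥ y) h1 h2 h12 * h := by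
  apply GL_ext
  intro z
  rw [Units.val_mul, Units.val_mul, ← Matrix.mulVec_mulVec, ← Matrix.mulVec_mulVec, sGL_mulVec, sGL_mulVec,
    pol_comp, pol_comp, Matrix.mulVec_sub, Matrix.mulVec_add, Matrix.mulVec_smul, Matrix.mulVec_smul,
    inv_mulVec_mulVec, inv_mulVec_mulVec, inv_mulVec_mulVec]

end comp

section commutator
variable {Q Q' : (ι → F) → F} (hQ : Geo.IsNondegenerateQuadraticForm Q)
  (hQ' : Geo.IsNondegenerateQuadraticForm Q')
include hQ hQ'

omit [Fintype F] in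
/-- the commutator of suitable long root elements of two forms is a transvection -/
lemma comm_trans (u v x y xt : ι → F) (hu : Q u = 0) (hv : Q v = 0) (huv : pol Q u v = 0)
    (hx : Q' x = 0) (hy : Q' y = 0) (hxy : pol Q' x y = 0)
    (hux : pol Q' u x = 0) (huy : pol Q' u y = 0) (hvx : pol Q' v x = 0) (hvy : pol Q' v y = 0)
    (hxu : pol Q x u = 0) (hxv : pol Q x v = 0)
    (hxt : ∀ z, pol Q z xt = pol Q' z x)
    (hw : pol Q (pol Q y v • u - pol Q y u • v) (-xt) = 0) :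
    sGL hQ u v hu hv huv * sGL hQ' x y hx hy hxy =
      BT hQ (pol Q y v • u - pol Q y u • v) (-xt) hw * (sGL hQ' x y hx hy hxy * sGL hQ u v hu hv huv) := by
  have hyx : pol Q' y x = 0 := by rw [pol_comm]; exact hxy
  have hxx : pol Q' x x = 0 := by rw [pol_self hQ', hx, mul_zero]
  apply GL_ext
  intro z
  simp only [Units.val_mul, ← Matrix.mulVec_mulVec, sGL_mulVec, BT_mulVec]
  simp only [pol_add_left hQ, pol_sub_left hQ, pol_smul_left hQ, pol_add_left hQ', pol_sub_left hQ',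
    pol_smul_left hQ', pol_neg_right hQ, hxt, hux, huy, hvx, hvy, hxu, hxv, hyx, hxx, mul_zero, add_zero,
    sub_zero]
  module

end commutator

section main
variable {Q : (ι → F) → F} (hQ : Geo.IsNondegenerateQuadraticForm Q) (h2 : (2 : F) ≠ 0)
include hQ h2

/-- a non-similarity moves the perp of some singular vector -/
lemma exists_sing_skew (hn : 10 < Fintype.card ι) (h : Matrix.GeneralLinearGroup ι F)
    (hns : h ∉ Geo.quadSimilarityGroup Q) :
    ∃ u b2 : ι → F, Q u = 0 ∧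
      (∀ z, pol Q z u = pol Q ((h : Matrix ι ι F) *ᵥ z) ((h : Matrix ι ι F) *ᵥ b2)) ∧
      b2 ∉ Submodule.span F {u} := by
  have hQ' := nondeg_comp hQ h
  by_contra hcon
  push_neg at hcon
  have key1 : ∀ u : ι → F, Q u = 0 → ∃ c : F, ∀ z, pol Q z u =
      c * pol Q ((h : Matrix ι ι F) *ᵥ z) ((h : Matrix ι ι F) *ᵥ u) := by
    intro u hu
    obtain ⟨b2, hb2⟩ := pol_riesz hQ' (polL hQ u)
    have hb2' : ∀ z, pol Q z u = pol Q ((h : Matrix ι ι F) *ᵥ z) ((h : Matrix ι ι F) *ᵥ b2) := by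
      intro z
      rw [← pol_comp, hb2 z, polL_apply]
    obtain ⟨c, rfl⟩ := Submodule.mem_span_singleton.1 (hcon u b2 hu hb2')
    refine ⟨c, fun z => ?_⟩
    rw [hb2' z, Matrix.mulVec_smul, pol_smul_right hQ]
  choose μ hμ using key1
  have key2 : ∀ (u u' : ι → F) (hu : Q u = 0) (hu' : Q u' = 0), pol Q u u' ≠ 0 → μ u hu = μ u' hu' := by
    intro u u' hu hu' hne
    have e1 := hμ u' hu' u
    have e2 := hμ u hu u'
    rw [pol_comm Q u' u, pol_comm Q ((h : Matrix ι ι F) *ᵥ u') ((h : Matrix ι ι F) *ᵥ u)] at e2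
    have hP : pol Q ((h : Matrix ι ι F) *ᵥ u) ((h : Matrix ι ι F) *ᵥ u') ≠ 0 := by
      intro h0
      apply hne
      rw [e1, h0, mul_zero]
    exact mul_right_cancel₀ hP (e2.symm.trans e1)
  obtain ⟨u0, y0, hu0Q, _, _, hu0y0⟩ := exists_sing_orth_k hQ h2 ![(0 : ι → F)] (by simp; omega)
  have hu00 : u0 ≠ 0 := by
    rintro rfl
    exact hu0y0 (pol_zero_left hQ _)
  have key3 : ∀ (u : ι → F) (hu : Q u = 0), u ≠ 0 → μ u hu = μ u0 hu0Q := by
    intro u hu hu0
    obtain ⟨z, hzQ, hzu, hzu0⟩ := exists_sing_both hQ h2 hn u u0 hu0 hu00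
    rw [← key2 z u hzQ hu hzu, ← key2 z u0 hzQ hu0Q hzu0]
  have key4 : ∀ u : ι → F, Q u = 0 → ∀ z, pol Q z u =
      μ u0 hu0Q * pol Q ((h : Matrix ι ι F) *ᵥ z) ((h : Matrix ι ι F) *ᵥ u) := by
    intro u hu z
    by_cases hu0 : u = 0
    · rw [hu0, Matrix.mulVec_zero, pol_zero_right hQ, pol_zero_right hQ, mul_zero]
    · rw [hμ u hu z, key3 u hu hu0]
  have key5 : ∀ x z : ι → F, pol Q z x =
      μ u0 hu0Q * pol Q ((h : Matrix ι ι F) *ᵥ z) ((h : Matrix ι ι F) *ᵥ x) := by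
    intro x z
    obtain ⟨x1, x2, h1, h2', _, _, rfl⟩ := sing_sum hQ h2 (by omega) (0 : ι → F) x (pol_zero_right hQ x)
    rw [Matrix.mulVec_add, pol_add_right hQ, pol_add_right hQ, key4 x1 h1 z, key4 x2 h2' z]
    ring
  have key6 : ∀ x : ι → F, Q x = μ u0 hu0Q * Q ((h : Matrix ι ι F) *ᵥ x) := by
    intro x
    rw [Q_half hQ h2 x, Q_half hQ h2 ((h : Matrix ι ι F) *ᵥ x), key5 x x]
    ring
  obtain ⟨y, _, hyQ⟩ := exists_norm_orth_q hQ h2 ![(0 : ι → F)] (by simp; omega) 1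
  have hμ0 : μ u0 hu0Q ≠ 0 := by
    intro h0
    have := key6 y
    rw [hyQ, h0, zero_mul] at this
    exact one_ne_zero this
  apply hns
  refine ⟨Units.mk0 (μ u0 hu0Q)⁻¹ (inv_ne_zero hμ0), fun v => ?_⟩
  rw [Units.val_mk0, key6 v, ← mul_assoc, inv_mul_cancel₀ hμ0, one_mul]

variable (H : Subgroup (Matrix.GeneralLinearGroup ι F))
  (hM : Geo.quadSimilarityGroup Q ⊓ Geo.specialLinear ι F ≤ H)
include hM

/-- an overgroup containing a non-similarity contains a nontrivial transvection -/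
lemma exists_good_of_notMem (hn : 12 < Fintype.card ι) (h : Matrix.GeneralLinearGroup ι F) (hh : h ∈ H)
    (hns : h ∉ Geo.quadSimilarityGroup Q) :
    ∃ w0 a0 : ι → F, OGood hQ H w0 a0 ∧ w0 ≠ 0 ∧ a0 ≠ 0 := by
  have hQ' := nondeg_comp hQ h
  obtain ⟨u, b2, hu, hb2, hnot⟩ := exists_sing_skew hQ h2 (by omega) h hns
  obtain ⟨y, hyQ, hyu, hyb⟩ := exists_sing_orth_ne hQ' h2 (by omega) u b2 hnot
  have hyu' : pol Q y u ≠ 0 := by
    rw [hb2 y, ← pol_comp]; exact hyb
  obtain ⟨x, x1, hxQ, hxb, _, hxx1⟩ := exists_sing_orth_k hQ' h2 ![u, y, b2] (by simp; omega)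
  have hxu' : pol (fun z => Q ((h : Matrix ι ι F) *ᵥ z)) x u = 0 := by simpa using hxb 0
  have hxy' : pol (fun z => Q ((h : Matrix ι ι F) *ᵥ z)) x y = 0 := by simpa using hxb 1
  have hxb2 : pol (fun z => Q ((h : Matrix ι ι F) *ᵥ z)) x b2 = 0 := by simpa using hxb 2
  have hxu : pol Q x u = 0 := by
    rw [hb2 x, ← pol_comp]; exact hxb2
  obtain ⟨xt, hxt⟩ := pol_riesz hQ (polL hQ' x)
  obtain ⟨yt, hyt⟩ := pol_riesz hQ (polL hQ' y)
  simp only [polL_apply] at hxt hyt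
  obtain ⟨v, v1, hvQ, hvb, hbv, hvv1⟩ := exists_sing_orth_k hQ h2 ![u, x, xt, yt] (by simp; omega)
  have hvu : pol Q v u = 0 := by simpa using hvb 0
  have hvx : pol Q v x = 0 := by simpa using hvb 1
  have hvxt : pol Q v xt = 0 := by simpa using hvb 2
  have hvyt : pol Q v yt = 0 := by simpa using hvb 3
  have huv1 : pol Q u v1 = 0 := by simpa using hbv 0
  have hvx' : pol (fun z => Q ((h : Matrix ι ι F) *ᵥ z)) v x = 0 := by rw [← hxt v]; exact hvxt
  have hvy' : pol (fun z => Q ((h : Matrix ι ι F) *ᵥ z)) v y = 0 := by rw [← hyt v]; exact hvyt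
  have hux' : pol (fun z => Q ((h : Matrix ι ι F) *ᵥ z)) u x = 0 := by rw [pol_comm]; exact hxu'
  have huy' : pol (fun z => Q ((h : Matrix ι ι F) *ᵥ z)) u y = 0 := by rw [pol_comm]; exact hyu
  have huv : pol Q u v = 0 := by rw [pol_comm]; exact hvu
  have hxv : pol Q x v = 0 := by rw [pol_comm]; exact hvx
  have hw : pol Q (pol Q y v • u - pol Q y u • v) (-xt) = 0 := by
    rw [pol_neg_right hQ, hxt, pol_sub_left hQ', pol_smul_left hQ', pol_smul_left hQ', hux', hvx']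
    ring
  have hcomm := comm_trans hQ hQ' u v x y xt hu hvQ huv hxQ hyQ hxy' hux' huy' hvx' hvy' hxu hxv hxt hw
  have hT : sGL hQ u v hu hvQ huv ∈ H := oisom_mem_H hQ H hM _ (sGL_mem_isom hQ _ _ _ _ _) (sGL_det hQ _ _ _ _ _)
  have hT' : sGL hQ' x y hxQ hyQ hxy' ∈ H := by
    have e := sGL_comp hQ h x y hxQ hyQ (by rw [← pol_comp]; exact hxy')
    rw [e]
    exact H.mul_mem (H.mul_mem (H.inv_mem hh) (oisom_mem_H hQ H hM _ (sGL_mem_isom hQ _ _ _ _ _)
      (sGL_det hQ _ _ _ _ _))) hh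
  have hBT : BT hQ (pol Q y v • u - pol Q y u • v) (-xt) hw =
      sGL hQ u v hu hvQ huv * sGL hQ' x y hxQ hyQ hxy' * (sGL hQ u v hu hvQ huv)⁻¹ *
        (sGL hQ' x y hxQ hyQ hxy')⁻¹ := by
    rw [hcomm]; group
  refine ⟨_, _, ⟨hw, ?_⟩, ?_, ?_⟩
  · rw [hBT]
    exact H.mul_mem (H.mul_mem (H.mul_mem hT hT') (H.inv_mem hT)) (H.inv_mem hT')
  · intro hw0
    have : pol Q (pol Q y v • u - pol Q y u • v) v1 = 0 := by rw [hw0, pol_zero_left hQ]
    rw [pol_sub_left hQ, pol_smul_left hQ, pol_smul_left hQ, huv1, mul_zero, zero_sub, neg_eq_zero] at this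
    rcases mul_eq_zero.1 this with h' | h'
    · exact hyu' h'
    · exact hvv1 h'
  · intro h0
    have hxt0 : xt = 0 := neg_eq_zero.1 h0
    have := hxt x1
    rw [hxt0, pol_zero_right hQ, pol_comm] at this
    exact hxx1 this.symm

/-- the main step -/
theorem ocontains_trans_of_notMem (hn : 12 < Fintype.card ι) (h : Matrix.GeneralLinearGroup ι F) (hh : h ∈ H)
    (hns : h ∉ Geo.quadSimilarityGroup Q) : ContainsTransvections H := by
  obtain ⟨w0, a0, hg, hw0, ha0⟩ := exists_good_of_notMem hQ h2 H hM hn h hh hns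
  exact ocontains_trans_of_good hQ h2 H hM (by omega) hg hw0 ha0

omit hM in
/-- the similarity group does not contain the special linear group -/
lemma exists_SL_not_qsim (hn : 8 < Fintype.card ι) :
    ∃ g : Matrix.GeneralLinearGroup ι F, g ∈ Geo.specialLinear ι F ∧ g ∉ Geo.quadSimilarityGroup Q := by
  obtain ⟨w, y0, hwQ, _, _, hwy0⟩ := exists_sing_orth_k hQ h2 ![(0 : ι → F)] (by simp; omega)
  have hw0 : w ≠ 0 := by
    rintro rfl
    exact hwy0 (pol_zero_left hQ _)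
  have hnot : w ∉ Submodule.span F {(0 : ι → F)} := by
    intro hmem
    rw [Submodule.span_zero_singleton, Submodule.mem_bot] at hmem
    exact hw0 hmem
  obtain ⟨z, hzQ, _, hzw⟩ := exists_sing_orth_ne hQ h2 hn 0 w hnot
  have hww : pol Q w w = 0 := by rw [pol_self hQ, hwQ, mul_zero]
  refine ⟨BT hQ w w hww, BT_mem_SL hQ _ _ _, ?_⟩
  rintro ⟨c, hc⟩
  have h1 := hc z
  rw [BT_mulVec, Q_add Q, Q_smul hQ, pol_smul_right hQ, hzQ, hwQ] at h1
  have h3 : pol Q z w * pol Q z w = 0 := by linear_combination h1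
  rcases mul_eq_zero.1 h3 with h' | h'
  · exact hzw h'
  · exact hzw h'

end main

end Cfsg.Agent.Lib.Helper94
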