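import Cfsg.Agent.Lib.Helper94.Orth
import Cfsg.Agent.Lib.Helper99.SpMax
import Cfsg.Agent.Lib.Helper8.WittQuad

set_option autoImplicit false

namespace Cfsg.Agent.Lib.Helper94

open scoped Matrix
open Cfsg

set_option linter.unusedSectionVars false
set_option linter.unnecessarySimpa false
set_option linter.style.haveILetI false
set_option linter.unusedVariables false

variable {ι : Type} [Fintype ι] [DecidableEq ι] {F : Type*} [Field F]

/-- the invertible matrix of a linear equivalence -/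
noncomputable def glOfLin (e : (ι → F) ≃ₗ[F] (ι → F)) : Matrix.GeneralLinearGroup ι F :=
  ⟨LinearMap.toMatrix' e.toLinearMap, LinearMap.toMatrix' e.symm.toLinearMap, by
    rw [← LinearMap.toMatrix'_comp]
    simp, by
    rw [← LinearMap.toMatrix'_comp]
    simp⟩

lemma glOfLin_mulVec (e : (ι → F) ≃ₗ[F] (ι → F)) (x : ι → F) :
    (glOfLin e : Matrix ι ι F) *ᵥ x = e x :=
  LinearMap.toMatrix'_mulVec _ _

section generic
variable {Q : (ι → F) → F} (hQ : Geo.IsNondegenerateQuadraticForm Q)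
include hQ

/-- the quadratic form as a Mathlib quadratic form -/
noncomputable def QF : QuadraticForm F (ι → F) :=
  QuadraticMap.ofPolar Q (fun a x => by rw [hQ.smul, pow_two, smul_eq_mul]) hQ.polar_bilinear.add_left
    (fun a x y => by rw [hQ.polar_bilinear.smul_left, smul_eq_mul])

lemma QF_apply (x : ι → F) : QF hQ x = Q x := rfl

lemma QF_nondeg : (QuadraticMap.polarBilin (QF hQ)).Nondegenerate := by
  constructor
  · intro x hx
    by_contra hne
    obtain ⟨_, ⟨y, hy⟩⟩ := hQ.nondegenerate x hne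
    exact hy (hx y)
  · intro y hy
    by_contra hne
    obtain ⟨⟨x, hx⟩, _⟩ := hQ.nondegenerate y hne
    exact hx (hy x)

/-- Witt's lemma for single vectors -/
lemma witt_vec (x y : ι → F) (hx : x ≠ 0) (hy : y ≠ 0) (h : Q x = Q y) :
    ∃ g : Matrix.GeneralLinearGroup ι F, g ∈ isometryGroup F Q ∧ (g : Matrix ι ι F) *ᵥ x = y := by
  obtain ⟨e, he, hxy⟩ := Cfsg.Agent.Lib.Helper8.witt_family_quad (QF hQ) (QF_nondeg hQ) 1 (fun _ => x) (fun _ => y)
    (linearIndependent_unique_iff.2 hx) (linearIndependent_unique_iff.2 hy) (fun _ => h.symm)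
    (fun _ _ => by
      show QuadraticMap.polar Q y y = QuadraticMap.polar Q x x
      have h1 := pol_self hQ y
      have h2 := pol_self hQ x
      unfold pol at h1 h2
      rw [h1, h2, h])
  refine ⟨glOfLin e, ?_, ?_⟩
  · rw [mem_isom]
    intro u
    rw [glOfLin_mulVec]
    exact he u
  · rw [glOfLin_mulVec]
    exact hxy 0

/-- a nonsingular vector orthogonal to a small subspace -/
lemma exists_nonsingular_in_orth (S : Submodule F (ι → F)) (hS : 2 * Module.finrank F S < Fintype.card ι) :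
    ∃ y ∈ orth hQ S, Q y ≠ 0 := by
  by_contra hcon
  push_neg at hcon
  have hts : Geo.IsTotallySingularQuad Q (orth hQ S) := hcon
  have h1 := ts_le_orth hQ hts
  rw [orth_orth] at h1
  have h2 := Submodule.finrank_mono h1
  have h3 := finrank_orth hQ S
  omega

end generic

section oq
variable [Fintype F] {m : ℕ} {Q : (Fin m ⊕ Fin m → F) → F} (hQ : Geo.IsNondegenerateQuadraticForm Q)
  (hpol : ∀ u v, QuadraticMap.polar Q u v = Cfsg.sympForm m F u v) (h2 : (2 : F) = 0)
include hQ hpol h2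

open Cfsg.Agent.Lib.Helper99 in
lemma Q_stv (u : Fin m ⊕ Fin m → F) (c : F) (x : Fin m ⊕ Fin m → F) :
    Q ((stv m u c : Matrix (Fin m ⊕ Fin m) (Fin m ⊕ Fin m) F) *ᵥ x) =
      Q x + c * (pol Q x u) ^ 2 * (c * Q u + 1) := by
  rw [stv_mulVec, ← hpol, Q_add Q, Q_smul hQ, pol_smul_right hQ]
  show _ = Q x + c * (QuadraticMap.polar Q x u) ^ 2 * (c * Q u + 1)
  ring

omit h2 in
lemma isom_mem_spGL {g : Matrix.GeneralLinearGroup (Fin m ⊕ Fin m) F} (hg : g ∈ isometryGroup F Q) :
    g ∈ Cfsg.spGL m F := by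
  rw [Cfsg.Agent.Lib.Helper99.mem_spGL_iff]
  intro u v
  rw [← hpol, ← hpol]
  exact isom_pol hg u v

omit h2 in
lemma isom_mem_M {g : Matrix.GeneralLinearGroup (Fin m ⊕ Fin m) F} (hg : g ∈ isometryGroup F Q) :
    g ∈ Geo.quadSimilarityGroup Q ⊓ Cfsg.spGL m F := by
  rw [Subgroup.mem_inf]
  refine ⟨⟨1, fun v => ?_⟩, isom_mem_spGL hQ hpol hg⟩
  rw [(mem_isom g).1 hg v, Units.val_one, one_mul]

omit h2 in
lemma M_le_isom (u0 : Fin m ⊕ Fin m → F) (hu0 : u0 ≠ 0) {g : Matrix.GeneralLinearGroup (Fin m ⊕ Fin m) F}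
    (hg : g ∈ Geo.quadSimilarityGroup Q ⊓ Cfsg.spGL m F) : g ∈ isometryGroup F Q := by
  rw [Subgroup.mem_inf] at hg
  obtain ⟨⟨c, hc⟩, hsp⟩ := hg
  rw [Cfsg.Agent.Lib.Helper99.mem_spGL_iff] at hsp
  obtain ⟨⟨z, hz⟩, _⟩ := hQ.nondegenerate u0 hu0
  have h1 := hsp z u0
  rw [← hpol, ← hpol] at h1
  have h3 : QuadraticMap.polar Q ((g : Matrix _ _ F) *ᵥ z) ((g : Matrix _ _ F) *ᵥ u0) =
      (c : F) * QuadraticMap.polar Q z u0 := by
    unfold QuadraticMap.polar
    rw [← Matrix.mulVec_add, hc, hc, hc]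
    ring
  have hc1 : (c : F) = 1 := by
    have h4 : ((c : F) - 1) * QuadraticMap.polar Q z u0 = 0 := by
      rw [sub_mul, ← h3, h1]; ring
    rcases mul_eq_zero.1 h4 with h5 | h5
    · linear_combination h5
    · exact absurd h5 hz
  rw [mem_isom]
  intro v
  rw [hc v, hc1, one_mul]

lemma char2_add_eq_zero {a b : F} : a + b = 0 ↔ a = b := by
  constructor
  · intro h
    have : a = -b := eq_neg_of_add_eq_zero_left h
    rw [this]
    linear_combination -b * h2
  · intro h
    rw [h]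
    linear_combination b * h2

/-- an element of `Sp` which is not an isometry of `Q` moves the norm of some nonsingular vector -/
lemma exists_nonsing_moved (hm : 2 ≤ m) {h : Matrix.GeneralLinearGroup (Fin m ⊕ Fin m) F}
    (hsp : h ∈ Cfsg.spGL m F) (hni : h ∉ isometryGroup F Q) :
    ∃ v, Q v ≠ 0 ∧ Q ((h : Matrix _ _ F) *ᵥ v) ≠ Q v := by
  rw [Cfsg.Agent.Lib.Helper99.mem_spGL_iff] at hsp
  have hcard : Fintype.card (Fin m ⊕ Fin m) = m + m := by simp
  have hDadd : ∀ x y, Q ((h : Matrix _ _ F) *ᵥ (x + y)) + Q (x + y) =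
      (Q ((h : Matrix _ _ F) *ᵥ x) + Q x) + (Q ((h : Matrix _ _ F) *ᵥ y) + Q y) := by
    intro x y
    rw [Matrix.mulVec_add, Q_add Q, Q_add Q x y]
    have : pol Q ((h : Matrix _ _ F) *ᵥ x) ((h : Matrix _ _ F) *ᵥ y) = pol Q x y := by
      show QuadraticMap.polar Q _ _ = QuadraticMap.polar Q _ _
      rw [hpol, hpol, hsp]
    rw [this]
    linear_combination pol Q x y * h2
  rw [mem_isom] at hni
  push_neg at hni
  obtain ⟨x, hx⟩ := hni
  by_cases hQx : Q x = 0
  · have hx0 : x ≠ 0 := by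
      intro h0
      apply hx
      rw [h0, Matrix.mulVec_zero]
    have hfin : Module.finrank F (Submodule.span F {x}) = 1 := finrank_span_singleton hx0
    obtain ⟨y, hy, hQy⟩ := exists_nonsingular_in_orth hQ (Submodule.span F {x}) (by rw [hfin, hcard]; omega)
    have hxy : pol Q x y = 0 := (mem_orth hQ).1 hy x (Submodule.mem_span_singleton_self x)
    by_cases hDy : Q ((h : Matrix _ _ F) *ᵥ y) = Q y
    · refine ⟨x + y, ?_, ?_⟩
      · rw [Q_add Q, hQx, hxy, zero_add, add_zero]; exact hQy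
      · intro heq
        have h1 := hDadd x y
        rw [heq, hDy] at h1
        have h3 : Q (x + y) + Q (x + y) = 0 := (char2_add_eq_zero hQ hpol h2).2 rfl
        have h4 : Q y + Q y = 0 := (char2_add_eq_zero hQ hpol h2).2 rfl
        rw [h3, h4, add_zero] at h1
        exact hx ((char2_add_eq_zero hQ hpol h2).1 h1.symm)
    · exact ⟨y, hQy, hDy⟩
  · exact ⟨x, hQx, hx⟩

end oq

end Cfsg.Agent.Lib.Helper94
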