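import Cfsg.Agent.Lib.Helper94.OQMax

set_option autoImplicit false

namespace Cfsg.Agent.Lib.Helper94

open scoped Matrix
open Cfsg

set_option linter.unusedSectionVars false
set_option linter.unnecessarySimpa false
set_option linter.style.haveILetI false
set_option linter.unusedVariables false

variable {F : Type*} [Field F]

section oq
variable [Fintype F] {m : ℕ} {Q : (Fin m ⊕ Fin m → F) → F} (hQ : Geo.IsNondegenerateQuadraticForm Q)
  (hpol : ∀ u v, QuadraticMap.polar Q u v = Cfsg.sympForm m F u v) (h2 : (2 : F) = 0)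
include hQ hpol h2

omit hQ hpol h2 in
lemma finrank_span_singleton_le' (v : Fin m ⊕ Fin m → F) : Module.finrank F (Submodule.span F {v}) ≤ 1 :=
  le_trans (finrank_span_le_card {v}) (by simp)

omit hQ hpol in
lemma exists_sqrt (a : F) : ∃ s : F, s * s = a := by
  have hch : ringChar F = 2 :=
    CharP.ringChar_of_prime_eq_zero Nat.prime_two (by exact_mod_cast h2)
  obtain ⟨s, hs⟩ := FiniteField.isSquare_of_char_two hch a
  exact ⟨s, hs.symm⟩

open Cfsg.Agent.Lib.Helper99 in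
/-- a subgroup containing the isometries of `Q` and one more transvection is transitive on nonzero
vectors -/
lemma H_transitive (hm : 3 ≤ m) (H : Subgroup (Matrix.GeneralLinearGroup (Fin m ⊕ Fin m) F))
    (hO : ∀ g ∈ isometryGroup F Q, g ∈ H) (w0 : Fin m ⊕ Fin m → F) (c0 : F) (hτ : stv m w0 c0 ∈ H)
    (hκ : c0 * (c0 * Q w0 + 1) ≠ 0) (hw0 : w0 ≠ 0) (x y : Fin m ⊕ Fin m → F) (hx : x ≠ 0) (hy : y ≠ 0) :
    ∃ g ∈ H, (g : Matrix (Fin m ⊕ Fin m) (Fin m ⊕ Fin m) F) *ᵥ x = y := by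
  have hcard : Fintype.card (Fin m ⊕ Fin m) = m + m := by simp
  by_cases hxy : Q x = Q y
  · obtain ⟨g, hg, hgx⟩ := witt_vec hQ x y hx hy hxy
    exact ⟨g, hO g hg, hgx⟩
  · obtain ⟨r, hr⟩ := exists_sqrt h2 ((Q x + Q y) * (c0 * (c0 * Q w0 + 1))⁻¹)
    have hr0 : r ≠ 0 := by
      intro h0
      rw [h0, mul_zero] at hr
      rcases mul_eq_zero.1 hr.symm with h1 | h1
      · exact hxy ((char2_add_eq_zero hQ hpol h2).1 h1)
      · exact inv_ne_zero hκ h1
    -- a vector pairing to one with `w0`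
    obtain ⟨⟨p0, hp0⟩, _⟩ := hQ.nondegenerate w0 hw0
    obtain ⟨p, hpw⟩ : ∃ p, pol Q p w0 = 1 :=
      ⟨(pol Q p0 w0)⁻¹ • p0, by rw [pol_smul_left hQ]; exact inv_mul_cancel₀ hp0⟩
    -- a nonsingular vector orthogonal to `w0` and `p`
    have hfin : Module.finrank F ↥(Submodule.span F {w0} ⊔ Submodule.span F {p}) ≤ 2 := by
      have h1 := Submodule.finrank_add_le_finrank_add_finrank (Submodule.span F {w0}) (Submodule.span F {p})
      have h3 : Module.finrank F (Submodule.span F {w0}) ≤ 1 := finrank_span_singleton_le' w0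
      have h4 : Module.finrank F (Submodule.span F {p}) ≤ 1 := finrank_span_singleton_le' p
      omega
    obtain ⟨y0, hy0, hQy0⟩ := exists_nonsingular_in_orth hQ (Submodule.span F {w0} ⊔ Submodule.span F {p})
      (by rw [hcard]; omega)
    have hw0y0 : pol Q w0 y0 = 0 :=
      (mem_orth hQ).1 hy0 w0 (Submodule.mem_sup_left (Submodule.mem_span_singleton_self w0))
    have hpy0 : pol Q p y0 = 0 :=
      (mem_orth hQ).1 hy0 p (Submodule.mem_sup_right (Submodule.mem_span_singleton_self p))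
    obtain ⟨l, hl⟩ := exists_sqrt h2 ((Q x + r * r * Q p) * (Q y0)⁻¹)
    obtain ⟨x', hx'⟩ : ∃ x', x' = r • p + l • y0 := ⟨_, rfl⟩
    have hQx' : Q x' = Q x := by
      rw [hx', Q_add Q, Q_smul hQ, Q_smul hQ, pol_smul_left hQ, pol_smul_right hQ, hpy0, pow_two, pow_two, hl,
        mul_assoc (Q x + r * r * Q p), inv_mul_cancel₀ hQy0]
      linear_combination (r * r * Q p) * h2
    have hx'w : pol Q x' w0 = r := by
      rw [hx', pol_add_left hQ, pol_smul_left hQ, pol_smul_left hQ, hpw, pol_comm Q y0 w0, hw0y0]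
      ring
    have hx'0 : x' ≠ 0 := by
      intro h0
      apply hr0
      rw [← hx'w, h0, pol_zero_left hQ]
    have hQτ : Q ((stv m w0 c0 : Matrix (Fin m ⊕ Fin m) (Fin m ⊕ Fin m) F) *ᵥ x') = Q y := by
      rw [Q_stv hQ hpol h2, hQx', hx'w, pow_two, hr]
      have hc0 : c0 ≠ 0 := left_ne_zero_of_mul hκ
      have hc1 : c0 * Q w0 + 1 ≠ 0 := right_ne_zero_of_mul hκ
      have : c0 * ((Q x + Q y) * (c0 * (c0 * Q w0 + 1))⁻¹) * (c0 * Q w0 + 1) = Q x + Q y := by
        field_simp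
      rw [this]
      linear_combination Q x * h2
    have hτ0 : (stv m w0 c0 : Matrix (Fin m ⊕ Fin m) (Fin m ⊕ Fin m) F) *ᵥ x' ≠ 0 := by
      intro h0
      apply hx'0
      rw [← Cfsg.Agent.Lib.Helper94.inv_mulVec_mulVec (stv m w0 c0) x', h0, Matrix.mulVec_zero]
    obtain ⟨g1, hg1, hg1x⟩ := witt_vec hQ x x' hx hx'0 hQx'.symm
    obtain ⟨g2, hg2, hg2x⟩ := witt_vec hQ _ y hτ0 hy hQτ
    refine ⟨g2 * stv m w0 c0 * g1, H.mul_mem (H.mul_mem (hO g2 hg2) hτ) (hO g1 hg1), ?_⟩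
    rw [Units.val_mul, Units.val_mul, ← Matrix.mulVec_mulVec, ← Matrix.mulVec_mulVec, hg1x, hg2x]

open Cfsg.Agent.Lib.Helper99 in
/-- maximality of the isometry group of `Q` in the symplectic group, characteristic two -/
theorem oq_maximal_aux (hm : 3 ≤ m) (H : Subgroup (Matrix.GeneralLinearGroup (Fin m ⊕ Fin m) F))
    (hMH : Geo.quadSimilarityGroup Q ⊓ Cfsg.spGL m F ≤ H) (hHS : H ≤ Cfsg.spGL m F)
    (hne : ¬ H ≤ Geo.quadSimilarityGroup Q ⊓ Cfsg.spGL m F) : H = Cfsg.spGL m F := by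
  have hcard : Fintype.card (Fin m ⊕ Fin m) = m + m := by simp
  have hO : ∀ g ∈ isometryGroup F Q, g ∈ H := fun g hg => hMH (isom_mem_M hQ hpol hg)
  obtain ⟨h, hhH, hhM⟩ := SetLike.not_le_iff_exists.1 hne
  have hni : h ∉ isometryGroup F Q := fun hi => hhM (isom_mem_M hQ hpol hi)
  obtain ⟨v, hQv, hmv⟩ := exists_nonsing_moved hQ hpol h2 (by omega) (hHS hhH) hni
  -- the reflection in `v`
  have hrefl : ∀ v : Fin m ⊕ Fin m → F, Q v ≠ 0 → stv m v (Q v)⁻¹ ∈ isometryGroup F Q := by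
    intro v hQv
    rw [mem_isom]
    intro x
    rw [Q_stv hQ hpol h2, inv_mul_cancel₀ hQv]
    linear_combination ((Q v)⁻¹ * pol Q x v ^ 2) * h2
  have hτ : stv m ((h : Matrix (Fin m ⊕ Fin m) (Fin m ⊕ Fin m) F) *ᵥ v) (Q v)⁻¹ ∈ H := by
    rw [← conj_stv m h (hHS hhH)]
    exact H.mul_mem (H.mul_mem hhH (hO _ (hrefl v hQv))) (H.inv_mem hhH)
  have hκ : (Q v)⁻¹ * ((Q v)⁻¹ * Q ((h : Matrix (Fin m ⊕ Fin m) (Fin m ⊕ Fin m) F) *ᵥ v) + 1) ≠ 0 := by
    apply mul_ne_zero (inv_ne_zero hQv)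
    intro h0
    apply hmv
    have h1 := (char2_add_eq_zero hQ hpol h2).1 h0
    field_simp at h1
    exact h1
  have hw0 : (h : Matrix (Fin m ⊕ Fin m) (Fin m ⊕ Fin m) F) *ᵥ v ≠ 0 := by
    intro h0
    have hv0 : v = 0 := by
      rw [← Cfsg.Agent.Lib.Helper94.inv_mulVec_mulVec h v, h0, Matrix.mulVec_zero]
    apply hQv
    rw [hv0, Q_zero hQ]
  have htrans := H_transitive hQ hpol h2 hm H hO _ _ hτ hκ hw0
  apply eq_spGL_of_stv_mem m H hHS
  intro u c
  by_cases hu : u = 0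
  · have : stv m u c = 1 := by
      apply GL_ext
      intro x
      rw [stv_mulVec, hu, smul_zero, add_zero, Units.val_one, Matrix.one_mulVec]
    rw [this]
    exact H.one_mem
  by_cases hc : c = 0
  · have : stv m u c = 1 := by
      apply GL_ext
      intro x
      rw [stv_mulVec, hc, zero_mul, zero_smul, add_zero, Units.val_one, Matrix.one_mulVec]
    rw [this]
    exact H.one_mem
  obtain ⟨l, hl⟩ := exists_sqrt h2 ((Q v)⁻¹ * c⁻¹)
  have hl0 : l ≠ 0 := by
    intro h0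
    rw [h0, mul_zero] at hl
    exact mul_ne_zero (inv_ne_zero hQv) (inv_ne_zero hc) hl.symm
  have hlv : l • v ≠ 0 := by
    intro h0
    rcases smul_eq_zero.1 h0 with h1 | h1
    · exact hl0 h1
    · apply hQv; rw [h1, Q_zero hQ]
  obtain ⟨g, hgH, hgu⟩ := htrans (l • v) u hlv hu
  have e1 : stv m (l • v) c = stv m v (Q v)⁻¹ := by
    apply GL_ext
    intro x
    rw [stv_mulVec, stv_mulVec, ← hpol, ← hpol]
    have := pol_smul_right hQ l x v
    unfold pol at this
    rw [this, smul_smul]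
    congr 2
    have : c * (l * QuadraticMap.polar Q x v) * l = c * (l * l) * QuadraticMap.polar Q x v := by ring
    rw [this, hl]
    field_simp
  have e2 : stv m u c = g * stv m (l • v) c * g⁻¹ := by
    rw [conj_stv m g (hHS hgH), hgu]
  rw [e2, e1]
  exact H.mul_mem (H.mul_mem hgH (hO _ (hrefl v hQv))) (H.inv_mem hgH)

/-- a nonzero singular vector, characteristic two -/
lemma exists_singular_ne_zero (hm : 2 ≤ m) : ∃ u : Fin m ⊕ Fin m → F, u ≠ 0 ∧ Q u = 0 := by
  have hcard : Fintype.card (Fin m ⊕ Fin m) = m + m := by simp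
  obtain ⟨x, _, hQx⟩ := exists_nonsingular_in_orth hQ (⊥ : Submodule F (Fin m ⊕ Fin m → F))
    (by rw [finrank_bot, hcard]; omega)
  have hx0 : x ≠ 0 := by
    intro h0; apply hQx; rw [h0, Q_zero hQ]
  have hfin : Module.finrank F (Submodule.span F {x}) = 1 := finrank_span_singleton hx0
  have hy : ∃ y ∈ orth hQ (Submodule.span F {x}), y ∉ Submodule.span F {x} := by
    by_contra hcon
    push_neg at hcon
    have hle : orth hQ (Submodule.span F {x}) ≤ Submodule.span F {x} := hcon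
    have h1 := Submodule.finrank_mono hle
    have h3 := finrank_orth hQ (Submodule.span F {x})
    omega
  obtain ⟨y, hyo, hyx⟩ := hy
  have hxy : pol Q x y = 0 := (mem_orth hQ).1 hyo x (Submodule.mem_span_singleton_self x)
  obtain ⟨t, ht⟩ := exists_sqrt h2 (Q y * (Q x)⁻¹)
  refine ⟨y + t • x, ?_, ?_⟩
  · intro h0
    apply hyx
    rw [Submodule.mem_span_singleton]
    refine ⟨-t, ?_⟩
    rw [neg_smul]
    exact (eq_neg_of_add_eq_zero_left h0).symm
  · rw [Q_add Q, Q_smul hQ, pol_smul_right hQ, pol_comm Q y x, hxy, pow_two, ht, mul_assoc, inv_mul_cancel₀ hQx]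
    linear_combination Q y * h2

end oq

end Cfsg.Agent.Lib.Helper94
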