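import Cfsg.Agent.Lib.Helper94.WtStab

set_option autoImplicit false

namespace Cfsg.Agent.Lib.Helper94

open scoped Matrix
open Cfsg

set_option linter.unusedSectionVars false
set_option linter.unnecessarySimpa false
set_option linter.style.haveILetI false
set_option linter.unusedVariables false

variable {ι : Type} [Fintype ι] [DecidableEq ι] {F : Type*} [Field F]

/-- a subgroup containing all transvections -/
def ContainsTransvections (H : Subgroup (Matrix.GeneralLinearGroup ι F)) : Prop :=
  ∀ (g : Matrix.GeneralLinearGroup ι F) (w : ι → F) (φ : (ι → F) →ₗ[F] F), φ w = 0 →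
    (∀ x, (g : Matrix ι ι F) *ᵥ x = x + φ x • w) → g ∈ H

/-- elementary transvections as invertible matrices -/
noncomputable def eGL (i j : ι) (hij : i ≠ j) (b : F) : Matrix.GeneralLinearGroup ι F :=
  Matrix.GeneralLinearGroup.mkOfDetNeZero (Matrix.transvection i j b)
    (by rw [Matrix.det_transvection_of_ne i j hij b]; exact one_ne_zero)

lemma eGL_mulVec (i j : ι) (hij : i ≠ j) (b : F) (x : ι → F) :
    (eGL i j hij b : Matrix ι ι F) *ᵥ x = x + (b * x j) • Pi.single i (1 : F) := by
  show Matrix.transvection i j b *ᵥ x = _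
  rw [Matrix.transvection, Matrix.add_mulVec, Matrix.one_mulVec, Matrix.single_mulVec_eq]

lemma eGL_mulVec_apply (i j : ι) (hij : i ≠ j) (b : F) (x : ι → F) (k : ι) :
    ((eGL i j hij b : Matrix ι ι F) *ᵥ x) k = x k + if k = i then b * x j else 0 := by
  rw [eGL_mulVec]
  simp [Pi.single_apply]

lemma eGL_mem {H : Subgroup (Matrix.GeneralLinearGroup ι F)} (hH : ContainsTransvections H) (i j : ι)
    (hij : i ≠ j) (b : F) : eGL i j hij b ∈ H := by
  apply hH _ (Pi.single i (1 : F)) (b • LinearMap.proj j)
  · simp [Pi.single_apply, hij.symm]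
  · intro x
    rw [eGL_mulVec]
    simp

lemma diag_eq_prod (i j : ι) (hij : i ≠ j) (c : F) (hc : c ≠ 0) (g : Matrix.GeneralLinearGroup ι F)
    (hg : (g : Matrix ι ι F) = Matrix.diagonal (fun k => if k = i then c else if k = j then c⁻¹ else 1)) :
    g = eGL i j hij c * eGL j i hij.symm (-c⁻¹) * eGL i j hij c * eGL i j hij (-1) * eGL j i hij.symm 1 *
      eGL i j hij (-1) := by
  apply GL_ext
  intro x
  rw [hg]
  simp only [Units.val_mul, ← Matrix.mulVec_mulVec]
  funext k
  rw [Matrix.mulVec_diagonal]
  simp only [eGL_mulVec_apply]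
  by_cases hki : k = i
  · subst hki
    simp only [if_true, if_neg hij, if_neg hij.symm, if_pos rfl]
    field_simp
    ring
  · by_cases hkj : k = j
    · subst hkj
      simp only [if_true, if_neg hij, if_neg hij.symm, if_pos rfl, if_neg hki]
      field_simp
      ring
    · simp only [if_neg hki, if_neg hkj, if_neg hij, if_neg hij.symm, if_true]
      ring

theorem SL_le_of_containsTransvections [Nontrivial ι] (H : Subgroup (Matrix.GeneralLinearGroup ι F))
    (hH : ContainsTransvections H) : Geo.specialLinear ι F ≤ H := by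
  intro g hg
  rw [mem_SL] at hg
  have key : ∀ M : Matrix.SpecialLinearGroup ι F, ∀ g : Matrix.GeneralLinearGroup ι F,
      (g : Matrix ι ι F) = M.1 → g ∈ H := by
    intro M
    refine Matrix.SpecialLinearGroup.diagonal_transvection_induction'
      (fun M => ∀ g : Matrix.GeneralLinearGroup ι F, (g : Matrix ι ι F) = M.1 → g ∈ H) M ?_ ?_ ?_
    · intro i j hij c hc g hg
      rw [Matrix.SpecialLinearGroup.diag2n_coe] at hg
      rw [diag_eq_prod i j hij c hc g hg]
      exact H.mul_mem (H.mul_mem (H.mul_mem (H.mul_mem (H.mul_mem (eGL_mem hH _ _ _ _) (eGL_mem hH _ _ _ _))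
        (eGL_mem hH _ _ _ _)) (eGL_mem hH _ _ _ _)) (eGL_mem hH _ _ _ _)) (eGL_mem hH _ _ _ _)
    · intro i j hij a g hg
      have : g = eGL i j hij a := by
        apply Units.ext
        rw [hg]
        rfl
      rw [this]
      exact eGL_mem hH i j hij a
    · intro A B hA hB g hg
      have hAd : A.1.det ≠ 0 := by rw [A.2]; exact one_ne_zero
      have hBd : B.1.det ≠ 0 := by rw [B.2]; exact one_ne_zero
      have : g = Matrix.GeneralLinearGroup.mkOfDetNeZero A.1 hAd * Matrix.GeneralLinearGroup.mkOfDetNeZero B.1 hBd := by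
        apply Units.ext
        rw [hg]
        rfl
      rw [this]
      exact H.mul_mem (hA _ rfl) (hB _ rfl)
  exact key ⟨(g : Matrix ι ι F), hg⟩ g rfl

end Cfsg.Agent.Lib.Helper94
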