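import Cfsg.Agent.Lib.Helper94.ParityOmega

set_option autoImplicit false

namespace Cfsg.Agent.Lib.Helper94

open scoped Matrix
open Cfsg

set_option linter.unusedSectionVars false
set_option linter.unnecessarySimpa false
set_option linter.style.haveILetI false
set_option linter.unusedVariables false

variable {ι : Type} [Fintype ι] [DecidableEq ι] {F : Type*} [Field F]

section sc
variable {Q : (ι → F) → F} (hQ : Geo.IsNondegenerateQuadraticForm Q)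
include hQ

lemma sGL_inv_mulVec (s1 s2 : ι → F) (h1 : Q s1 = 0) (h2 : Q s2 = 0) (h12 : pol Q s1 s2 = 0) (v : ι → F) :
    (((sGL hQ s1 s2 h1 h2 h12)⁻¹ : Matrix.GeneralLinearGroup ι F) : Matrix ι ι F) *ᵥ v =
      v + pol Q v s1 • s2 - pol Q v s2 • s1 := by
  show LinearMap.toMatrix' (siegL hQ s2 s1) *ᵥ v = _
  rw [LinearMap.toMatrix'_mulVec, siegL_apply]

/-- a commutator of Siegel transformations acting as a long root element -/
lemma sc_comm (e1 e2 e3 f3 : ι → F) (q1 : Q e1 = 0) (q2 : Q e2 = 0) (q3 : Q e3 = 0) (qf : Q f3 = 0)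
    (h12 : pol Q e1 e2 = 0) (h13 : pol Q e1 e3 = 0) (h32 : pol Q e3 e2 = 0)
    (h1f : pol Q e1 f3 = 0) (h2f : pol Q e2 f3 = 0) (h3f : pol Q e3 f3 = 1) :
    ∃ g ∈ Geo.omegaGL Q, ∀ y, pol Q y e2 = 0 → pol Q y e3 = 0 →
      (g : Matrix ι ι F) *ᵥ y = y - pol Q y e1 • e2 := by
  refine ⟨sGL hQ e1 f3 q1 qf h1f * sGL hQ e3 e2 q3 q2 h32 * (sGL hQ e1 f3 q1 qf h1f)⁻¹ *
    (sGL hQ e3 e2 q3 q2 h32)⁻¹,
    comm_mem_omega (sGL_mem_isom hQ _ _ _ _ _) (sGL_mem_isom hQ _ _ _ _ _), ?_⟩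
  intro y hy2 hy3
  have h21 : pol Q e2 e1 = 0 := by rw [pol_comm]; exact h12
  have h31 : pol Q e3 e1 = 0 := by rw [pol_comm]; exact h13
  have h23 : pol Q e2 e3 = 0 := by rw [pol_comm]; exact h32
  have hf1 : pol Q f3 e1 = 0 := by rw [pol_comm]; exact h1f
  have hf2 : pol Q f3 e2 = 0 := by rw [pol_comm]; exact h2f
  have hf3 : pol Q f3 e3 = 1 := by rw [pol_comm]; exact h3f
  have h11 : pol Q e1 e1 = 0 := by rw [pol_self hQ, q1, mul_zero]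
  have h22 : pol Q e2 e2 = 0 := by rw [pol_self hQ, q2, mul_zero]
  have h33 : pol Q e3 e3 = 0 := by rw [pol_self hQ, q3, mul_zero]
  have hff : pol Q f3 f3 = 0 := by rw [pol_self hQ, qf, mul_zero]
  rw [Units.val_mul, Units.val_mul, Units.val_mul, ← Matrix.mulVec_mulVec, ← Matrix.mulVec_mulVec,
    ← Matrix.mulVec_mulVec]
  rw [sGL_inv_mulVec hQ e3 e2 q3 q2 h32 y, hy3, hy2, zero_smul, zero_smul, add_zero, sub_zero]
  rw [sGL_inv_mulVec, sGL_mulVec, sGL_mulVec]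
  simp only [pol_add_left hQ, pol_sub_left hQ, pol_smul_left hQ, hy2, hy3, h12, h13, h32, h1f, h2f, h3f, h21, h31,
    h23, hf1, hf2, hf3, h11, h22, h33, hff]
  module

/-- a commutator of Siegel transformations acting as a root element of the Levi factor -/
lemma sl_comm (e1 e2 e3 f1 f2 : ι → F) (q2 : Q e2 = 0) (q3 : Q e3 = 0) (qf1 : Q f1 = 0) (qf2 : Q f2 = 0)
    (h12 : pol Q e1 e2 = 0) (h13 : pol Q e1 e3 = 0) (h23 : pol Q e2 e3 = 0)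
    (h1f1 : pol Q e1 f1 = 1) (h2f1 : pol Q e2 f1 = 0) (h3f1 : pol Q e3 f1 = 0)
    (h1f2 : pol Q e1 f2 = 0) (h2f2 : pol Q e2 f2 = 1) (h3f2 : pol Q e3 f2 = 0) :
    ∃ g ∈ Geo.omegaGL Q, (g : Matrix ι ι F) *ᵥ e1 = e1 + e3 ∧
      ∀ M : Submodule F (ι → F), e2 ∈ M → e3 ∈ M → (∀ y ∈ M, pol Q y e2 = 0 ∧ pol Q y e3 = 0) →
        ∀ y ∈ M, (g : Matrix ι ι F) *ᵥ y ∈ M := by
  refine ⟨sGL hQ e3 f2 q3 qf2 h3f2 * sGL hQ e2 f1 q2 qf1 h2f1 * (sGL hQ e3 f2 q3 qf2 h3f2)⁻¹ *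
    (sGL hQ e2 f1 q2 qf1 h2f1)⁻¹,
    comm_mem_omega (sGL_mem_isom hQ _ _ _ _ _) (sGL_mem_isom hQ _ _ _ _ _), ?_, ?_⟩
  · have h21 : pol Q e2 e1 = 0 := by rw [pol_comm]; exact h12
    have h31 : pol Q e3 e1 = 0 := by rw [pol_comm]; exact h13
    have h32 : pol Q e3 e2 = 0 := by rw [pol_comm]; exact h23
    have h22 : pol Q e2 e2 = 0 := by rw [pol_self hQ, q2, mul_zero]
    have h33 : pol Q e3 e3 = 0 := by rw [pol_self hQ, q3, mul_zero]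
    rw [Units.val_mul, Units.val_mul, Units.val_mul, ← Matrix.mulVec_mulVec, ← Matrix.mulVec_mulVec,
      ← Matrix.mulVec_mulVec]
    rw [sGL_inv_mulVec hQ e2 f1 q2 qf1 h2f1 e1, sGL_inv_mulVec, sGL_mulVec, sGL_mulVec]
    simp only [pol_add_left hQ, pol_sub_left hQ, pol_smul_left hQ, h12, h13, h23, h1f1, h2f1, h3f1, h1f2, h2f2,
      h3f2, h21, h31, h32, h22, h33]
    module
  · intro M he2 he3 hM y hy
    have ha : ∀ z ∈ M, (sGL hQ e3 f2 q3 qf2 h3f2 : Matrix ι ι F) *ᵥ z ∈ M := by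
      intro z hz
      rw [sGL_mulVec, (hM z hz).2, zero_smul, sub_zero]
      exact M.add_mem hz (M.smul_mem _ he3)
    have ha' : ∀ z ∈ M, (((sGL hQ e3 f2 q3 qf2 h3f2)⁻¹ : Matrix.GeneralLinearGroup ι F) : Matrix ι ι F) *ᵥ z ∈ M := by
      intro z hz
      rw [sGL_inv_mulVec, (hM z hz).2, zero_smul, add_zero]
      exact M.sub_mem hz (M.smul_mem _ he3)
    have hb : ∀ z ∈ M, (sGL hQ e2 f1 q2 qf1 h2f1 : Matrix ι ι F) *ᵥ z ∈ M := by
      intro z hz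
      rw [sGL_mulVec, (hM z hz).1, zero_smul, sub_zero]
      exact M.add_mem hz (M.smul_mem _ he2)
    have hb' : ∀ z ∈ M, (((sGL hQ e2 f1 q2 qf1 h2f1)⁻¹ : Matrix.GeneralLinearGroup ι F) : Matrix ι ι F) *ᵥ z ∈ M := by
      intro z hz
      rw [sGL_inv_mulVec, (hM z hz).1, zero_smul, add_zero]
      exact M.sub_mem hz (M.smul_mem _ he2)
    rw [Units.val_mul, Units.val_mul, Units.val_mul, ← Matrix.mulVec_mulVec, ← Matrix.mulVec_mulVec,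
      ← Matrix.mulVec_mulVec]
    exact ha _ (hb _ (ha' _ (hb' _ hy)))

/-- a commutator of a Siegel transformation and a reflection moving a singular vector out of its
totally singular subspace -/
lemma move_comm (e1 f1 f3 : ι → F) (q1 : Q e1 = 0) (qf1 : Q f1 = 0) (qf3 : Q f3 = 0)
    (h1f1 : pol Q e1 f1 = 1) (h1f3 : pol Q e1 f3 = 0) :
    ∃ g ∈ Geo.omegaGL Q, (g : Matrix ι ι F) *ᵥ e1 = (pol Q f1 f3 + 1) • e1 - f3 := by
  have hu : Q (e1 + f1) = 1 := by rw [Q_add Q, q1, qf1, h1f1]; ring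
  have hu0 : Q (e1 + f1) ≠ 0 := by rw [hu]; exact one_ne_zero
  refine ⟨sGL hQ e1 f3 q1 qf3 h1f3 * rGL hQ (e1 + f1) hu0 * (sGL hQ e1 f3 q1 qf3 h1f3)⁻¹ *
    (rGL hQ (e1 + f1) hu0)⁻¹,
    comm_mem_omega (sGL_mem_isom hQ _ _ _ _ _) (rGL_mem_isom hQ _ _), ?_⟩
  have hf11 : pol Q f1 e1 = 1 := by rw [pol_comm]; exact h1f1
  have hf31 : pol Q f3 e1 = 0 := by rw [pol_comm]; exact h1f3
  have h11 : pol Q e1 e1 = 0 := by rw [pol_self hQ, q1, mul_zero]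
  have hf1f1 : pol Q f1 f1 = 0 := by rw [pol_self hQ, qf1, mul_zero]
  have hf3f3 : pol Q f3 f3 = 0 := by rw [pol_self hQ, qf3, mul_zero]
  have hf3f1 : pol Q f3 f1 = pol Q f1 f3 := pol_comm Q f3 f1
  rw [rGL_inv, Units.val_mul, Units.val_mul, Units.val_mul, ← Matrix.mulVec_mulVec, ← Matrix.mulVec_mulVec,
    ← Matrix.mulVec_mulVec]
  rw [rGL_mulVec hQ (e1 + f1) hu0 e1, sGL_inv_mulVec, rGL_mulVec, sGL_mulVec]
  simp only [pol_add_left hQ, pol_sub_left hQ, pol_smul_left hQ, pol_add_right hQ, hu, inv_one, one_mul,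
    h1f1, h1f3, hf11, hf31, h11, hf1f1, hf3f3, hf3f1]
  module

end sc

end Cfsg.Agent.Lib.Helper94
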