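import Cfsg.Agent.Lib.Helper94.OForm
import Cfsg.Agent.Lib.Helper94.SiegelComm
import Cfsg.Agent.Lib.Helper94.SLGen

set_option autoImplicit false

namespace Cfsg.Agent.Lib.Helper94

open scoped Matrix
open Cfsg

set_option linter.unusedSectionVars false
set_option linter.unnecessarySimpa false
set_option linter.style.haveILetI false
set_option linter.unusedVariables false

variable {ι : Type} [Fintype ι] [DecidableEq ι] {F : Type*} [Field F]

section otrans
variable {Q : (ι → F) → F} (hQ : Geo.IsNondegenerateQuadraticForm Q)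
include hQ

lemma exists_BT (w a : ι → F) (h : pol Q w a = 0) :
    ∃ g : Matrix.GeneralLinearGroup ι F, (g : Matrix ι ι F).det = 1 ∧
      ∀ x, (g : Matrix ι ι F) *ᵥ x = x + pol Q x a • w := by
  have h1 : (1 : F) + (polL hQ a) w ≠ 0 := by
    rw [polL_apply, h, add_zero]; exact one_ne_zero
  obtain ⟨g, hg1, hg2⟩ := exists_rank_one (polL hQ a) w h1
  refine ⟨g, ?_, ?_⟩
  · rw [hg1, polL_apply, h, add_zero]
  · intro x
    rw [hg2 x, polL_apply]

/-- the transvection `x ↦ x + pol Q x a • w` -/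
noncomputable def BT (w a : ι → F) (h : pol Q w a = 0) : Matrix.GeneralLinearGroup ι F :=
  Classical.choose (exists_BT hQ w a h)

lemma BT_det (w a : ι → F) (h : pol Q w a = 0) : (BT hQ w a h : Matrix ι ι F).det = 1 :=
  (Classical.choose_spec (exists_BT hQ w a h)).1

lemma BT_mulVec (w a : ι → F) (h : pol Q w a = 0) (x : ι → F) :
    (BT hQ w a h : Matrix ι ι F) *ᵥ x = x + pol Q x a • w :=
  (Classical.choose_spec (exists_BT hQ w a h)).2 x

lemma BT_mem_SL (w a : ι → F) (h : pol Q w a = 0) : BT hQ w a h ∈ Geo.specialLinear ι F := by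
  rw [mem_SL]; exact BT_det hQ w a h

lemma BT_inv_mulVec (w a : ι → F) (h : pol Q w a = 0) (x : ι → F) :
    (((BT hQ w a h)⁻¹ : Matrix.GeneralLinearGroup ι F) : Matrix ι ι F) *ᵥ x = x - pol Q x a • w := by
  have h1 : (BT hQ w a h : Matrix ι ι F) *ᵥ (x - pol Q x a • w) = x := by
    rw [BT_mulVec, pol_sub_left hQ, pol_smul_left hQ, h, mul_zero, sub_zero]
    abel
  rw [← h1, inv_mulVec_mulVec, h1]

/-- long root elements have determinant one -/
lemma sGL_det (s1 s2 : ι → F) (h1 : Q s1 = 0) (h2 : Q s2 = 0) (h12 : pol Q s1 s2 = 0) :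
    (sGL hQ s1 s2 h1 h2 h12 : Matrix ι ι F).det = 1 := by
  have h21 : pol Q s2 (-s1) = 0 := by rw [pol_neg_right hQ, pol_comm, h12, neg_zero]
  have e : sGL hQ s1 s2 h1 h2 h12 = BT hQ s1 s2 h12 * BT hQ s2 (-s1) h21 := by
    apply GL_ext
    intro x
    rw [Units.val_mul, ← Matrix.mulVec_mulVec, sGL_mulVec, BT_mulVec, BT_mulVec, pol_add_left hQ,
      pol_smul_left hQ, pol_self hQ, h2, pol_neg_right hQ]
    module
  rw [e, Units.val_mul, Matrix.det_mul, BT_det, BT_det, one_mul]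

section good
variable (H : Subgroup (Matrix.GeneralLinearGroup ι F))

/-- the transvection attached to the pair lies in `H` -/
def OGood (w a : ι → F) : Prop := ∃ h : pol Q w a = 0, BT hQ w a h ∈ H

lemma ogood_of_eq {w a : ι → F} (h : pol Q w a = 0) (g : Matrix.GeneralLinearGroup ι F) (hg : g ∈ H)
    (hgx : ∀ x, (g : Matrix ι ι F) *ᵥ x = x + pol Q x a • w) : OGood hQ H w a := by
  refine ⟨h, ?_⟩
  have : BT hQ w a h = g := by
    apply GL_ext
    intro x
    rw [BT_mulVec, hgx]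
  rw [this]; exact hg

lemma ogood_zero_right (w : ι → F) : OGood hQ H w 0 := by
  refine ogood_of_eq hQ H (pol_zero_right hQ w) 1 H.one_mem ?_
  intro x
  rw [Units.val_one, Matrix.one_mulVec, pol_zero_right hQ, zero_smul, add_zero]

lemma ogood_zero_left (a : ι → F) : OGood hQ H 0 a := by
  refine ogood_of_eq hQ H (pol_zero_left hQ a) 1 H.one_mem ?_
  intro x
  rw [Units.val_one, Matrix.one_mulVec, smul_zero, add_zero]

lemma ogood_add_right {w a a' : ι → F} (h1 : OGood hQ H w a) (h2 : OGood hQ H w a') :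
    OGood hQ H w (a + a') := by
  obtain ⟨e1, g1⟩ := h1
  obtain ⟨e2, g2⟩ := h2
  refine ogood_of_eq hQ H (by rw [pol_add_right hQ, e1, e2, add_zero]) _ (H.mul_mem g1 g2) ?_
  intro x
  rw [Units.val_mul, ← Matrix.mulVec_mulVec, BT_mulVec, BT_mulVec, pol_add_left hQ, pol_smul_left hQ, e1,
    pol_add_right hQ]
  simp only [mul_zero, add_zero]
  module

lemma ogood_add_left {w w' a : ι → F} (h1 : OGood hQ H w a) (h2 : OGood hQ H w' a) :
    OGood hQ H (w + w') a := by
  obtain ⟨e1, g1⟩ := h1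
  obtain ⟨e2, g2⟩ := h2
  refine ogood_of_eq hQ H (by rw [pol_add_left hQ, e1, e2, add_zero]) _ (H.mul_mem g1 g2) ?_
  intro x
  rw [Units.val_mul, ← Matrix.mulVec_mulVec, BT_mulVec, BT_mulVec, pol_add_left hQ, pol_smul_left hQ, e2,
    smul_add]
  simp only [mul_zero, add_zero]
  module

lemma ogood_neg_right {w a : ι → F} (h1 : OGood hQ H w a) : OGood hQ H w (-a) := by
  obtain ⟨e1, g1⟩ := h1
  refine ogood_of_eq hQ H (by rw [pol_neg_right hQ, e1, neg_zero]) _ (H.inv_mem g1) ?_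
  intro x
  rw [BT_inv_mulVec, pol_neg_right hQ, neg_smul, sub_eq_add_neg]

/-- conjugation by an isometry in `H` -/
lemma ogood_isom {w a : ι → F} (h1 : OGood hQ H w a) {g : Matrix.GeneralLinearGroup ι F} (hg : g ∈ H)
    (hgi : g ∈ isometryGroup F Q) :
    OGood hQ H ((g : Matrix ι ι F) *ᵥ w) ((g : Matrix ι ι F) *ᵥ a) := by
  obtain ⟨e1, g1⟩ := h1
  refine ogood_of_eq hQ H (by rw [isom_pol hgi]; exact e1) _ (H.mul_mem (H.mul_mem hg g1) (H.inv_mem hg)) ?_
  intro x
  rw [Units.val_mul, Units.val_mul, ← Matrix.mulVec_mulVec, ← Matrix.mulVec_mulVec, BT_mulVec,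
    Matrix.mulVec_add, Matrix.mulVec_smul, mulVec_inv_mulVec]
  congr 2
  rw [← isom_pol hgi, mulVec_inv_mulVec]

/-- conjugation by a transvection in `H` -/
lemma ogood_conj {w0 a0 w a : ι → F} (h0 : OGood hQ H w0 a0) (h1 : OGood hQ H w a) :
    OGood hQ H (w + pol Q w a0 • w0) (a - pol Q a w0 • a0) := by
  obtain ⟨e0, g0⟩ := h0
  obtain ⟨e1, g1⟩ := h1
  have hσ : pol Q a w0 = pol Q w0 a := pol_comm Q a w0
  refine ogood_of_eq hQ H ?_ _ (H.mul_mem (H.mul_mem g0 g1) (H.inv_mem g0)) ?_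
  · rw [pol_add_left hQ, pol_sub_right hQ, pol_sub_right hQ, pol_smul_left hQ, pol_smul_right hQ,
      pol_smul_right hQ, pol_smul_left hQ, e0, e1, hσ]
    ring
  · intro x
    rw [Units.val_mul, Units.val_mul, ← Matrix.mulVec_mulVec, ← Matrix.mulVec_mulVec, BT_inv_mulVec, BT_mulVec,
      BT_mulVec, pol_add_left hQ, pol_smul_left hQ, pol_sub_left hQ, pol_smul_left hQ,
      pol_sub_left hQ, pol_smul_left hQ, e0, pol_sub_right hQ, pol_smul_right hQ, hσ]
    simp only [mul_zero, sub_zero]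
    module

end good

end otrans

end Cfsg.Agent.Lib.Helper94
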