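import Cfsg.Agent.Lib.Helper94.MaxTS

set_option autoImplicit false

namespace Cfsg.Agent.Lib.Helper94

open scoped Matrix
open Cfsg

set_option linter.unusedSectionVars false
set_option linter.unnecessarySimpa false
set_option linter.style.haveILetI false
set_option linter.unusedVariables false

variable {ι : Type} [Fintype ι] [DecidableEq ι] {F : Type*} [Field F]

/-- the image of a subspace under an invertible matrix -/
noncomputable def gmap (g : Matrix.GeneralLinearGroup ι F) (M : Submodule F (ι → F)) : Submodule F (ι → F) :=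
  M.map (Matrix.toLin' (g : Matrix ι ι F))

lemma mem_gmap (g : Matrix.GeneralLinearGroup ι F) (M : Submodule F (ι → F)) (v : ι → F) :
    v ∈ gmap g M ↔ ∃ w ∈ M, (g : Matrix ι ι F) *ᵥ w = v := by
  unfold gmap
  rw [Submodule.mem_map]
  simp only [Matrix.toLin'_apply]

lemma mulVec_mem_gmap (g : Matrix.GeneralLinearGroup ι F) {M : Submodule F (ι → F)} {w : ι → F} (hw : w ∈ M) :
    (g : Matrix ι ι F) *ᵥ w ∈ gmap g M := (mem_gmap g M _).2 ⟨w, hw, rfl⟩

lemma gmap_mul (g h : Matrix.GeneralLinearGroup ι F) (M : Submodule F (ι → F)) :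
    gmap (g * h) M = gmap g (gmap h M) := by
  unfold gmap
  rw [Units.val_mul, Matrix.toLin'_mul, Submodule.map_comp]

lemma gmap_one (M : Submodule F (ι → F)) : gmap (1 : Matrix.GeneralLinearGroup ι F) M = M := by
  unfold gmap
  rw [Units.val_one, Matrix.toLin'_one, Submodule.map_id]

lemma toLin'_injective (g : Matrix.GeneralLinearGroup ι F) :
    Function.Injective (Matrix.toLin' (g : Matrix ι ι F)) := by
  intro v w h
  rw [Matrix.toLin'_apply, Matrix.toLin'_apply] at h
  rw [← inv_mulVec_mulVec g v, h, inv_mulVec_mulVec]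

lemma finrank_gmap (g : Matrix.GeneralLinearGroup ι F) (M : Submodule F (ι → F)) :
    Module.finrank F (gmap g M) = Module.finrank F M :=
  (LinearEquiv.finrank_eq (Submodule.equivMapOfInjective _ (toLin'_injective g) M)).symm

lemma gmap_inf (g : Matrix.GeneralLinearGroup ι F) (A B : Submodule F (ι → F)) :
    gmap g (A ⊓ B) = gmap g A ⊓ gmap g B := by
  unfold gmap
  exact Submodule.map_inf _ (toLin'_injective g)

lemma finrank_gmap_inf (g : Matrix.GeneralLinearGroup ι F) (A B : Submodule F (ι → F)) :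
    Module.finrank F ↥(gmap g A ⊓ gmap g B) = Module.finrank F ↥(A ⊓ B) := by
  rw [← gmap_inf, finrank_gmap]

lemma gmap_mono (g : Matrix.GeneralLinearGroup ι F) {A B : Submodule F (ι → F)} (h : A ≤ B) :
    gmap g A ≤ gmap g B := Submodule.map_mono h

lemma gmap_mts {Q : (ι → F) → F} {k : ℕ} {g : Matrix.GeneralLinearGroup ι F} (hg : g ∈ isometryGroup F Q)
    {M : Submodule F (ι → F)} (hM : IsMTS Q k M) : IsMTS Q k (gmap g M) := by
  refine ⟨?_, ?_⟩
  · intro v hv
    obtain ⟨w, hw, rfl⟩ := (mem_gmap g M v).1 hv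
    rw [(mem_isom g).1 hg w]
    exact hM.ts w hw
  · rw [finrank_gmap]; exact hM.dim

/-- stabilising a subspace in terms of `gmap` -/
lemma mem_subStab_iff_gmap (W : Submodule F (ι → F)) (g : Matrix.GeneralLinearGroup ι F) :
    g ∈ Geo.subspaceStabilizer W ↔ gmap g W = W := by
  have h0 : g ∈ Geo.subspaceStabilizer W ↔ ∀ v, v ∈ W ↔ (g : Matrix ι ι F) *ᵥ v ∈ W := Iff.rfl
  rw [h0]
  constructor
  · intro h
    apply le_antisymm
    · intro v hv
      obtain ⟨w, hw, rfl⟩ := (mem_gmap g W v).1 hv
      exact (h w).1 hw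
    · intro v hv
      rw [mem_gmap]
      refine ⟨((g⁻¹ : Matrix.GeneralLinearGroup ι F) : Matrix ι ι F) *ᵥ v, ?_, mulVec_inv_mulVec g v⟩
      rw [h, mulVec_inv_mulVec]
      exact hv
  · intro h v
    constructor
    · intro hv
      rw [← h]
      exact mulVec_mem_gmap g hv
    · intro hv
      rw [← h, mem_gmap] at hv
      obtain ⟨w, hw, hwv⟩ := hv
      have : w = v := by rw [← inv_mulVec_mulVec g w, hwv, inv_mulVec_mulVec]
      rw [← this]
      exact hw

section parity
variable {Q : (ι → F) → F} (hQ : Geo.IsNondegenerateQuadraticForm Q) {k : ℕ} (hn : Fintype.card ι = 2 * k)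
include hQ hn

lemma parity_mul {M : Submodule F (ι → F)} (hM : IsMTS Q k M) {g h : Matrix.GeneralLinearGroup ι F}
    (hg : g ∈ isometryGroup F Q) (hh : h ∈ isometryGroup F Q) :
    Even ((Module.finrank F ↥(M ⊓ gmap (g * h) M) + k) + (Module.finrank F ↥(M ⊓ gmap g M) + k) +
      (Module.finrank F ↥(M ⊓ gmap h M) + k)) := by
  have h1 := triangle_parity hQ hn (gmap g M) M (gmap (g * h) M) (gmap_mts hg hM) hM
    (gmap_mts (Subgroup.mul_mem _ hg hh) hM)
  have h2 : Module.finrank F ↥(gmap g M ⊓ gmap (g * h) M) = Module.finrank F ↥(M ⊓ gmap h M) := by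
    rw [gmap_mul, finrank_gmap_inf]
  rw [h2, inf_comm (gmap g M) M] at h1
  rw [Nat.even_iff] at h1 ⊢
  omega

/-- the parity character of the isometry group attached to a maximal totally singular subspace -/
noncomputable def parityHom {M : Submodule F (ι → F)} (hM : IsMTS Q k M) :
    isometryGroup F Q →* Multiplicative (ZMod 2) :=
  MonoidHom.mk' (fun g => Multiplicative.ofAdd
    (((Module.finrank F ↥(M ⊓ gmap (g : Matrix.GeneralLinearGroup ι F) M) + k : ℕ) : ZMod 2)))
    (by
      intro a b
      rw [← ofAdd_add]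
      congr 1
      have h := parity_mul hQ hn hM a.2 b.2
      have h0 := (ZMod.natCast_eq_zero_iff_even).2 h
      have h2 : (2 : ZMod 2) = 0 := rfl
      rw [Subgroup.coe_mul]
      push_cast at h0 ⊢
      linear_combination h0 - ((Module.finrank F ↥(M ⊓ gmap (a : Matrix.GeneralLinearGroup ι F) M) : ZMod 2) + k
        + (Module.finrank F ↥(M ⊓ gmap (b : Matrix.GeneralLinearGroup ι F) M) : ZMod 2) + k) * h2)

/-- Theorem P: elements of `Ω` move a maximal totally singular subspace to one meeting it in even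
codimension -/
theorem parity_omega {M : Submodule F (ι → F)} (hM : IsMTS Q k M) {g : Matrix.GeneralLinearGroup ι F}
    (hg : g ∈ Geo.omegaGL Q) : Even (Module.finrank F ↥(M ⊓ gmap g M) + k) := by
  unfold Geo.omegaGL at hg
  obtain ⟨g', hg', rfl⟩ := hg
  have h1 := Abelianization.commutator_subset_ker (parityHom hQ hn hM) hg'
  rw [MonoidHom.mem_ker] at h1
  have h2 : Multiplicative.ofAdd
      (((Module.finrank F ↥(M ⊓ gmap (g' : Matrix.GeneralLinearGroup ι F) M) + k : ℕ) : ZMod 2)) = 1 := h1
  rw [ofAdd_eq_one] at h2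
  exact (ZMod.natCast_eq_zero_iff_even).1 h2

end parity

end Cfsg.Agent.Lib.Helper94
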