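import Cfsg.Agent.Lib.Helper94.Quad

set_option autoImplicit false

namespace Cfsg.Agent.Lib.Helper94

open scoped Matrix
open Cfsg

set_option linter.unusedSectionVars false
set_option linter.unnecessarySimpa false
set_option linter.style.haveILetI false
set_option linter.unusedVariables false

variable {ι : Type} [Fintype ι] [DecidableEq ι] {F : Type*} [Field F] [Fintype F]

lemma f3_three (hq : Fintype.card F = 3) : (3 : F) = 0 := by
  have := card_nsmul_eq_zero (G := F) (x := 1)
  rw [hq] at this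
  simpa using this

lemma f3_cases (hq : Fintype.card F = 3) (a : F) : a = 0 ∨ a = 1 ∨ a = -1 := by
  classical
  have h3 := f3_three hq
  have hne : (1 : F) ≠ -1 := by
    intro h
    have : (2 : F) = 0 := by linear_combination h
    have h1 : (1 : F) = 0 := by linear_combination h3 - this
    exact one_ne_zero h1
  by_contra hcon
  push Not at hcon
  have h4 : ({0, 1, -1, a} : Finset F).card = 4 := by
    rw [Finset.card_insert_of_notMem, Finset.card_insert_of_notMem, Finset.card_insert_of_notMem,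
      Finset.card_singleton]
    · simpa using hcon.2.2.symm
    · simp only [Finset.mem_insert, Finset.mem_singleton, not_or]
      exact ⟨hne, hcon.2.1.symm⟩
    · simp only [Finset.mem_insert, Finset.mem_singleton, not_or]
      refine ⟨zero_ne_one, ?_, hcon.1.symm⟩
      intro h; exact one_ne_zero (neg_eq_zero.mp h.symm)
  have := Finset.card_le_univ ({0, 1, -1, a} : Finset F)
  omega

lemma vadd3 (h3 : (3 : F) = 0) (v : ι → F) : v + v = -v := by
  have : (3 : F) • v = 0 := by rw [h3, zero_smul]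
  have h' : v + v + v = 0 := by
    rw [← this]; module
  exact eq_neg_of_add_eq_zero_left h'

lemma mem_subStab (W : Submodule F (ι → F)) (g : Matrix.GeneralLinearGroup ι F) :
    g ∈ Geo.subspaceStabilizer W ↔ ∀ v, v ∈ W ↔ (g : Matrix ι ι F) *ᵥ v ∈ W := Iff.rfl

lemma mem_stabz (S : Set (ι → F)) (g : Matrix.GeneralLinearGroup ι F) :
    g ∈ stabilizing (glToMat ι F) S ↔ ∀ v, v ∈ S ↔ (g : Matrix ι ι F) *ᵥ v ∈ S := Iff.rfl

lemma mulVec_injective' (g : Matrix.GeneralLinearGroup ι F) {v w : ι → F}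
    (h : (g : Matrix ι ι F) *ᵥ v = (g : Matrix ι ι F) *ᵥ w) : v = w := by
  rw [← inv_mulVec_mulVec g v, h, inv_mulVec_mulVec]

/-- core lemma: hyperbolic plane over the field with three elements, with a vector `z` orthogonal to it of
norm `-1`. -/
lemma plusPlane3_core {Q : (ι → F) → F} (hQ : Geo.IsNondegenerateQuadraticForm Q) (hq : Fintype.card F = 3)
    (W : Submodule F (ι → F)) (e e' z : ι → F) (he : e ∈ W) (he' : e' ∈ W)
    (hspan : ∀ v ∈ W, ∃ α β : F, v = α • e + β • e')
    (hQe : Q e = 0) (hQe' : Q e' = 0) (hee' : pol Q e e' = 1)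
    (hze : pol Q z e = 0) (hze' : pol Q z e' = 0) (hQz : Q z = -1) :
    ∃ K : Subgroup (Matrix.GeneralLinearGroup ι F),
      Geo.subspaceStabilizer W ⊓ Geo.omegaGL Q < K ∧ K < Geo.omegaGL Q := by
  have h3 := f3_three hq
  have h2 : (2 : F) = -1 := by linear_combination h3
  have hne1 : (-1 : F) ≠ 0 := neg_ne_zero.mpr one_ne_zero
  have hinv : (-1 : F)⁻¹ = -1 := by rw [inv_neg, inv_one]
  -- basic values
  have he'e : pol Q e' e = 1 := by rw [pol_comm]; exact hee'
  have hpee : pol Q e e = 0 := by rw [pol_self hQ, hQe, mul_zero]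
  have hpe'e' : pol Q e' e' = 0 := by rw [pol_self hQ, hQe', mul_zero]
  have hez : pol Q e z = 0 := by rw [pol_comm]; exact hze
  have he'z : pol Q e' z = 0 := by rw [pol_comm]; exact hze'
  set d : ι → F := e + e' with hd
  set c : ι → F := e - e' with hc
  have hdW : d ∈ W := W.add_mem he he'
  have hcW : c ∈ W := W.sub_mem he he'
  have hQd : Q d = 1 := by rw [hd, Q_add Q, hQe, hQe', hee']; ring
  have hQc : Q c = -1 := by rw [hc, Q_sub hQ, hQe, hQe', hee']; ring
  have hdc : pol Q d c = 0 := by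
    rw [hd, hc, pol_add_left hQ, pol_sub_right hQ, pol_sub_right hQ, hpee, hee', he'e, hpe'e']; ring
  have hcd : pol Q c d = 0 := by rw [pol_comm]; exact hdc
  have hdd : pol Q d d = -1 := by rw [pol_self hQ, hQd, mul_one, h2]
  have hcc : pol Q c c = 1 := by rw [pol_self hQ, hQc, h2]; ring
  have hzz : pol Q z z = 1 := by rw [pol_self hQ, hQz, h2]; ring
  have hzd : pol Q z d = 0 := by rw [hd, pol_add_right hQ, hze, hze', add_zero]
  have hzc : pol Q z c = 0 := by rw [hc, pol_sub_right hQ, hze, hze', sub_zero]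
  have hdz : pol Q d z = 0 := by rw [pol_comm]; exact hzd
  have hcz : pol Q c z = 0 := by rw [pol_comm]; exact hzc
  -- z is not in W
  have hzW : z ∉ W := by
    intro hz
    obtain ⟨α, β, hab⟩ := hspan z hz
    have h1 : pol Q z e = β := by
      rw [hab, pol_add_left hQ, pol_smul_left hQ, pol_smul_left hQ, hpee, he'e]; ring
    have h1' : pol Q z e' = α := by
      rw [hab, pol_add_left hQ, pol_smul_left hQ, pol_smul_left hQ, hee', hpe'e']; ring
    rw [hze] at h1; rw [hze'] at h1'
    rw [← h1, ← h1', zero_smul, zero_smul, add_zero] at hab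
    rw [hab, Q_zero hQ] at hQz
    exact hne1 hQz.symm
  -- the set S
  set S : Set (ι → F) := {v | v ∈ W ∧ Q v = 1} with hS
  have hS_eq : ∀ v, v ∈ S ↔ v = d ∨ v = -d := by
    intro v
    constructor
    · rintro ⟨hvW, hQv⟩
      obtain ⟨α, β, rfl⟩ := hspan v hvW
      have hab : α * β = 1 := by
        rw [Q_add Q, Q_smul hQ, Q_smul hQ, hQe, hQe', pol_smul_left hQ, pol_smul_right hQ, hee'] at hQv
        linear_combination hQv
      rcases f3_cases hq α with rfl | rfl | rfl
      · rw [zero_mul] at hab; exact absurd hab zero_ne_one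
      · rw [one_mul] at hab; subst hab; left; rw [hd]; simp
      · have hb : β = -1 := by linear_combination -hab
        subst hb; right; rw [hd]; simp; abel
    · rintro (rfl | rfl)
      · exact ⟨hdW, hQd⟩
      · exact ⟨W.neg_mem hdW, by rw [Q_neg hQ, hQd]⟩
  -- Q-values of auxiliary vectors
  have hQcz : Q (c + z) = 1 := by rw [Q_add Q, hQc, hQz, hcz]; linear_combination -h3
  have hQcz0 : Q (c + z) ≠ 0 := by rw [hQcz]; exact one_ne_zero
  have hQd0 : Q d ≠ 0 := by rw [hQd]; exact one_ne_zero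
  have hQc0 : Q c ≠ 0 := by rw [hQc]; exact hne1
  have hQdcz : Q (d - (c + z)) ≠ 0 := by
    rw [Q_sub hQ, hQd, hQcz, pol_add_right hQ, hdc, hdz]
    intro h; apply one_ne_zero (α := F); linear_combination -h + h3
  have hQw : Q (d - c + z) = -1 := by
    rw [Q_add Q, Q_sub hQ, hQd, hQc, hdc, hQz, pol_sub_left hQ, hdz, hcz]; ring
  have hQw0 : Q (d - c + z) ≠ 0 := by rw [hQw]; exact hne1
  have hQcw : Q (c - (d - c + z)) ≠ 0 := by
    rw [Q_sub hQ, hQc, hQw, pol_add_right hQ, pol_sub_right hQ, hcd, hcc, hcz]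
    intro h; apply one_ne_zero (α := F); linear_combination -h
  refine ⟨stabilizing (glToMat ι F) S ⊓ Geo.omegaGL Q, ?_, ?_⟩
  · rw [SetLike.lt_iff_le_and_exists]
    refine ⟨?_, rGL hQ d hQd0 * rGL hQ (c + z) hQcz0, ?_, ?_⟩
    · intro g hg
      rw [Subgroup.mem_inf] at hg ⊢
      refine ⟨?_, hg.2⟩
      have hgi := (mem_isom g).1 (omega_le_isom hg.2)
      have hgW := (mem_subStab W g).1 hg.1
      rw [mem_stabz]
      intro v
      constructor
      · rintro ⟨hvW, hQv⟩
        exact ⟨(hgW v).1 hvW, by rw [hgi v]; exact hQv⟩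
      · rintro ⟨hvW, hQv⟩
        exact ⟨(hgW v).2 hvW, by rw [← hgi v]; exact hQv⟩
    · rw [Subgroup.mem_inf]
      refine ⟨?_, rr_mem_omega hQ d (c + z) hQd0 hQcz0 (by rw [hQcz, hQd]) hQdcz⟩
      have hgd : ((rGL hQ d hQd0 * rGL hQ (c + z) hQcz0 : Matrix.GeneralLinearGroup ι F) : Matrix ι ι F) *ᵥ d
          = -d := by
        rw [Units.val_mul, ← Matrix.mulVec_mulVec, rGL_mulVec hQ (c + z), pol_add_right hQ, hdc, hdz, add_zero,
          mul_zero, zero_smul, sub_zero, rGL_mulVec, hQd, hdd, inv_one, one_mul, neg_smul, one_smul,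
          sub_neg_eq_add]
        exact vadd3 h3 d
      have hgnd : ((rGL hQ d hQd0 * rGL hQ (c + z) hQcz0 : Matrix.GeneralLinearGroup ι F) : Matrix ι ι F) *ᵥ (-d)
          = d := by
        rw [Matrix.mulVec_neg, hgd, neg_neg]
      rw [mem_stabz]
      intro v
      rw [hS_eq, hS_eq]
      constructor
      · rintro (rfl | rfl)
        · right; exact hgd
        · left; exact hgnd
      · rintro (h | h)
        · right; exact mulVec_injective' _ (h.trans hgnd.symm)
        · left; exact mulVec_injective' _ (h.trans hgd.symm)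
    · intro hmem
      rw [Subgroup.mem_inf] at hmem
      have hgW := (mem_subStab W _).1 hmem.1 c
      have hgc : ((rGL hQ d hQd0 * rGL hQ (c + z) hQcz0 : Matrix.GeneralLinearGroup ι F) : Matrix ι ι F) *ᵥ c
          = -z := by
        rw [Units.val_mul, ← Matrix.mulVec_mulVec, rGL_mulVec hQ (c + z), pol_add_right hQ, hcc, hcz, add_zero,
          hQcz, inv_one, one_mul, one_smul]
        have : c - (c + z) = -z := by abel
        rw [this, rGL_mulVec, pol_neg_left hQ, hzd, neg_zero, mul_zero, zero_smul, sub_zero]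
      rw [hgc] at hgW
      exact hzW (by simpa using W.neg_mem (hgW.1 hcW))
  · rw [SetLike.lt_iff_le_and_exists]
    refine ⟨inf_le_right, rGL hQ c hQc0 * rGL hQ (d - c + z) hQw0,
      rr_mem_omega hQ c (d - c + z) hQc0 hQw0 (by rw [hQw, hQc]) hQcw, ?_⟩
    intro hmem
    rw [Subgroup.mem_inf] at hmem
    have hst := ((mem_stabz S _).1 hmem.1 d).1 ⟨hdW, hQd⟩
    have hgd : ((rGL hQ c hQc0 * rGL hQ (d - c + z) hQw0 : Matrix.GeneralLinearGroup ι F) : Matrix ι ι F) *ᵥ d
        = -c - z := by
      rw [Units.val_mul, ← Matrix.mulVec_mulVec, rGL_mulVec hQ (d - c + z), pol_add_right hQ, pol_sub_right hQ,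
        hdd, hdc, hdz, hQw, hinv]
      have : d - (-1 * (-1 - 0 + 0) : F) • (d - c + z) = c - z := by
        have : (-1 * (-1 - 0 + 0) : F) = 1 := by ring
        rw [this, one_smul]; abel
      rw [this, rGL_mulVec, pol_sub_left hQ, hcc, hzc, hQc, hinv]
      have : ((-1 : F) * (1 - 0)) = -1 := by ring
      rw [this, neg_smul, one_smul, sub_neg_eq_add]
      have h' := vadd3 h3 c
      calc c - z + c = (c + c) - z := by abel
        _ = -c - z := by rw [h']
    rw [hgd] at hst
    have : z ∈ W := by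
      have h1 : -c - z ∈ W := hst.1
      have h2 : z = -(-c - z) - c := by abel
      rw [h2]
      exact W.sub_mem (W.neg_mem h1) hcW
    exact hzW this

section general
variable {Q : (ι → F) → F} (hQ : Geo.IsNondegenerateQuadraticForm Q)
include hQ

/-- a plus-type nondegenerate plane has a hyperbolic basis -/
lemma exists_hyp_pair (W : Submodule F (ι → F)) (hdim : Module.finrank F W = 2)
    (hW : Geo.IsNondegenerateOn (QuadraticMap.polar Q) W) (hplus : Geo.IsPlusTypeOn Q W) :
    ∃ e e' : ι → F, e ∈ W ∧ e' ∈ W ∧ Q e = 0 ∧ Q e' = 0 ∧ pol Q e e' = 1 ∧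
      ∀ v ∈ W, ∃ α β : F, v = α • e + β • e' := by
  obtain ⟨U, hUW, hUts, hUdim⟩ := hplus
  have hU1 : Module.finrank F U = 1 := by omega
  have hUne : U ≠ ⊥ := by
    intro h; rw [h, finrank_bot] at hU1; omega
  obtain ⟨e, heU, he0⟩ := Submodule.exists_mem_ne_zero_of_ne_bot hUne
  have heW : e ∈ W := hUW heU
  have hQe : Q e = 0 := hUts e heU
  obtain ⟨⟨y, hyW, hye⟩, _⟩ := hW e heW he0
  have hye' : pol Q y e ≠ 0 := hye
  set y' : ι → F := (pol Q y e)⁻¹ • y with hy'
  have hy'W : y' ∈ W := W.smul_mem _ hyW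
  have hy'e : pol Q y' e = 1 := by
    rw [hy', pol_smul_left hQ, inv_mul_cancel₀ hye']
  clear_value y'
  have hpee : pol Q e e = 0 := by rw [pol_self hQ, hQe, mul_zero]
  set e' : ι → F := y' - (Q y') • e with he'
  have he'W : e' ∈ W := W.sub_mem hy'W (W.smul_mem _ heW)
  have hee' : pol Q e e' = 1 := by
    rw [he', pol_sub_right hQ, pol_smul_right hQ, hpee, mul_zero, sub_zero, pol_comm, hy'e]
  have hQe' : Q e' = 0 := by
    rw [he', Q_sub hQ, Q_smul hQ, hQe, mul_zero, add_zero, pol_smul_right hQ, hy'e, mul_one, sub_self]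
  clear_value e'
  have he'e : pol Q e' e = 1 := by rw [pol_comm]; exact hee'
  have hpe'e' : pol Q e' e' = 0 := by rw [pol_self hQ, hQe', mul_zero]
  refine ⟨e, e', heW, he'W, hQe, hQe', hee', ?_⟩
  have hli : LinearIndependent F ![e, e'] := by
    rw [LinearIndependent.pair_iff]
    intro α β hab
    have h1 : pol Q (α • e + β • e') e = 0 := by rw [hab, pol_zero_left hQ]
    have h2 : pol Q (α • e + β • e') e' = 0 := by rw [hab, pol_zero_left hQ]
    rw [pol_add_left hQ, pol_smul_left hQ, pol_smul_left hQ, hpee, he'e] at h1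
    rw [pol_add_left hQ, pol_smul_left hQ, pol_smul_left hQ, hee', hpe'e'] at h2
    constructor
    · linear_combination h2
    · linear_combination h1
  have hspan : Submodule.span F (Set.range ![e, e']) = W := by
    apply Submodule.eq_of_le_of_finrank_eq
    · rw [Submodule.span_le]
      rintro x ⟨i, rfl⟩
      fin_cases i
      · exact heW
      · exact he'W
    · rw [finrank_span_eq_card hli, hdim]; simp
  intro v hv
  rw [← hspan] at hv
  have hr : Set.range ![e, e'] = {e, e'} := by
    ext y; simp [eq_comm, or_comm]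
  rw [hr, Submodule.mem_span_pair] at hv
  obtain ⟨α, β, h⟩ := hv
  exact ⟨α, β, h.symm⟩

/-- a nonsingular vector orthogonal to a hyperbolic plane which is not everything -/
lemma exists_perp_nonsing (W : Submodule F (ι → F)) (hWtop : W ≠ ⊤) (e e' : ι → F) (he : e ∈ W) (he' : e' ∈ W)
    (hQe : Q e = 0) (hQe' : Q e' = 0) (hee' : pol Q e e' = 1) :
    ∃ z : ι → F, pol Q z e = 0 ∧ pol Q z e' = 0 ∧ Q z ≠ 0 := by
  have he'e : pol Q e' e = 1 := by rw [pol_comm]; exact hee'
  have hpee : pol Q e e = 0 := by rw [pol_self hQ, hQe, mul_zero]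
  have hpe'e' : pol Q e' e' = 0 := by rw [pol_self hQ, hQe', mul_zero]
  have hproj : ∀ x : ι → F, pol Q (x - pol Q x e' • e - pol Q x e • e') e = 0 ∧
      pol Q (x - pol Q x e' • e - pol Q x e • e') e' = 0 := by
    intro x
    constructor
    · rw [pol_sub_left hQ, pol_sub_left hQ, pol_smul_left hQ, pol_smul_left hQ, hpee, he'e]; ring
    · rw [pol_sub_left hQ, pol_sub_left hQ, pol_smul_left hQ, pol_smul_left hQ, hee', hpe'e']; ring
  obtain ⟨x, hx⟩ : ∃ x : ι → F, x ∉ W := by
    by_contra hcon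
    push Not at hcon
    exact hWtop (eq_top_iff.mpr fun x _ => hcon x)
  set x₁ : ι → F := x - pol Q x e' • e - pol Q x e • e' with hx₁
  have hx₁0 : x₁ ≠ 0 := by
    intro h0
    apply hx
    have : x = pol Q x e' • e + pol Q x e • e' := by
      have : x - pol Q x e' • e - pol Q x e • e' = 0 := h0
      rw [sub_sub, sub_eq_zero] at this
      exact this
    rw [this]
    exact W.add_mem (W.smul_mem _ he) (W.smul_mem _ he')
  obtain ⟨⟨y, hy⟩, _⟩ := hQ.nondegenerate x₁ hx₁0
  have hy' : pol Q y x₁ ≠ 0 := hy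
  set y₁ : ι → F := y - pol Q y e' • e - pol Q y e • e' with hy₁
  have hx₁e : pol Q x₁ e = 0 := (hproj x).1
  have hx₁e' : pol Q x₁ e' = 0 := (hproj x).2
  have hy₁e : pol Q y₁ e = 0 := (hproj y).1
  have hy₁e' : pol Q y₁ e' = 0 := (hproj y).2
  clear_value x₁
  have hy₁x₁ : pol Q y₁ x₁ = pol Q y x₁ := by
    rw [hy₁, pol_sub_left hQ, pol_sub_left hQ, pol_smul_left hQ, pol_smul_left hQ, pol_comm Q e x₁,
      pol_comm Q e' x₁, hx₁e, hx₁e']
    ring
  clear_value y₁
  by_cases h1 : Q x₁ = 0
  · by_cases h2 : Q y₁ = 0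
    · refine ⟨y₁ + x₁, ?_, ?_, ?_⟩
      · rw [pol_add_left hQ, hy₁e, hx₁e, add_zero]
      · rw [pol_add_left hQ, hy₁e', hx₁e', add_zero]
      · rw [Q_add Q, h1, h2, hy₁x₁, zero_add, zero_add]; exact hy'
    · exact ⟨y₁, hy₁e, hy₁e', h2⟩
  · exact ⟨x₁, hx₁e, hx₁e', h1⟩

end general

section negation
variable {Q : (ι → F) → F}

lemma pol_negQ (x y : ι → F) : pol (fun v => - Q v) x y = - pol Q x y := by
  rw [pol_def, pol_def]; ring

lemma nondeg_negQ (hQ : Geo.IsNondegenerateQuadraticForm Q) :
    Geo.IsNondegenerateQuadraticForm (fun v => - Q v) where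
  smul c v := by rw [hQ.smul]; ring
  polar_bilinear :=
    { add_left := fun x y v => by
        show pol (fun v => - Q v) (x + y) v = pol (fun v => - Q v) x v + pol (fun v => - Q v) y v
        rw [pol_negQ, pol_negQ, pol_negQ, pol_add_left hQ]; ring
      smul_left := fun c x v => by
        show pol (fun v => - Q v) (c • x) v = c * pol (fun v => - Q v) x v
        rw [pol_negQ, pol_negQ, pol_smul_left hQ]; ring
      add_right := fun v x y => by
        show pol (fun v => - Q v) v (x + y) = pol (fun v => - Q v) v x + pol (fun v => - Q v) v y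
        rw [pol_negQ, pol_negQ, pol_negQ, pol_add_right hQ]; ring
      smul_right := fun c v x => by
        show pol (fun v => - Q v) v (c • x) = c * pol (fun v => - Q v) v x
        rw [pol_negQ, pol_negQ, pol_smul_right hQ]; ring }
  nondegenerate := by
    intro v hv
    obtain ⟨⟨x, hx⟩, ⟨y, hy⟩⟩ := hQ.nondegenerate v hv
    refine ⟨⟨x, ?_⟩, ⟨y, ?_⟩⟩
    · show pol (fun v => - Q v) x v ≠ 0
      rw [pol_negQ]; exact neg_ne_zero.mpr hx
    · show pol (fun v => - Q v) v y ≠ 0
      rw [pol_negQ]; exact neg_ne_zero.mpr hy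

lemma isom_negQ : isometryGroup F (fun v => - Q v) = isometryGroup F Q := by
  ext g
  rw [mem_isom, mem_isom]
  constructor
  · intro h u; exact neg_inj.mp (h u)
  · intro h u; rw [h u]

/-- the image in the ambient group of the commutator subgroup of a subgroup -/
def commMap {G : Type*} [Group G] (I : Subgroup G) : Subgroup G := (commutator I).map I.subtype

lemma omegaGL_eq_commMap (Q : (ι → F) → F) : Geo.omegaGL Q = commMap (isometryGroup F Q) := rfl

lemma omega_negQ : Geo.omegaGL (fun v => - Q v) = Geo.omegaGL Q := by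
  rw [omegaGL_eq_commMap, omegaGL_eq_commMap, isom_negQ]

end negation

/-- over the field with three elements the stabiliser in Ω of a plus-type plane is not maximal -/
theorem plusPlane3 {Q : (ι → F) → F} (hQ : Geo.IsNondegenerateQuadraticForm Q) (hq : Fintype.card F = 3)
    (W : Submodule F (ι → F)) (hdim : Module.finrank F W = 2)
    (hW : Geo.IsNondegenerateOn (QuadraticMap.polar Q) W) (hplus : Geo.IsPlusTypeOn Q W) (hWtop : W ≠ ⊤) :
    ∃ K : Subgroup (Matrix.GeneralLinearGroup ι F),
      Geo.subspaceStabilizer W ⊓ Geo.omegaGL Q < K ∧ K < Geo.omegaGL Q := by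
  obtain ⟨e, e', he, he', hQe, hQe', hee', hspan⟩ := exists_hyp_pair hQ W hdim hW hplus
  obtain ⟨z, hze, hze', hQz⟩ := exists_perp_nonsing hQ W hWtop e e' he he' hQe hQe' hee'
  rcases f3_cases hq (Q z) with h0 | h1 | hm1
  · exact absurd h0 hQz
  · -- use -Q
    have hQ' := nondeg_negQ hQ
    have := plusPlane3_core hQ' hq W e (-e') z he (W.neg_mem he')
      (by
        intro v hv
        obtain ⟨α, β, h⟩ := hspan v hv
        exact ⟨α, -β, by rw [h]; simp⟩)
      (by show - Q e = 0; rw [hQe, neg_zero])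
      (by show - Q (-e') = 0; rw [Q_neg hQ, hQe', neg_zero])
      (by rw [pol_negQ, pol_neg_right hQ, hee', neg_neg])
      (by rw [pol_negQ, hze, neg_zero])
      (by rw [pol_negQ, pol_neg_right hQ, hze', neg_zero, neg_zero])
      (by show - Q z = -1; rw [h1])
    rwa [omega_negQ] at this
  · exact plusPlane3_core hQ hq W e e' z he he' hspan hQe hQe' hee' hze hze' hm1

end Cfsg.Agent.Lib.Helper94
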