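import Cfsg.Agent.Lib.Helper94.WtStab

set_option autoImplicit false

namespace Cfsg.Agent.Lib.Helper94

open scoped Matrix
open Cfsg

set_option linter.unusedSectionVars false
set_option linter.unnecessarySimpa false
set_option linter.style.haveILetI false
set_option linter.unusedVariables false

variable {ι : Type} [Fintype ι] [DecidableEq ι] {F : Type*} [Field F]

section coords
variable {t m : ℕ} (D : Fin t → Submodule F (ι → F)) (h : DirectSum.IsInternal D)
  (bs : ∀ i, Module.Basis (Fin m) F (D i))

/-- coordinate functionals attached to bases of the blocks -/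
noncomputable def crd (i : Fin t) (j : Fin m) : (ι → F) →ₗ[F] F :=
  (bs i).coord j ∘ₗ (compL D h i).codRestrict (D i) (compL_mem D h i)

lemma crd_apply (i : Fin t) (j : Fin m) (x : ι → F) :
    crd D h bs i j x = (bs i).repr ⟨compL D h i x, compL_mem D h i x⟩ j := rfl

lemma compL_eq_sum_crd (i : Fin t) (x : ι → F) :
    compL D h i x = ∑ j, crd D h bs i j x • ((bs i j : D i) : ι → F) := by
  have h1 := (bs i).sum_repr ⟨compL D h i x, compL_mem D h i x⟩
  have h2 := congrArg Subtype.val h1
  simp only [Submodule.coe_sum, Submodule.coe_smul] at h2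
  rw [← h2]
  rfl

lemma crd_of_compL_zero (i : Fin t) (j : Fin m) (x : ι → F) (hx : compL D h i x = 0) : crd D h bs i j x = 0 := by
  rw [crd_apply]
  have : (⟨compL D h i x, compL_mem D h i x⟩ : D i) = 0 := Subtype.ext hx
  rw [this]; simp

lemma compL_eq_zero_iff (i : Fin t) (x : ι → F) : compL D h i x = 0 ↔ ∀ j, crd D h bs i j x = 0 := by
  constructor
  · intro hx j; exact crd_of_compL_zero D h bs i j x hx
  · intro hx
    rw [compL_eq_sum_crd D h bs]
    apply Finset.sum_eq_zero
    intro j _
    rw [hx j, zero_smul]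

lemma crd_basis (i i' : Fin t) (j j' : Fin m) :
    crd D h bs i j ((bs i' j' : D i') : ι → F) = if i = i' ∧ j = j' then 1 else 0 := by
  by_cases hi : i = i'
  · subst hi
    rw [crd_apply]
    have : (⟨compL D h i ((bs i j' : D i) : ι → F), compL_mem D h i _⟩ : D i) = bs i j' :=
      Subtype.ext (compL_same D h (bs i j').2)
    rw [this, Module.Basis.repr_self, Finsupp.single_apply]
    by_cases hj : j = j'
    · subst hj; simp
    · rw [if_neg (fun hh => hj hh.symm), if_neg (fun hh => hj hh.2)]
  · rw [crd_of_compL_zero D h bs i j _ (compL_ne D h (bs i' j').2 (Ne.symm hi)), if_neg (fun hh => hi hh.1)]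

end coords

section notstab
variable {t : ℕ} (D : Fin t → Submodule F (ι → F)) (h : DirectSum.IsInternal D)

lemma not_decStab_of_two_comps (g : Matrix.GeneralLinearGroup ι F) {i j1 j2 : Fin t} (h12 : j1 ≠ j2) {w : ι → F}
    (hw : w ∈ D i) (h1 : compL D h j1 ((g : Matrix ι ι F) *ᵥ w) ≠ 0)
    (h2 : compL D h j2 ((g : Matrix ι ι F) *ᵥ w) ≠ 0) : g ∉ Geo.decompositionStabilizer D := by
  intro hg
  obtain ⟨σ, hσ⟩ := (mem_decStab' D g).1 hg
  have hgw : (g : Matrix ι ι F) *ᵥ w ∈ D (σ i) := by
    rw [← hσ i, ← Matrix.toLin'_apply]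
    exact Submodule.mem_map_of_mem hw
  have e1 : σ i = j1 := by
    by_contra hne
    exact h1 (compL_ne D h hgw hne)
  have e2 : σ i = j2 := by
    by_contra hne
    exact h2 (compL_ne D h hgw hne)
  exact h12 (e1.symm.trans e2)

/-- the change of the weight under a map which changes only the components in a finite set of blocks -/
lemma wtF_sub_eq (ψ : Fin t → (ι → F) → F) (hψ : ∀ x, wtF D h x = ∑ i, ψ i x) (I : Finset (Fin t)) (x y : ι → F)
    (hout : ∀ i, i ∉ I → ψ i y = ψ i x) : wtF D h y - wtF D h x = ∑ i ∈ I, (ψ i y - ψ i x) := by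
  rw [hψ, hψ, ← Finset.sum_sub_distrib]
  symm
  apply Finset.sum_subset (Finset.subset_univ I)
  intro i _ hi
  rw [hout i hi, sub_self]

end notstab

end Cfsg.Agent.Lib.Helper94
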