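import Cfsg.Agent.Lib.Helper94.SLDecomp
import Cfsg.Agent.Lib.Helper94.PlusPlane2
import Cfsg.Agent.S5656

set_option autoImplicit false

namespace Cfsg.Agent.Lib.Helper94

open scoped Matrix
open Cfsg

set_option linter.unusedSectionVars false
set_option linter.unnecessarySimpa false
set_option linter.style.haveILetI false
set_option linter.unusedVariables false

variable {ι : Type} [Fintype ι] [DecidableEq ι] {F : Type*} [Field F]

lemma wt_identity [Fintype F] (hq : Fintype.card F = 2 ∨ Fintype.card F = 3 ∨ Fintype.card F = 4)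
    (x0 x1 x2 x3 : F) :
    (x0 + (x0 + x1 + x2 + x3)) ^ (Fintype.card F - 1) + (x1 + (x0 + x1 + x2 + x3)) ^ (Fintype.card F - 1) +
      (x2 + (x0 + x1 + x2 + x3)) ^ (Fintype.card F - 1) + (x3 + (x0 + x1 + x2 + x3)) ^ (Fintype.card F - 1) =
    x0 ^ (Fintype.card F - 1) + x1 ^ (Fintype.card F - 1) + x2 ^ (Fintype.card F - 1) +
      x3 ^ (Fintype.card F - 1) := by
  rcases hq with hq | hq | hq
  · have h2 := f2_two hq
    rw [hq]
    linear_combination (2 * (x0 + x1 + x2 + x3)) * h2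
  · have h3 := f3_three hq
    rw [hq]
    linear_combination (2 * (x0 + x1 + x2 + x3) ^ 2) * h3
  · have h2 := Cfsg.Agent.S5656.f4_two hq
    rw [hq]
    linear_combination (5 * (x0 + x1 + x2 + x3) * (x0 ^ 2 + x1 ^ 2 + x2 ^ 2 + x3 ^ 2) +
      7 * (x0 + x1 + x2 + x3) * (x0 * x1 + x0 * x2 + x0 * x3 + x1 * x2 + x1 * x3 + x2 * x3)) * h2

/-- decompositions into lines over fields with at most four elements -/
theorem sl_decomp1_not_max [Fintype F]
    (hq : Fintype.card F = 2 ∨ Fintype.card F = 3 ∨ Fintype.card F = 4) {t : ℕ}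
    (D : Fin t → Submodule F (ι → F)) (hD : Geo.IsMDecomposition 1 D) (ht : 8 ≤ t) :
    ∃ K : Subgroup (Matrix.GeneralLinearGroup ι F),
      Geo.decompositionStabilizer D ⊓ Geo.specialLinear ι F < K ∧ K < Geo.specialLinear ι F := by
  classical
  have h : DirectSum.IsInternal D :=
    DirectSum.isInternal_submodule_of_iSupIndep_of_iSup_eq_top hD.indep hD.iSup_eq_top
  have hchar : (2 : F) = 0 ∨ (3 : F) = 0 := by
    rcases hq with hq | hq | hq
    · left; exact f2_two hq
    · right; exact f3_three hq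
    · left; exact Cfsg.Agent.S5656.f4_two hq
  have h5 : (1 : F) + 4 ≠ 0 := by
    rcases hchar with h2 | h3
    · intro h0; apply one_ne_zero (α := F); linear_combination h0 - 2 * h2
    · intro h0; apply one_ne_zero (α := F); linear_combination 2 * h3 - h0
  have h25 : ((1 : F) + 4) * (1 + 4) = 1 := by
    rcases hchar with h2 | h3
    · linear_combination 12 * h2
    · linear_combination 8 * h3
  let bs := fun i => Module.finBasisOfFinrankEq F (D i) (hD.finrank_eq i)
  obtain ⟨d, hd⟩ : ∃ d : Fin t → (ι → F), d = fun i => ((bs i 0 : D i) : ι → F) := ⟨_, rfl⟩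
  obtain ⟨c, hc⟩ : ∃ c : Fin t → ((ι → F) →ₗ[F] F), c = fun i => crd D h bs i 0 := ⟨_, rfl⟩
  have hdD : ∀ i, d i ∈ D i := fun i => by rw [hd]; exact (bs i 0).2
  have hd0 : ∀ i, d i ≠ 0 := fun i h0 => by
    rw [hd] at h0
    exact (bs i).ne_zero 0 (Subtype.ext h0)
  have hcd : ∀ i i', c i (d i') = if i = i' then 1 else 0 := fun i i' => by
    rw [hc, hd]
    show crd D h bs i 0 ((bs i' 0 : D i') : ι → F) = _
    rw [crd_basis]; simp
  have hcomp : ∀ i x, compL D h i x = c i x • d i := fun i x => by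
    rw [compL_eq_sum_crd D h bs i x, hc, hd]
    simp
  have hcompL0 : ∀ i x, compL D h i x = 0 ↔ c i x = 0 := fun i x => by
    rw [hcomp]
    constructor
    · intro h0
      rcases smul_eq_zero.mp h0 with h1 | h1
      · exact h1
      · exact absurd h1 (hd0 i)
    · intro h0; rw [h0, zero_smul]
  have hN1 : 1 ≤ Fintype.card F - 1 := by
    rcases hq with hq | hq | hq <;> rw [hq]
    all_goals norm_num
  have hind : ∀ a : F, (if a = 0 then (0 : F) else 1) = a ^ (Fintype.card F - 1) := by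
    intro a
    by_cases ha : a = 0
    · rw [if_pos ha, ha, zero_pow (by omega)]
    · rw [if_neg ha, FiniteField.pow_card_sub_one_eq_one a ha]
  have hψ : ∀ x, wtF D h x = ∑ i, (fun i x => (c i x) ^ (Fintype.card F - 1)) i x := by
    intro x
    rw [wtF_def]
    apply Finset.sum_congr rfl
    intro i _
    show (if compL D h i x = 0 then (0 : F) else 1) = (c i x) ^ (Fintype.card F - 1)
    rw [← hind]
    by_cases h0 : c i x = 0
    · rw [if_pos ((hcompL0 i x).2 h0), if_pos h0]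
    · rw [if_neg (fun hh => h0 ((hcompL0 i x).1 hh)), if_neg h0]
  -- the basic elements
  have hgI : ∀ j0 j1 j2 j3 : Fin t, j0 ≠ j1 → j0 ≠ j2 → j0 ≠ j3 → j1 ≠ j2 → j1 ≠ j3 → j2 ≠ j3 →
      ∃ g : Matrix.GeneralLinearGroup ι F, (g : Matrix ι ι F).det = 1 + 4 ∧ g ∈ wtStab D h ∧
        ∀ x, (g : Matrix ι ι F) *ᵥ x = x + (c j0 x + c j1 x + c j2 x + c j3 x) • (d j0 + d j1 + d j2 + d j3) := by
    intro j0 j1 j2 j3 h01 h02 h03 h12 h13 h23
    have hlv : (c j0 + c j1 + c j2 + c j3) (d j0 + d j1 + d j2 + d j3) = 4 := by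
      simp only [LinearMap.add_apply, map_add, hcd, if_pos rfl, if_neg h01, if_neg h02, if_neg h03, if_neg h12,
        if_neg h13, if_neg h23, if_neg h01.symm, if_neg h02.symm, if_neg h03.symm, if_neg h12.symm, if_neg h13.symm,
        if_neg h23.symm]
      norm_num
    obtain ⟨g, hgd, hgx⟩ := exists_rank_one (c j0 + c j1 + c j2 + c j3) (d j0 + d j1 + d j2 + d j3)
      (by rw [hlv]; exact h5)
    have hgx' : ∀ x, (g : Matrix ι ι F) *ᵥ x =
        x + (c j0 x + c j1 x + c j2 x + c j3 x) • (d j0 + d j1 + d j2 + d j3) := by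
      intro x; rw [hgx]; rfl
    refine ⟨g, by rw [hgd, hlv], ?_, hgx'⟩
    rw [mem_wtStab]
    intro x
    have hcg : ∀ i, c i ((g : Matrix ι ι F) *ᵥ x) = c i x + (c j0 x + c j1 x + c j2 x + c j3 x) *
        ((if i = j0 then 1 else 0) + (if i = j1 then 1 else 0) + (if i = j2 then 1 else 0) +
          (if i = j3 then 1 else 0)) := by
      intro i
      rw [hgx', map_add, map_smul, map_add, map_add, map_add, hcd, hcd, hcd, hcd, smul_eq_mul]
    have key := wtF_sub_eq D h (fun i x => (c i x) ^ (Fintype.card F - 1)) hψ {j0, j1, j2, j3} x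
      ((g : Matrix ι ι F) *ᵥ x) (by
        intro i hi
        simp only [Finset.mem_insert, Finset.mem_singleton, not_or] at hi
        show (c i ((g : Matrix ι ι F) *ᵥ x)) ^ (Fintype.card F - 1) = (c i x) ^ (Fintype.card F - 1)
        rw [hcg i, if_neg hi.1, if_neg hi.2.1, if_neg hi.2.2.1, if_neg hi.2.2.2]
        congr 1; ring)
    have hsum : ∑ i ∈ ({j0, j1, j2, j3} : Finset (Fin t)),
        ((fun i x => (c i x) ^ (Fintype.card F - 1)) i ((g : Matrix ι ι F) *ᵥ x) -
          (fun i x => (c i x) ^ (Fintype.card F - 1)) i x) = 0 := by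
      rw [Finset.sum_insert (by simp [h01, h02, h03]), Finset.sum_insert (by simp [h12, h13]),
        Finset.sum_insert (by simp [h23]), Finset.sum_singleton]
      show (c j0 ((g : Matrix ι ι F) *ᵥ x)) ^ (Fintype.card F - 1) - (c j0 x) ^ (Fintype.card F - 1) +
        ((c j1 ((g : Matrix ι ι F) *ᵥ x)) ^ (Fintype.card F - 1) - (c j1 x) ^ (Fintype.card F - 1) +
        ((c j2 ((g : Matrix ι ι F) *ᵥ x)) ^ (Fintype.card F - 1) - (c j2 x) ^ (Fintype.card F - 1) +
        ((c j3 ((g : Matrix ι ι F) *ᵥ x)) ^ (Fintype.card F - 1) - (c j3 x) ^ (Fintype.card F - 1)))) = 0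
      rw [hcg j0, hcg j1, hcg j2, hcg j3]
      simp only [↓reduceIte, if_neg h01, if_neg h02, if_neg h03, if_neg h12,
        if_neg h13, if_neg h23, if_neg h01.symm, if_neg h02.symm, if_neg h03.symm, if_neg h12.symm, if_neg h13.symm,
        if_neg h23.symm, add_zero, zero_add, mul_one]
      have := wt_identity hq (c j0 x) (c j1 x) (c j2 x) (c j3 x)
      linear_combination this
    rw [hsum] at key
    exact sub_eq_zero.mp key
  set i0 : Fin t := ⟨0, by omega⟩ with hi0
  set i1 : Fin t := ⟨1, by omega⟩ with hi1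
  set i2 : Fin t := ⟨2, by omega⟩ with hi2
  set i3 : Fin t := ⟨3, by omega⟩ with hi3
  set i4 : Fin t := ⟨4, by omega⟩ with hi4
  set i5 : Fin t := ⟨5, by omega⟩ with hi5
  set i6 : Fin t := ⟨6, by omega⟩ with hi6
  set i7 : Fin t := ⟨7, by omega⟩ with hi7
  have h01 : i0 ≠ i1 := by simp [hi0, hi1, Fin.ext_iff]
  have h02 : i0 ≠ i2 := by simp [hi0, hi2, Fin.ext_iff]
  have h03 : i0 ≠ i3 := by simp [hi0, hi3, Fin.ext_iff]
  have h04 : i0 ≠ i4 := by simp [hi0, hi4, Fin.ext_iff]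
  have h05 : i0 ≠ i5 := by simp [hi0, hi5, Fin.ext_iff]
  have h06 : i0 ≠ i6 := by simp [hi0, hi6, Fin.ext_iff]
  have h07 : i0 ≠ i7 := by simp [hi0, hi7, Fin.ext_iff]
  have h12 : i1 ≠ i2 := by simp [hi1, hi2, Fin.ext_iff]
  have h13 : i1 ≠ i3 := by simp [hi1, hi3, Fin.ext_iff]
  have h23 : i2 ≠ i3 := by simp [hi2, hi3, Fin.ext_iff]
  have h45 : i4 ≠ i5 := by simp [hi4, hi5, Fin.ext_iff]
  have h46 : i4 ≠ i6 := by simp [hi4, hi6, Fin.ext_iff]
  have h47 : i4 ≠ i7 := by simp [hi4, hi7, Fin.ext_iff]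
  have h56 : i5 ≠ i6 := by simp [hi5, hi6, Fin.ext_iff]
  have h57 : i5 ≠ i7 := by simp [hi5, hi7, Fin.ext_iff]
  have h67 : i6 ≠ i7 := by simp [hi6, hi7, Fin.ext_iff]
  clear_value i0 i1 i2 i3 i4 i5 i6 i7
  obtain ⟨gI, hgId, hgIw, hgIx⟩ := hgI i0 i1 i2 i3 h01 h02 h03 h12 h13 h23
  obtain ⟨gJ, hgJd, hgJw, hgJx⟩ := hgI i4 i5 i6 i7 h45 h46 h47 h56 h57 h67
  have hg₀SL : gI * gJ ∈ Geo.specialLinear ι F := by
    rw [mem_SL, Units.val_mul, Matrix.det_mul, hgId, hgJd, h25]
  have hg₀d : ((gI * gJ : Matrix.GeneralLinearGroup ι F) : Matrix ι ι F) *ᵥ d i0 =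
      d i0 + (d i0 + d i1 + d i2 + d i3) := by
    rw [Units.val_mul, ← Matrix.mulVec_mulVec, hgJx, hcd, hcd, hcd, hcd, if_neg h04.symm, if_neg h05.symm,
      if_neg h06.symm, if_neg h07.symm, add_zero, add_zero, add_zero, zero_smul, add_zero, hgIx, hcd, hcd, hcd, hcd,
      if_pos rfl, if_neg h01.symm, if_neg h02.symm, if_neg h03.symm, add_zero, add_zero, add_zero, one_smul]
  refine ⟨wtStab D h ⊓ Geo.specialLinear ι F, ?_, ?_⟩
  · rw [SetLike.lt_iff_le_and_exists]
    refine ⟨inf_le_inf_right _ (decStab_le_wtStab D h), gI * gJ, ?_, ?_⟩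
    · rw [Subgroup.mem_inf]
      exact ⟨mul_mem hgIw hgJw, hg₀SL⟩
    · intro hmem
      rw [Subgroup.mem_inf] at hmem
      refine not_decStab_of_two_comps D h (gI * gJ) h12 (hdD i0) ?_ ?_ hmem.1
      · rw [hg₀d]
        simp only [map_add]
        rw [compL_same D h (hdD i1), compL_ne D h (hdD i0) h01, compL_ne D h (hdD i2) h12.symm,
          compL_ne D h (hdD i3) h13.symm]
        simpa using hd0 i1
      · rw [hg₀d]
        simp only [map_add]
        rw [compL_same D h (hdD i2), compL_ne D h (hdD i0) h02, compL_ne D h (hdD i1) h12,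
          compL_ne D h (hdD i3) h23.symm]
        simpa using hd0 i2
  · rw [SetLike.lt_iff_le_and_exists]
    obtain ⟨g₁, hg₁SL, hg₁⟩ := exists_SL_not_wtStab D h h01 (hdD i0) (hd0 i0) (hdD i1) (hd0 i1)
    refine ⟨inf_le_right, g₁, hg₁SL, ?_⟩
    intro hmem
    rw [Subgroup.mem_inf] at hmem
    exact hg₁ hmem.1

end Cfsg.Agent.Lib.Helper94
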