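import Cfsg.Agent.Lib.Helper94.SLDecomp1

set_option autoImplicit false

namespace Cfsg.Agent.Lib.Helper94

open scoped Matrix
open Cfsg

set_option linter.unusedSectionVars false
set_option linter.unnecessarySimpa false
set_option linter.style.haveILetI false
set_option linter.unusedVariables false

variable {ι : Type} [Fintype ι] [DecidableEq ι] {F : Type*} [Field F]

/-- decompositions into planes over the field with two elements -/
theorem sl_decomp2_not_max [Fintype F] (hq : Fintype.card F = 2) {t : ℕ}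
    (D : Fin t → Submodule F (ι → F)) (hD : Geo.IsMDecomposition 2 D) (ht : 3 ≤ t) :
    ∃ K : Subgroup (Matrix.GeneralLinearGroup ι F),
      Geo.decompositionStabilizer D ⊓ Geo.specialLinear ι F < K ∧ K < Geo.specialLinear ι F := by
  classical
  have h : DirectSum.IsInternal D :=
    DirectSum.isInternal_submodule_of_iSupIndep_of_iSup_eq_top hD.indep hD.iSup_eq_top
  have h2 := f2_two hq
  let bs := fun i => Module.finBasisOfFinrankEq F (D i) (hD.finrank_eq i)
  obtain ⟨a, ha⟩ : ∃ a : Fin t → (ι → F), a = fun i => ((bs i 0 : D i) : ι → F) := ⟨_, rfl⟩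
  obtain ⟨b, hb⟩ : ∃ b : Fin t → (ι → F), b = fun i => ((bs i 1 : D i) : ι → F) := ⟨_, rfl⟩
  obtain ⟨α, hα⟩ : ∃ α : Fin t → ((ι → F) →ₗ[F] F), α = fun i => crd D h bs i 0 := ⟨_, rfl⟩
  obtain ⟨β, hβ⟩ : ∃ β : Fin t → ((ι → F) →ₗ[F] F), β = fun i => crd D h bs i 1 := ⟨_, rfl⟩
  have haD : ∀ i, a i ∈ D i := fun i => by rw [ha]; exact (bs i 0).2
  have hbD : ∀ i, b i ∈ D i := fun i => by rw [hb]; exact (bs i 1).2
  have ha0 : ∀ i, a i ≠ 0 := fun i h0 => by
    rw [ha] at h0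
    exact (bs i).ne_zero 0 (Subtype.ext h0)
  have hαa : ∀ i i', α i (a i') = if i = i' then 1 else 0 := fun i i' => by
    rw [hα, ha]
    show crd D h bs i 0 ((bs i' 0 : D i') : ι → F) = _
    rw [crd_basis]; simp
  have hαb : ∀ i i', α i (b i') = 0 := fun i i' => by
    rw [hα, hb]
    show crd D h bs i 0 ((bs i' 1 : D i') : ι → F) = _
    rw [crd_basis]; simp
  have hβa : ∀ i i', β i (a i') = 0 := fun i i' => by
    rw [hβ, ha]
    show crd D h bs i 1 ((bs i' 0 : D i') : ι → F) = _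
    rw [crd_basis]; simp
  have hβb : ∀ i i', β i (b i') = if i = i' then 1 else 0 := fun i i' => by
    rw [hβ, hb]
    show crd D h bs i 1 ((bs i' 1 : D i') : ι → F) = _
    rw [crd_basis]; simp
  have hcompL0 : ∀ i x, compL D h i x = 0 ↔ (α i x = 0 ∧ β i x = 0) := fun i x => by
    rw [compL_eq_zero_iff D h bs, hα, hβ]
    constructor
    · intro hh; exact ⟨hh 0, hh 1⟩
    · rintro ⟨h0, h1⟩ j
      fin_cases j
      · exact h0
      · exact h1
  have hind : ∀ x y : F, (if x = 0 ∧ y = 0 then (0 : F) else 1) = x ^ 2 + x * y + y ^ 2 := by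
    intro x y
    rcases f2_cases hq x with rfl | rfl <;> rcases f2_cases hq y with rfl | rfl
    · simp
    · simp
    · simp
    · rw [if_neg (by simp)]; linear_combination -h2
  have hψ : ∀ x, wtF D h x = ∑ i, (fun i x => (α i x) ^ 2 + α i x * β i x + (β i x) ^ 2) i x := by
    intro x
    rw [wtF_def]
    apply Finset.sum_congr rfl
    intro i _
    show (if compL D h i x = 0 then (0 : F) else 1) = (α i x) ^ 2 + α i x * β i x + (β i x) ^ 2
    rw [← hind]
    by_cases h0 : α i x = 0 ∧ β i x = 0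
    · rw [if_pos ((hcompL0 i x).2 h0), if_pos h0]
    · rw [if_neg (fun hh => h0 ((hcompL0 i x).1 hh)), if_neg h0]
  set j0 : Fin t := ⟨0, by omega⟩ with hj0
  set j1 : Fin t := ⟨1, by omega⟩ with hj1
  set j2 : Fin t := ⟨2, by omega⟩ with hj2
  have h01 : j0 ≠ j1 := by simp [hj0, hj1, Fin.ext_iff]
  have h02 : j0 ≠ j2 := by simp [hj0, hj2, Fin.ext_iff]
  have h12 : j1 ≠ j2 := by simp [hj1, hj2, Fin.ext_iff]
  clear_value j0 j1 j2
  have hlv : (β j0 + β j1 + β j2) (a j0 + a j1 + a j2) = 0 := by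
    simp only [LinearMap.add_apply, map_add, hβa, add_zero]
  obtain ⟨g, hgd, hgx⟩ := exists_rank_one (β j0 + β j1 + β j2) (a j0 + a j1 + a j2)
    (by rw [hlv, add_zero]; exact one_ne_zero)
  have hgx' : ∀ x, (g : Matrix ι ι F) *ᵥ x = x + (β j0 x + β j1 x + β j2 x) • (a j0 + a j1 + a j2) := by
    intro x; rw [hgx]; rfl
  have hgSL : g ∈ Geo.specialLinear ι F := by rw [mem_SL, hgd, hlv, add_zero]
  have hαg : ∀ i x, α i ((g : Matrix ι ι F) *ᵥ x) = α i x + (β j0 x + β j1 x + β j2 x) *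
      ((if i = j0 then 1 else 0) + (if i = j1 then 1 else 0) + (if i = j2 then 1 else 0)) := by
    intro i x
    rw [hgx', map_add, map_smul, map_add, map_add, hαa, hαa, hαa, smul_eq_mul]
  have hβg : ∀ i x, β i ((g : Matrix ι ι F) *ᵥ x) = β i x := by
    intro i x
    rw [hgx', map_add, map_smul, map_add, map_add, hβa, hβa, hβa, add_zero, add_zero, smul_zero, add_zero]
  have hgw : g ∈ wtStab D h := by
    rw [mem_wtStab]
    intro x
    have key := wtF_sub_eq D h (fun i x => (α i x) ^ 2 + α i x * β i x + (β i x) ^ 2) hψ {j0, j1, j2} x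
      ((g : Matrix ι ι F) *ᵥ x) (by
        intro i hi
        simp only [Finset.mem_insert, Finset.mem_singleton, not_or] at hi
        show (α i ((g : Matrix ι ι F) *ᵥ x)) ^ 2 + α i ((g : Matrix ι ι F) *ᵥ x) * β i ((g : Matrix ι ι F) *ᵥ x) +
          (β i ((g : Matrix ι ι F) *ᵥ x)) ^ 2 = (α i x) ^ 2 + α i x * β i x + (β i x) ^ 2
        rw [hαg i, hβg i, if_neg hi.1, if_neg hi.2.1, if_neg hi.2.2]
        ring)
    have hsum : ∑ i ∈ ({j0, j1, j2} : Finset (Fin t)),
        ((fun i x => (α i x) ^ 2 + α i x * β i x + (β i x) ^ 2) i ((g : Matrix ι ι F) *ᵥ x) -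
          (fun i x => (α i x) ^ 2 + α i x * β i x + (β i x) ^ 2) i x) = 0 := by
      rw [Finset.sum_insert (by simp [h01, h02]), Finset.sum_insert (by simp [h12]), Finset.sum_singleton]
      show (α j0 ((g : Matrix ι ι F) *ᵥ x)) ^ 2 + α j0 ((g : Matrix ι ι F) *ᵥ x) * β j0 ((g : Matrix ι ι F) *ᵥ x) +
          (β j0 ((g : Matrix ι ι F) *ᵥ x)) ^ 2 - ((α j0 x) ^ 2 + α j0 x * β j0 x + (β j0 x) ^ 2) +
        ((α j1 ((g : Matrix ι ι F) *ᵥ x)) ^ 2 + α j1 ((g : Matrix ι ι F) *ᵥ x) * β j1 ((g : Matrix ι ι F) *ᵥ x) +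
          (β j1 ((g : Matrix ι ι F) *ᵥ x)) ^ 2 - ((α j1 x) ^ 2 + α j1 x * β j1 x + (β j1 x) ^ 2) +
        ((α j2 ((g : Matrix ι ι F) *ᵥ x)) ^ 2 + α j2 ((g : Matrix ι ι F) *ᵥ x) * β j2 ((g : Matrix ι ι F) *ᵥ x) +
          (β j2 ((g : Matrix ι ι F) *ᵥ x)) ^ 2 - ((α j2 x) ^ 2 + α j2 x * β j2 x + (β j2 x) ^ 2))) = 0
      rw [hαg j0, hαg j1, hαg j2, hβg, hβg, hβg]
      simp only [↓reduceIte, if_neg h01, if_neg h02, if_neg h12, if_neg h01.symm, if_neg h02.symm, if_neg h12.symm,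
        add_zero, zero_add, mul_one]
      linear_combination ((β j0 x + β j1 x + β j2 x) * (α j0 x + α j1 x + α j2 x) +
        2 * (β j0 x + β j1 x + β j2 x) ^ 2) * h2
    rw [hsum] at key
    exact sub_eq_zero.mp key
  have hgb : (g : Matrix ι ι F) *ᵥ b j0 = b j0 + (a j0 + a j1 + a j2) := by
    rw [hgx', hβb, hβb, hβb, if_pos rfl, if_neg h01.symm, if_neg h02.symm, add_zero, add_zero, one_smul]
  refine ⟨wtStab D h ⊓ Geo.specialLinear ι F, ?_, ?_⟩
  · rw [SetLike.lt_iff_le_and_exists]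
    refine ⟨inf_le_inf_right _ (decStab_le_wtStab D h), g, ?_, ?_⟩
    · rw [Subgroup.mem_inf]
      exact ⟨hgw, hgSL⟩
    · intro hmem
      rw [Subgroup.mem_inf] at hmem
      refine not_decStab_of_two_comps D h g h12 (hbD j0) ?_ ?_ hmem.1
      · rw [hgb]
        simp only [map_add]
        rw [compL_same D h (haD j1), compL_ne D h (hbD j0) h01, compL_ne D h (haD j0) h01,
          compL_ne D h (haD j2) h12.symm]
        simpa using ha0 j1
      · rw [hgb]
        simp only [map_add]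
        rw [compL_same D h (haD j2), compL_ne D h (hbD j0) h02, compL_ne D h (haD j0) h02,
          compL_ne D h (haD j1) h12]
        simpa using ha0 j2
  · rw [SetLike.lt_iff_le_and_exists]
    obtain ⟨g₁, hg₁SL, hg₁⟩ := exists_SL_not_wtStab D h h01 (haD j0) (ha0 j0) (haD j1) (ha0 j1)
    refine ⟨inf_le_right, g₁, hg₁SL, ?_⟩
    intro hmem
    rw [Subgroup.mem_inf] at hmem
    exact hg₁ hmem.1

end Cfsg.Agent.Lib.Helper94
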