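import Cfsg.Agent.Lib.Helper94.DecompPlus4

set_option autoImplicit false

namespace Cfsg.Agent.Lib.Helper94

open scoped Matrix
open Cfsg

set_option linter.unusedSectionVars false
set_option linter.unnecessarySimpa false
set_option linter.style.haveILetI false
set_option linter.unusedVariables false

variable {ι : Type} [Fintype ι] [DecidableEq ι] {F : Type*} [Field F]

section siegel
variable {Q : (ι → F) → F} (hQ : Geo.IsNondegenerateQuadraticForm Q)
include hQ

/-- the Siegel transformation attached to two orthogonal singular vectors, as a linear map -/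
noncomputable def siegL (s1 s2 : ι → F) : (ι → F) →ₗ[F] (ι → F) where
  toFun v := v + pol Q v s2 • s1 - pol Q v s1 • s2
  map_add' x y := by
    rw [pol_add_left hQ, pol_add_left hQ, add_smul, add_smul]; abel
  map_smul' c x := by
    simp only [RingHom.id_apply]
    rw [pol_smul_left hQ, pol_smul_left hQ, smul_sub, smul_add, smul_smul, smul_smul]

lemma siegL_apply (s1 s2 v : ι → F) : siegL hQ s1 s2 v = v + pol Q v s2 • s1 - pol Q v s1 • s2 := rfl

lemma siegL_siegL (s1 s2 : ι → F) (h1 : Q s1 = 0) (h2 : Q s2 = 0) (h12 : pol Q s1 s2 = 0) (v : ι → F) :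
    siegL hQ s2 s1 (siegL hQ s1 s2 v) = v := by
  have h21 : pol Q s2 s1 = 0 := by rw [pol_comm]; exact h12
  have h11 : pol Q s1 s1 = 0 := by rw [pol_self hQ, h1, mul_zero]
  have h22 : pol Q s2 s2 = 0 := by rw [pol_self hQ, h2, mul_zero]
  rw [siegL_apply hQ s2 s1, siegL_apply hQ s1 s2]
  simp only [pol_sub_left hQ, pol_add_left hQ, pol_smul_left hQ, h12, h21, h11, h22]
  module

lemma Q_siegL (s1 s2 : ι → F) (h1 : Q s1 = 0) (h2 : Q s2 = 0) (h12 : pol Q s1 s2 = 0) (v : ι → F) :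
    Q (siegL hQ s1 s2 v) = Q v := by
  rw [siegL_apply, Q_sub hQ, Q_add Q, Q_smul hQ, Q_smul hQ, h1, h2, pol_smul_right hQ, pol_smul_right hQ,
    pol_add_left hQ, pol_smul_left hQ, h12]
  ring

/-- the Siegel transformation as an invertible matrix -/
noncomputable def sGL (s1 s2 : ι → F) (h1 : Q s1 = 0) (h2 : Q s2 = 0) (h12 : pol Q s1 s2 = 0) :
    Matrix.GeneralLinearGroup ι F :=
  ⟨LinearMap.toMatrix' (siegL hQ s1 s2), LinearMap.toMatrix' (siegL hQ s2 s1),
    by rw [← LinearMap.toMatrix'_mul, ← LinearMap.toMatrix'_one]; congr 1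
       exact LinearMap.ext fun x => siegL_siegL hQ s2 s1 h2 h1 (by rw [pol_comm]; exact h12) x,
    by rw [← LinearMap.toMatrix'_mul, ← LinearMap.toMatrix'_one]; congr 1
       exact LinearMap.ext fun x => siegL_siegL hQ s1 s2 h1 h2 h12 x⟩

lemma sGL_mulVec (s1 s2 : ι → F) (h1 : Q s1 = 0) (h2 : Q s2 = 0) (h12 : pol Q s1 s2 = 0) (v : ι → F) :
    (sGL hQ s1 s2 h1 h2 h12 : Matrix ι ι F) *ᵥ v = v + pol Q v s2 • s1 - pol Q v s1 • s2 := by
  show LinearMap.toMatrix' (siegL hQ s1 s2) *ᵥ v = _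
  rw [LinearMap.toMatrix'_mulVec, siegL_apply]

lemma sGL_mem_isom (s1 s2 : ι → F) (h1 : Q s1 = 0) (h2 : Q s2 = 0) (h12 : pol Q s1 s2 = 0) :
    sGL hQ s1 s2 h1 h2 h12 ∈ isometryGroup F Q := by
  rw [mem_isom]
  intro x
  rw [sGL_mulVec, ← siegL_apply hQ, Q_siegL hQ s1 s2 h1 h2 h12]

/-- in characteristic two, two orthogonal anisotropic planes with bases of norm one are swapped by an isometry fixing
the vectors orthogonal to both -/
lemma swap_exists (h2 : (2 : F) = 0) (p1 p2 q1 q2 : ι → F) (hp1 : Q p1 = 1) (hp2 : Q p2 = 1) (hq1 : Q q1 = 1)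
    (hq2 : Q q2 = 1) (hp : pol Q p1 p2 = 1) (hq : pol Q q1 q2 = 1) (h11 : pol Q p1 q1 = 0) (h12 : pol Q p1 q2 = 0)
    (h21 : pol Q p2 q1 = 0) (h22 : pol Q p2 q2 = 0) :
    ∃ τ : Matrix.GeneralLinearGroup ι F, τ ∈ isometryGroup F Q ∧ (τ : Matrix ι ι F) *ᵥ p1 = q1 ∧
      (τ : Matrix ι ι F) *ᵥ p2 = q2 ∧ (τ : Matrix ι ι F) *ᵥ q1 = p1 ∧ (τ : Matrix ι ι F) *ᵥ q2 = p2 ∧
      ∀ v, pol Q v p1 = 0 → pol Q v p2 = 0 → pol Q v q1 = 0 → pol Q v q2 = 0 → (τ : Matrix ι ι F) *ᵥ v = v := by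
  have hs : ∀ v : ι → F, pol Q v v = 0 := fun v => by rw [pol_self hQ, h2, zero_mul]
  have hneg : ∀ v : ι → F, -v = v := neg_eq_self_char2 h2
  have hadd : ∀ v : ι → F, v + v = 0 := fun v => by rw [← two_smul F v, h2, zero_smul]
  have hp' : pol Q p2 p1 = 1 := by rw [pol_comm]; exact hp
  have hq' : pol Q q2 q1 = 1 := by rw [pol_comm]; exact hq
  have h11' : pol Q q1 p1 = 0 := by rw [pol_comm]; exact h11
  have h12' : pol Q q2 p1 = 0 := by rw [pol_comm]; exact h12
  have h21' : pol Q q1 p2 = 0 := by rw [pol_comm]; exact h21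
  have h22' : pol Q q2 p2 = 0 := by rw [pol_comm]; exact h22
  have hs1 : Q (p1 + q1) = 0 := by rw [Q_add Q, hp1, hq1, h11]; linear_combination h2
  have hs2 : Q (p2 + q2) = 0 := by rw [Q_add Q, hp2, hq2, h22]; linear_combination h2
  have hs12 : pol Q (p1 + q1) (p2 + q2) = 0 := by
    rw [pol_add_left hQ, pol_add_right hQ, pol_add_right hQ, hp, hq, h12, h21']; linear_combination h2
  refine ⟨sGL hQ (p1 + q1) (p2 + q2) hs1 hs2 hs12, sGL_mem_isom hQ _ _ hs1 hs2 hs12, ?_, ?_, ?_, ?_, ?_⟩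
  · rw [sGL_mulVec, pol_add_right hQ, pol_add_right hQ, hp, h12, hs, h11, add_zero, add_zero, one_smul, zero_smul,
      sub_zero, ← add_assoc, hadd, zero_add]
  · rw [sGL_mulVec, pol_add_right hQ, pol_add_right hQ, hp', h21, hs, h22, add_zero, add_zero, one_smul, zero_smul,
      add_zero, sub_eq_add_neg, hneg, ← add_assoc, hadd, zero_add]
  · rw [sGL_mulVec, pol_add_right hQ, pol_add_right hQ, hq, h21', hs, h11', add_zero, zero_add, one_smul, zero_smul,
      sub_zero, add_comm p1 q1, ← add_assoc, hadd, zero_add]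
  · rw [sGL_mulVec, pol_add_right hQ, pol_add_right hQ, hq', h12', hs, h22', add_zero, zero_add, one_smul, zero_smul,
      add_zero, sub_eq_add_neg, hneg, add_comm p2 q2, ← add_assoc, hadd, zero_add]
  · intro v e1 e2 e3 e4
    rw [sGL_mulVec, pol_add_right hQ, pol_add_right hQ, e1, e2, e3, e4, add_zero, zero_smul, zero_smul, add_zero,
      sub_zero]

end siegel

end Cfsg.Agent.Lib.Helper94
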