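import Mathlib
import Cfsg.Agent.Lib.Helper94.SpK3

set_option autoImplicit false

/-!
Overgroups of the normaliser of a quadratic field subalgebra in the symplectic group:
spreading of transvection directions.
-/

namespace Cfsg.Agent.Lib.Helper94

open Matrix Module QuadraticMap
open Cfsg.Agent.Lib

set_option linter.unusedSectionVars false
set_option linter.unusedVariables false

section spk4

variable {F : Type*} [Field F] {m : ℕ}

local notation "V" => (Fin m ⊕ Fin m → F)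
local notation "Mat" => Matrix (Fin m ⊕ Fin m) (Fin m ⊕ Fin m) F
local notation "sf" => Cfsg.sympForm m F
local notation "GLm" => Matrix.GeneralLinearGroup (Fin m ⊕ Fin m) F

/-- the standing hypotheses on an overgroup `M` of the normaliser -/
structure KSetup (K : Subalgebra F (Matrix (Fin m ⊕ Fin m) (Fin m ⊕ Fin m) F))
    (κ : Matrix (Fin m ⊕ Fin m) (Fin m ⊕ Fin m) F) (D : F)
    (M : Subgroup (Matrix.GeneralLinearGroup (Fin m ⊕ Fin m) F)) : Prop where
  gen : SkewGen m κ D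
  mem : κ ∈ K
  nonscalar : ∀ a : F, κ ≠ a • (1 : Matrix (Fin m ⊕ Fin m) (Fin m ⊕ Fin m) F)
  dec : ∀ k ∈ K, ∃ a b : F, k = a • (1 : Matrix (Fin m ⊕ Fin m) (Fin m ⊕ Fin m) F) + b • κ
  hHM : Cfsg.Geo.subalgebraNormalizer K ⊓ Cfsg.spGL m F ≤ M
  hMS : M ≤ Cfsg.spGL m F
  two : (2 : F) ≠ 0
  dim : 7 ≤ m

lemma finrank_V : finrank F V = 2 * m := by
  rw [Module.finrank_fintype_fun_eq_card, Fintype.card_sum, Fintype.card_fin]
  ring

lemma exists_ne_zero_V (hm : 1 ≤ m) : ∃ x : V, x ≠ 0 := by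
  refine ⟨Pi.single (Sum.inl ⟨0, by omega⟩) 1, ?_⟩
  intro h0
  have := congrFun h0 (Sum.inl ⟨0, by omega⟩)
  simp at this

lemma finrank_span_pair_le {ι : Type} [Fintype ι] [DecidableEq ι] (x y : ι → F) :
    finrank F (Submodule.span F {x, y}) ≤ 2 := by
  have h1 : Submodule.span F {x, y} = Submodule.span F {x} ⊔ Submodule.span F {y} := by
    rw [← Submodule.span_union]
    rfl
  rw [h1]
  have h2 := Submodule.finrank_add_le_finrank_add_finrank (Submodule.span F {x})
    (Submodule.span F {y})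
  have h3 := finrank_span_single_le (F := F) x
  have h4 := finrank_span_single_le (F := F) y
  omega

namespace KSetup

variable {K : Subalgebra F (Matrix (Fin m ⊕ Fin m) (Fin m ⊕ Fin m) F)}
  {κ : Matrix (Fin m ⊕ Fin m) (Fin m ⊕ Fin m) F} {D : F}
  {M : Subgroup (Matrix.GeneralLinearGroup (Fin m ⊕ Fin m) F)} (S : KSetup K κ D M)
include S

lemma hq : (QuadraticMap.polarBilin (kQ m κ)).Nondegenerate := by
  obtain ⟨x₀, hx₀⟩ := exists_ne_zero_V (F := F) (m := m) (by have := S.dim; omega)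
  exact S.gen.kQ_nondeg S.two x₀ hx₀

lemma D_ne : D ≠ 0 := by
  obtain ⟨x₀, hx₀⟩ := exists_ne_zero_V (F := F) (m := m) (by have := S.dim; omega)
  exact S.gen.D_ne hx₀

lemma ut_mem (a : V) (ha : sf a (κ *ᵥ a) = 0) (c : F) : ut m κ D a c ∈ M := by
  apply S.hHM
  refine ⟨?_, ut_mem_spGL m κ D a c⟩
  exact mem_normalizer_of_comm m K κ S.mem S.nonscalar S.dec _ (ut_comm m S.gen a ha c)

lemma Ei_mem (b d : V) (hb : sf b (κ *ᵥ b) = 0) (hd : sf d (κ *ᵥ d) = 0) (hbd : sf b d = 0)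
    (hbkd : sf b (κ *ᵥ d) = 0) : Ei m κ b d ∈ M := by
  apply S.hHM
  refine ⟨?_, Ei_mem_spGL m κ b d⟩
  exact mem_normalizer_of_comm m K κ S.mem S.nonscalar S.dec _ (Ei_comm m S.gen b d hb hd hbd hbkd)

/-- translation: orthogonality for the quadratic form -/
lemma sf_of_polar {x y : V} (h : polar (⇑(kQ m κ)) x y = 0) : sf x (κ *ᵥ y) = 0 := by
  rw [S.gen.kQ_polar] at h
  rcases mul_eq_zero.1 h with h | h
  · exact absurd h S.two
  · exact h

lemma sf_of_polar_k {x y : V} (h : polar (⇑(kQ m κ)) (κ *ᵥ x) y = 0) : sf x y = 0 := by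
  have h1 := S.sf_of_polar h
  rw [S.gen.kk] at h1
  rcases mul_eq_zero.1 (neg_eq_zero.1 h1) with h | h
  · exact absurd h S.D_ne
  · exact h

/-- the basic spreading rule -/
lemma R1 (b v : V) (hb : b ∈ Helper99.tvSet m M) (hv : sf v (κ *ᵥ v) = 0)
    (hbkv : sf b (κ *ᵥ v) = 0) (hbv : sf b v ≠ 0) : v ∈ Helper99.tvSet m M := by
  have hD := S.D_ne
  have h1 := Helper99.tvSet_map m M S.hMS _ (S.ut_mem v hv (-(D * sf b v)⁻¹)) b hb
  rw [ut_mulVec m v hv, hbkv, mul_zero, zero_smul, add_zero] at h1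
  have h2 : -(D * sf b v)⁻¹ * D * sf b v = -1 := by
    field_simp
  rw [h2, neg_one_smul, sub_neg_eq_add] at h1
  have h3 : (-1 : F) • b ∈ Helper99.tvSet m M := Helper99.tvSet_smul m M _ b hb
  have h4 := Helper99.tvSet_add m M S.hMS (b + v) ((-1 : F) • b) h1 h3 (by
    rw [Helper13.sympForm_smul_left, Helper13.sympForm_add_right, Helper13.sympForm_self]
    simpa using hbv)
  have h5 : b + v + (-1 : F) • b = v := by module
  rw [h5] at h4
  exact h4

section fin
variable [Fintype F]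

/-- from one singular direction to another singular direction off its `K`-line -/
lemma sing_step (b v : V) (hb : b ∈ Helper99.tvSet m M) (hb0 : b ≠ 0)
    (hv : sf v (κ *ᵥ v) = 0) (hvb : v ∉ ksub κ b) : v ∈ Helper99.tvSet m M := by
  have hK := S.gen.kdata
  have hD := S.D_ne
  have hv0 : v ≠ 0 := by
    rintro rfl; exact hvb (Submodule.zero_mem _)
  have hx : κ *ᵥ b ∉ Submodule.span F {b, v} := by
    intro hmem
    obtain ⟨α, β, hαβ⟩ := Submodule.mem_span_pair.1 hmem
    by_cases hβ : β = 0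
    · apply S.gen.irr b hb0 α
      rw [← hαβ, hβ, zero_smul, add_zero]
    · apply hvb
      rw [mem_ksub]
      refine ⟨-(β⁻¹ * α), β⁻¹, ?_⟩
      rw [← hαβ]
      have : β⁻¹ • (α • b + β • v) = (β⁻¹ * α) • b + v := by
        rw [smul_add, smul_smul, smul_smul, inv_mul_cancel₀ hβ, one_smul]
      rw [this]
      module
  have hy : κ *ᵥ v ∉ Submodule.span F {b, v} := by
    intro hmem
    obtain ⟨α, β, hαβ⟩ := Submodule.mem_span_pair.1 hmem
    by_cases hα : α = 0
    · apply S.gen.irr v hv0 β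
      rw [← hαβ, hα, zero_smul, zero_add]
    · apply hvb
      apply hK.ksub_symm _ hb0
      rw [mem_ksub]
      refine ⟨-(α⁻¹ * β), α⁻¹, ?_⟩
      rw [← hαβ]
      have : α⁻¹ • (α • b + β • v) = b + (α⁻¹ * β) • v := by
        rw [smul_add, smul_smul, smul_smul, inv_mul_cancel₀ hα, one_smul]
      rw [this]
      module
  obtain ⟨w, hw, hwS, hwb, hwv⟩ := exists_sing_orth_pair2 (kQ m κ) S.hq
    (Submodule.span F {b, v}) (κ *ᵥ b) (κ *ᵥ v) hx hy (by
      have h1 := finrank_span_pair_le b v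
      have h2 := finrank_V (F := F) (m := m)
      have h3 := S.dim
      omega)
  rw [kQ_apply] at hw
  have h1 : sf b (κ *ᵥ w) = 0 :=
    S.sf_of_polar (hwS b (Submodule.subset_span (by simp)))
  have h2 : sf v (κ *ᵥ w) = 0 :=
    S.sf_of_polar (hwS v (Submodule.subset_span (by simp)))
  have h3 : sf b w ≠ 0 := by
    intro h0
    apply hwb
    rw [S.gen.kQ_polar, S.gen.kk, h0]
    ring
  have h4 : sf v w ≠ 0 := by
    intro h0
    apply hwv
    rw [S.gen.kQ_polar, S.gen.kk, h0]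
    ring
  have hwT := S.R1 b w hb hw h1 h3
  have h5 : sf w (κ *ᵥ v) = 0 := by
    rw [S.gen.skew', Helper13.sympForm_swap, h2]
    ring
  have h6 : sf w v ≠ 0 := by
    rw [Helper13.sympForm_swap]
    exact neg_ne_zero.2 h4
  exact S.R1 w v hwT hv h5 h6

/-- all singular directions -/
lemma sing_all (b : V) (hb : b ∈ Helper99.tvSet m M) (hb0 : b ≠ 0) (v : V)
    (hv : sf v (κ *ᵥ v) = 0) : v ∈ Helper99.tvSet m M := by
  have hK := S.gen.kdata
  by_cases hv0 : v = 0
  · rw [hv0]; exact Helper99.tvSet_zero m M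
  by_cases hvb : v ∈ ksub κ b
  · obtain ⟨w', hw', -, hw'N⟩ := exists_sing_orth_notMem (kQ m κ) S.hq (ksub κ b) (by
      have h1 := finrank_ksub_le κ b
      have h2 := finrank_V (F := F) (m := m)
      have h3 := S.dim
      omega)
    rw [kQ_apply] at hw'
    have hw'T := S.sing_step b w' hb hb0 hw' hw'N
    have hw'0 : w' ≠ 0 := by
      rintro rfl; exact hw'N (Submodule.zero_mem _)
    have hvw' : v ∉ ksub κ w' := by
      intro hmem
      apply hw'N
      have h1 : w' ∈ ksub κ v := hK.ksub_symm hmem hv0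
      have hle : ksub κ v ≤ ksub κ b := ksub_le hvb (hK.ksub_inv hvb)
      exact hle h1
    exact S.sing_step w' v hw'T hw'0 hv hvw'
  · exact S.sing_step b v hb hb0 hv hvb

/-- all directions -/
lemma all_tv (b : V) (hb : b ∈ Helper99.tvSet m M) (hb0 : b ≠ 0) (x : V) :
    x ∈ Helper99.tvSet m M := by
  have hD := S.D_ne
  by_cases hx : sf x (κ *ᵥ x) = 0
  · exact S.sing_all b hb hb0 x hx
  have hx0 : x ≠ 0 := by
    rintro rfl
    exact hx (Helper13.sympForm_zero_left m _)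
  have hxb : x ∉ (⊥ : Submodule F V) := by
    rw [Submodule.mem_bot]; exact hx0
  have hkxb : κ *ᵥ x ∉ (⊥ : Submodule F V) := by
    rw [Submodule.mem_bot]; exact S.gen.k_ne_zero hx0
  obtain ⟨u₀, hu₀, -, hxu₀, hkxu₀⟩ := exists_sing_orth_pair2 (kQ m κ) S.hq ⊥ x (κ *ᵥ x) hxb hkxb (by
    have h2 := finrank_V (F := F) (m := m)
    have h3 := S.dim
    rw [finrank_bot]
    omega)
  rw [kQ_apply] at hu₀
  rw [S.gen.kQ_polar] at hxu₀ hkxu₀
  rw [S.gen.kk] at hkxu₀
  have hA : sf x (κ *ᵥ u₀) ≠ 0 := by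
    intro h0; apply hxu₀; rw [h0, mul_zero]
  have hB : sf x u₀ ≠ 0 := by
    intro h0; apply hkxu₀; rw [h0]; ring
  obtain ⟨l, hl⟩ : ∃ l : F, l = sf x (κ *ᵥ x) / (2 * sf x (κ *ᵥ u₀)) := ⟨_, rfl⟩
  have hl0 : l ≠ 0 := by
    rw [hl]
    exact div_ne_zero hx (mul_ne_zero S.two hA)
  have hu : sf (l • u₀) (κ *ᵥ (l • u₀)) = 0 := by
    rw [Matrix.mulVec_smul, Helper13.sympForm_smul_left, Helper13.sympForm_smul_right, hu₀]
    ring
  have hux : sf u₀ (κ *ᵥ x) = sf x (κ *ᵥ u₀) := by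
    rw [S.gen.skew', Helper13.sympForm_swap]
    ring
  have hv : sf (x - l • u₀) (κ *ᵥ (x - l • u₀)) = 0 := by
    rw [Matrix.mulVec_sub, Matrix.mulVec_smul, Helper13.sympForm_sub_left,
      Helper13.sympForm_sub_right, Helper13.sympForm_sub_right, Helper13.sympForm_smul_left,
      Helper13.sympForm_smul_left, Helper13.sympForm_smul_right, Helper13.sympForm_smul_right,
      hu₀, hux]
    have h2 := S.two
    have hlA : sf x (κ *ᵥ x) = 2 * l * sf x (κ *ᵥ u₀) := by
      rw [hl]; field_simp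
    linear_combination hlA
  have huT := S.sing_all b hb hb0 _ hu
  have hvT := S.sing_all b hb hb0 _ hv
  have h4 := Helper99.tvSet_add m M S.hMS (l • u₀) (x - l • u₀) huT hvT (by
    rw [Helper13.sympForm_sub_left, Helper13.sympForm_smul_left, Helper13.sympForm_smul_right,
      Helper13.sympForm_smul_right, Helper13.sympForm_self]
    simp only [mul_zero, sub_zero]
    exact mul_ne_zero hl0 hB)
  have h5 : l • u₀ + (x - l • u₀) = x := by module
  rw [h5] at h4
  exact h4

end fin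

end KSetup

end spk4

end Cfsg.Agent.Lib.Helper94
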