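import Mathlib
import Cfsg.Agent.Lib.Helper94.SpK4

set_option autoImplicit false

/-!
Overgroups of the normaliser of a quadratic field subalgebra in the symplectic group:
producing a transvection, and maximality.
-/

namespace Cfsg.Agent.Lib.Helper94

open Matrix Module QuadraticMap
open Cfsg.Agent.Lib

set_option linter.unusedSectionVars false
set_option linter.unusedVariables false

section spk5

variable {F : Type*} [Field F] {m : ℕ}

local notation "V" => (Fin m ⊕ Fin m → F)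
local notation "Mat" => Matrix (Fin m ⊕ Fin m) (Fin m ⊕ Fin m) F
local notation "sf" => Cfsg.sympForm m F
local notation "GLm" => Matrix.GeneralLinearGroup (Fin m ⊕ Fin m) F

lemma sfk_neg_right (a c : V) : sf a (-c) = - sf a c := by
  rw [← neg_one_smul F c, Helper13.sympForm_smul_right]; ring

lemma sfk_neg_left (a c : V) : sf (-c) a = - sf c a := by
  rw [← neg_one_smul F c, Helper13.sympForm_smul_left]; ring

/-- quotient of two root elements with the same first vector -/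
lemma root_mul_inv (b u u' : V) (μ : F) (hμ : 2 * μ = sf u u') (hbu : sf b u = 0)
    (hbu' : sf b u' = 0) :
    Helper99.rootElt m b u * (Helper99.rootElt m b u')⁻¹
      = Helper99.rootElt m b (u - u' + μ • b) := by
  have h1 : sf b (-u') = 0 := by rw [sfk_neg_right, hbu', neg_zero]
  have h2 : sf b (u - u' + μ • b) = 0 := by
    rw [Helper13.sympForm_add_right, Helper13.sympForm_sub_right, Helper13.sympForm_smul_right,
      Helper13.sympForm_self, hbu, hbu']
    ring
  have h3 : sf u' b = 0 := by rw [Helper13.sympForm_swap, hbu', neg_zero]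
  have h4 : sf u' u = - sf u u' := Helper13.sympForm_swap m _ _
  rw [Helper99.rootElt_inv m b u' hbu']
  apply Units.ext
  rw [Matrix.ext_iff_mulVec]
  intro x
  rw [Units.val_mul, ← Matrix.mulVec_mulVec, Helper99.rootElt_mulVec m _ _ h1,
    Helper99.rootElt_mulVec m _ _ hbu, Helper99.rootElt_mulVec m _ _ h2]
  simp only [Helper13.sympForm_add_left, Helper13.sympForm_add_right,
    Helper13.sympForm_sub_right, Helper13.sympForm_smul_left, Helper13.sympForm_smul_right,
    Helper13.sympForm_self, sfk_neg_right, sfk_neg_left, hbu, h3, h4, ← hμ]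
  module

/-- commutator of an isometry fixing `b`, `κ b`, `d` with the Eichler element -/
lemma comm_Ei (κ : Mat) (X : GLm) (hX : X ∈ Cfsg.spGL m F) (b d : V)
    (hXb : (X : Mat) *ᵥ b = b) (hXkb : (X : Mat) *ᵥ (κ *ᵥ b) = κ *ᵥ b)
    (hXd : (X : Mat) *ᵥ d = d) :
    X * Ei m κ b d * X⁻¹ * (Ei m κ b d)⁻¹
      = Helper99.rootElt m b ((X : Mat) *ᵥ (κ *ᵥ d)) * (Helper99.rootElt m b (κ *ᵥ d))⁻¹ := by
  unfold Ei
  have h1 : X * (Helper99.rootElt m b (κ *ᵥ d) * Helper99.rootElt m (κ *ᵥ b) (-d)) * X⁻¹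
      = (X * Helper99.rootElt m b (κ *ᵥ d) * X⁻¹) *
        (X * Helper99.rootElt m (κ *ᵥ b) (-d) * X⁻¹) := by group
  rw [h1, Helper99.conj_rootElt m X hX, Helper99.conj_rootElt m X hX, hXb, hXkb,
    Matrix.mulVec_neg, hXd]
  group

namespace KSetup

variable {K : Subalgebra F (Matrix (Fin m ⊕ Fin m) (Fin m ⊕ Fin m) F)}
  {κ : Matrix (Fin m ⊕ Fin m) (Fin m ⊕ Fin m) F} {D : F}
  {M : Subgroup (Matrix.GeneralLinearGroup (Fin m ⊕ Fin m) F)} (S : KSetup K κ D M)
include S

variable [Fintype F]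

/-- a root element whose second vector is off the `K`-line gives the transvections -/
lemma root_to_tv (b e₁ : V) (hqb : sf b (κ *ᵥ b) = 0) (hbe : sf b e₁ = 0)
    (he : e₁ ∉ ksub κ b) (hR : Helper99.rootElt m b e₁ ∈ M) : b ∈ Helper99.tvSet m M := by
  have hD := S.D_ne
  have h2' := S.two
  obtain ⟨w, hw, hwS, hwe⟩ := exists_sing_orth_pair1 (kQ m κ) S.hq (ksub κ b) e₁ he (by
    have h1 := finrank_ksub_le κ b
    have h2 := finrank_V (F := F) (m := m)
    have h3 := S.dim
    omega)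
  rw [kQ_apply] at hw
  have h1 : sf b (κ *ᵥ w) = 0 := S.sf_of_polar (hwS b (self_mem_ksub κ b))
  have h2 : sf b w = 0 := S.sf_of_polar_k (hwS _ (k_mem_ksub κ b))
  rw [S.gen.kQ_polar] at hwe
  obtain ⟨A, hAdef⟩ : ∃ A : F, A = sf e₁ (κ *ᵥ w) := ⟨_, rfl⟩
  obtain ⟨B, hBdef⟩ : ∃ B : F, B = sf e₁ w := ⟨_, rfl⟩
  rw [← hAdef] at hwe
  have hA : A ≠ 0 := by
    intro h0; rw [h0, mul_zero] at hwe; exact zero_ne_one hwe
  have hw0 : w ≠ 0 := by
    rintro rfl
    apply hA
    rw [hAdef, Matrix.mulVec_zero, Helper13.sympForm_zero_right]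
  have hn₀ : A * A - D * (B * B) ≠ 0 := by
    intro h0
    exact hA (S.gen.aniso hw0 A B h0).1
  intro c
  obtain ⟨n₀, hn₀def⟩ : ∃ n₀ : F, n₀ = A * A - D * (B * B) := ⟨_, rfl⟩
  rw [← hn₀def] at hn₀
  obtain ⟨c', hc'⟩ : ∃ c' : F, c' = -c / (2 * n₀) := ⟨_, rfl⟩
  have hy : ut m κ D w c' ∈ M := S.ut_mem w hw c'
  have hyb : ((ut m κ D w c' : GLm) : Mat) *ᵥ b = b := by
    rw [ut_mulVec m w hw, h1, h2]
    simp
  have hye : ((ut m κ D w c' : GLm) : Mat) *ᵥ e₁ = e₁ + (c' * A) • κ *ᵥ w - (c' * D * B) • w := by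
    rw [ut_mulVec m w hw, ← hAdef, ← hBdef]
  have hconj := Helper99.conj_rootElt m (ut m κ D w c') (S.hMS hy) b e₁
  rw [hyb] at hconj
  have hR' : Helper99.rootElt m b (((ut m κ D w c' : GLm) : Mat) *ᵥ e₁) ∈ M := by
    rw [← hconj]
    exact M.mul_mem (M.mul_mem hy hR) (M.inv_mem hy)
  have hbe' : sf b (((ut m κ D w c' : GLm) : Mat) *ᵥ e₁) = 0 := by
    have h3 := (Helper99.mem_spGL_iff m _).1 (S.hMS hy) b e₁
    rw [hyb] at h3
    rw [h3]; exact hbe
  have hcomm := Helper99.rootElt_commutator m b e₁ _ hbe hbe'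
  have hval : 2 * sf (((ut m κ D w c' : GLm) : Mat) *ᵥ e₁) e₁ = c := by
    rw [hye, Helper13.sympForm_sub_left, Helper13.sympForm_add_left, Helper13.sympForm_smul_left,
      Helper13.sympForm_smul_left, Helper13.sympForm_self, Helper13.sympForm_swap m (κ *ᵥ w) e₁,
      Helper13.sympForm_swap m w e₁, ← hAdef, ← hBdef]
    have h5 : 2 * (0 + c' * A * -A - c' * D * B * -B) = -(2 * c' * n₀) := by
      rw [hn₀def]; ring
    rw [h5, hc']
    field_simp
  rw [hval] at hcomm
  rw [← hcomm]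
  exact M.mul_mem (M.mul_mem (M.mul_mem hR hR') (M.inv_mem hR)) (M.inv_mem hR')

end KSetup

end spk5

end Cfsg.Agent.Lib.Helper94
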