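import Mathlib
import Cfsg.Agent.Lib.Helper94.SpK5

set_option autoImplicit false

/-!
Overgroups of the normaliser of a quadratic field subalgebra in the symplectic group:
the configuration argument.
-/

namespace Cfsg.Agent.Lib.Helper94

open Matrix Module QuadraticMap
open Cfsg.Agent.Lib

set_option linter.unusedSectionVars false
set_option linter.unusedVariables false

section spk6

variable {F : Type*} [Field F] {m : ℕ}

local notation "V" => (Fin m ⊕ Fin m → F)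
local notation "Mat" => Matrix (Fin m ⊕ Fin m) (Fin m ⊕ Fin m) F
local notation "sf" => Cfsg.sympForm m F
local notation "GLm" => Matrix.GeneralLinearGroup (Fin m ⊕ Fin m) F

namespace KSetup

variable {K : Subalgebra F (Matrix (Fin m ⊕ Fin m) (Fin m ⊕ Fin m) F)}
  {κ : Matrix (Fin m ⊕ Fin m) (Fin m ⊕ Fin m) F} {D : F}
  {M : Subgroup (Matrix.GeneralLinearGroup (Fin m ⊕ Fin m) F)} (S : KSetup K κ D M)
include S

variable [Fintype F]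

/-- an element of `M` moving a singular `K`-line off the `K`-lines yields a transvection
direction -/
theorem tv_of_moved (g : GLm) (hg : g ∈ M) (u : V) (hu0 : u ≠ 0) (hqu : sf u (κ *ᵥ u) = 0)
    (hmove : ∀ α β : F, κ *ᵥ ((g : Mat) *ᵥ u) ≠ α • ((g : Mat) *ᵥ u) + β • ((g : Mat) *ᵥ (κ *ᵥ u))) :
    ∃ b : V, b ≠ 0 ∧ b ∈ Helper99.tvSet m M := by
  have hK := S.gen.kdata
  have hD := S.D_ne
  have h2' := S.two
  have hgS := S.hMS hg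
  have hgf := (Helper99.mem_spGL_iff m g).1 hgS
  obtain ⟨p₀, hp₀⟩ : ∃ p₀ : V, p₀ = (g : Mat) *ᵥ u := ⟨_, rfl⟩
  obtain ⟨p₁, hp₁⟩ : ∃ p₁ : V, p₁ = (g : Mat) *ᵥ (κ *ᵥ u) := ⟨_, rfl⟩
  rw [← hp₀, ← hp₁] at hmove
  -- the conjugated unitary transvection
  obtain ⟨X, hXdef⟩ : ∃ X : GLm, X = g * ut m κ D u 1 * g⁻¹ := ⟨_, rfl⟩
  have hXM : X ∈ M := by
    rw [hXdef]
    exact M.mul_mem (M.mul_mem hg (S.ut_mem u hqu 1)) (M.inv_mem hg)
  have hXv : ∀ v : V, (X : Mat) *ᵥ v = v + sf v p₁ • p₁ - (D * sf v p₀) • p₀ := by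
    intro v
    have e1 : sf (((g⁻¹ : GLm) : Mat) *ᵥ v) (κ *ᵥ u) = sf v p₁ := by
      rw [hp₁, ← hgf (((g⁻¹ : GLm) : Mat) *ᵥ v) (κ *ᵥ u), Helper99.mulVec_inv_mulVec]
    have e2 : sf (((g⁻¹ : GLm) : Mat) *ᵥ v) u = sf v p₀ := by
      rw [hp₀, ← hgf (((g⁻¹ : GLm) : Mat) *ᵥ v) u, Helper99.mulVec_inv_mulVec]
    rw [hXdef, Units.val_mul, Units.val_mul, ← Matrix.mulVec_mulVec, ← Matrix.mulVec_mulVec,
      ut_mulVec m u hqu, e1, e2, Matrix.mulVec_sub, Matrix.mulVec_add, Matrix.mulVec_smul,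
      Matrix.mulVec_smul, Helper99.mulVec_inv_mulVec, ← hp₀, ← hp₁]
    module
  -- the vector `b`
  obtain ⟨Sb, hSb⟩ : ∃ Sb : Submodule F V, Sb = ksub κ p₀ ⊔ ksub κ p₁ := ⟨_, rfl⟩
  have hSbinv : ∀ x ∈ Sb, κ *ᵥ x ∈ Sb := by
    rw [hSb]
    exact hK.sup_inv (fun x hx => hK.ksub_inv hx) (fun x hx => hK.ksub_inv hx)
  obtain ⟨b, hqb, hbS, hbN⟩ := exists_sing_orth_notMem (kQ m κ) S.hq Sb (by
    rw [hSb]
    have h1 := finrank_ksub_sup_le κ p₀ p₁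
    have h2 := finrank_V (F := F) (m := m)
    have h3 := S.dim
    omega)
  rw [kQ_apply] at hqb
  have hb0 : b ≠ 0 := by
    rintro rfl; exact hbN (Submodule.zero_mem _)
  have hm0 : p₀ ∈ Sb := by rw [hSb]; exact Submodule.mem_sup_left (self_mem_ksub κ p₀)
  have hm0k : κ *ᵥ p₀ ∈ Sb := by rw [hSb]; exact Submodule.mem_sup_left (k_mem_ksub κ p₀)
  have hm1 : p₁ ∈ Sb := by rw [hSb]; exact Submodule.mem_sup_right (self_mem_ksub κ p₁)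
  have hm1k : κ *ᵥ p₁ ∈ Sb := by rw [hSb]; exact Submodule.mem_sup_right (k_mem_ksub κ p₁)
  have hb1 : sf p₀ (κ *ᵥ b) = 0 := S.sf_of_polar (hbS _ hm0)
  have hb2 : sf p₁ (κ *ᵥ b) = 0 := S.sf_of_polar (hbS _ hm1)
  have hb3 : sf p₀ b = 0 := S.sf_of_polar_k (hbS _ hm0k)
  have hb4 : sf p₁ b = 0 := S.sf_of_polar_k (hbS _ hm1k)
  have hXb : (X : Mat) *ᵥ b = b := by
    rw [hXv, Helper13.sympForm_swap m b p₁, hb4, Helper13.sympForm_swap m b p₀, hb3]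
    simp
  have hXkb : (X : Mat) *ᵥ (κ *ᵥ b) = κ *ᵥ b := by
    rw [hXv, Helper13.sympForm_swap m _ p₁, hb2, Helper13.sympForm_swap m _ p₀, hb1]
    simp
  -- the vector `d`
  obtain ⟨Sd, hSd⟩ : ∃ Sd : Submodule F V,
      Sd = Submodule.span F {κ *ᵥ p₀, κ *ᵥ p₁} ⊔ ksub κ b := ⟨_, rfl⟩
  have hp₀Sd : p₀ ∉ Sd := by
    rw [hSd]
    intro hmem
    obtain ⟨s, hs, z, hz, hsz⟩ := Submodule.mem_sup.1 hmem
    obtain ⟨α, β, hαβ⟩ := Submodule.mem_span_pair.1 hs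
    obtain ⟨γ, γ', hγ⟩ := mem_ksub.1 hz
    have hzS : γ • b + γ' • κ *ᵥ b ∈ Sb := by
      rw [← hγ]
      have : z = p₀ - s := by rw [← hsz]; abel
      rw [this, ← hαβ]
      exact Sb.sub_mem hm0 (Sb.add_mem (Sb.smul_mem _ hm0k) (Sb.smul_mem _ hm1k))
    obtain ⟨hγ0, hγ'0⟩ := hK.ind hSbinv hbN γ γ' hzS
    have hp : p₀ = α • κ *ᵥ p₀ + β • κ *ᵥ p₁ := by
      rw [hαβ, ← hsz, hγ, hγ0, hγ'0]; simp
    apply hmove (α * D) (β * D)
    have h' : κ *ᵥ p₀ = κ *ᵥ (α • κ *ᵥ p₀ + β • κ *ᵥ p₁) := congrArg (fun v => κ *ᵥ v) hp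
    rw [Matrix.mulVec_add, Matrix.mulVec_smul, Matrix.mulVec_smul, S.gen.sq, S.gen.sq, smul_smul,
      smul_smul] at h'
    exact h'
  obtain ⟨d, hqd, hdS, hdp⟩ := exists_sing_orth_pair1 (kQ m κ) S.hq Sd p₀ hp₀Sd (by
    rw [hSd]
    have h1 := Submodule.finrank_add_le_finrank_add_finrank
      (Submodule.span F {κ *ᵥ p₀, κ *ᵥ p₁}) (ksub κ b)
    have h4 := finrank_span_pair_le (κ *ᵥ p₀) (κ *ᵥ p₁)
    have h5 := finrank_ksub_le κ b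
    have h2 := finrank_V (F := F) (m := m)
    have h3 := S.dim
    omega)
  rw [kQ_apply] at hqd
  have hd1 : sf p₀ d = 0 := S.sf_of_polar_k (hdS _ (by
    rw [hSd]; exact Submodule.mem_sup_left (Submodule.subset_span (by simp))))
  have hd2 : sf p₁ d = 0 := S.sf_of_polar_k (hdS _ (by
    rw [hSd]; exact Submodule.mem_sup_left (Submodule.subset_span (by simp))))
  have hd3 : sf b (κ *ᵥ d) = 0 := S.sf_of_polar (hdS _ (by
    rw [hSd]; exact Submodule.mem_sup_right (self_mem_ksub κ b)))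
  have hd4 : sf b d = 0 := S.sf_of_polar_k (hdS _ (by
    rw [hSd]; exact Submodule.mem_sup_right (k_mem_ksub κ b)))
  rw [S.gen.kQ_polar] at hdp
  have hd5 : sf p₀ (κ *ᵥ d) ≠ 0 := by
    intro h0; rw [h0, mul_zero] at hdp; exact zero_ne_one hdp
  have hXd : (X : Mat) *ᵥ d = d := by
    rw [hXv, Helper13.sympForm_swap m d p₁, hd2, Helper13.sympForm_swap m d p₀, hd1]
    simp
  -- the commutator
  have hE := S.Ei_mem b d hqb hqd hd4 hd3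
  have hC : X * Ei m κ b d * X⁻¹ * (Ei m κ b d)⁻¹ ∈ M :=
    M.mul_mem (M.mul_mem (M.mul_mem hXM hE) (M.inv_mem hXM)) (M.inv_mem hE)
  rw [comm_Ei κ X (S.hMS hXM) b d hXb hXkb hXd] at hC
  have hXkd : (X : Mat) *ᵥ (κ *ᵥ d)
      = κ *ᵥ d + sf (κ *ᵥ d) p₁ • p₁ - (D * sf (κ *ᵥ d) p₀) • p₀ := hXv _
  have hbp₀ : sf b p₀ = 0 := by rw [Helper13.sympForm_swap, hb3, neg_zero]
  have hbp₁ : sf b p₁ = 0 := by rw [Helper13.sympForm_swap, hb4, neg_zero]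
  have hbXkd : sf b ((X : Mat) *ᵥ (κ *ᵥ d)) = 0 := by
    rw [hXkd, Helper13.sympForm_sub_right, Helper13.sympForm_add_right,
      Helper13.sympForm_smul_right, Helper13.sympForm_smul_right, hd3, hbp₀, hbp₁]
    ring
  obtain ⟨μ, hμ⟩ : ∃ μ : F, μ = sf ((X : Mat) *ᵥ (κ *ᵥ d)) (κ *ᵥ d) / 2 := ⟨_, rfl⟩
  have hμ2 : 2 * μ = sf ((X : Mat) *ᵥ (κ *ᵥ d)) (κ *ᵥ d) := by
    rw [hμ]; field_simp
  rw [root_mul_inv b _ _ μ hμ2 hbXkd hd3] at hC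
  obtain ⟨e₁, he₁⟩ : ∃ e₁ : V, e₁ = (X : Mat) *ᵥ (κ *ᵥ d) - κ *ᵥ d + μ • b := ⟨_, rfl⟩
  rw [← he₁] at hC
  have he₁' : e₁ = sf (κ *ᵥ d) p₁ • p₁ - (D * sf (κ *ᵥ d) p₀) • p₀ + μ • b := by
    rw [he₁, hXkd]; abel
  have hbe₁ : sf b e₁ = 0 := by
    rw [he₁', Helper13.sympForm_add_right, Helper13.sympForm_sub_right,
      Helper13.sympForm_smul_right, Helper13.sympForm_smul_right, Helper13.sympForm_smul_right,
      Helper13.sympForm_self, hbp₀, hbp₁]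
    ring
  have he₁N : e₁ ∉ ksub κ b := by
    intro hmem
    obtain ⟨γ, γ', hγ⟩ := mem_ksub.1 hmem
    have h' := hγ.symm.trans he₁'
    have hzeq : (γ - μ) • b + γ' • κ *ᵥ b
        = sf (κ *ᵥ d) p₁ • p₁ - (D * sf (κ *ᵥ d) p₀) • p₀ := by
      linear_combination (norm := module) h'
    have hzS : (γ - μ) • b + γ' • κ *ᵥ b ∈ Sb := by
      rw [hzeq]
      exact Sb.sub_mem (Sb.smul_mem _ hm1) (Sb.smul_mem _ hm0)
    obtain ⟨h1, h2⟩ := hK.ind hSbinv hbN _ _ hzS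
    have h3 : sf (κ *ᵥ d) p₁ • p₁ - (D * sf (κ *ᵥ d) p₀) • p₀ = 0 := by
      rw [← hzeq, h1, h2]; simp
    have hc₀ : D * sf (κ *ᵥ d) p₀ ≠ 0 := by
      apply mul_ne_zero hD
      rw [Helper13.sympForm_swap]
      exact neg_ne_zero.2 hd5
    have h4 : (g : Mat) *ᵥ (sf (κ *ᵥ d) p₁ • κ *ᵥ u - (D * sf (κ *ᵥ d) p₀) • u) = 0 := by
      rw [Matrix.mulVec_sub, Matrix.mulVec_smul, Matrix.mulVec_smul, ← hp₀, ← hp₁]
      exact h3
    have h5 : sf (κ *ᵥ d) p₁ • κ *ᵥ u - (D * sf (κ *ᵥ d) p₀) • u = 0 := by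
      rw [← Helper99.inv_mulVec_mulVec m g (sf (κ *ᵥ d) p₁ • κ *ᵥ u - (D * sf (κ *ᵥ d) p₀) • u),
        h4, Matrix.mulVec_zero]
    by_cases hc₁ : sf (κ *ᵥ d) p₁ = 0
    · rw [hc₁, zero_smul, zero_sub, neg_eq_zero] at h5
      rcases smul_eq_zero.1 h5 with h6 | h6
      · exact hc₀ h6
      · exact hu0 h6
    · apply S.gen.irr u hu0 ((D * sf (κ *ᵥ d) p₀) / sf (κ *ᵥ d) p₁)
      have h6 : sf (κ *ᵥ d) p₁ • κ *ᵥ u = (D * sf (κ *ᵥ d) p₀) • u := sub_eq_zero.1 h5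
      calc κ *ᵥ u = (sf (κ *ᵥ d) p₁)⁻¹ • (sf (κ *ᵥ d) p₁ • κ *ᵥ u) := by
            rw [smul_smul, inv_mul_cancel₀ hc₁, one_smul]
        _ = ((D * sf (κ *ᵥ d) p₀) / sf (κ *ᵥ d) p₁) • u := by
            rw [h6, smul_smul]; congr 1; field_simp
  exact ⟨b, hb0, S.root_to_tv b e₁ hqb hbe₁ he₁N hC⟩

/-- an overgroup of the normaliser containing an element outside it is the symplectic group -/
theorem eq_spGL_of_not_normalizer (g : GLm) (hg : g ∈ M)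
    (hgN : g ∉ Cfsg.Geo.subalgebraNormalizer K) : M = Cfsg.spGL m F := by
  have hex : ∃ u : V, kQ m κ u = 0 ∧ u ≠ 0 ∧
      (((g⁻¹ : GLm) : Mat) * κ * (g : Mat)) *ᵥ u ∉ ksub κ u := by
    by_contra hcon
    push Not at hcon
    obtain ⟨α, β, hαβ⟩ := kmat_of_klines S.hq S.gen.kdata (by
      have h2 := finrank_V (F := F) (m := m)
      have h3 := S.dim
      omega) _ hcon
    apply hgN
    have h1 : g⁻¹ ∈ Cfsg.Geo.subalgebraNormalizer K :=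
      mem_normalizer_of_conj K κ S.mem S.nonscalar S.dec g⁻¹ α β (by rw [inv_inv]; exact hαβ)
    have h2 := (Cfsg.Geo.subalgebraNormalizer K).inv_mem h1
    rwa [inv_inv] at h2
  obtain ⟨u, hqu, hu0, hmv⟩ := hex
  rw [kQ_apply] at hqu
  have hmove : ∀ α β : F,
      κ *ᵥ ((g : Mat) *ᵥ u) ≠ α • ((g : Mat) *ᵥ u) + β • ((g : Mat) *ᵥ (κ *ᵥ u)) := by
    intro α β h
    apply hmv
    rw [mem_ksub]
    refine ⟨α, β, ?_⟩
    rw [← Matrix.mulVec_mulVec, ← Matrix.mulVec_mulVec, h, Matrix.mulVec_add, Matrix.mulVec_smul,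
      Matrix.mulVec_smul, Helper99.inv_mulVec_mulVec, Helper99.inv_mulVec_mulVec]
  obtain ⟨b, hb0, hbT⟩ := S.tv_of_moved g hg u hu0 hqu hmove
  exact Helper99.eq_spGL_of_stv_mem m M S.hMS (fun x c => S.all_tv b hbT hb0 x c)

end KSetup

end spk6

end Cfsg.Agent.Lib.Helper94
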