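import Mathlib
import Cfsg.Agent.Lib.Helper94.SpK6

set_option autoImplicit false

/-!
Maximality of the normaliser of a quadratic field subalgebra (adjoint-closed, not self-adjoint)
in the symplectic group.
-/

namespace Cfsg.Agent.Lib.Helper94

open Matrix Module QuadraticMap
open Cfsg.Agent.Lib

set_option linter.unusedSectionVars false
set_option linter.unusedVariables false

section spk7

variable {F : Type*} [Field F] [Fintype F] {m : ℕ}

local notation "V" => (Fin m ⊕ Fin m → F)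
local notation "Mat" => Matrix (Fin m ⊕ Fin m) (Fin m ⊕ Fin m) F
local notation "sf" => Cfsg.sympForm m F
local notation "GLm" => Matrix.GeneralLinearGroup (Fin m ⊕ Fin m) F

theorem two_ne_zero_of_odd_card94 (hF : Odd (Fintype.card F)) : (2 : F) ≠ 0 := by
  intro h
  have h2 : ringChar F ∣ 2 := by
    have := (CharP.cast_eq_zero_iff F (ringChar F) 2).mp (by exact_mod_cast h)
    exact this
  have hp : (ringChar F).Prime := CharP.char_is_prime F (ringChar F)
  have h3 : ringChar F = 2 := (Nat.prime_dvd_prime_iff_eq hp Nat.prime_two).mp h2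
  have := FiniteField.even_card_of_char_two h3
  rw [Nat.odd_iff] at hF
  omega

/-- some symplectic transvection does not normalise the field subalgebra -/
theorem exists_sp_not_normalizer (h2 : (2 : F) ≠ 0) (hm : 7 ≤ m) (K : Subalgebra F Mat)
    (κ : Mat) (D : F) (hgen : SkewGen m κ D) (hκK : κ ∈ K)
    (hdec : ∀ k ∈ K, ∃ a b : F, k = a • (1 : Mat) + b • κ) :
    ∃ g ∈ Cfsg.spGL m F, g ∉ Cfsg.Geo.subalgebraNormalizer K := by
  obtain ⟨x₀, hx₀⟩ := exists_ne_zero_V (F := F) (m := m) (by omega)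
  have hq := hgen.kQ_nondeg h2 x₀ hx₀
  have hK := hgen.kdata
  obtain ⟨u, hqu, -, huN⟩ := exists_sing_orth_notMem (kQ m κ) hq ⊥ (by
    rw [finrank_bot]
    have h2 := finrank_V (F := F) (m := m)
    omega)
  rw [kQ_apply] at hqu
  have hu0 : u ≠ 0 := by
    intro h0; apply huN; rw [h0]; exact Submodule.zero_mem _
  refine ⟨Helper99.stv m u 1, Helper99.stv_mem_spGL m u 1, ?_⟩
  intro hT
  obtain ⟨α, β, hαβ⟩ := conj_of_mem_normalizer K κ hκK hdec _ hT
  have key : ∀ x : V, ((Helper99.stv m u 1 : GLm) : Mat) *ᵥ (κ *ᵥ x)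
      = α • (((Helper99.stv m u 1 : GLm) : Mat) *ᵥ x)
        + β • κ *ᵥ (((Helper99.stv m u 1 : GLm) : Mat) *ᵥ x) := by
    intro x
    have h1 := congrArg (fun A : Mat => A *ᵥ (((Helper99.stv m u 1 : GLm) : Mat) *ᵥ x)) hαβ
    rw [← Matrix.mulVec_mulVec, ← Matrix.mulVec_mulVec, Helper99.inv_mulVec_mulVec,
      Matrix.add_mulVec, Matrix.smul_mulVec, Matrix.smul_mulVec, Matrix.one_mulVec] at h1
    exact h1
  have hbot : ∀ x ∈ (⊥ : Submodule F V), κ *ᵥ x ∈ (⊥ : Submodule F V) := by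
    intro x hx
    rw [Submodule.mem_bot] at hx ⊢
    rw [hx, Matrix.mulVec_zero]
  have h3 := key u
  rw [Helper99.stv_mulVec, Helper99.stv_mulVec, Helper13.sympForm_self, hgen.self_k, hqu] at h3
  simp only [neg_zero, mul_zero, zero_smul, add_zero] at h3
  have h4 : α • u + (β - 1) • κ *ᵥ u ∈ (⊥ : Submodule F V) := by
    rw [Submodule.mem_bot]
    linear_combination (norm := module) (-1 : F) • h3
  obtain ⟨hα, hβ⟩ := hK.ind hbot huN _ _ h4
  have hβ1 : β = 1 := sub_eq_zero.1 hβ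
  obtain ⟨y, hy⟩ := Helper13.exists_sympForm_ne_zero m u hu0
  have hy' : sf y u ≠ 0 := by
    rw [Helper13.sympForm_swap]; exact neg_ne_zero.2 hy
  have h5 := key y
  rw [Helper99.stv_mulVec, Helper99.stv_mulVec, hα, hβ1, zero_smul, zero_add, one_smul,
    Matrix.mulVec_add, Matrix.mulVec_smul, one_mul, one_mul] at h5
  have h6 : sf y u • κ *ᵥ u = sf (κ *ᵥ y) u • u := by
    linear_combination (norm := module) (-1 : F) • h5
  apply hgen.irr u hu0 (sf (κ *ᵥ y) u / sf y u)
  calc κ *ᵥ u = (sf y u)⁻¹ • (sf y u • κ *ᵥ u) := by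
        rw [smul_smul, inv_mul_cancel₀ hy', one_smul]
    _ = (sf (κ *ᵥ y) u / sf y u) • u := by
        rw [h6, smul_smul]; congr 1; field_simp

/-- the normaliser of a quadratic field subalgebra, closed under adjoints but not
self-adjoint, is maximal in the symplectic group -/
theorem sp_kfield_maximal (hm : 7 ≤ m) (h2 : (2 : F) ≠ 0) (K : Subalgebra F Mat)
    (hK : Cfsg.Geo.IsFieldSubalgebra 2 K)
    (hac : Cfsg.Geo.IsAdjointClosedFor (Cfsg.sympForm m F) K)
    (hnsa : ¬ Cfsg.Geo.IsSelfAdjointFor (Cfsg.sympForm m F) K) :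
    Cfsg.Geo.IsMaximalIn (Cfsg.spGL m F) (Cfsg.Geo.subalgebraNormalizer K ⊓ Cfsg.spGL m F) := by
  obtain ⟨κ, D, hκK, hgen, hκ, hdec⟩ := exists_skewGen m (by omega) h2 K hK hac hnsa
  refine ⟨?_, ?_⟩
  · apply lt_of_le_of_ne inf_le_right
    intro heq
    obtain ⟨g, hgS, hgN⟩ := exists_sp_not_normalizer h2 hm K κ D hgen hκK hdec
    apply hgN
    have : g ∈ Cfsg.Geo.subalgebraNormalizer K ⊓ Cfsg.spGL m F := by rw [heq]; exact hgS
    exact this.1
  · intro M hHM hMS
    by_cases hle : M ≤ Cfsg.Geo.subalgebraNormalizer K ⊓ Cfsg.spGL m F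
    · left; exact le_antisymm hle hHM
    · right
      obtain ⟨g, hgM, hgH⟩ := SetLike.not_le_iff_exists.1 hle
      have hgN : g ∉ Cfsg.Geo.subalgebraNormalizer K := fun h => hgH ⟨h, hMS hgM⟩
      exact (KSetup.mk hgen hκK hκ hdec hHM hMS h2 hm).eq_spGL_of_not_normalizer g hgM hgN

end spk7

end Cfsg.Agent.Lib.Helper94
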