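import Cfsg.Agent.Lib.Helper94.SLGen

set_option autoImplicit false

namespace Cfsg.Agent.Lib.Helper94

open scoped Matrix
open Cfsg

set_option linter.unusedSectionVars false
set_option linter.unnecessarySimpa false
set_option linter.style.haveILetI false
set_option linter.unusedVariables false

variable {ι : Type} [Fintype ι] [DecidableEq ι] {F : Type*} [Field F]

/-- `g` is an isometry of the two-argument form `f` -/
def IsIsom (f : (ι → F) → (ι → F) → F) (g : Matrix.GeneralLinearGroup ι F) : Prop :=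
  ∀ x y, f ((g : Matrix ι ι F) *ᵥ x) ((g : Matrix ι ι F) *ᵥ y) = f x y

lemma IsIsom.mul {f : (ι → F) → (ι → F) → F} {g h : Matrix.GeneralLinearGroup ι F} (hg : IsIsom f g)
    (hh : IsIsom f h) : IsIsom f (g * h) := by
  intro x y
  rw [Units.val_mul, ← Matrix.mulVec_mulVec, ← Matrix.mulVec_mulVec, hg, hh]

section symp
variable {f : (ι → F) → (ι → F) → F} (hf : Geo.IsSymplecticForm f)
include hf

lemma sf_add_left (x y v : ι → F) : f (x + y) v = f x v + f y v := hf.bilinear.add_left x y v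
lemma sf_smul_left (c : F) (x v : ι → F) : f (c • x) v = c * f x v := hf.bilinear.smul_left c x v
lemma sf_add_right (v x y : ι → F) : f v (x + y) = f v x + f v y := hf.bilinear.add_right v x y
lemma sf_smul_right (c : F) (v x : ι → F) : f v (c • x) = c * f v x := hf.bilinear.smul_right c v x
lemma sf_skew (v w : ι → F) : f v w = - f w v := hf.skew v w
lemma sf_self (v : ι → F) : f v v = 0 := hf.alternating v

lemma sf_zero_left (v : ι → F) : f 0 v = 0 := by
  have := sf_smul_left hf 0 v v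
  simpa using this

lemma sf_zero_right (v : ι → F) : f v 0 = 0 := by
  rw [sf_skew hf, sf_zero_left hf, neg_zero]

lemma sf_neg_left (x v : ι → F) : f (-x) v = - f x v := by
  have := sf_smul_left hf (-1) x v
  simpa using this

lemma sf_neg_right (v x : ι → F) : f v (-x) = - f v x := by
  have := sf_smul_right hf (-1) v x
  simpa using this

lemma sf_sub_left (x y v : ι → F) : f (x - y) v = f x v - f y v := by
  rw [sub_eq_add_neg, sf_add_left hf, sf_neg_left hf, sub_eq_add_neg]

lemma sf_sub_right (v x y : ι → F) : f v (x - y) = f v x - f v y := by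
  rw [sub_eq_add_neg, sf_add_right hf, sf_neg_right hf, sub_eq_add_neg]

/-- the form as a Mathlib bilinear form -/
noncomputable def sfB : LinearMap.BilinForm F (ι → F) :=
  LinearMap.mk₂ F f (sf_add_left hf) (sf_smul_left hf) (sf_add_right hf) (sf_smul_right hf)

lemma sfB_apply (x y : ι → F) : sfB hf x y = f x y := rfl

lemma sfB_refl : (sfB hf).IsRefl := by
  intro x y h
  rw [sfB_apply] at h ⊢
  rw [sf_skew hf, h, neg_zero]

lemma sfB_nondeg : (sfB hf).Nondegenerate := by
  constructor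
  · intro x hx
    by_contra hne
    obtain ⟨_, ⟨y, hy⟩⟩ := hf.nondegenerate x hne
    exact hy (hx y)
  · intro y hy
    by_contra hne
    obtain ⟨⟨x, hx⟩, _⟩ := hf.nondegenerate y hne
    exact hx (hy x)

lemma sf_ext_right {a b : ι → F} (h : ∀ x, f x a = f x b) : a = b := by
  by_contra hne
  have hne' : a - b ≠ 0 := sub_ne_zero.2 hne
  obtain ⟨⟨x, hx⟩, _⟩ := hf.nondegenerate (a - b) hne'
  apply hx
  rw [sf_sub_right hf, h x, sub_self]

lemma sf_exists_ne (u : ι → F) (hu : u ≠ 0) : ∃ z, f z u ≠ 0 := (hf.nondegenerate u hu).1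

lemma sf_riesz (φ : (ι → F) →ₗ[F] F) : ∃ a : ι → F, ∀ x, f x a = φ x := by
  refine ⟨-((sfB hf).toDual (sfB_nondeg hf)).symm φ, fun x => ?_⟩
  have h := LinearMap.BilinForm.apply_toDual_symm_apply (B := sfB hf) (hB := sfB_nondeg hf) φ x
  rw [sfB_apply] at h
  rw [sf_neg_right hf, sf_skew hf, neg_neg, h]

lemma sf_exists_both (u u' : ι → F) (hu : u ≠ 0) (hu' : u' ≠ 0) : ∃ z, f z u ≠ 0 ∧ f z u' ≠ 0 := by
  obtain ⟨z1, h1⟩ := sf_exists_ne hf u hu
  obtain ⟨z2, h2⟩ := sf_exists_ne hf u' hu'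
  by_cases h3 : f z1 u' = 0
  · by_cases h4 : f z2 u = 0
    · refine ⟨z1 + z2, ?_, ?_⟩
      · rw [sf_add_left hf, h4, add_zero]; exact h1
      · rw [sf_add_left hf, h3, zero_add]; exact h2
    · exact ⟨z2, h4, h2⟩
  · exact ⟨z1, h1, h3⟩

lemma sf_exists_orth_ne (w a : ι → F) (ha : a ∉ Submodule.span F {w}) : ∃ z, f z w = 0 ∧ f z a ≠ 0 := by
  by_contra hcon
  push_neg at hcon
  apply ha
  have h1 : (sfB hf).orthogonal (Submodule.span F {w}) ≤ (sfB hf).orthogonal (Submodule.span F {a}) := by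
    intro z hz
    rw [LinearMap.BilinForm.mem_orthogonal_iff] at hz ⊢
    have hwz : f w z = 0 := hz w (Submodule.mem_span_singleton_self w)
    have hzw : f z w = 0 := by rw [sf_skew hf, hwz, neg_zero]
    have hza := hcon z hzw
    intro n hn
    obtain ⟨c, rfl⟩ := Submodule.mem_span_singleton.1 hn
    rw [sfB_apply, sf_smul_left hf, sf_skew hf, hza, neg_zero, mul_zero]
  have h2 := LinearMap.BilinForm.orthogonal_le (B := sfB hf) h1
  rw [LinearMap.BilinForm.orthogonal_orthogonal (sfB_nondeg hf) (sfB_refl hf),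
    LinearMap.BilinForm.orthogonal_orthogonal (sfB_nondeg hf) (sfB_refl hf)] at h2
  exact h2 (Submodule.mem_span_singleton_self a)

lemma sf_exists_orth_both (w a a' : ι → F) (ha : a ∉ Submodule.span F {w}) (ha' : a' ∉ Submodule.span F {w}) :
    ∃ z, f z w = 0 ∧ f z a ≠ 0 ∧ f z a' ≠ 0 := by
  obtain ⟨z1, hw1, h1⟩ := sf_exists_orth_ne hf w a ha
  obtain ⟨z2, hw2, h2⟩ := sf_exists_orth_ne hf w a' ha'
  by_cases h3 : f z1 a' = 0
  · by_cases h4 : f z2 a = 0
    · refine ⟨z1 + z2, ?_, ?_, ?_⟩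
      · rw [sf_add_left hf, hw1, hw2, add_zero]
      · rw [sf_add_left hf, h4, add_zero]; exact h1
      · rw [sf_add_left hf, h3, zero_add]; exact h2
    · exact ⟨z2, hw2, h4, h2⟩
  · exact ⟨z1, hw1, h1, h3⟩

end symp

end Cfsg.Agent.Lib.Helper94
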