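import Cfsg.Agent.Lib.Helper94.SympTrans

set_option autoImplicit false

namespace Cfsg.Agent.Lib.Helper94

open scoped Matrix
open Cfsg

set_option linter.unusedSectionVars false
set_option linter.unnecessarySimpa false
set_option linter.style.haveILetI false
set_option linter.unusedVariables false

variable {ι : Type} [Fintype ι] [DecidableEq ι] {F : Type*} [Field F]

section symp
variable {f : (ι → F) → (ι → F) → F} (hf : Geo.IsSymplecticForm f)
include hf

/-- an element which is not a similarity conjugates some symplectic transvection to a non-symplectic one -/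
lemma exists_nonsymp_conj (h : Matrix.GeneralLinearGroup ι F) (u0 : ι → F) (hu0 : u0 ≠ 0)
    (hns : ¬ ∃ c : Fˣ, ∀ x y, f ((h : Matrix ι ι F) *ᵥ x) ((h : Matrix ι ι F) *ᵥ y) = (c : F) * f x y) :
    ∃ u a0 : ι → F, (∀ x, f x a0 = f (((h⁻¹ : Matrix.GeneralLinearGroup ι F) : Matrix ι ι F) *ᵥ x) u) ∧
      a0 ∉ Submodule.span F {(h : Matrix ι ι F) *ᵥ u} := by
  by_contra hcon
  push_neg at hcon
  have key : ∀ u : ι → F, ∃ l : F, ∀ y, f y u = l * f ((h : Matrix ι ι F) *ᵥ y) ((h : Matrix ι ι F) *ᵥ u) := by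
    intro u
    obtain ⟨a0, ha0⟩ := sf_riesz hf (((sfB hf).flip u) ∘ₗ
      (Matrix.toLin' ((h⁻¹ : Matrix.GeneralLinearGroup ι F) : Matrix ι ι F)))
    have ha0' : ∀ x, f x a0 = f (((h⁻¹ : Matrix.GeneralLinearGroup ι F) : Matrix ι ι F) *ᵥ x) u := by
      intro x
      rw [ha0 x]
      rfl
    obtain ⟨l, hl⟩ := Submodule.mem_span_singleton.1 (hcon u a0 ha0')
    refine ⟨l, fun y => ?_⟩
    have := ha0' ((h : Matrix ι ι F) *ᵥ y)
    rw [inv_mulVec_mulVec, ← hl, sf_smul_right hf] at this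
    exact this.symm
  choose lam hlam using key
  have hne : ∀ u : ι → F, u ≠ 0 → lam u ≠ 0 := by
    intro u hu h0
    obtain ⟨z, hz⟩ := sf_exists_ne hf u hu
    apply hz
    rw [hlam u z, h0, zero_mul]
  have heq : ∀ u y : ι → F, f y u ≠ 0 → lam u = lam y := by
    intro u y hyu
    have h1 := hlam u y
    have h2 := hlam y u
    rw [sf_skew hf u y, sf_skew hf ((h : Matrix ι ι F) *ᵥ u)] at h2
    have h3 : f y u = lam y * f ((h : Matrix ι ι F) *ᵥ y) ((h : Matrix ι ι F) *ᵥ u) := by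
      linear_combination -h2
    have hX : f ((h : Matrix ι ι F) *ᵥ y) ((h : Matrix ι ι F) *ᵥ u) ≠ 0 := by
      intro h0
      apply hyu
      rw [h1, h0, mul_zero]
    have : lam u * f ((h : Matrix ι ι F) *ᵥ y) ((h : Matrix ι ι F) *ᵥ u) =
        lam y * f ((h : Matrix ι ι F) *ᵥ y) ((h : Matrix ι ι F) *ᵥ u) := by rw [← h1, ← h3]
    exact mul_right_cancel₀ hX this
  have hall : ∀ u : ι → F, u ≠ 0 → lam u = lam u0 := by
    intro u hu
    obtain ⟨z, hz1, hz2⟩ := sf_exists_both hf u u0 hu hu0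
    rw [heq u z hz1, heq u0 z hz2]
  apply hns
  refine ⟨Units.mk0 (lam u0)⁻¹ (inv_ne_zero (hne u0 hu0)), fun x y => ?_⟩
  rw [Units.val_mk0]
  by_cases hy : y = 0
  · rw [hy, Matrix.mulVec_zero, sf_zero_right hf, sf_zero_right hf, mul_zero]
  · rw [hlam y x, hall y hy, ← mul_assoc, inv_mul_cancel₀ (hne u0 hu0), one_mul]

/-- a subgroup containing the isometries of determinant one and an element which is not a similarity
contains all transvections -/
lemma all_TGL_mem (H : Subgroup (Matrix.GeneralLinearGroup ι F))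
    (hM : ∀ g : Matrix.GeneralLinearGroup ι F, IsIsom f g → (g : Matrix ι ι F).det = 1 → g ∈ H)
    (h : Matrix.GeneralLinearGroup ι F) (hh : h ∈ H) (u0 : ι → F) (hu0 : u0 ≠ 0)
    (hns : ¬ ∃ c : Fˣ, ∀ x y, f ((h : Matrix ι ι F) *ᵥ x) ((h : Matrix ι ι F) *ᵥ y) = (c : F) * f x y)
    (w a : ι → F) (hwa : f w a = 0) : TGL hf w a hwa ∈ H := by
  obtain ⟨u, a0, ha0, hnot⟩ := exists_nonsymp_conj hf h u0 hu0 hns
  have hw0a0 : f ((h : Matrix ι ι F) *ᵥ u) a0 = 0 := by rw [ha0, inv_mulVec_mulVec, sf_self hf]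
  have hw0 : (h : Matrix ι ι F) *ᵥ u ≠ 0 := by
    intro h0
    apply hnot
    have hu : u = 0 := by rw [← inv_mulVec_mulVec h u, h0, Matrix.mulVec_zero]
    have : a0 = 0 := by
      apply sf_ext_right hf
      intro x
      rw [ha0 x, hu, sf_zero_right hf, sf_zero_right hf]
    rw [this]
    exact Submodule.zero_mem _
  have hτ : TGL hf ((h : Matrix ι ι F) *ᵥ u) a0 hw0a0 ∈ H := by
    have e : TGL hf ((h : Matrix ι ι F) *ᵥ u) a0 hw0a0 =
        h * TGL hf u ((1 : F) • u) (sf_self_smul hf u 1) * h⁻¹ := by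
      apply GL_ext
      intro x
      rw [Units.val_mul, Units.val_mul, ← Matrix.mulVec_mulVec, ← Matrix.mulVec_mulVec, TGL_mulVec, TGL_mulVec,
        Matrix.mulVec_add, Matrix.mulVec_smul, mulVec_inv_mulVec, one_smul, ha0 x]
    rw [e]
    exact H.mul_mem (H.mul_mem hh (hM _ (TGL_self_isom hf u 1) (TGL_det hf _ _ _))) (H.inv_mem hh)
  by_cases hw : w = 0
  · have e : TGL hf w a hwa = 1 := by
      apply GL_ext
      intro x
      rw [TGL_mulVec, hw, smul_zero, add_zero, Units.val_one, Matrix.one_mulVec]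
    rw [e]
    exact H.one_mem
  · by_cases ha : a ∈ Submodule.span F {w}
    · obtain ⟨c, rfl⟩ := Submodule.mem_span_singleton.1 ha
      exact hM _ (TGL_self_isom hf w c) (TGL_det hf _ _ _)
    · obtain ⟨g, hg, hgd, hgw, hga⟩ := trans_pair hf _ a0 w a hw0 hw hnot ha hw0a0 hwa
      have e : TGL hf w a hwa = g * TGL hf ((h : Matrix ι ι F) *ᵥ u) a0 hw0a0 * g⁻¹ := by
        rw [conj_TGL hf hg]
        apply GL_ext
        intro x
        rw [TGL_mulVec, TGL_mulVec, hgw, hga]
      rw [e]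
      have hgH := hM g hg hgd
      exact H.mul_mem (H.mul_mem hgH hτ) (H.inv_mem hgH)

/-- a transvection along a totally isotropic plane is not a similarity -/
lemma TGL_not_similarity (w a : ι → F) (hw : w ≠ 0) (ha : a ∉ Submodule.span F {w}) (hwa : f w a = 0) :
    TGL hf w a hwa ∉ Geo.similarityGroup f := by
  rintro ⟨c, hc⟩
  obtain ⟨z, hz⟩ := sf_exists_ne hf w hw
  have hwz : f w z ≠ 0 := by rw [sf_skew hf]; exact neg_ne_zero.2 hz
  have hτw : (TGL hf w a hwa : Matrix ι ι F) *ᵥ w = w := by rw [TGL_mulVec, hwa, zero_smul, add_zero]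
  have hc1 : (c : F) = 1 := by
    have := hc w z
    rw [hτw, TGL_mulVec, sf_add_right hf, sf_smul_right hf, sf_self hf, mul_zero, add_zero] at this
    have h2 : ((c : F) - 1) * f w z = 0 := by linear_combination -this
    rcases mul_eq_zero.1 h2 with h3 | h3
    · linear_combination h3
    · exact absurd h3 hwz
  apply ha
  rw [Submodule.mem_span_singleton]
  refine ⟨-(f z a) * (f w z)⁻¹, ?_⟩
  apply sf_ext_right hf
  intro x
  have := hc x z
  rw [hc1, one_mul, TGL_mulVec, TGL_mulVec, sf_add_left hf, sf_add_right hf, sf_add_right hf, sf_smul_left hf,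
    sf_smul_left hf, sf_smul_right hf, sf_smul_right hf, sf_self hf] at this
  rw [sf_smul_right hf]
  have h3 : f x a * f w z = - (f z a) * f x w := by linear_combination this
  have h4 : f x a = (- (f z a) * f x w) * (f w z)⁻¹ := by
    rw [← h3, mul_assoc, mul_inv_cancel₀ hwz, mul_one]
  rw [h4]
  ring

end symp

end Cfsg.Agent.Lib.Helper94
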