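import Cfsg.Agent.Lib.Helper94.SympForm

set_option autoImplicit false

namespace Cfsg.Agent.Lib.Helper94

open scoped Matrix
open Cfsg

set_option linter.unusedSectionVars false
set_option linter.unnecessarySimpa false
set_option linter.style.haveILetI false
set_option linter.unusedVariables false

variable {ι : Type} [Fintype ι] [DecidableEq ι] {F : Type*} [Field F]

section symp
variable {f : (ι → F) → (ι → F) → F} (hf : Geo.IsSymplecticForm f)
include hf

lemma exists_TGL (w a : ι → F) (h : f w a = 0) :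
    ∃ g : Matrix.GeneralLinearGroup ι F, (g : Matrix ι ι F).det = 1 ∧
      ∀ x, (g : Matrix ι ι F) *ᵥ x = x + f x a • w := by
  have hfl : ∀ x, ((sfB hf).flip a) x = f x a := fun x => rfl
  have h1 : (1 : F) + ((sfB hf).flip a) w ≠ 0 := by
    rw [hfl, h, add_zero]; exact one_ne_zero
  obtain ⟨g, hg1, hg2⟩ := exists_rank_one ((sfB hf).flip a) w h1
  refine ⟨g, ?_, ?_⟩
  · rw [hg1, hfl, h, add_zero]
  · intro x
    rw [hg2 x, hfl]

/-- the transvection `x ↦ x + f x a • w` -/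
noncomputable def TGL (w a : ι → F) (h : f w a = 0) : Matrix.GeneralLinearGroup ι F :=
  Classical.choose (exists_TGL hf w a h)

lemma TGL_det (w a : ι → F) (h : f w a = 0) : (TGL hf w a h : Matrix ι ι F).det = 1 :=
  (Classical.choose_spec (exists_TGL hf w a h)).1

lemma TGL_mulVec (w a : ι → F) (h : f w a = 0) (x : ι → F) :
    (TGL hf w a h : Matrix ι ι F) *ᵥ x = x + f x a • w :=
  (Classical.choose_spec (exists_TGL hf w a h)).2 x

lemma TGL_mem_SL (w a : ι → F) (h : f w a = 0) : TGL hf w a h ∈ Geo.specialLinear ι F := by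
  rw [mem_SL]; exact TGL_det hf w a h

lemma TGL_inv_mulVec (w a : ι → F) (h : f w a = 0) (x : ι → F) :
    (((TGL hf w a h)⁻¹ : Matrix.GeneralLinearGroup ι F) : Matrix ι ι F) *ᵥ x = x - f x a • w := by
  have h1 : (TGL hf w a h : Matrix ι ι F) *ᵥ (x - f x a • w) = x := by
    rw [TGL_mulVec, sf_sub_left hf, sf_smul_left hf, h, mul_zero, sub_zero]
    abel
  rw [← h1, inv_mulVec_mulVec, h1]

/-- a symplectic transvection -/
lemma sf_self_smul (u : ι → F) (c : F) : f u (c • u) = 0 := by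
  rw [sf_smul_right hf, sf_self hf, mul_zero]

lemma TGL_self_isom (u : ι → F) (c : F) : IsIsom f (TGL hf u (c • u) (sf_self_smul hf u c)) := by
  intro x y
  rw [TGL_mulVec, TGL_mulVec, sf_add_left hf, sf_add_right hf, sf_add_right hf, sf_smul_left hf, sf_smul_left hf,
    sf_smul_right hf, sf_smul_right hf, sf_smul_right hf, sf_smul_right hf, sf_self hf, sf_skew hf u y]
  ring

/-- conjugation of a transvection by an isometry -/
lemma conj_TGL {g : Matrix.GeneralLinearGroup ι F} (hg : IsIsom f g) (w a : ι → F) (h : f w a = 0) :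
    g * TGL hf w a h * g⁻¹ = TGL hf ((g : Matrix ι ι F) *ᵥ w) ((g : Matrix ι ι F) *ᵥ a) (by rw [hg]; exact h) := by
  apply GL_ext
  intro x
  rw [Units.val_mul, Units.val_mul, ← Matrix.mulVec_mulVec, ← Matrix.mulVec_mulVec, TGL_mulVec, TGL_mulVec,
    Matrix.mulVec_add, Matrix.mulVec_smul, mulVec_inv_mulVec]
  congr 2
  rw [← hg, mulVec_inv_mulVec]

/-- mapping one vector to another by a symplectic transvection -/
lemma trans_step (v v' : ι → F) (h : f v v' ≠ 0) :
    (TGL hf (v' - v) ((f v v')⁻¹ • (v' - v)) (sf_self_smul hf _ _) : Matrix ι ι F) *ᵥ v = v' := by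
  rw [TGL_mulVec, sf_smul_right hf, sf_sub_right hf, sf_self hf, sub_zero, inv_mul_cancel₀ h, one_smul]
  abel

lemma trans_step_fix (w v v' : ι → F) (hv : f w v = 0) (hv' : f w v' = 0) :
    (TGL hf (v' - v) ((f v v')⁻¹ • (v' - v)) (sf_self_smul hf _ _) : Matrix ι ι F) *ᵥ w = w := by
  rw [TGL_mulVec, sf_smul_right hf, sf_sub_right hf, hv, hv', sub_zero, mul_zero, zero_smul, add_zero]

/-- transitivity on nonzero vectors -/
lemma trans_vec (v v' : ι → F) (hv : v ≠ 0) (hv' : v' ≠ 0) :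
    ∃ g : Matrix.GeneralLinearGroup ι F, IsIsom f g ∧ (g : Matrix ι ι F).det = 1 ∧
      (g : Matrix ι ι F) *ᵥ v = v' := by
  by_cases h : f v v' = 0
  · obtain ⟨z, hz1, hz2⟩ := sf_exists_both hf v v' hv hv'
    have hvz : f v z ≠ 0 := by rw [sf_skew hf]; exact neg_ne_zero.2 hz1
    refine ⟨TGL hf (v' - z) ((f z v')⁻¹ • (v' - z)) (sf_self_smul hf _ _) *
      TGL hf (z - v) ((f v z)⁻¹ • (z - v)) (sf_self_smul hf _ _), ?_, ?_, ?_⟩
    · exact (TGL_self_isom hf _ _).mul (TGL_self_isom hf _ _)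
    · rw [Units.val_mul, Matrix.det_mul, TGL_det, TGL_det, mul_one]
    · rw [Units.val_mul, ← Matrix.mulVec_mulVec, trans_step hf v z hvz, trans_step hf z v' hz2]
  · exact ⟨TGL hf (v' - v) ((f v v')⁻¹ • (v' - v)) (sf_self_smul hf _ _), TGL_self_isom hf _ _, TGL_det hf _ _ _,
      trans_step hf v v' h⟩

/-- transitivity on vectors orthogonal to a fixed vector, fixing that vector -/
lemma trans_vec_fix (w a a' : ι → F) (ha : a ∉ Submodule.span F {w}) (ha' : a' ∉ Submodule.span F {w})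
    (hwa : f w a = 0) (hwa' : f w a' = 0) :
    ∃ g : Matrix.GeneralLinearGroup ι F, IsIsom f g ∧ (g : Matrix ι ι F).det = 1 ∧
      (g : Matrix ι ι F) *ᵥ w = w ∧ (g : Matrix ι ι F) *ᵥ a = a' := by
  by_cases h : f a a' = 0
  · obtain ⟨z, hzw, hz1, hz2⟩ := sf_exists_orth_both hf w a a' ha ha'
    have haz : f a z ≠ 0 := by rw [sf_skew hf]; exact neg_ne_zero.2 hz1
    have hwz : f w z = 0 := by rw [sf_skew hf, hzw, neg_zero]
    refine ⟨TGL hf (a' - z) ((f z a')⁻¹ • (a' - z)) (sf_self_smul hf _ _) *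
      TGL hf (z - a) ((f a z)⁻¹ • (z - a)) (sf_self_smul hf _ _), ?_, ?_, ?_, ?_⟩
    · exact (TGL_self_isom hf _ _).mul (TGL_self_isom hf _ _)
    · rw [Units.val_mul, Matrix.det_mul, TGL_det, TGL_det, mul_one]
    · rw [Units.val_mul, ← Matrix.mulVec_mulVec, trans_step_fix hf w a z hwa hwz,
        trans_step_fix hf w z a' hwz hwa']
    · rw [Units.val_mul, ← Matrix.mulVec_mulVec, trans_step hf a z haz, trans_step hf z a' hz2]
  · exact ⟨TGL hf (a' - a) ((f a a')⁻¹ • (a' - a)) (sf_self_smul hf _ _), TGL_self_isom hf _ _, TGL_det hf _ _ _,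
      trans_step_fix hf w a a' hwa hwa', trans_step hf a a' h⟩

/-- transitivity on pairs spanning totally isotropic planes -/
lemma trans_pair (w0 a0 w a : ι → F) (hw0 : w0 ≠ 0) (hw : w ≠ 0) (ha0 : a0 ∉ Submodule.span F {w0})
    (ha : a ∉ Submodule.span F {w}) (h0 : f w0 a0 = 0) (h : f w a = 0) :
    ∃ g : Matrix.GeneralLinearGroup ι F, IsIsom f g ∧ (g : Matrix ι ι F).det = 1 ∧
      (g : Matrix ι ι F) *ᵥ w0 = w ∧ (g : Matrix ι ι F) *ᵥ a0 = a := by
  obtain ⟨g1, hg1, hd1, hgw⟩ := trans_vec hf w0 w hw0 hw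
  have h1 : f w ((g1 : Matrix ι ι F) *ᵥ a0) = 0 := by rw [← hgw, hg1]; exact h0
  have h2 : (g1 : Matrix ι ι F) *ᵥ a0 ∉ Submodule.span F {w} := by
    intro hmem
    obtain ⟨c, hc⟩ := Submodule.mem_span_singleton.1 hmem
    apply ha0
    rw [Submodule.mem_span_singleton]
    refine ⟨c, ?_⟩
    rw [← inv_mulVec_mulVec g1 a0, ← hc, ← hgw, Matrix.mulVec_smul, inv_mulVec_mulVec]
  obtain ⟨g2, hg2, hd2, hg2w, hg2a⟩ := trans_vec_fix hf w _ a h2 ha h1 h
  refine ⟨g2 * g1, hg2.mul hg1, ?_, ?_, ?_⟩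
  · rw [Units.val_mul, Matrix.det_mul, hd1, hd2, mul_one]
  · rw [Units.val_mul, ← Matrix.mulVec_mulVec, hgw, hg2w]
  · rw [Units.val_mul, ← Matrix.mulVec_mulVec, hg2a]

end symp

end Cfsg.Agent.Lib.Helper94
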