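import Cfsg.Agent.Lib.Helper94.SiegelComm

set_option autoImplicit false

namespace Cfsg.Agent.Lib.Helper94

open scoped Matrix
open Cfsg

set_option linter.unusedSectionVars false
set_option linter.unnecessarySimpa false
set_option linter.style.haveILetI false
set_option linter.unusedVariables false

variable {ι : Type} [Fintype ι] [DecidableEq ι] {F : Type*} [Field F]

lemma exists_indep (M : Submodule F (ι → F)) (m : ℕ) (h : m ≤ Module.finrank F M) :
    ∃ v : Fin m → (ι → F), LinearIndependent F v ∧ ∀ i, v i ∈ M := by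
  let b := Module.finBasis F M
  refine ⟨fun i => (b (Fin.castLE h i) : ι → F), ?_, fun i => (b _).2⟩
  have h1 : LinearIndependent F (fun i : Fin m => b (Fin.castLE h i)) :=
    b.linearIndependent.comp _ (Fin.castLE_injective h)
  exact h1.map' M.subtype (Submodule.ker_subtype M)

lemma exists_mem_not_mem (A B : Submodule F (ι → F)) (h : Module.finrank F A < Module.finrank F B) :
    ∃ x ∈ B, x ∉ A := by
  by_contra hcon
  push_neg at hcon
  have hle : B ≤ A := hcon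
  have := Submodule.finrank_mono hle
  omega

lemma gmap_eq_of_forall_mem (g : Matrix.GeneralLinearGroup ι F) (M : Submodule F (ι → F))
    (h : ∀ y ∈ M, (g : Matrix ι ι F) *ᵥ y ∈ M) : gmap g M = M := by
  apply Submodule.eq_of_le_of_finrank_eq
  · intro v hv
    obtain ⟨w, hw, rfl⟩ := (mem_gmap g M v).1 hv
    exact h w hw
  · exact finrank_gmap g M

section moves
variable {Q : (ι → F) → F} (hQ : Geo.IsNondegenerateQuadraticForm Q)
include hQ

lemma exists_sing_dual_indep {κ : Type*} (u : κ → (ι → F)) (hu : LinearIndependent F u)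
    (M : Submodule F (ι → F)) (hM : Geo.IsTotallySingularQuad Q M) (huM : ∀ i, u i ∈ M) (i : κ) :
    ∃ f, Q f = 0 ∧ pol Q f (u i) = 1 ∧ ∀ j, j ≠ i → pol Q f (u j) = 0 := by
  have hXM : Submodule.span F (u '' {j | j ≠ i}) ≤ M := by
    rw [Submodule.span_le]
    rintro _ ⟨j, _, rfl⟩
    exact huM j
  have hnot : u i ∉ Submodule.span F (u '' {j | j ≠ i}) := hu.notMem_span_image (by simp)
  obtain ⟨f, hf, hfe, hfX⟩ := exists_sing_dual hQ _ (u i) (hM _ (huM i)) hnot
    (fun x hx => ts_pol hM (huM i) (hXM hx))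
  exact ⟨f, hf, hfe, fun j hj => hfX _ (Submodule.subset_span ⟨j, hj, rfl⟩)⟩

/-- an element of `Ω` moving a totally singular subspace of dimension at least three -/
lemma exists_move (M : Submodule F (ι → F)) (hM : Geo.IsTotallySingularQuad Q M) (u : Fin 3 → (ι → F))
    (hu : LinearIndependent F u) (huM : ∀ i, u i ∈ M) :
    ∃ g ∈ Geo.omegaGL Q, ∃ x ∈ M, (g : Matrix ι ι F) *ᵥ x ∉ M := by
  obtain ⟨f1, qf1, hf1, hf1'⟩ := exists_sing_dual_indep hQ u hu M hM huM 0
  obtain ⟨f3, qf3, hf3, hf3'⟩ := exists_sing_dual_indep hQ u hu M hM huM 2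
  have h1f1 : pol Q (u 0) f1 = 1 := by rw [pol_comm]; exact hf1
  have h1f3 : pol Q (u 0) f3 = 0 := by rw [pol_comm]; exact hf3' 0 (by decide)
  obtain ⟨g, hg, hge⟩ := move_comm hQ (u 0) f1 f3 (hM _ (huM 0)) qf1 qf3 h1f1 h1f3
  refine ⟨g, hg, u 0, huM 0, ?_⟩
  rw [hge]
  intro hmem
  have hf3M : f3 ∈ M := by
    have := M.sub_mem (M.smul_mem (pol Q f1 f3 + 1) (huM 0)) hmem
    rwa [sub_sub_cancel] at this
  have := ts_pol hM hf3M (huM 2)
  rw [hf3] at this
  exact one_ne_zero this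

/-- an element of `Ω` fixing a totally singular subspace pointwise and acting as a transvection-like map
on vectors orthogonal to two of its vectors -/
lemma exists_sc (M : Submodule F (ι → F)) (hM : Geo.IsTotallySingularQuad Q M) (u : Fin 3 → (ι → F))
    (hu : LinearIndependent F u) (huM : ∀ i, u i ∈ M) :
    ∃ g ∈ Geo.omegaGL Q, (∀ y ∈ M, (g : Matrix ι ι F) *ᵥ y = y) ∧
      ∀ y, pol Q y (u 1) = 0 → pol Q y (u 2) = 0 → (g : Matrix ι ι F) *ᵥ y = y - pol Q y (u 0) • u 1 := by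
  obtain ⟨f3, qf3, hf3, hf3'⟩ := exists_sing_dual_indep hQ u hu M hM huM 2
  have h1f : pol Q (u 0) f3 = 0 := by rw [pol_comm]; exact hf3' 0 (by decide)
  have h2f : pol Q (u 1) f3 = 0 := by rw [pol_comm]; exact hf3' 1 (by decide)
  have h3f : pol Q (u 2) f3 = 1 := by rw [pol_comm]; exact hf3
  obtain ⟨g, hg, hgy⟩ := sc_comm hQ (u 0) (u 1) (u 2) f3 (hM _ (huM 0)) (hM _ (huM 1)) (hM _ (huM 2)) qf3
    (ts_pol hM (huM 0) (huM 1)) (ts_pol hM (huM 0) (huM 2)) (ts_pol hM (huM 2) (huM 1)) h1f h2f h3f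
  refine ⟨g, hg, ?_, hgy⟩
  intro y hy
  rw [hgy y (ts_pol hM hy (huM 1)) (ts_pol hM hy (huM 2)), ts_pol hM hy (huM 0), zero_smul, sub_zero]

/-- an element of `Ω` stabilising a totally singular subspace and adding one of its vectors to another -/
lemma exists_sl (M : Submodule F (ι → F)) (hM : Geo.IsTotallySingularQuad Q M) (u : Fin 3 → (ι → F))
    (hu : LinearIndependent F u) (huM : ∀ i, u i ∈ M) :
    ∃ g ∈ Geo.omegaGL Q, (g : Matrix ι ι F) *ᵥ (u 1) = u 1 + u 0 ∧ gmap g M = M := by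
  obtain ⟨f1, qf1, hf1, hf1'⟩ := exists_sing_dual_indep hQ u hu M hM huM 1
  obtain ⟨f2, qf2, hf2, hf2'⟩ := exists_sing_dual_indep hQ u hu M hM huM 2
  have h1f1 : pol Q (u 1) f1 = 1 := by rw [pol_comm]; exact hf1
  have h2f1 : pol Q (u 2) f1 = 0 := by rw [pol_comm]; exact hf1' 2 (by decide)
  have h3f1 : pol Q (u 0) f1 = 0 := by rw [pol_comm]; exact hf1' 0 (by decide)
  have h1f2 : pol Q (u 1) f2 = 0 := by rw [pol_comm]; exact hf2' 1 (by decide)
  have h2f2 : pol Q (u 2) f2 = 1 := by rw [pol_comm]; exact hf2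
  have h3f2 : pol Q (u 0) f2 = 0 := by rw [pol_comm]; exact hf2' 0 (by decide)
  obtain ⟨g, hg, hge, hgM⟩ := sl_comm hQ (u 1) (u 2) (u 0) f1 f2 (hM _ (huM 2)) (hM _ (huM 0)) qf1 qf2
    (ts_pol hM (huM 1) (huM 2)) (ts_pol hM (huM 1) (huM 0)) (ts_pol hM (huM 2) (huM 0))
    h1f1 h2f1 h3f1 h1f2 h2f2 h3f2
  refine ⟨g, hg, hge, ?_⟩
  apply gmap_eq_of_forall_mem
  exact hgM M (huM 2) (huM 0) (fun y hy => ⟨ts_pol hM hy (huM 2), ts_pol hM hy (huM 0)⟩)

end moves

end Cfsg.Agent.Lib.Helper94
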