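import Cfsg.Agent.Lib.Helper94.Frame3

set_option autoImplicit false

namespace Cfsg.Agent.Lib.Helper94

open scoped Matrix Kronecker
open Cfsg

set_option linter.unusedSectionVars false
set_option linter.unnecessarySimpa false
set_option linter.style.haveILetI false
set_option linter.unusedVariables false

variable {ι : Type} [Fintype ι] [DecidableEq ι] {F : Type*} [Field F] {n₁ n₂ : ℕ}

/-- the coordinate map `x ↦ P (x ∘ e)` of a tensor structure -/
def tens (e : ι ≃ Fin n₁ × Fin n₂) (P : Matrix.GeneralLinearGroup ι F) (x : Fin n₁ × Fin n₂ → F) : ι → F :=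
  (P : Matrix ι ι F) *ᵥ (x ∘ e)

section tens
variable (e : ι ≃ Fin n₁ × Fin n₂) (P : Matrix.GeneralLinearGroup ι F)

lemma tens_add (x y : Fin n₁ × Fin n₂ → F) : tens e P (x + y) = tens e P x + tens e P y := by
  unfold tens; rw [← Matrix.mulVec_add]; rfl

lemma tens_smul (c : F) (x : Fin n₁ × Fin n₂ → F) : tens e P (c • x) = c • tens e P x := by
  unfold tens; rw [← Matrix.mulVec_smul]; rfl

lemma tens_injective : Function.Injective (tens e P) := by
  intro x y h
  unfold tens at h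
  have h' : x ∘ e = y ∘ e := by
    rw [← inv_mulVec_mulVec P (x ∘ e), h, inv_mulVec_mulVec]
  funext a
  have := congrFun h' (e.symm a)
  simpa using this

end tens

/-- pure tensors -/
def pt (u : Fin n₁ → F) (w : Fin n₂ → F) : Fin n₁ × Fin n₂ → F := fun a => u a.1 * w a.2

lemma pt_apply (u : Fin n₁ → F) (w : Fin n₂ → F) (i : Fin n₁) (j : Fin n₂) : pt u w (i, j) = u i * w j := rfl

lemma pt_add_left (u u' : Fin n₁ → F) (w : Fin n₂ → F) : pt (u + u') w = pt u w + pt u' w := by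
  funext a; simp [pt, add_mul]

lemma pt_add_right (u : Fin n₁ → F) (w w' : Fin n₂ → F) : pt u (w + w') = pt u w + pt u w' := by
  funext a; simp [pt, mul_add]

lemma pt_smul_left (c : F) (u : Fin n₁ → F) (w : Fin n₂ → F) : pt (c • u) w = c • pt u w := by
  funext a; simp [pt, mul_assoc]

lemma pt_smul_right (c : F) (u : Fin n₁ → F) (w : Fin n₂ → F) : pt u (c • w) = c • pt u w := by
  funext a; simp [pt, mul_left_comm]

lemma pt_neg_right (u : Fin n₁ → F) (w : Fin n₂ → F) : pt u (-w) = - pt u w := by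
  funext a; simp [pt]

lemma pt_neg_left (u : Fin n₁ → F) (w : Fin n₂ → F) : pt (-u) w = - pt u w := by
  funext a; simp [pt]

lemma kron_mulVec_pt (A : Matrix (Fin n₁) (Fin n₁) F) (B : Matrix (Fin n₂) (Fin n₂) F)
    (u : Fin n₁ → F) (w : Fin n₂ → F) : (A ⊗ₖ B) *ᵥ pt u w = pt (A *ᵥ u) (B *ᵥ w) := by
  funext a
  obtain ⟨i, j⟩ := a
  simp only [Matrix.mulVec, dotProduct, Fintype.sum_prod_type, Matrix.kronecker_apply, pt]
  rw [Finset.sum_mul_sum]
  apply Finset.sum_congr rfl; intro i' _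
  apply Finset.sum_congr rfl; intro j' _
  ring

/-- expansion of an additive, `τ`-homogeneous functional in coordinates -/
lemma expand_add {κ : Type} [Fintype κ] [DecidableEq κ] (g : (κ → F) → F) (τ : F → F)
    (hadd : ∀ x y, g (x + y) = g x + g y) (hsmul : ∀ (c : F) x, g (c • x) = τ c * g x) (x : κ → F) :
    g x = ∑ a, τ (x a) * g (Pi.single a 1) := by
  have h0 : g 0 = 0 := by have := hadd 0 0; simpa using this
  let G : (κ → F) →+ F := ⟨⟨g, h0⟩, hadd⟩
  have hx : x = ∑ a, x a • (Pi.single a (1:F) : κ → F) := by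
    funext b
    simp [Finset.sum_apply, Pi.single_apply]
  conv_lhs => rw [hx]
  change G _ = _
  rw [map_sum]
  apply Finset.sum_congr rfl; intro a _; exact hsmul _ _

/-- a form that is linear in the first and `σ`-semilinear in the second argument is given by its Gram matrix -/
lemma form_eq_formOfGram {κ : Type} [Fintype κ] [DecidableEq κ] (f : (κ → F) → (κ → F) → F) (σ : F → F)
    (hal : ∀ x y v, f (x + y) v = f x v + f y v) (hsl : ∀ (c : F) x v, f (c • x) v = c * f x v)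
    (har : ∀ v x y, f v (x + y) = f v x + f v y) (hsr : ∀ (c : F) v x, f v (c • x) = σ c * f v x)
    (x y : κ → F) : f x y = Geo.formOfGram σ (Geo.gramMatrix f) x y := by
  unfold Geo.formOfGram Geo.gramMatrix
  rw [expand_add (fun x => f x y) id (fun a b => hal a b y) (fun c a => hsl c a y) x]
  apply Finset.sum_congr rfl; intro a _
  simp only [id]
  rw [expand_add (fun y => f (Pi.single a 1) y) σ (fun p q => har _ p q) (fun c p => hsr c _ p) y, Finset.mul_sum]
  apply Finset.sum_congr rfl; intro b _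
  ring

lemma formOfGram_kron_pt (σ : F → F) (hσ : ∀ a b, σ (a * b) = σ a * σ b)
    (G₁ : Matrix (Fin n₁) (Fin n₁) F) (G₂ : Matrix (Fin n₂) (Fin n₂) F)
    (u u' : Fin n₁ → F) (w w' : Fin n₂ → F) :
    Geo.formOfGram σ (G₁ ⊗ₖ G₂) (pt u w) (pt u' w') = Geo.formOfGram σ G₁ u u' * Geo.formOfGram σ G₂ w w' := by
  unfold Geo.formOfGram
  simp only [Fintype.sum_prod_type, Matrix.kronecker_apply, pt, hσ]
  rw [Finset.sum_mul_sum]
  apply Finset.sum_congr rfl; intro i _
  apply Finset.sum_congr rfl; intro j _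
  rw [Finset.sum_mul_sum]
  apply Finset.sum_congr rfl; intro i' _
  apply Finset.sum_congr rfl; intro j' _
  ring

/-- linear in the first argument, `σ`-semilinear in the second -/
structure IsSesq {κ : Type} (σ : F → F) (f : (κ → F) → (κ → F) → F) : Prop where
  add_left : ∀ x y v, f (x + y) v = f x v + f y v
  smul_left : ∀ (c : F) (x v : κ → F), f (c • x) v = c * f x v
  add_right : ∀ v x y, f v (x + y) = f v x + f v y
  smul_right : ∀ (c : F) (v x : κ → F), f v (c • x) = σ c * f v x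

lemma isSesq_of_bilinear {κ : Type} [Fintype κ] [DecidableEq κ] {f : (κ → F) → (κ → F) → F}
    (h : Geo.IsBilinearForm f) : IsSesq id f :=
  ⟨h.add_left, h.smul_left, h.add_right, h.smul_right⟩

/-- the value of the ambient form on pure tensors -/
lemma tensor_form_pt (σ : F → F) (hσ : ∀ a b, σ (a * b) = σ a * σ b) (f : (ι → F) → (ι → F) → F)
    (f₁ : (Fin n₁ → F) → (Fin n₁ → F) → F) (f₂ : (Fin n₂ → F) → (Fin n₂ → F) → F)
    (e : ι ≃ Fin n₁ × Fin n₂) (P : Matrix.GeneralLinearGroup ι F)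
    (h₁ : IsSesq σ f₁) (h₂ : IsSesq σ f₂) (hT : Geo.IsTensorFormStructure σ f f₁ f₂ e P) :
    ∃ c : F, c ≠ 0 ∧ ∀ u w u' w',
      f (tens e P (pt u w)) (tens e P (pt u' w')) = c * (f₁ u u' * f₂ w w') := by
  obtain ⟨c, hc, h⟩ := hT
  refine ⟨c, hc, fun u w u' w' => ?_⟩
  unfold tens
  rw [h, formOfGram_kron_pt σ hσ,
    ← form_eq_formOfGram f₁ σ h₁.add_left h₁.smul_left h₁.add_right h₁.smul_right,
    ← form_eq_formOfGram f₂ σ h₂.add_left h₂.smul_left h₂.add_right h₂.smul_right]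

/-- the elements of the tensor product subgroup act as Kronecker products in the coordinates `tens` -/
lemma mem_tensorProductSubgroup_imp (e : ι ≃ Fin n₁ × Fin n₂) (P : Matrix.GeneralLinearGroup ι F)
    (g : Matrix.GeneralLinearGroup ι F) (hg : g ∈ Geo.tensorProductSubgroup n₁ n₂ e P) :
    ∃ (A : Matrix.GeneralLinearGroup (Fin n₁) F) (B : Matrix.GeneralLinearGroup (Fin n₂) F),
      ∀ x, (g : Matrix ι ι F) *ᵥ tens e P x =
        tens e P (((A : Matrix (Fin n₁) (Fin n₁) F) ⊗ₖ (B : Matrix (Fin n₂) (Fin n₂) F)) *ᵥ x) := by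
  unfold Geo.tensorProductSubgroup at hg
  rw [Subgroup.mem_map] at hg
  obtain ⟨r, hr, rfl⟩ := hg
  rw [Subgroup.mem_map] at hr
  obtain ⟨k, ⟨A, B, hk⟩, rfl⟩ := hr
  refine ⟨A, B, fun x => ?_⟩
  unfold tens
  have h1 : (((MulAut.conj P).toMonoidHom ((Geo.glReindex e.symm).toMonoidHom k) :
      Matrix.GeneralLinearGroup ι F) : Matrix ι ι F) =
      (P : Matrix ι ι F) * ((k : Matrix _ _ F).submatrix e e) * ((P⁻¹ : Matrix.GeneralLinearGroup ι F) : Matrix ι ι F) := by
    simp [Geo.glReindex, MulAut.conj_apply, Matrix.reindex_apply]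
  rw [h1, Matrix.mulVec_mulVec, mul_assoc, ← Units.val_mul, inv_mul_cancel, Units.val_one, mul_one,
    ← Matrix.mulVec_mulVec, Matrix.submatrix_mulVec_equiv, hk]
  have : (x ∘ e) ∘ e.symm = x := by funext a; simp
  rw [this]

/-- the elements of the tensor product subgroup act on pure tensors factorwise -/
lemma mem_tensorProductSubgroup_pt (e : ι ≃ Fin n₁ × Fin n₂) (P : Matrix.GeneralLinearGroup ι F)
    (g : Matrix.GeneralLinearGroup ι F) (hg : g ∈ Geo.tensorProductSubgroup n₁ n₂ e P) :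
    ∃ (A : Matrix.GeneralLinearGroup (Fin n₁) F) (B : Matrix.GeneralLinearGroup (Fin n₂) F),
      ∀ u w, (g : Matrix ι ι F) *ᵥ tens e P (pt u w) =
        tens e P (pt ((A : Matrix (Fin n₁) (Fin n₁) F) *ᵥ u) ((B : Matrix (Fin n₂) (Fin n₂) F) *ᵥ w)) := by
  obtain ⟨A, B, h⟩ := mem_tensorProductSubgroup_imp e P g hg
  exact ⟨A, B, fun u w => by rw [h, kron_mulVec_pt]⟩

/-- an isometry acting factorwise on pure tensors acts by similarities on the factors -/
lemma tensor_similarity (f : (ι → F) → (ι → F) → F)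
    (f₁ : (Fin n₁ → F) → (Fin n₁ → F) → F) (f₂ : (Fin n₂ → F) → (Fin n₂ → F) → F)
    (e : ι ≃ Fin n₁ × Fin n₂) (P : Matrix.GeneralLinearGroup ι F) (c : F) (hc : c ≠ 0)
    (hform : ∀ u w u' w', f (tens e P (pt u w)) (tens e P (pt u' w')) = c * (f₁ u u' * f₂ w w'))
    (hn₁ : ∃ u u', f₁ u u' ≠ 0) (hn₂ : ∃ w w', f₂ w w' ≠ 0)
    (g : Matrix ι ι F) (hg : ∀ x y, f (g *ᵥ x) (g *ᵥ y) = f x y)
    (A : Matrix (Fin n₁) (Fin n₁) F) (B : Matrix (Fin n₂) (Fin n₂) F)
    (hAB : ∀ u w, g *ᵥ tens e P (pt u w) = tens e P (pt (A *ᵥ u) (B *ᵥ w))) :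
    ∃ μ₁ μ₂ : F, μ₁ ≠ 0 ∧ μ₂ ≠ 0 ∧ (∀ u u', f₁ (A *ᵥ u) (A *ᵥ u') = μ₁ * f₁ u u') ∧
      (∀ w w', f₂ (B *ᵥ w) (B *ᵥ w') = μ₂ * f₂ w w') := by
  have key : ∀ u w u' w', f₁ (A *ᵥ u) (A *ᵥ u') * f₂ (B *ᵥ w) (B *ᵥ w') = f₁ u u' * f₂ w w' := by
    intro u w u' w'
    have h1 := hg (tens e P (pt u w)) (tens e P (pt u' w'))
    rw [hAB, hAB, hform, hform] at h1
    exact mul_left_cancel₀ hc h1
  obtain ⟨u₀, u₀', h₁⟩ := hn₁
  obtain ⟨w₀, w₀', h₂⟩ := hn₂
  have h0 := key u₀ w₀ u₀' w₀'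
  have hp : f₁ (A *ᵥ u₀) (A *ᵥ u₀') ≠ 0 := by
    intro h; rw [h, zero_mul] at h0; exact mul_ne_zero h₁ h₂ h0.symm
  have hq : f₂ (B *ᵥ w₀) (B *ᵥ w₀') ≠ 0 := by
    intro h; rw [h, mul_zero] at h0; exact mul_ne_zero h₁ h₂ h0.symm
  refine ⟨f₂ w₀ w₀' / f₂ (B *ᵥ w₀) (B *ᵥ w₀'), f₁ u₀ u₀' / f₁ (A *ᵥ u₀) (A *ᵥ u₀'),
    div_ne_zero h₂ hq, div_ne_zero h₁ hp, fun u u' => ?_, fun w w' => ?_⟩
  · have := key u w₀ u' w₀'
    field_simp
    linear_combination this
  · have := key u₀ w u₀' w'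
    field_simp
    linear_combination this

/-- the determinant of a similarity of a nondegenerate bilinear form -/
lemma similarity_det {κ : Type} [Fintype κ] [DecidableEq κ] (f : (κ → F) → (κ → F) → F)
    (hf : Geo.IsBilinearForm f) (hnd : Geo.IsNondegenerateForm f) (B : Matrix κ κ F) (μ : F)
    (hB : ∀ w w', f (B *ᵥ w) (B *ᵥ w') = μ * f w w') : B.det ^ 2 = μ ^ Fintype.card κ := by
  have hexp : ∀ x y, f x y = ∑ a, ∑ b, x a * Geo.gramMatrix f a b * y b := fun x y =>
    form_eq_formOfGram f id hf.add_left hf.smul_left hf.add_right hf.smul_right x y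
  have hG : (Geo.gramMatrix f).det ≠ 0 := by
    intro h0
    obtain ⟨v, hv, hv0⟩ := Matrix.exists_mulVec_eq_zero_iff.mpr h0
    obtain ⟨⟨x, hx⟩, _⟩ := hnd v hv
    apply hx
    rw [hexp]
    apply Finset.sum_eq_zero; intro a _
    have := congrFun hv0 a
    simp only [Matrix.mulVec, dotProduct, Pi.zero_apply] at this
    simp only [mul_assoc]
    rw [← Finset.mul_sum, this, mul_zero]
  have hmat : B.transpose * Geo.gramMatrix f * B = μ • Geo.gramMatrix f := by
    ext a b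
    have h1 := hB (Pi.single a 1) (Pi.single b 1)
    rw [hexp] at h1
    simp only [Matrix.mul_apply, Matrix.transpose_apply, Matrix.smul_apply, smul_eq_mul]
    have h2 : f (Pi.single a 1) (Pi.single b 1) = Geo.gramMatrix f a b := rfl
    rw [h2] at h1
    rw [← h1]
    simp only [Matrix.mulVec_single_one, Matrix.col_apply, Finset.sum_mul]
    rw [Finset.sum_comm]
  have hdet := congrArg Matrix.det hmat
  rw [Matrix.det_mul, Matrix.det_mul, Matrix.det_transpose, Matrix.det_smul] at hdet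
  have : B.det ^ 2 * (Geo.gramMatrix f).det = μ ^ Fintype.card κ * (Geo.gramMatrix f).det := by
    rw [← hdet]; ring
  exact mul_right_cancel₀ hG this

/-- the quadratic form `v ↦ f v v` of a symmetric form -/
lemma pol_diag {κ : Type} [Fintype κ] [DecidableEq κ] (f : (κ → F) → (κ → F) → F) (hf : Geo.IsSymmetricForm f)
    (x y : κ → F) : pol (fun v => f v v) x y = 2 * f x y := by
  rw [pol_def, hf.bilinear.add_left, hf.bilinear.add_right, hf.bilinear.add_right, hf.symm y x]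
  ring

lemma nondeg_diag {κ : Type} [Fintype κ] [DecidableEq κ] (f : (κ → F) → (κ → F) → F) (hf : Geo.IsSymmetricForm f)
    (h2 : (2 : F) ≠ 0) : Geo.IsNondegenerateQuadraticForm (fun v => f v v) where
  smul c v := by
    rw [hf.bilinear.smul_left, hf.bilinear.smul_right]; ring
  polar_bilinear := by
    have hpol : QuadraticMap.polar (fun v => f v v) = fun x y => 2 * f x y := by
      funext x y; exact pol_diag f hf x y
    rw [hpol]
    constructor
    · intro x y v; rw [hf.bilinear.add_left]; ring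
    · intro c x v; rw [hf.bilinear.smul_left]; ring
    · intro v x y; rw [hf.bilinear.add_right]; ring
    · intro c v x; rw [hf.bilinear.smul_right]; ring
  nondegenerate := by
    intro v hv
    obtain ⟨⟨x, hx⟩, ⟨y, hy⟩⟩ := hf.nondegenerate v hv
    refine ⟨⟨x, ?_⟩, ⟨y, ?_⟩⟩
    · change pol (fun v => f v v) x v ≠ 0
      rw [pol_diag f hf]; exact mul_ne_zero h2 hx
    · change pol (fun v => f v v) v y ≠ 0
      rw [pol_diag f hf]; exact mul_ne_zero h2 hy

/-- contraction of a tensor with a vector of the second factor -/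
def ctr (f₂ : (Fin n₂ → F) → (Fin n₂ → F) → F) (s : Fin n₂ → F) (x : Fin n₁ × Fin n₂ → F) : Fin n₁ → F :=
  fun i => f₂ (fun k => x (i, k)) s

lemma ctr_add (f₂ : (Fin n₂ → F) → (Fin n₂ → F) → F) (hf : ∀ x y v, f₂ (x + y) v = f₂ x v + f₂ y v)
    (s : Fin n₂ → F) (x y : Fin n₁ × Fin n₂ → F) :
    ctr f₂ s (x + y) = ctr f₂ s x + ctr f₂ s y := by
  funext i
  simp only [ctr, Pi.add_apply]
  rw [← hf]; rfl

lemma ctr_smul (f₂ : (Fin n₂ → F) → (Fin n₂ → F) → F) (hf : ∀ (c : F) x v, f₂ (c • x) v = c * f₂ x v)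
    (s : Fin n₂ → F) (c : F) (x : Fin n₁ × Fin n₂ → F) :
    ctr f₂ s (c • x) = c • ctr f₂ s x := by
  funext i
  simp only [ctr, Pi.smul_apply, smul_eq_mul]
  rw [← hf]; rfl

lemma ctr_pt (f₂ : (Fin n₂ → F) → (Fin n₂ → F) → F) (hf : ∀ (c : F) x v, f₂ (c • x) v = c * f₂ x v)
    (s : Fin n₂ → F) (u : Fin n₁ → F) (w : Fin n₂ → F) :
    ctr f₂ s (pt u w) = f₂ w s • u := by
  funext i
  simp only [ctr, Pi.smul_apply, smul_eq_mul, pt]
  rw [mul_comm, ← hf]; rfl

end Cfsg.Agent.Lib.Helper94
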