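import Cfsg.Agent.Lib.Helper94.F4Omega

set_option autoImplicit false

namespace Cfsg.Agent.Lib.Helper94

open scoped Matrix Kronecker
open Cfsg

set_option linter.unusedSectionVars false
set_option linter.unnecessarySimpa false
set_option linter.style.haveILetI false
set_option linter.unusedVariables false
set_option maxHeartbeats 1000000

variable {F : Type*} [Field F] {ι : Type} [Fintype ι] [DecidableEq ι]

/-- Over the field with two elements, the stabiliser in `Ω(Q)` of a tensor decomposition `Sp₂ ⊗ Sp_{n₂}` (with `Q`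
vanishing on pure tensors) is not maximal: it normalises the associated `F₄`-structure. -/
theorem tensor2_omega_not_max [Fintype F] {Q : (ι → F) → F} (hQ : Geo.IsNondegenerateQuadraticForm Q)
    (h01 : ∀ x : F, x = 0 ∨ x = 1) (h2 : (2 : F) = 0) (n₂ : ℕ) (hn₂ : 2 < n₂) (e : ι ≃ Fin 2 × Fin n₂)
    (P : Matrix.GeneralLinearGroup ι F) (f₁ : (Fin 2 → F) → (Fin 2 → F) → F)
    (f₂ : (Fin n₂ → F) → (Fin n₂ → F) → F) (hf₁ : Geo.IsSymplecticForm f₁) (hf₂ : Geo.IsSymplecticForm f₂)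
    (hT : Geo.IsTensorFormStructure id (QuadraticMap.polar Q) f₁ f₂ e P)
    (hpure : ∀ (x₁ : Fin 2 → F) (x₂ : Fin n₂ → F), Q (tens e P (pt x₁ x₂)) = 0) :
    ∃ K : Subgroup (Matrix.GeneralLinearGroup ι F),
      Geo.tensorProductSubgroup 2 n₂ e P ⊓ Geo.omegaGL Q < K ∧ K < Geo.omegaGL Q := by
  classical
  have b₁ := hf₁.bilinear
  have b₂ := hf₂.bilinear
  have h11 : (1 : F) + 1 = 0 := by rw [← h2]; norm_num
  have hneg1 : (-1 : F) = 1 := by linear_combination -h11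
  have hvv : ∀ v : ι → F, v + v = 0 := fun v => by rw [← two_smul F v, h2, zero_smul]
  have hnegv : ∀ v : ι → F, -v = v := fun v => by
    have := hvv v
    exact neg_eq_of_add_eq_zero_left this
  obtain ⟨c, hc, hform'⟩ := tensor_form_pt id (fun _ _ => rfl) (QuadraticMap.polar Q) f₁ f₂ e P
    (isSesq_of_bilinear b₁) (isSesq_of_bilinear b₂) hT
  have hc1 : c = 1 := (h01 c).resolve_left hc
  rw [hc1] at hform'
  obtain ⟨T, hTdef⟩ : ∃ T, T = tens e P := ⟨_, rfl⟩
  rw [← hTdef] at hform' hpure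
  have hP : ∀ u s u' s', pol Q (T (pt u s)) (T (pt u' s')) = f₁ u u' * f₂ s s' := by
    intro u s u' s'; have := hform' u s u' s'; rw [one_mul] at this; exact this
  have T_add : ∀ x y, T (x + y) = T x + T y := by rw [hTdef]; exact tens_add e P
  have T_inj : Function.Injective T := by rw [hTdef]; exact tens_injective e P
  -- the basis of F²
  obtain ⟨e0, he0⟩ : ∃ e0 : Fin 2 → F, e0 = ![1, 0] := ⟨_, rfl⟩
  obtain ⟨e1, he1⟩ : ∃ e1 : Fin 2 → F, e1 = ![0, 1] := ⟨_, rfl⟩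
  have hω0 : omM F *ᵥ e0 = e1 := by rw [he0, he1]; exact omM_e0
  have hω1 : omM F *ᵥ e1 = e0 + e1 := by
    rw [he0, he1, omM_e1]; funext i; fin_cases i <;> simp
  have hωω0 : (omM F * omM F) *ᵥ e0 = e0 + e1 := by
    rw [← Matrix.mulVec_mulVec, hω0, hω1]
  have g00 : f₁ e0 e0 = 0 := hf₁.alternating _
  have g11 : f₁ e1 e1 = 0 := hf₁.alternating _
  have hexp : ∀ x : Fin 2 → F, x = x 0 • e0 + x 1 • e1 := by
    intro x; rw [he0, he1]; funext i; fin_cases i <;> simp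
  have g10' : f₁ e1 e0 ≠ 0 := by
    intro h
    have he00 : e0 ≠ 0 := by
      intro h0; have := congrFun h0 0; rw [he0] at this; simp at this
    obtain ⟨⟨x, hx⟩, _⟩ := hf₁.nondegenerate e0 he00
    apply hx
    rw [hexp x, b₁.add_left, b₁.smul_left, b₁.smul_left, g00, h]; ring
  have g10 : f₁ e1 e0 = 1 := (h01 _).resolve_left g10'
  have g01 : f₁ e0 e1 = 1 := by rw [hf₁.skew, g10, hneg1]
  -- hyperbolic pairs in the second factor
  have ha0 : ∃ a : Fin n₂ → F, a ≠ 0 := by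
    refine ⟨Pi.single ⟨0, by omega⟩ 1, ?_⟩
    intro h; have := congrFun h ⟨0, by omega⟩; simp at this
  obtain ⟨a, ha⟩ := ha0
  obtain ⟨⟨b, hb⟩, _⟩ := hf₂.nondegenerate a ha
  have fba : f₂ b a = 1 := (h01 _).resolve_left hb
  have fab : f₂ a b = 1 := by rw [hf₂.skew, fba, hneg1]
  have faa : f₂ a a = 0 := hf₂.alternating _
  have fbb : f₂ b b = 0 := hf₂.alternating _
  obtain ⟨c₃, hc₃, fca, fcb⟩ := exists_perp_two f₂ b₂ a b (by simpa using hn₂)
  have fac : f₂ a c₃ = 0 := by rw [hf₂.skew, fca, neg_zero]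
  have fbc : f₂ b c₃ = 0 := by rw [hf₂.skew, fcb, neg_zero]
  have fcc : f₂ c₃ c₃ = 0 := hf₂.alternating _
  obtain ⟨_, ⟨d', hd'⟩⟩ := hf₂.nondegenerate c₃ hc₃
  have fcd' : f₂ c₃ d' = 1 := (h01 _).resolve_left hd'
  obtain ⟨d, hd⟩ : ∃ d, d = d' + f₂ d' b • a + f₂ d' a • b := ⟨_, rfl⟩
  have fda : f₂ d a = 0 := by
    rw [hd, b₂.add_left, b₂.add_left, b₂.smul_left, b₂.smul_left, faa, fba]
    have : f₂ d' a + f₂ d' a = 0 := by rw [← two_mul, h2, zero_mul]
    linear_combination this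
  have fdb : f₂ d b = 0 := by
    rw [hd, b₂.add_left, b₂.add_left, b₂.smul_left, b₂.smul_left, fab, fbb]
    have : f₂ d' b + f₂ d' b = 0 := by rw [← two_mul, h2, zero_mul]
    linear_combination this
  have fcd : f₂ c₃ d = 1 := by
    rw [hd, b₂.add_right, b₂.add_right, b₂.smul_right, b₂.smul_right, fca, fcb, fcd']; ring
  have fad : f₂ a d = 0 := by rw [hf₂.skew, fda, neg_zero]
  have fbd : f₂ b d = 0 := by rw [hf₂.skew, fdb, neg_zero]
  have fdc : f₂ d c₃ = 1 := by rw [hf₂.skew, fcd, hneg1]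
  -- the F₄-multiplication
  obtain ⟨J, hJdef⟩ : ∃ J, J = tPhi e P (jG h2 n₂) := ⟨_, rfl⟩
  have hJpt : ∀ u w, (J : Matrix ι ι F) *ᵥ T (pt u w) = T (pt (omM F *ᵥ u) w) := by
    intro u w; rw [hJdef, hTdef]; exact J_pt h2 e P u w
  have hJinvpt : ∀ u w, ((J⁻¹ : Matrix.GeneralLinearGroup ι F) : Matrix ι ι F) *ᵥ T (pt u w) =
      T (pt ((omM F * omM F) *ᵥ u) w) := by
    intro u w; rw [hJdef, hTdef]; exact Jinv_pt h2 e P u w
  have hJpol : ∀ v w, pol Q ((J : Matrix ι ι F) *ᵥ v) ((J : Matrix ι ι F) *ᵥ w) = pol Q v w := by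
    intro v w; rw [hJdef]; exact J_preserves h2 (QuadraticMap.polar Q) f₁ f₂ hf₁ e P hT v w
  -- Q on sums of two pure tensors
  have hQ2 : ∀ u s u' s', Q (T (pt u s) + T (pt u' s')) = f₁ u u' * f₂ s s' := by
    intro u s u' s'
    rw [Q_add Q, hpure, hpure, hP]; ring
  -- the vectors
  obtain ⟨x, hx⟩ : ∃ x, x = T (pt e0 a) + T (pt e1 b) := ⟨_, rfl⟩
  obtain ⟨x', hx'⟩ : ∃ x', x' = T (pt e1 a) + (T (pt e0 b) + T (pt e1 b)) := ⟨_, rfl⟩
  have hJx : (J : Matrix ι ι F) *ᵥ x = x' := by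
    rw [hx, hx', Matrix.mulVec_add, hJpt, hJpt, hω0, hω1, pt_add_left, T_add]
  have hJx' : (J : Matrix ι ι F) *ᵥ x' = x + x' := by
    rw [hx, hx', Matrix.mulVec_add, Matrix.mulVec_add, hJpt, hJpt, hJpt, hω0, hω1, pt_add_left, pt_add_left,
      T_add, T_add]
    abel
  have hQx : Q x = 1 := by rw [hx, hQ2, g01, fab]; ring
  have hQx' : Q x' = 1 := by
    rw [hx', Q_add Q, hpure, Q_add Q, hpure, hpure, pol_add_right hQ, hP, hP, hP, g10, g11, g01, fab, fbb]; ring
  have hpxx' : pol Q x x' = 1 := by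
    rw [hx, hx']
    simp only [pol_add_left hQ, pol_add_right hQ, hP, g00, g01, g10, g11, faa, fab, fba, fbb]; ring
  have hpx'x : pol Q x' x = 1 := by rw [pol_comm, hpxx']
  have hx0 : Q x ≠ 0 := by rw [hQx]; exact one_ne_zero
  have hx'0 : Q x' ≠ 0 := by rw [hQx']; exact one_ne_zero
  have hd0 : Q (x - x') ≠ 0 := by
    rw [Q_sub hQ, hQx, hQx', hpxx']
    intro h
    have : (1 : F) = 0 := by linear_combination h
    exact one_ne_zero this
  have hrr : ∀ (p q : ι → F) (hp : Q p ≠ 0) (hq : Q q ≠ 0), Q p = 1 → Q q = 1 → pol Q q p = 1 → ∀ w,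
      ((rGL hQ p hp * rGL hQ q hq : Matrix.GeneralLinearGroup ι F) : Matrix ι ι F) *ᵥ w =
      w - pol Q w q • q - (pol Q w p - pol Q w q) • p := by
    intro p q hp hq hQp hQq hqp w
    rw [Units.val_mul, ← Matrix.mulVec_mulVec, rGL_mulVec, rGL_mulVec, hQp, hQq, inv_one, one_mul, one_mul,
      pol_sub_left hQ, pol_smul_left hQ, hqp, mul_one]
  obtain ⟨g₀, hg₀def⟩ : ∃ g₀, g₀ = rGL hQ x hx0 * rGL hQ x' hx'0 := ⟨_, rfl⟩
  have hg₀ : ∀ w, (g₀ : Matrix ι ι F) *ᵥ w = w - pol Q w x' • x' - (pol Q w x - pol Q w x') • x := by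
    rw [hg₀def]; exact hrr x x' hx0 hx'0 hQx hQx' hpx'x
  have hg₀Ω : g₀ ∈ Geo.omegaGL Q := by
    rw [hg₀def]; exact rr_mem_omega hQ x x' hx0 hx'0 (by rw [hQx, hQx']) hd0
  have hJxx' : (J : Matrix ι ι F) *ᵥ (x + x') = x := by
    rw [Matrix.mulVec_add, hJx, hJx']
    have : x' + (x + x') = x + (x' + x') := by abel
    rw [this, hvv, add_zero]
  have hg₀N : g₀ ∈ tmap e P (invNormalizer (jG h2 n₂)) := by
    rw [mem_tmap_invNormalizer, ← hJdef]
    left
    apply GL_ext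
    intro v
    rw [Units.val_mul, Units.val_mul, ← Matrix.mulVec_mulVec, ← Matrix.mulVec_mulVec, hg₀, hg₀,
      Matrix.mulVec_sub, Matrix.mulVec_sub, Matrix.mulVec_smul, Matrix.mulVec_smul, hJx, hJx']
    have e1 : pol Q ((J : Matrix ι ι F) *ᵥ v) x' = pol Q v x := by rw [← hJx, hJpol]
    have e2 : pol Q ((J : Matrix ι ι F) *ᵥ v) x = pol Q v x + pol Q v x' := by
      rw [show pol Q ((J : Matrix ι ι F) *ᵥ v) x =
        pol Q ((J : Matrix ι ι F) *ᵥ v) ((J : Matrix ι ι F) *ᵥ (x + x')) by rw [hJxx'], hJpol, pol_add_right hQ]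
    rw [e1, e2]
    module
  have tmap_mono : ∀ {N N' : Subgroup (Matrix.GeneralLinearGroup (Fin 2 × Fin n₂) F)}, N ≤ N' →
      tmap e P N ≤ tmap e P N' := by
    intro N N' h
    unfold tmap
    exact Subgroup.map_mono (Subgroup.map_mono h)
  have he10 : e1 ≠ 0 := by
    intro h0; have := congrFun h0 1; rw [he1] at this; simp at this
  refine ⟨tmap e P (invNormalizer (jG h2 n₂)) ⊓ Geo.omegaGL Q, ?_, ?_⟩
  · rw [SetLike.lt_iff_le_and_exists]
    refine ⟨?_, g₀, Subgroup.mem_inf.mpr ⟨hg₀N, hg₀Ω⟩, ?_⟩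
    · apply inf_le_inf_right
      rw [← tmap_kron]
      exact tmap_mono (kron_le_invNormalizer h01 h2)
    · intro hg
      obtain ⟨hgT, -⟩ := Subgroup.mem_inf.mp hg
      obtain ⟨A, B, hAB⟩ := mem_tensorProductSubgroup_pt e P _ hgT
      rw [← hTdef] at hAB
      -- the action on `e1 ⊗ c₃`
      have h1 := hAB e1 c₃
      rw [hg₀] at h1
      have p1 : pol Q (T (pt e1 c₃)) x' = 0 := by
        rw [hx']; simp only [pol_add_right hQ, hP, fca, fcb]; ring
      have p2 : pol Q (T (pt e1 c₃)) x = 0 := by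
        rw [hx]; simp only [pol_add_right hQ, hP, fca, fcb]; ring
      rw [p1, p2, sub_zero, zero_smul, zero_smul, sub_zero, sub_zero] at h1
      have h1' := T_inj h1
      have c1 := congrArg (ctr f₂ d) h1'
      rw [ctr_pt f₂ b₂.smul_left, ctr_pt f₂ b₂.smul_left, fcd, one_smul] at c1
      have hAe1 : (A : Matrix (Fin 2) (Fin 2) F) *ᵥ e1 = e1 := by
        rcases h01 (f₂ ((B : Matrix (Fin n₂) (Fin n₂) F) *ᵥ c₃) d) with h | h
        · rw [h, zero_smul] at c1; exact absurd c1 he10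
        · rw [h, one_smul] at c1; exact c1.symm
      -- the action on `e1 ⊗ b`
      have h3 := hAB e1 b
      rw [hg₀, hAe1] at h3
      have p3 : pol Q (T (pt e1 b)) x' = 0 := by
        rw [hx']; simp only [pol_add_right hQ, hP, g10, g11, fba, fbb]; ring
      have p4 : pol Q (T (pt e1 b)) x = 1 := by
        rw [hx]; simp only [pol_add_right hQ, hP, g10, g11, fba, fbb]; ring
      rw [p3, p4, zero_smul, sub_zero, sub_zero, one_smul, hx] at h3
      have h3' : T (pt e1 ((B : Matrix (Fin n₂) (Fin n₂) F) *ᵥ b)) = - T (pt e0 a) := by rw [← h3]; abel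
      rw [hnegv] at h3'
      have h3'' := T_inj h3'
      have c3 := congrArg (ctrL f₁ e1) h3''
      rw [ctrL_pt f₁ b₁, ctrL_pt f₁ b₁, g11, g01, zero_smul, one_smul] at c3
      exact ha c3.symm
  · rw [SetLike.lt_iff_le_and_exists]
    obtain ⟨y, hy⟩ : ∃ y, y = T (pt e0 a) + T (pt e0 c₃) + T (pt e1 d) := ⟨_, rfl⟩
    have hQy : Q y = 1 := by
      rw [hy, Q_add Q, Q_add Q, hpure, hpure, hpure]
      simp only [pol_add_left hQ, hP, g00, g01, fad, fcd]; ring
    have hpyx : pol Q y x = 1 := by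
      rw [hx, hy]
      simp only [pol_add_left hQ, pol_add_right hQ, hP, g00, g01, g10, g11, faa, fab, fca, fcb, fda, fdb]; ring
    have hy0 : Q y ≠ 0 := by rw [hQy]; exact one_ne_zero
    have hd1 : Q (x - y) ≠ 0 := by
      rw [Q_sub hQ, hQx, hQy, pol_comm, hpyx]
      intro h
      have : (1 : F) = 0 := by linear_combination h
      exact one_ne_zero this
    obtain ⟨g₁, hg₁def⟩ : ∃ g₁, g₁ = rGL hQ x hx0 * rGL hQ y hy0 := ⟨_, rfl⟩
    have hg₁ : ∀ w, (g₁ : Matrix ι ι F) *ᵥ w = w - pol Q w y • y - (pol Q w x - pol Q w y) • x := by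
      rw [hg₁def]; exact hrr x y hx0 hy0 hQx hQy hpyx
    refine ⟨inf_le_right, g₁, by rw [hg₁def]; exact rr_mem_omega hQ x y hx0 hy0 (by rw [hQx, hQy]) hd1, ?_⟩
    intro hg
    obtain ⟨hgN, -⟩ := Subgroup.mem_inf.mp hg
    rw [mem_tmap_invNormalizer, ← hJdef] at hgN
    have q1 : pol Q (T (pt e0 b)) y = 0 := by
      rw [hy]; simp only [pol_add_right hQ, hP, g00, g01, fbd]; ring
    have q2 : pol Q (T (pt e0 b)) x = 0 := by
      rw [hx]; simp only [pol_add_right hQ, hP, g00, g01, fbb]; ring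
    have q3 : pol Q (T (pt e1 b)) y = 1 := by
      rw [hy]; simp only [pol_add_right hQ, hP, g10, g11, fba, fbc]; ring
    have q4 : pol Q (T (pt e1 b)) x = 1 := by
      rw [hx]; simp only [pol_add_right hQ, hP, g10, g11, fba, fbb]; ring
    have hgv : (g₁ : Matrix ι ι F) *ᵥ T (pt e0 b) = T (pt e0 b) := by
      rw [hg₁, q1, q2, sub_zero, zero_smul, zero_smul, sub_zero, sub_zero]
    have hgJv : (g₁ : Matrix ι ι F) *ᵥ T (pt e1 b) = T (pt e1 b) - y := by
      rw [hg₁, q3, q4, sub_self, zero_smul, sub_zero, one_smul]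
    rcases hgN with h | h
    · have h' := congrArg (fun g : Matrix.GeneralLinearGroup ι F => (g : Matrix ι ι F) *ᵥ T (pt e0 b)) h
      simp only [Units.val_mul, ← Matrix.mulVec_mulVec] at h'
      rw [hgv, hJpt, hω0, hgJv] at h'
      have hy00 : y = 0 := by
        have := sub_eq_self.mp h'
        exact this
      rw [hy00, Q_zero hQ] at hQy
      exact zero_ne_one hQy
    · have h' := congrArg (fun g : Matrix.GeneralLinearGroup ι F => (g : Matrix ι ι F) *ᵥ T (pt e0 b)) h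
      simp only [Units.val_mul, ← Matrix.mulVec_mulVec] at h'
      rw [hgv, hJpt, hω0, hgJv, hJinvpt, hωω0, pt_add_left, T_add] at h'
      have hyv : y = - T (pt e0 b) := by
        have : T (pt e1 b) - y - T (pt e1 b) = T (pt e0 b) + T (pt e1 b) - T (pt e1 b) := by rw [h']
        have e1' : T (pt e1 b) - y - T (pt e1 b) = -y := by abel
        have e2' : T (pt e0 b) + T (pt e1 b) - T (pt e1 b) = T (pt e0 b) := by abel
        rw [e1', e2'] at this
        rw [← this, neg_neg]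
      rw [hyv, Q_neg hQ, hpure] at hQy
      exact zero_ne_one hQy

end Cfsg.Agent.Lib.Helper94
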