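import Cfsg.Agent.Lib.Helper94.Tensor

set_option autoImplicit false

/-!
Pure tensor matrices and vectors on the index type `J → Fin k`, factor permutations, one-factor operators.
-/

namespace Cfsg.Agent.Lib.Helper94.Tw

open scoped Matrix
open Cfsg

set_option linter.unusedSectionVars false
set_option linter.unnecessarySimpa false
set_option linter.style.haveILetI false
set_option linter.unusedVariables false

variable {F : Type*} [Field F] {J : Type} [Fintype J] [DecidableEq J] {k : ℕ}

/-- pure tensor matrices -/
def ptM (As : J → Matrix (Fin k) (Fin k) F) : Matrix (J → Fin k) (J → Fin k) F :=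
  fun a b => ∏ j, As j (a j) (b j)

/-- pure tensor vectors -/
def pv (vs : J → Fin k → F) : (J → Fin k) → F := fun a => ∏ j, vs j (a j)

lemma ptM_apply (As : J → Matrix (Fin k) (Fin k) F) (a b : J → Fin k) :
    ptM As a b = ∏ j, As j (a j) (b j) := rfl

lemma pv_apply (vs : J → Fin k → F) (a : J → Fin k) : pv vs a = ∏ j, vs j (a j) := rfl

lemma ptM_mul (As Bs : J → Matrix (Fin k) (Fin k) F) :
    ptM As * ptM Bs = ptM (fun j => As j * Bs j) := by
  ext a c
  simp only [Matrix.mul_apply, ptM]
  rw [Finset.prod_univ_sum, Fintype.piFinset_univ]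
  apply Finset.sum_congr rfl; intro b _
  rw [Finset.prod_mul_distrib]

lemma ptM_one : ptM (fun _ : J => (1 : Matrix (Fin k) (Fin k) F)) = 1 := by
  ext a b
  simp only [ptM, Matrix.one_apply]
  rw [Finset.prod_ite_zero]
  simp only [Finset.mem_univ, forall_const, Finset.prod_const_one]
  by_cases h : a = b
  · subst h; simp
  · rw [if_neg h, if_neg]
    intro h'; exact h (funext h')

lemma ptM_mulVec_pv (As : J → Matrix (Fin k) (Fin k) F) (vs : J → Fin k → F) :
    ptM As *ᵥ pv vs = pv (fun j => As j *ᵥ vs j) := by
  funext a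
  simp only [Matrix.mulVec, dotProduct, ptM, pv]
  rw [Finset.prod_univ_sum, Fintype.piFinset_univ]
  apply Finset.sum_congr rfl; intro b _
  rw [Finset.prod_mul_distrib]

lemma pv_dot_pv (us vs : J → Fin k → F) : pv us ⬝ᵥ pv vs = ∏ j, us j ⬝ᵥ vs j := by
  simp only [dotProduct, pv]
  rw [Finset.prod_univ_sum, Fintype.piFinset_univ]
  apply Finset.sum_congr rfl; intro b _
  rw [Finset.prod_mul_distrib]

lemma ptM_transpose (As : J → Matrix (Fin k) (Fin k) F) :
    (ptM As).transpose = ptM (fun j => (As j).transpose) := by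
  ext a b; simp [ptM, Matrix.transpose_apply]

lemma ptM_eq_zero (As : J → Matrix (Fin k) (Fin k) F) (h : ∃ j, As j = 0) : ptM As = 0 := by
  obtain ⟨j, hj⟩ := h
  ext a b
  simp only [ptM, Matrix.zero_apply]
  exact Finset.prod_eq_zero (Finset.mem_univ j) (by rw [hj]; rfl)

lemma ptM_update_apply (As : J → Matrix (Fin k) (Fin k) F) (j : J) (X : Matrix (Fin k) (Fin k) F)
    (a b : J → Fin k) :
    ptM (Function.update As j X) a b = X (a j) (b j) * ∏ i ∈ Finset.univ.erase j, As i (a i) (b i) := by
  rw [ptM, ← Finset.mul_prod_erase _ _ (Finset.mem_univ j), Function.update_self]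
  congr 1
  apply Finset.prod_congr rfl
  intro i hi
  rw [Function.update_of_ne (Finset.ne_of_mem_erase hi)]

lemma ptM_update_add (As : J → Matrix (Fin k) (Fin k) F) (j : J) (X Y : Matrix (Fin k) (Fin k) F) :
    ptM (Function.update As j (X + Y)) = ptM (Function.update As j X) + ptM (Function.update As j Y) := by
  ext a b
  rw [Matrix.add_apply, ptM_update_apply, ptM_update_apply, ptM_update_apply, Matrix.add_apply, add_mul]

lemma ptM_update_smul (As : J → Matrix (Fin k) (Fin k) F) (j : J) (c : F) (X : Matrix (Fin k) (Fin k) F) :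
    ptM (Function.update As j (c • X)) = c • ptM (Function.update As j X) := by
  ext a b
  rw [Matrix.smul_apply, ptM_update_apply, ptM_update_apply, Matrix.smul_apply, smul_eq_mul, smul_eq_mul, mul_assoc]

lemma ptM_update_zero (As : J → Matrix (Fin k) (Fin k) F) (j : J) :
    ptM (Function.update As j 0) = 0 :=
  ptM_eq_zero _ ⟨j, Function.update_self ..⟩

/-- the operator acting as `A` on the factor `j` -/
def iota (j : J) (A : Matrix (Fin k) (Fin k) F) : Matrix (J → Fin k) (J → Fin k) F :=
  ptM (Function.update (fun _ => 1) j A)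

lemma iota_add (j : J) (A B : Matrix (Fin k) (Fin k) F) : iota j (A + B) = iota j A + iota j B :=
  ptM_update_add _ j A B

lemma iota_smul (j : J) (c : F) (A : Matrix (Fin k) (Fin k) F) : iota j (c • A) = c • iota j A :=
  ptM_update_smul _ j c A

lemma iota_one (j : J) : iota j (1 : Matrix (Fin k) (Fin k) F) = 1 := by
  unfold iota
  rw [Function.update_eq_self_iff.mpr rfl]
  exact ptM_one

lemma iota_apply (j : J) (A : Matrix (Fin k) (Fin k) F) (a b : J → Fin k) :
    iota j A a b = A (a j) (b j) * if ∀ i, i ≠ j → a i = b i then 1 else 0 := by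
  unfold iota
  rw [ptM_update_apply]
  congr 1
  simp only [Matrix.one_apply]
  rw [Finset.prod_ite_zero]
  simp only [Finset.mem_erase, Finset.mem_univ, and_true, Finset.prod_const_one]

/-- pointwise product with a one-factor family -/
lemma fam_mul_update (As : J → Matrix (Fin k) (Fin k) F) (j : J) (A : Matrix (Fin k) (Fin k) F) :
    (fun i => As i * Function.update (fun _ => (1 : Matrix (Fin k) (Fin k) F)) j A i) =
      Function.update As j (As j * A) := by
  funext i
  by_cases h : i = j
  · subst h; simp
  · simp [Function.update_of_ne h]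

lemma update_mul_fam (As : J → Matrix (Fin k) (Fin k) F) (j : J) (A : Matrix (Fin k) (Fin k) F) :
    (fun i => Function.update (fun _ => (1 : Matrix (Fin k) (Fin k) F)) j A i * As i) =
      Function.update As j (A * As j) := by
  funext i
  by_cases h : i = j
  · subst h; simp
  · simp [Function.update_of_ne h]

lemma ptM_mul_iota (As : J → Matrix (Fin k) (Fin k) F) (j : J) (A : Matrix (Fin k) (Fin k) F) :
    ptM As * iota j A = ptM (Function.update As j (As j * A)) := by
  unfold iota; rw [ptM_mul, fam_mul_update]

lemma iota_mul_ptM (As : J → Matrix (Fin k) (Fin k) F) (j : J) (A : Matrix (Fin k) (Fin k) F) :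
    iota j A * ptM As = ptM (Function.update As j (A * As j)) := by
  unfold iota; rw [ptM_mul, update_mul_fam]

lemma iota_mul (j : J) (A B : Matrix (Fin k) (Fin k) F) : iota j (A * B) = iota j A * iota j B := by
  have h : iota j A * iota j B = iota j A * ptM (Function.update (fun _ => 1) j B) := rfl
  rw [h, iota_mul_ptM]
  unfold iota
  simp

/-- factor permutation matrices -/
def permM (σ : Equiv.Perm J) : Matrix (J → Fin k) (J → Fin k) F :=
  fun a b => if b = a ∘ σ then 1 else 0

lemma permM_mulVec (σ : Equiv.Perm J) (x : (J → Fin k) → F) (a : J → Fin k) :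
    ((permM σ : Matrix (J → Fin k) (J → Fin k) F) *ᵥ x) a = x (a ∘ σ) := by
  simp [Matrix.mulVec, dotProduct, permM]

lemma permM_one : (permM (1 : Equiv.Perm J) : Matrix (J → Fin k) (J → Fin k) F) = 1 := by
  ext a b
  simp only [permM, Matrix.one_apply]
  have : a ∘ (1 : Equiv.Perm J) = a := rfl
  rw [this]
  by_cases h : a = b
  · subst h; simp
  · rw [if_neg h, if_neg (fun h' => h h'.symm)]

lemma permM_mul (σ τ : Equiv.Perm J) :
    (permM σ : Matrix (J → Fin k) (J → Fin k) F) * permM τ = permM (σ * τ) := by
  ext a c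
  simp only [Matrix.mul_apply, permM]
  rw [Finset.sum_eq_single (a ∘ σ)]
  · simp only [if_true, one_mul]
    rfl
  · intro b _ hb
    rw [if_neg hb, zero_mul]
  · intro h; exact absurd (Finset.mem_univ _) h

lemma permM_mul_apply (σ : Equiv.Perm J) (M : Matrix (J → Fin k) (J → Fin k) F) (a c : J → Fin k) :
    ((permM σ : Matrix (J → Fin k) (J → Fin k) F) * M) a c = M (a ∘ σ) c := by
  simp only [Matrix.mul_apply, permM]
  rw [Finset.sum_eq_single (a ∘ σ)]
  · simp
  · intro b _ hb
    rw [if_neg hb, zero_mul]
  · intro h; exact absurd (Finset.mem_univ _) h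

lemma mul_permM_apply (σ : Equiv.Perm J) (M : Matrix (J → Fin k) (J → Fin k) F) (a c : J → Fin k) :
    (M * (permM σ : Matrix (J → Fin k) (J → Fin k) F)) a c = M a (c ∘ σ.symm) := by
  simp only [Matrix.mul_apply, permM]
  rw [Finset.sum_eq_single (c ∘ σ.symm)]
  · rw [if_pos, mul_one]
    funext i; simp
  · intro b _ hb
    rw [if_neg, mul_zero]
    intro h; apply hb; rw [h]; funext i; simp
  · intro h; exact absurd (Finset.mem_univ _) h

lemma permM_mul_ptM (σ : Equiv.Perm J) (As : J → Matrix (Fin k) (Fin k) F) :
    (permM σ : Matrix (J → Fin k) (J → Fin k) F) * ptM As = ptM (As ∘ σ.symm) * permM σ := by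
  ext a c
  rw [permM_mul_apply, mul_permM_apply]
  simp only [ptM, Function.comp_apply]
  exact Fintype.prod_equiv σ _ _ (fun i => by simp)

lemma permM_mulVec_pv (σ : Equiv.Perm J) (vs : J → Fin k → F) :
    (permM σ : Matrix (J → Fin k) (J → Fin k) F) *ᵥ pv vs = pv (vs ∘ σ.symm) := by
  funext a
  rw [permM_mulVec]
  simp only [pv, Function.comp_apply]
  exact Fintype.prod_equiv σ _ _ (fun i => by simp)

lemma update_comp_symm (σ : Equiv.Perm J) (j : J) (A : Matrix (Fin k) (Fin k) F) :
    (Function.update (fun _ : J => (1 : Matrix (Fin k) (Fin k) F)) j A) ∘ σ.symm =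
      Function.update (fun _ => 1) (σ j) A := by
  funext i
  simp only [Function.comp_apply, Function.update_apply]
  by_cases h : i = σ j
  · subst h; simp
  · rw [if_neg h, if_neg]
    intro h'; apply h; rw [← h']; simp

lemma permM_mul_iota (σ : Equiv.Perm J) (j : J) (A : Matrix (Fin k) (Fin k) F) :
    (permM σ : Matrix (J → Fin k) (J → Fin k) F) * iota j A = iota (σ j) A * permM σ := by
  unfold iota
  rw [permM_mul_ptM, update_comp_symm]

/-- the standard basis vectors are pure -/
lemma single_eq_pv (a : J → Fin k) :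
    (Pi.single a (1 : F) : (J → Fin k) → F) = pv (fun j => Pi.single (a j) 1) := by
  funext b
  simp only [pv, Pi.single_apply]
  rw [Finset.prod_ite_zero]
  simp only [Finset.mem_univ, forall_const, Finset.prod_const_one]
  by_cases h : b = a
  · subst h; simp
  · rw [if_neg h, if_neg]
    intro h'; exact h (funext h')

/-- the exchange property of pure vectors -/
lemma pv_exchange (vs : J → Fin k → F) (a b : J → Fin k) (j : J) :
    pv vs a * pv vs b = pv vs (Function.update a j (b j)) * pv vs (Function.update b j (a j)) := by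
  simp only [pv]
  rw [← Finset.prod_mul_distrib, ← Finset.prod_mul_distrib]
  apply Finset.prod_congr rfl
  intro i _
  by_cases h : i = j
  · subst h; simp [mul_comm]
  · simp [Function.update_of_ne h]

end Cfsg.Agent.Lib.Helper94.Tw
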