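import Cfsg.Agent.Lib.Helper94.Tw9
import Cfsg.Agent.Lib.Helper44.CharTwoSym

set_option autoImplicit false

/-!
Normalisation of a tensor power structure and the final theorem.
-/

namespace Cfsg.Agent.Lib.Helper94.Tw

open scoped Matrix
open Cfsg

set_option linter.unusedSectionVars false
set_option linter.unnecessarySimpa false
set_option linter.style.haveILetI false
set_option linter.unusedVariables false
set_option linter.unusedSimpArgs false
set_option maxHeartbeats 1000000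

variable {F : Type*} [Field F] {n k t : ℕ}

lemma map_conj_self {G : Type*} [Group G] (W : Subgroup G) (w : G) (hw : w ∈ W) :
    W.map (MulAut.conj w).toMonoidHom = W := by
  ext g
  rw [Subgroup.mem_map]
  constructor
  · rintro ⟨x, hx, rfl⟩
    show w * x * w⁻¹ ∈ W
    exact mul_mem (mul_mem hw hx) (inv_mem hw)
  · intro hg
    refine ⟨w⁻¹ * g * w, mul_mem (mul_mem (inv_mem hw) hg) hw, ?_⟩
    show w * (w⁻¹ * g * w) * w⁻¹ = g
    group

/-- normalisation of a tensor power structure by a change of basis in the factors -/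
lemma normalize (Q : (Fin n → F) → F) (hsmul : ∀ (c : F) (v : Fin n → F), Q (c • v) = c ^ 2 * Q v)
    (e : Fin n ≃ (Fin t → Fin k)) (P : Matrix.GeneralLinearGroup (Fin n) F)
    (f₁ : (Fin k → F) → (Fin k → F) → F) (hf₁ : Geo.IsBilinearForm f₁)
    (hT : Geo.IsTensorPowerFormStructure id (QuadraticMap.polar Q) f₁ e P)
    (hpure : ∀ xs : Fin t → (Fin k → F),
      Q (Matrix.mulVec (P : Matrix (Fin n) (Fin n) F) ((fun a : Fin t → Fin k => ∏ i, xs i (a i)) ∘ e)) = 0)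
    (Mw : Matrix.GeneralLinearGroup (Fin k) F) (Gk : Matrix (Fin k) (Fin k) F)
    (hM : ∀ a b, f₁ ((Mw : Matrix (Fin k) (Fin k) F) *ᵥ Pi.single a 1)
      ((Mw : Matrix (Fin k) (Fin k) F) *ᵥ Pi.single b 1) = Gk a b) :
    ∃ (Φ : Matrix.GeneralLinearGroup (Fin t → Fin k) F ≃* Matrix.GeneralLinearGroup (Fin n) F)
      (T : ((Fin t → Fin k) → F) → (Fin n → F)) (c₀ : F), c₀ ≠ 0 ∧ Tsp Φ T ∧
      (Geo.tensorWreathStandard k t F).map Φ.toMonoidHom = Geo.tensorWreathSubgroup k t e P ∧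
      (∀ (c : F) x, (Q ∘ T) (c • x) = c ^ 2 * (Q ∘ T) x) ∧
      (∀ x y, QuadraticMap.polar (Q ∘ T) x y =
        c₀ * (x ⬝ᵥ (ptM (fun _ => Gk) : Matrix (Fin t → Fin k) (Fin t → Fin k) F) *ᵥ y)) ∧
      (∀ vs : Fin t → Fin k → F, (Q ∘ T) (pv vs) = 0) := by
  obtain ⟨c₀, hc₀, hform⟩ := hT
  -- the pure tensor `w`
  have hww' : (ptM (fun _ : Fin t => (Mw : Matrix (Fin k) (Fin k) F))) *
      ptM (fun _ : Fin t => ((Mw⁻¹ : Matrix.GeneralLinearGroup (Fin k) F) : Matrix (Fin k) (Fin k) F)) = 1 := by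
    rw [ptM_mul]
    have : (fun _ : Fin t => (Mw : Matrix (Fin k) (Fin k) F) *
        ((Mw⁻¹ : Matrix.GeneralLinearGroup (Fin k) F) : Matrix (Fin k) (Fin k) F)) = fun _ => 1 := by
      funext j; rw [← Units.val_mul, mul_inv_cancel, Units.val_one]
    rw [this, ptM_one]
  have hw'w : ptM (fun _ : Fin t => ((Mw⁻¹ : Matrix.GeneralLinearGroup (Fin k) F) : Matrix (Fin k) (Fin k) F)) *
      (ptM (fun _ : Fin t => (Mw : Matrix (Fin k) (Fin k) F))) = 1 := by
    rw [ptM_mul]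
    have : (fun _ : Fin t => ((Mw⁻¹ : Matrix.GeneralLinearGroup (Fin k) F) : Matrix (Fin k) (Fin k) F) *
        (Mw : Matrix (Fin k) (Fin k) F)) = fun _ => 1 := by
      funext j; rw [← Units.val_mul, inv_mul_cancel, Units.val_one]
    rw [this, ptM_one]
  obtain ⟨w, hw⟩ : ∃ w : Matrix.GeneralLinearGroup (Fin t → Fin k) F,
      (w : Matrix (Fin t → Fin k) (Fin t → Fin k) F) = ptM (fun _ : Fin t => (Mw : Matrix (Fin k) (Fin k) F)) :=
    ⟨⟨_, _, hww', hw'w⟩, rfl⟩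
  have hwW : w ∈ Geo.tensorWreathStandard k t F := by
    unfold Geo.tensorWreathStandard
    apply Subgroup.subset_closure
    left
    exact ⟨fun _ => Mw, fun x y => by rw [hw]; rfl⟩
  have tsp := ((Tsp.conj P).comp (Tsp.reindex (F := F) e)).comp (Tsp.conj w)
  refine ⟨_, _, c₀, hc₀, tsp, ?_, ?_, ?_, ?_⟩
  · -- the wreath groups
    unfold Geo.tensorWreathSubgroup
    conv_rhs => rw [← map_conj_self (Geo.tensorWreathStandard k t F) w hwW]
    rw [Subgroup.map_map, Subgroup.map_map]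
    rfl
  · intro c x
    show Q ((P : Matrix (Fin n) (Fin n) F) *ᵥ (((w : Matrix (Fin t → Fin k) (Fin t → Fin k) F) *ᵥ (c • x)) ∘ e)) =
      c ^ 2 * Q ((P : Matrix (Fin n) (Fin n) F) *ᵥ (((w : Matrix (Fin t → Fin k) (Fin t → Fin k) F) *ᵥ x) ∘ e))
    have : (P : Matrix (Fin n) (Fin n) F) *ᵥ (((w : Matrix (Fin t → Fin k) (Fin t → Fin k) F) *ᵥ (c • x)) ∘ e) =
        c • ((P : Matrix (Fin n) (Fin n) F) *ᵥ (((w : Matrix (Fin t → Fin k) (Fin t → Fin k) F) *ᵥ x) ∘ e)) := by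
      rw [Matrix.mulVec_smul]
      show (P : Matrix (Fin n) (Fin n) F) *ᵥ (c • (((w : Matrix (Fin t → Fin k) (Fin t → Fin k) F) *ᵥ x) ∘ e)) = _
      rw [Matrix.mulVec_smul]
    rw [this, hsmul]
  · intro x y
    show QuadraticMap.polar (fun x : (Fin t → Fin k) → F => Q ((P : Matrix (Fin n) (Fin n) F) *ᵥ
      (((w : Matrix (Fin t → Fin k) (Fin t → Fin k) F) *ᵥ x) ∘ e))) x y = _
    have h1 : QuadraticMap.polar (fun x : (Fin t → Fin k) → F => Q ((P : Matrix (Fin n) (Fin n) F) *ᵥ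
        (((w : Matrix (Fin t → Fin k) (Fin t → Fin k) F) *ᵥ x) ∘ e))) x y =
        QuadraticMap.polar Q ((P : Matrix (Fin n) (Fin n) F) *ᵥ (((w : Matrix (Fin t → Fin k) (Fin t → Fin k) F) *ᵥ x) ∘ e))
          ((P : Matrix (Fin n) (Fin n) F) *ᵥ (((w : Matrix (Fin t → Fin k) (Fin t → Fin k) F) *ᵥ y) ∘ e)) := by
      unfold QuadraticMap.polar
      simp only []
      rw [Matrix.mulVec_add]
      show Q ((P : Matrix (Fin n) (Fin n) F) *ᵥ ((((w : Matrix (Fin t → Fin k) (Fin t → Fin k) F) *ᵥ x) ∘ e) + (((w : Matrix (Fin t → Fin k) (Fin t → Fin k) F) *ᵥ y) ∘ e))) - _ - _ = _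
      rw [Matrix.mulVec_add]
    rw [h1, hform]
    congr 1
    have h2 : ∑ a, ∑ b, ((w : Matrix (Fin t → Fin k) (Fin t → Fin k) F) *ᵥ x) a * (∏ i, Geo.gramMatrix f₁ (a i) (b i)) *
        id (((w : Matrix (Fin t → Fin k) (Fin t → Fin k) F) *ᵥ y) b) =
        ((w : Matrix (Fin t → Fin k) (Fin t → Fin k) F) *ᵥ x) ⬝ᵥ (ptM (fun _ => Geo.gramMatrix f₁) *ᵥ ((w : Matrix (Fin t → Fin k) (Fin t → Fin k) F) *ᵥ y)) := by
      simp only [dotProduct, Matrix.mulVec, ptM_apply, id, Finset.mul_sum, mul_assoc]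
    rw [h2, dot_transfer, hw, ptM_transpose, ptM_mul, ptM_mul]
    congr 3
    funext j
    ext a b
    rw [← hM a b, form_eq_formOfGram f₁ id hf₁.add_left hf₁.smul_left hf₁.add_right hf₁.smul_right]
    simp only [Geo.formOfGram, Matrix.mul_apply, Matrix.transpose_apply, Matrix.mulVec_single_one,
      Matrix.col_apply, id, Finset.sum_mul]
    rw [Finset.sum_comm]
  · intro vs
    show Q ((P : Matrix (Fin n) (Fin n) F) *ᵥ (((w : Matrix (Fin t → Fin k) (Fin t → Fin k) F) *ᵥ pv vs) ∘ e)) = 0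
    rw [hw, ptM_mulVec_pv]
    exact hpure _

end Cfsg.Agent.Lib.Helper94.Tw
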