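import Cfsg.Agent.Lib.Helper94.Tw10

set_option autoImplicit false

/-!
The stabiliser in `Ω⁺` of a symplectic tensor power decomposition with factors of dimension at most four is not
maximal in characteristic two.
-/

namespace Cfsg.Agent.Lib.Helper94.Tw

open scoped Matrix
open Cfsg

set_option linter.unusedSectionVars false
set_option linter.unnecessarySimpa false
set_option linter.style.haveILetI false
set_option linter.unusedVariables false
set_option linter.unusedSimpArgs false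
set_option maxHeartbeats 1000000

variable {F : Type*} [Field F] {n k t : ℕ}

/-- a matrix whose columns have an invertible Gram matrix is invertible -/
lemma gl_of_gram (f₁ : (Fin k → F) → (Fin k → F) → F) (hf₁ : Geo.IsBilinearForm f₁)
    (Mm Gk : Matrix (Fin k) (Fin k) F) (hG : Gk * Gk = 1)
    (hM : ∀ a b, f₁ (Mm *ᵥ Pi.single a 1) (Mm *ᵥ Pi.single b 1) = Gk a b) :
    ∃ Mw : Matrix.GeneralLinearGroup (Fin k) F, (Mw : Matrix (Fin k) (Fin k) F) = Mm := by
  have hmat : Mm.transpose * Geo.gramMatrix f₁ * Mm = Gk := by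
    ext a b
    rw [← hM a b, form_eq_formOfGram f₁ id hf₁.add_left hf₁.smul_left hf₁.add_right hf₁.smul_right]
    simp only [Geo.formOfGram, Matrix.mul_apply, Matrix.transpose_apply, Matrix.mulVec_single_one,
      Matrix.col_apply, id, Finset.sum_mul]
    rw [Finset.sum_comm]
  have hleft : (Gk * Mm.transpose * Geo.gramMatrix f₁) * Mm = 1 := by
    rw [mul_assoc, mul_assoc, ← mul_assoc Mm.transpose, hmat, hG]
  exact ⟨⟨Mm, _, mul_eq_one_comm.mp hleft, hleft⟩, rfl⟩

lemma G2_sq : (G2 : Matrix (Fin 2) (Fin 2) F) * G2 = 1 := by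
  ext i j; fin_cases i <;> fin_cases j <;> simp [G2]

lemma G4_sq : (G4 : Matrix (Fin 4) (Fin 4) F) * G4 = 1 := by
  ext i j; fin_cases i <;> fin_cases j <;> simp [G4, Matrix.mul_apply, Fin.sum_univ_four]

theorem main [Fintype F] (hn : 13 ≤ n) (Q : (Fin n → F) → F) (hQ : Geo.IsNondegenerateQuadraticForm Q)
    (hchar : ¬ Odd (Fintype.card F)) (k t : ℕ) (ht : 2 ≤ t) (hk : k ≤ 4)
    (e : (Fin n) ≃ (Fin t → Fin k)) (P : Matrix.GeneralLinearGroup (Fin n) F)
    (f₁ : (Fin k → F) → (Fin k → F) → F) (hf₁ : Geo.IsSymplecticForm f₁)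
    (hT : Geo.IsTensorPowerFormStructure id (QuadraticMap.polar Q) f₁ e P)
    (hpure : ∀ xs : Fin t → (Fin k → F),
      Q (Matrix.mulVec (P : Matrix (Fin n) (Fin n) F) ((fun a : Fin t → Fin k => ∏ i, xs i (a i)) ∘ e)) = 0) :
    ∃ K : Subgroup (Matrix.GeneralLinearGroup (Fin n) F),
      Geo.tensorWreathSubgroup k t e P ⊓ Geo.omegaGL Q < K ∧ K < Geo.omegaGL Q := by
  classical
  -- characteristic two
  have h2 : (2 : F) = 0 := by
    obtain ⟨f, hp, hqf⟩ := FiniteField.card F (ringChar F)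
    haveI : CharP F (ringChar F) := ringChar.charP F
    have hp2 : ringChar F = 2 := by
      rcases hp.eq_two_or_odd' with h | h
      · exact h
      · exfalso; apply hchar; rw [hqf]; exact h.pow
    have := CharP.cast_eq_zero F (ringChar F)
    rw [hp2] at this
    exact_mod_cast this
  have hneg : ∀ x : F, -x = x := by
    intro x
    have : x + x = 0 := by rw [← two_mul, h2, zero_mul]
    exact neg_eq_of_add_eq_zero_left this
  have hb := hf₁.bilinear
  -- a symplectic basis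
  obtain ⟨ω, hω⟩ : ∃ ω : LinearMap.BilinForm F (Fin k → F), ∀ x y, ω x y = f₁ x y :=
    ⟨LinearMap.mk₂ F f₁ hb.add_left (fun c x y => by rw [hb.smul_left, smul_eq_mul]) hb.add_right
      (fun c x y => by rw [hb.smul_right, smul_eq_mul]), fun x y => rfl⟩
  have halt : ω.IsAlt := fun x => by rw [hω]; exact hf₁.alternating x
  have hnd : ω.Nondegenerate := by
    constructor
    · intro x hx
      by_contra hx0
      obtain ⟨_, ⟨y, hy⟩⟩ := hf₁.nondegenerate x hx0
      exact hy (by rw [← hω]; exact hx y)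
    · intro x hx
      by_contra hx0
      obtain ⟨⟨y, hy⟩, _⟩ := hf₁.nondegenerate x hx0
      exact hy (by rw [← hω]; exact hx y)
  obtain ⟨N, hN, ef, ff, hee, hff, hef⟩ := Cfsg.Agent.Lib.Helper44.darboux_family_exists (Fin k → F) ω halt hnd
  rw [Module.finrank_fin_fun] at hN
  simp only [hω] at hee hff hef
  have hfe : ∀ i j, f₁ (ff i) (ef j) = if j = i then 1 else 0 := by
    intro i j
    rw [hf₁.skew, hef, hneg]
  have hcard : n = k ^ t := by
    have := Fintype.card_congr e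
    simpa using this
  have hsmul := hQ.smul
  have hN2 : N ≤ 2 := by omega
  interval_cases N
  · -- k = 0
    exfalso
    have hk0 : k = 0 := by omega
    rw [hk0, zero_pow (by omega)] at hcard
    omega
  · -- k = 2
    have hk2 : k = 2 := by omega
    subst hk2
    have ht4 : 4 ≤ t := by
      by_contra hlt
      have : t ≤ 3 := by omega
      interval_cases t <;> omega
    obtain ⟨Mm, hMm⟩ : ∃ Mm : Matrix (Fin 2) (Fin 2) F, Mm = Matrix.of (fun a b => ![ef 0, ff 0] b a) := ⟨_, rfl⟩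
    have hcol : ∀ b, Mm *ᵥ Pi.single b 1 = ![ef 0, ff 0] b := by
      intro b
      rw [Matrix.mulVec_single_one, hMm]
      funext a; rfl
    have hM : ∀ a b, f₁ (Mm *ᵥ Pi.single a 1) (Mm *ᵥ Pi.single b 1) = (G2 : Matrix (Fin 2) (Fin 2) F) a b := by
      intro a b
      rw [hcol, hcol]
      fin_cases a <;> fin_cases b <;> simp [G2, hee, hff, hef, hfe]
    obtain ⟨Mw, hMw⟩ := gl_of_gram f₁ hb Mm G2 G2_sq hM
    rw [← hMw] at hM
    obtain ⟨Φ, T, c₀, hc₀, tsp, hWr, hsm, hpo, hpu⟩ := normalize Q hsmul e P f₁ hb hT hpure Mw G2 hM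
    rw [← hWr]
    apply tsp.between Q
    exact inst2 h2 ⟨hsm, hpo, hpu⟩ ht4
  · -- k = 4
    have hk4 : k = 4 := by omega
    subst hk4
    obtain ⟨Mm, hMm⟩ : ∃ Mm : Matrix (Fin 4) (Fin 4) F,
        Mm = Matrix.of (fun a b => ![ef 0, ef 1, ff 1, ff 0] b a) := ⟨_, rfl⟩
    have hcol : ∀ b, Mm *ᵥ Pi.single b 1 = ![ef 0, ef 1, ff 1, ff 0] b := by
      intro b
      rw [Matrix.mulVec_single_one, hMm]
      funext a; rfl
    have hM : ∀ a b, f₁ (Mm *ᵥ Pi.single a 1) (Mm *ᵥ Pi.single b 1) = (G4 : Matrix (Fin 4) (Fin 4) F) a b := by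
      intro a b
      rw [hcol, hcol]
      fin_cases a <;> fin_cases b <;> simp [G4, hee, hff, hef, hfe]
    obtain ⟨Mw, hMw⟩ := gl_of_gram f₁ hb Mm G4 G4_sq hM
    rw [← hMw] at hM
    obtain ⟨Φ, T, c₀, hc₀, tsp, hWr, hsm, hpo, hpu⟩ := normalize Q hsmul e P f₁ hb hT hpure Mw G4 hM
    rw [← hWr]
    apply tsp.between Q
    exact inst4 h2 hc₀ hsm hpo hpu ht

end Cfsg.Agent.Lib.Helper94.Tw
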