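import Cfsg.Agent.Lib.Helper94.Tw1

set_option autoImplicit false

/-!
Transport of isometry groups, `Ω` and "strictly between" along coordinate changes.
-/

namespace Cfsg.Agent.Lib.Helper94.Tw

open scoped Matrix
open Cfsg

set_option linter.unusedSectionVars false
set_option linter.unnecessarySimpa false
set_option linter.style.haveILetI false
set_option linter.unusedVariables false

variable {F : Type*} [Field F] {ι κ μ : Type} [Fintype ι] [DecidableEq ι] [Fintype κ] [DecidableEq κ]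
  [Fintype μ] [DecidableEq μ]

lemma mem_iso_iff (Q : (ι → F) → F) (g : Matrix.GeneralLinearGroup ι F) :
    g ∈ Cfsg.isometryGroup F Q ↔ ∀ x, Q ((g : Matrix ι ι F) *ᵥ x) = Q x := by
  constructor
  · intro h x
    exact h x 0
  · intro h x _
    exact h x

lemma omegaGL_eq_commutator (Q : (ι → F) → F) :
    Geo.omegaGL Q = ⁅Cfsg.isometryGroup F Q, Cfsg.isometryGroup F Q⁆ :=
  Subgroup.map_subtype_commutator _

/-- a coordinate change: a group isomorphism `Φ` of general linear groups and a compatible bijection `T` of the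
underlying spaces -/
structure Tsp (Φ : Matrix.GeneralLinearGroup κ F ≃* Matrix.GeneralLinearGroup ι F)
    (T : (κ → F) → (ι → F)) : Prop where
  surj : Function.Surjective T
  compat : ∀ (g : Matrix.GeneralLinearGroup κ F) (x : κ → F),
    (Φ g : Matrix ι ι F) *ᵥ T x = T ((g : Matrix κ κ F) *ᵥ x)

lemma Tsp.comp {Φ₁ : Matrix.GeneralLinearGroup κ F ≃* Matrix.GeneralLinearGroup ι F} {T₁ : (κ → F) → (ι → F)}
    {Φ₂ : Matrix.GeneralLinearGroup μ F ≃* Matrix.GeneralLinearGroup κ F} {T₂ : (μ → F) → (κ → F)}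
    (h₁ : Tsp Φ₁ T₁) (h₂ : Tsp Φ₂ T₂) : Tsp (Φ₂.trans Φ₁) (T₁ ∘ T₂) where
  surj := h₁.surj.comp h₂.surj
  compat g x := by
    show (Φ₁ (Φ₂ g) : Matrix ι ι F) *ᵥ T₁ (T₂ x) = T₁ (T₂ _)
    rw [h₁.compat, h₂.compat]

/-- conjugation by an invertible matrix -/
lemma Tsp.conj (w : Matrix.GeneralLinearGroup ι F) :
    Tsp (MulAut.conj w) (fun x => (w : Matrix ι ι F) *ᵥ x) where
  surj x := ⟨((w⁻¹ : Matrix.GeneralLinearGroup ι F) : Matrix ι ι F) *ᵥ x, by
    show (w : Matrix ι ι F) *ᵥ (((w⁻¹ : Matrix.GeneralLinearGroup ι F) : Matrix ι ι F) *ᵥ x) = x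
    rw [Matrix.mulVec_mulVec, ← Units.val_mul, mul_inv_cancel, Units.val_one, Matrix.one_mulVec]⟩
  compat g x := by
    show ((w * g * w⁻¹ : Matrix.GeneralLinearGroup ι F) : Matrix ι ι F) *ᵥ ((w : Matrix ι ι F) *ᵥ x) = _
    rw [Matrix.mulVec_mulVec, ← Units.val_mul, inv_mul_cancel_right, Units.val_mul, Matrix.mulVec_mulVec]

/-- reindexing -/
lemma Tsp.reindex (e : ι ≃ κ) :
    Tsp (Geo.glReindex (F := F) e.symm) (fun x : κ → F => x ∘ e) where
  surj x := ⟨x ∘ e.symm, by funext i; simp⟩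
  compat g x := by
    have h1 : ((Geo.glReindex (F := F) e.symm g : Matrix.GeneralLinearGroup ι F) : Matrix ι ι F) =
        (g : Matrix κ κ F).submatrix e e := by
      simp [Geo.glReindex, Matrix.reindex_apply]
    rw [h1, Matrix.submatrix_mulVec_equiv]
    have : (x ∘ e) ∘ e.symm = x := by funext a; simp
    rw [this]

variable {Φ : Matrix.GeneralLinearGroup κ F ≃* Matrix.GeneralLinearGroup ι F} {T : (κ → F) → (ι → F)}

lemma Tsp.iso (h : Tsp Φ T) (Q : (ι → F) → F) :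
    Cfsg.isometryGroup F Q = (Cfsg.isometryGroup F (Q ∘ T)).map Φ.toMonoidHom := by
  ext g
  rw [Subgroup.mem_map]
  constructor
  · intro hg
    rw [mem_iso_iff] at hg
    refine ⟨Φ.symm g, ?_, by simp⟩
    rw [mem_iso_iff]
    intro x
    show Q (T _) = Q (T x)
    rw [← h.compat, MulEquiv.apply_symm_apply, hg]
  · rintro ⟨y, hy, rfl⟩
    rw [mem_iso_iff] at hy ⊢
    intro x
    obtain ⟨x', rfl⟩ := h.surj x
    show Q ((Φ y : Matrix ι ι F) *ᵥ T x') = _
    rw [h.compat]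
    exact hy x'

lemma Tsp.omega (h : Tsp Φ T) (Q : (ι → F) → F) :
    Geo.omegaGL Q = (Geo.omegaGL (Q ∘ T)).map Φ.toMonoidHom := by
  rw [omegaGL_eq_commutator, omegaGL_eq_commutator, Subgroup.map_commutator, ← h.iso Q]

lemma Tsp.between (h : Tsp Φ T) (Q : (ι → F) → F) (H' : Subgroup (Matrix.GeneralLinearGroup κ F))
    (hK : ∃ K' : Subgroup (Matrix.GeneralLinearGroup κ F),
      H' ⊓ Geo.omegaGL (Q ∘ T) < K' ∧ K' < Geo.omegaGL (Q ∘ T)) :
    ∃ K : Subgroup (Matrix.GeneralLinearGroup ι F),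
      H'.map Φ.toMonoidHom ⊓ Geo.omegaGL Q < K ∧ K < Geo.omegaGL Q := by
  obtain ⟨K', h1, h2⟩ := hK
  have hinj : Function.Injective Φ.toMonoidHom := Φ.injective
  refine ⟨K'.map Φ.toMonoidHom, ?_, ?_⟩
  · rw [h.omega Q, ← Subgroup.map_inf _ _ _ hinj]
    exact lt_of_le_of_ne (Subgroup.map_mono h1.le) (fun heq => h1.ne (Subgroup.map_injective hinj heq))
  · rw [h.omega Q]
    exact lt_of_le_of_ne (Subgroup.map_mono h2.le) (fun heq => h2.ne (Subgroup.map_injective hinj heq))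

end Cfsg.Agent.Lib.Helper94.Tw
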