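import Cfsg.Agent.Lib.Helper94.Tw2

set_option autoImplicit false

/-!
The core: on the tensor power of two-dimensional spaces in characteristic two, the normaliser in `Ω` of the space
`L` spanned by `1` and the one-factor operators `E_j`, `F_j` lies strictly between a subgroup `H` normalising `L`
and `Ω`.
-/

namespace Cfsg.Agent.Lib.Helper94.Tw

open scoped Matrix commutatorElement
open Cfsg

set_option linter.unusedSectionVars false
set_option linter.unnecessarySimpa false
set_option linter.style.haveILetI false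
set_option linter.unusedVariables false
set_option maxHeartbeats 1000000

variable {F : Type*} [Field F] {J : Type} [Fintype J] [DecidableEq J]

def E2 : Matrix (Fin 2) (Fin 2) F := !![0, 0; 1, 0]
def F2 : Matrix (Fin 2) (Fin 2) F := !![0, 1; 0, 0]
def G2 : Matrix (Fin 2) (Fin 2) F := !![0, 1; 1, 0]

lemma E2_sq : (E2 : Matrix (Fin 2) (Fin 2) F) * E2 = 0 := by
  ext i j; fin_cases i <;> fin_cases j <;> simp [E2, Matrix.mul_apply, Fin.sum_univ_two]

lemma F2_sq : (F2 : Matrix (Fin 2) (Fin 2) F) * F2 = 0 := by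
  ext i j; fin_cases i <;> fin_cases j <;> simp [F2, Matrix.mul_apply, Fin.sum_univ_two]

lemma E2F2 : (E2 : Matrix (Fin 2) (Fin 2) F) * F2 + F2 * E2 = 1 := by
  ext i j; fin_cases i <;> fin_cases j <;> simp [E2, F2]

lemma F2E2 : (F2 : Matrix (Fin 2) (Fin 2) F) * E2 + E2 * F2 = 1 := by
  rw [add_comm]; exact E2F2

lemma E2_sa : (E2 : Matrix (Fin 2) (Fin 2) F).transpose * G2 = G2 * E2 := by
  ext i j; fin_cases i <;> fin_cases j <;> simp [E2, G2, Matrix.mul_apply, Fin.sum_univ_two]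

lemma F2_sa : (F2 : Matrix (Fin 2) (Fin 2) F).transpose * G2 = G2 * F2 := by
  ext i j; fin_cases i <;> fin_cases j <;> simp [F2, G2, Matrix.mul_apply, Fin.sum_univ_two]

lemma one_sa : (1 : Matrix (Fin 2) (Fin 2) F).transpose * G2 = G2 * 1 := by simp

lemma G2_diag (s : Fin 2) : (Pi.single s (1 : F) : Fin 2 → F) ⬝ᵥ (G2 : Matrix (Fin 2) (Fin 2) F) *ᵥ Pi.single s 1 = 0 := by
  fin_cases s <;> simp [G2]

variable (J) in
/-- the Gram matrix of the tensor power form -/
def GV : Matrix (J → Fin 2) (J → Fin 2) F := ptM (fun _ => G2)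

variable (F J) in
/-- the space spanned by the identity and the one-factor operators `E_j`, `F_j` -/
def Lsp : Submodule F (Matrix (J → Fin 2) (J → Fin 2) F) :=
  Submodule.span F ({1} ∪ Set.range (fun j : J => iota j (E2 : Matrix (Fin 2) (Fin 2) F)) ∪
    Set.range (fun j : J => iota j (F2 : Matrix (Fin 2) (Fin 2) F)))

lemma one_mem_Lsp : (1 : Matrix (J → Fin 2) (J → Fin 2) F) ∈ Lsp F J :=
  Submodule.subset_span (Or.inl (Or.inl rfl))

lemma E_mem_Lsp (j : J) : iota j (E2 : Matrix (Fin 2) (Fin 2) F) ∈ Lsp F J :=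
  Submodule.subset_span (Or.inl (Or.inr ⟨j, rfl⟩))

lemma F_mem_Lsp (j : J) : iota j (F2 : Matrix (Fin 2) (Fin 2) F) ∈ Lsp F J :=
  Submodule.subset_span (Or.inr ⟨j, rfl⟩)

/-- the model: a quadratic function whose polar form is the tensor power form and which vanishes on pure tensors -/
structure Model (Q : ((J → Fin 2) → F) → F) (c₀ : F) : Prop where
  smul : ∀ (c : F) (x : (J → Fin 2) → F), Q (c • x) = c ^ 2 * Q x
  polar : ∀ x y, QuadraticMap.polar Q x y = c₀ * (x ⬝ᵥ (GV J : Matrix (J → Fin 2) (J → Fin 2) F) *ᵥ y)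
  pure : ∀ vs : J → Fin 2 → F, Q (pv vs) = 0

section general
variable {κ : Type} [Fintype κ] [DecidableEq κ]

lemma add_self_mat (h2 : (2 : F) = 0) (M : Matrix κ κ F) : M + M = 0 := by
  rw [← two_smul F M, h2, zero_smul]

lemma one_add_sq (h2 : (2 : F) = 0) (N : Matrix κ κ F) (hN : N * N = 0) : (1 + N) * (1 + N) = 1 := by
  have : (1 + N) * (1 + N) = 1 + (N + N) + N * N := by noncomm_ring
  rw [this, add_self_mat h2, hN]; simp

/-- the involution `1 + N` for `N² = 0` in characteristic two -/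
def invU (h2 : (2 : F) = 0) (N : Matrix κ κ F) (hN : N * N = 0) : Matrix.GeneralLinearGroup κ F :=
  ⟨1 + N, 1 + N, one_add_sq h2 N hN, one_add_sq h2 N hN⟩

lemma invU_val (h2 : (2 : F) = 0) (N : Matrix κ κ F) (hN : N * N = 0) :
    ((invU h2 N hN : Matrix.GeneralLinearGroup κ F) : Matrix κ κ F) = 1 + N := rfl

lemma invU_inv_val (h2 : (2 : F) = 0) (N : Matrix κ κ F) (hN : N * N = 0) :
    (((invU h2 N hN)⁻¹ : Matrix.GeneralLinearGroup κ F) : Matrix κ κ F) = 1 + N := rfl

lemma comm_identity {R : Type*} [Ring R] (h2 : ∀ M : R, M + M = 0) (X Y : R) (hX : X * X = 0) (hY : Y * Y = 0)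
    (hXYX : X * Y * X = 0) (hYXY : Y * X * Y = 0) :
    (1 + X) * (1 + Y) * (1 + X) * (1 + Y) = 1 + (X * Y + Y * X) := by
  have e : (1 + X) * (1 + Y) * (1 + X) * (1 + Y) = 1 + (X * Y + Y * X) + ((X + X) + (Y + Y) + (X * Y + X * Y) +
      X * X + Y * Y + X * X * Y + Y * X * Y + X * Y * X + X * (Y * Y) + X * Y * X * Y) := by noncomm_ring
  rw [e, h2 X, h2 Y, h2 (X * Y), hX, hY, hXYX, hYXY]; simp

lemma invU_comm (h2 : (2 : F) = 0) (X Y N : Matrix κ κ F) (hX : X * X = 0) (hY : Y * Y = 0) (hN : N * N = 0)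
    (hXYX : X * Y * X = 0) (hYXY : Y * X * Y = 0) (hXY : X * Y + Y * X = N) :
    invU h2 N hN = ⁅invU h2 X hX, invU h2 Y hY⁆ := by
  apply Units.ext
  rw [commutatorElement_def]
  simp only [Units.val_mul, invU_val, invU_inv_val]
  rw [comm_identity (add_self_mat h2) X Y hX hY hXYX hYXY, hXY]

lemma dot_transfer (y G : Matrix κ κ F) (x x' : κ → F) :
    (y *ᵥ x) ⬝ᵥ (G *ᵥ (y *ᵥ x')) = x ⬝ᵥ ((y.transpose * G * y) *ᵥ x') := by
  rw [← Matrix.vecMul_transpose, Matrix.mulVec_mulVec, Matrix.dotProduct_mulVec, Matrix.vecMul_vecMul,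
    ← Matrix.dotProduct_mulVec, mul_assoc]

lemma Q_add_polar (Q : (κ → F) → F) (a b : κ → F) : Q (a + b) = Q a + Q b + QuadraticMap.polar Q a b := by
  unfold QuadraticMap.polar; ring

/-- isometry criterion: preserve the polar form and the values on the standard basis -/
lemma iso_crit (Q : (κ → F) → F) (hsmul : ∀ (c : F) (x : κ → F), Q (c • x) = c ^ 2 * Q x) (y : Matrix κ κ F)
    (hpol : ∀ x x', QuadraticMap.polar Q (y *ᵥ x) (y *ᵥ x') = QuadraticMap.polar Q x x')
    (hb : ∀ a, Q (y *ᵥ Pi.single a 1) = Q (Pi.single a 1)) (x : κ → F) : Q (y *ᵥ x) = Q x := by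
  have key := expand_add (fun x => Q (y *ᵥ x) - Q x) (fun c => c ^ 2)
    (fun x x' => by
      simp only [Matrix.mulVec_add]
      rw [Q_add_polar Q (y *ᵥ x) (y *ᵥ x'), Q_add_polar Q x x', hpol]; ring)
    (fun c x => by
      simp only [Matrix.mulVec_smul]
      rw [hsmul, hsmul]; ring) x
  simp only [hb, sub_self, mul_zero, Finset.sum_const_zero] at key
  exact sub_eq_zero.mp key

end general

section core
variable (h2 : (2 : F) = 0) {Q : ((J → Fin 2) → F) → F} {c₀ : F}

/-- `1 + N` is an isometry when `N` is a pure tensor of self-adjoint factors with one square zero and one identity factor -/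
lemma invU_mem_iso (M : Model Q c₀) (Ns : J → Matrix (Fin 2) (Fin 2) F)
    (hsa : ∀ j, (Ns j).transpose * G2 = G2 * Ns j) (hN : ptM Ns * ptM Ns = 0) (j₃ : J) (h3 : Ns j₃ = 1) :
    invU h2 (ptM Ns) hN ∈ Cfsg.isometryGroup F Q := by
  rw [mem_iso_iff]
  rw [invU_val]
  have hsaV : (ptM Ns).transpose * (GV J : Matrix (J → Fin 2) (J → Fin 2) F) = GV J * ptM Ns := by
    unfold GV
    rw [ptM_transpose, ptM_mul, ptM_mul]
    congr 1; funext j; exact hsa j
  have hG : (1 + ptM Ns).transpose * (GV J : Matrix (J → Fin 2) (J → Fin 2) F) * (1 + ptM Ns) = GV J := by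
    rw [Matrix.transpose_add, Matrix.transpose_one]
    have : (1 + (ptM Ns).transpose) * (GV J : Matrix (J → Fin 2) (J → Fin 2) F) * (1 + ptM Ns) =
        GV J + ((ptM Ns).transpose * GV J + GV J * ptM Ns) + (ptM Ns).transpose * GV J * ptM Ns := by noncomm_ring
    rw [this, hsaV, add_self_mat h2, mul_assoc, hN]; simp
  apply iso_crit Q M.smul
  · intro x x'
    rw [M.polar, M.polar, dot_transfer, hG]
  · intro a
    rw [single_eq_pv, Matrix.add_mulVec, Matrix.one_mulVec, ptM_mulVec_pv, Q_add_polar Q, M.pure, M.pure,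
      M.polar]
    unfold GV
    rw [ptM_mulVec_pv, pv_dot_pv, Finset.prod_eq_zero (Finset.mem_univ j₃), mul_zero, add_zero, add_zero]
    show Pi.single (a j₃) (1 : F) ⬝ᵥ (G2 : Matrix (Fin 2) (Fin 2) F) *ᵥ (Ns j₃ *ᵥ Pi.single (a j₃) 1) = 0
    rw [h3, Matrix.one_mulVec]
    exact G2_diag (a j₃)

end core

end Cfsg.Agent.Lib.Helper94.Tw
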