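import Cfsg.Agent.Lib.Helper94.Tw3

set_option autoImplicit false

namespace Cfsg.Agent.Lib.Helper94.Tw

open scoped Matrix commutatorElement
open Cfsg

set_option linter.unusedSectionVars false
set_option linter.unnecessarySimpa false
set_option linter.style.haveILetI false
set_option linter.unusedVariables false
set_option linter.unusedSimpArgs false
set_option maxHeartbeats 1000000

variable {F : Type*} [Field F] {J : Type} [Fintype J] [DecidableEq J]

def fam1 (j : J) (A : Matrix (Fin 2) (Fin 2) F) : J → Matrix (Fin 2) (Fin 2) F :=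
  Function.update (fun _ => 1) j A

def fam2 (j : J) (A : Matrix (Fin 2) (Fin 2) F) (j' : J) (A' : Matrix (Fin 2) (Fin 2) F) :
    J → Matrix (Fin 2) (Fin 2) F :=
  Function.update (fam1 j A) j' A'

def fam3 (j : J) (A : Matrix (Fin 2) (Fin 2) F) (j' : J) (A' : Matrix (Fin 2) (Fin 2) F)
    (j'' : J) (A'' : Matrix (Fin 2) (Fin 2) F) : J → Matrix (Fin 2) (Fin 2) F :=
  Function.update (fam2 j A j' A') j'' A''

lemma iota_eq_fam1 (j : J) (A : Matrix (Fin 2) (Fin 2) F) : iota j A = ptM (fam1 j A) := rfl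

lemma sa_cases (A : Matrix (Fin 2) (Fin 2) F) (h : A = 1 ∨ A = E2 ∨ A = F2) :
    A.transpose * G2 = G2 * A := by
  rcases h with rfl | rfl | rfl
  · exact one_sa
  · exact E2_sa
  · exact F2_sa

/-- the subgroup of `Ω` normalising `L` -/
def normK (Q : ((J → Fin 2) → F) → F) : Subgroup (Matrix.GeneralLinearGroup (J → Fin 2) F) where
  carrier := {g | g ∈ Geo.omegaGL Q ∧ ∀ A ∈ Lsp F J,
    (g : Matrix (J → Fin 2) (J → Fin 2) F) * A * ((g⁻¹ : Matrix.GeneralLinearGroup (J → Fin 2) F) : Matrix _ _ F) ∈ Lsp F J ∧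
    ((g⁻¹ : Matrix.GeneralLinearGroup (J → Fin 2) F) : Matrix _ _ F) * A * (g : Matrix (J → Fin 2) (J → Fin 2) F) ∈ Lsp F J}
  mul_mem' := by
    rintro g h ⟨hg, hgL⟩ ⟨hh, hhL⟩
    refine ⟨mul_mem hg hh, fun A hA => ⟨?_, ?_⟩⟩
    · have : ((g * h : Matrix.GeneralLinearGroup (J → Fin 2) F) : Matrix _ _ F) * A *
          (((g * h)⁻¹ : Matrix.GeneralLinearGroup (J → Fin 2) F) : Matrix _ _ F) =
          (g : Matrix _ _ F) * ((h : Matrix _ _ F) * A * ((h⁻¹ : Matrix.GeneralLinearGroup (J → Fin 2) F) : Matrix _ _ F)) *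
            ((g⁻¹ : Matrix.GeneralLinearGroup (J → Fin 2) F) : Matrix _ _ F) := by
        rw [mul_inv_rev, Units.val_mul, Units.val_mul]; simp only [mul_assoc]
      rw [this]
      exact (hgL _ (hhL A hA).1).1
    · have : (((g * h)⁻¹ : Matrix.GeneralLinearGroup (J → Fin 2) F) : Matrix _ _ F) * A *
          ((g * h : Matrix.GeneralLinearGroup (J → Fin 2) F) : Matrix _ _ F) =
          ((h⁻¹ : Matrix.GeneralLinearGroup (J → Fin 2) F) : Matrix _ _ F) *
            (((g⁻¹ : Matrix.GeneralLinearGroup (J → Fin 2) F) : Matrix _ _ F) * A * (g : Matrix _ _ F)) *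
            (h : Matrix _ _ F) := by
        rw [mul_inv_rev, Units.val_mul, Units.val_mul]; simp only [mul_assoc]
      rw [this]
      exact (hhL _ (hgL A hA).2).2
  one_mem' := by
    refine ⟨one_mem _, fun A hA => ?_⟩
    simp only [inv_one, Units.val_one, one_mul, mul_one]
    exact ⟨hA, hA⟩
  inv_mem' := by
    rintro g ⟨hg, hgL⟩
    refine ⟨inv_mem hg, fun A hA => ?_⟩
    rw [inv_inv]
    exact ⟨(hgL A hA).2, (hgL A hA).1⟩

/-- conjugation by an involution `1 + N` preserves `L` as soon as it maps the generators into `L` -/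
lemma conj_mem_Lsp (g : Matrix (J → Fin 2) (J → Fin 2) F) (g' : Matrix (J → Fin 2) (J → Fin 2) F)
    (h1 : g * 1 * g' ∈ Lsp F J)
    (hE : ∀ j, g * iota j (E2 : Matrix (Fin 2) (Fin 2) F) * g' ∈ Lsp F J)
    (hF : ∀ j, g * iota j (F2 : Matrix (Fin 2) (Fin 2) F) * g' ∈ Lsp F J) :
    ∀ A ∈ Lsp F J, g * A * g' ∈ Lsp F J := by
  intro A hA
  have hle : Lsp F J ≤ (Lsp F J).comap ((LinearMap.mulLeft F g).comp (LinearMap.mulRight F g')) := by
    unfold Lsp
    rw [Submodule.span_le]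
    rintro x ((rfl | ⟨j, rfl⟩) | ⟨j, rfl⟩)
    · rw [SetLike.mem_coe, Submodule.mem_comap]
      show g * ((1 : Matrix _ _ F) * g') ∈ Lsp F J
      rw [← mul_assoc]; exact h1
    · rw [SetLike.mem_coe, Submodule.mem_comap]
      show g * (iota j E2 * g') ∈ Lsp F J
      rw [← mul_assoc]; exact hE j
    · rw [SetLike.mem_coe, Submodule.mem_comap]
      show g * (iota j F2 * g') ∈ Lsp F J
      rw [← mul_assoc]; exact hF j
  have := hle hA
  rw [Submodule.mem_comap] at this
  have e : ((LinearMap.mulLeft F g).comp (LinearMap.mulRight F g')) A = g * A * g' := by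
    simp [mul_assoc]
  rw [e] at this
  exact this

lemma conj_expand {R : Type*} [Ring R] (N l : R) : (1 + N) * l * (1 + N) = l + (N * l + l * N) + N * l * N := by
  noncomm_ring

/-- conjugating a one-factor operator by the involution `1 + N`, `N` a pure tensor with a square-zero factor
elsewhere -/
lemma conj_gen (Ns : J → Matrix (Fin 2) (Fin 2) F) (j : J) (A : Matrix (Fin 2) (Fin 2) F) (i₀ : J)
    (hi₀ : i₀ ≠ j) (hz : Ns i₀ * Ns i₀ = 0) :
    (1 + ptM Ns) * iota j A * (1 + ptM Ns) =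
      iota j A + ptM (Function.update Ns j (Ns j * A + A * Ns j)) := by
  rw [conj_expand, ptM_mul_iota, iota_mul_ptM, ← ptM_update_add, ptM_mul]
  have : ptM (fun i => Function.update Ns j (Ns j * A) i * Ns i) = 0 :=
    ptM_eq_zero _ ⟨i₀, by rw [Function.update_of_ne hi₀, hz]⟩
  rw [this, add_zero]

lemma anti_E2_E2 (h2 : (2 : F) = 0) : (E2 : Matrix (Fin 2) (Fin 2) F) * E2 + E2 * E2 = 0 := by
  rw [E2_sq, add_zero]

lemma anti_one (h2 : (2 : F) = 0) (A : Matrix (Fin 2) (Fin 2) F) : 1 * A + A * 1 = 0 := by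
  rw [one_mul, mul_one]; exact add_self_mat h2 A

end Cfsg.Agent.Lib.Helper94.Tw
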