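import Cfsg.Agent.Lib.Helper94.Tw4

set_option autoImplicit false

namespace Cfsg.Agent.Lib.Helper94.Tw

open scoped Matrix commutatorElement
open Cfsg

set_option linter.unusedSectionVars false
set_option linter.unnecessarySimpa false
set_option linter.style.haveILetI false
set_option linter.unusedVariables false
set_option linter.unusedSimpArgs false
set_option maxHeartbeats 2000000

variable {F : Type*} [Field F] {J : Type} [Fintype J] [DecidableEq J]

/-- the core theorem -/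
theorem core (h2 : (2 : F) = 0) {Q : ((J → Fin 2) → F) → F} {c₀ : F} (M : Model Q c₀)
    (j₁ j₂ j₃ j₄ : J) (h12 : j₁ ≠ j₂) (h13 : j₁ ≠ j₃) (h14 : j₁ ≠ j₄) (h23 : j₂ ≠ j₃) (h24 : j₂ ≠ j₄)
    (h34 : j₃ ≠ j₄) (H : Subgroup (Matrix.GeneralLinearGroup (J → Fin 2) F))
    (Ha : ∀ h ∈ H, h ∈ Cfsg.isometryGroup F Q → ∀ A ∈ Lsp F J,
      (h : Matrix (J → Fin 2) (J → Fin 2) F) * A *
        ((h⁻¹ : Matrix.GeneralLinearGroup (J → Fin 2) F) : Matrix _ _ F) ∈ Lsp F J)
    (Hb : ∀ h ∈ H, (h : Matrix (J → Fin 2) (J → Fin 2) F) ≠ 1 + ptM (fam2 j₁ E2 j₂ E2)) :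
    ∃ K : Subgroup (Matrix.GeneralLinearGroup (J → Fin 2) F),
      H ⊓ Geo.omegaGL Q < K ∧ K < Geo.omegaGL Q := by
  classical
  have h21 := h12.symm
  have h31 := h13.symm
  have h41 := h14.symm
  have h32 := h23.symm
  have h42 := h24.symm
  have h43 := h34.symm
  have hΩiso : Geo.omegaGL Q ≤ Cfsg.isometryGroup F Q := by
    unfold Geo.omegaGL; exact Subgroup.map_subtype_le _
  -- the families
  obtain ⟨Ng, hNg⟩ : ∃ Ng, Ng = fam2 j₁ (E2 : Matrix (Fin 2) (Fin 2) F) j₂ E2 := ⟨_, rfl⟩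
  obtain ⟨Xs, hXs⟩ : ∃ Xs, Xs = fam2 j₁ (E2 : Matrix (Fin 2) (Fin 2) F) j₃ F2 := ⟨_, rfl⟩
  obtain ⟨Ys, hYs⟩ : ∃ Ys, Ys = fam2 j₃ (E2 : Matrix (Fin 2) (Fin 2) F) j₂ E2 := ⟨_, rfl⟩
  obtain ⟨N3, hN3⟩ : ∃ N3, N3 = fam3 j₁ (E2 : Matrix (Fin 2) (Fin 2) F) j₂ E2 j₃ E2 := ⟨_, rfl⟩
  obtain ⟨Xs', hXs'⟩ : ∃ Xs', Xs' = fam2 j₁ (E2 : Matrix (Fin 2) (Fin 2) F) j₄ F2 := ⟨_, rfl⟩
  obtain ⟨Ys', hYs'⟩ : ∃ Ys', Ys' = fam3 j₄ (E2 : Matrix (Fin 2) (Fin 2) F) j₂ E2 j₃ E2 := ⟨_, rfl⟩
  -- values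
  have vNg1 : Ng j₁ = E2 := by rw [hNg]; simp [fam2, fam1, Function.update_apply, h12]
  have vNg2 : Ng j₂ = E2 := by rw [hNg]; simp [fam2, fam1, Function.update_apply]
  have vNg : ∀ i, i ≠ j₁ → i ≠ j₂ → Ng i = 1 := by
    intro i hi1 hi2; rw [hNg]; simp [fam2, fam1, Function.update_apply, hi1, hi2]
  have vN31 : N3 j₁ = E2 := by rw [hN3]; simp [fam3, fam2, fam1, Function.update_apply, h12, h13]
  have vN32 : N3 j₂ = E2 := by rw [hN3]; simp [fam3, fam2, fam1, Function.update_apply, h23]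
  have vN33 : N3 j₃ = E2 := by rw [hN3]; simp [fam3, fam2, fam1, Function.update_apply]
  have vN3 : ∀ i, i ≠ j₁ → i ≠ j₂ → i ≠ j₃ → N3 i = 1 := by
    intro i hi1 hi2 hi3; rw [hN3]; simp [fam3, fam2, fam1, Function.update_apply, hi1, hi2, hi3]
  have vXs1 : Xs j₁ = E2 := by rw [hXs]; simp [fam2, fam1, Function.update_apply, h13]
  have vXs3 : Xs j₃ = F2 := by rw [hXs]; simp [fam2, fam1, Function.update_apply]
  have vXs : ∀ i, i ≠ j₁ → i ≠ j₃ → Xs i = 1 := by
    intro i hi1 hi2; rw [hXs]; simp [fam2, fam1, Function.update_apply, hi1, hi2]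
  have vYs3 : Ys j₃ = E2 := by rw [hYs]; simp [fam2, fam1, Function.update_apply, h32]
  have vYs2 : Ys j₂ = E2 := by rw [hYs]; simp [fam2, fam1, Function.update_apply]
  have vYs : ∀ i, i ≠ j₃ → i ≠ j₂ → Ys i = 1 := by
    intro i hi1 hi2; rw [hYs]; simp [fam2, fam1, Function.update_apply, hi1, hi2]
  have vXs'1 : Xs' j₁ = E2 := by rw [hXs']; simp [fam2, fam1, Function.update_apply, h14]
  have vXs'4 : Xs' j₄ = F2 := by rw [hXs']; simp [fam2, fam1, Function.update_apply]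
  have vXs' : ∀ i, i ≠ j₁ → i ≠ j₄ → Xs' i = 1 := by
    intro i hi1 hi2; rw [hXs']; simp [fam2, fam1, Function.update_apply, hi1, hi2]
  have vYs'4 : Ys' j₄ = E2 := by rw [hYs']; simp [fam3, fam2, fam1, Function.update_apply, h42, h43]
  have vYs'2 : Ys' j₂ = E2 := by rw [hYs']; simp [fam3, fam2, fam1, Function.update_apply, h23]
  have vYs'3 : Ys' j₃ = E2 := by rw [hYs']; simp [fam3, fam2, fam1, Function.update_apply]
  have vYs' : ∀ i, i ≠ j₄ → i ≠ j₂ → i ≠ j₃ → Ys' i = 1 := by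
    intro i hi1 hi2 hi3; rw [hYs']; simp [fam3, fam2, fam1, Function.update_apply, hi1, hi2, hi3]
  -- self-adjointness
  have saNg : ∀ j, (Ng j).transpose * G2 = G2 * Ng j := by
    intro j; apply sa_cases
    by_cases a1 : j = j₁
    · subst a1; right; left; exact vNg1
    by_cases a2 : j = j₂
    · subst a2; right; left; exact vNg2
    left; exact vNg j a1 a2
  have saN3 : ∀ j, (N3 j).transpose * G2 = G2 * N3 j := by
    intro j; apply sa_cases
    by_cases a1 : j = j₁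
    · subst a1; right; left; exact vN31
    by_cases a2 : j = j₂
    · subst a2; right; left; exact vN32
    by_cases a3 : j = j₃
    · subst a3; right; left; exact vN33
    left; exact vN3 j a1 a2 a3
  have saXs : ∀ j, (Xs j).transpose * G2 = G2 * Xs j := by
    intro j; apply sa_cases
    by_cases a1 : j = j₁
    · subst a1; right; left; exact vXs1
    by_cases a2 : j = j₃
    · subst a2; right; right; exact vXs3
    left; exact vXs j a1 a2
  have saYs : ∀ j, (Ys j).transpose * G2 = G2 * Ys j := by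
    intro j; apply sa_cases
    by_cases a1 : j = j₃
    · subst a1; right; left; exact vYs3
    by_cases a2 : j = j₂
    · subst a2; right; left; exact vYs2
    left; exact vYs j a1 a2
  have saXs' : ∀ j, (Xs' j).transpose * G2 = G2 * Xs' j := by
    intro j; apply sa_cases
    by_cases a1 : j = j₁
    · subst a1; right; left; exact vXs'1
    by_cases a2 : j = j₄
    · subst a2; right; right; exact vXs'4
    left; exact vXs' j a1 a2
  have saYs' : ∀ j, (Ys' j).transpose * G2 = G2 * Ys' j := by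
    intro j; apply sa_cases
    by_cases a1 : j = j₄
    · subst a1; right; left; exact vYs'4
    by_cases a2 : j = j₂
    · subst a2; right; left; exact vYs'2
    by_cases a3 : j = j₃
    · subst a3; right; left; exact vYs'3
    left; exact vYs' j a1 a2 a3
  -- squares
  have sqNg : ptM Ng * ptM Ng = 0 := by
    rw [ptM_mul]; exact ptM_eq_zero _ ⟨j₁, by rw [vNg1, E2_sq]⟩
  have sqN3 : ptM N3 * ptM N3 = 0 := by
    rw [ptM_mul]; exact ptM_eq_zero _ ⟨j₁, by rw [vN31, E2_sq]⟩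
  have sqXs : ptM Xs * ptM Xs = 0 := by
    rw [ptM_mul]; exact ptM_eq_zero _ ⟨j₁, by rw [vXs1, E2_sq]⟩
  have sqYs : ptM Ys * ptM Ys = 0 := by
    rw [ptM_mul]; exact ptM_eq_zero _ ⟨j₂, by rw [vYs2, E2_sq]⟩
  have sqXs' : ptM Xs' * ptM Xs' = 0 := by
    rw [ptM_mul]; exact ptM_eq_zero _ ⟨j₁, by rw [vXs'1, E2_sq]⟩
  have sqYs' : ptM Ys' * ptM Ys' = 0 := by
    rw [ptM_mul]; exact ptM_eq_zero _ ⟨j₂, by rw [vYs'2, E2_sq]⟩
  -- the isometries
  have isoXs := invU_mem_iso h2 M Xs saXs sqXs j₂ (vXs j₂ h21 h23)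
  have isoYs := invU_mem_iso h2 M Ys saYs sqYs j₁ (vYs j₁ h13 h12)
  have isoXs' := invU_mem_iso h2 M Xs' saXs' sqXs' j₂ (vXs' j₂ h21 h24)
  have isoYs' := invU_mem_iso h2 M Ys' saYs' sqYs' j₁ (vYs' j₁ h14 h12 h13)
  -- the commutator relations
  have cXYX : ptM Xs * ptM Ys * ptM Xs = 0 := by
    rw [ptM_mul, ptM_mul]; exact ptM_eq_zero _ ⟨j₁, by rw [vXs1, vYs j₁ h13 h12, mul_one, E2_sq]⟩
  have cYXY : ptM Ys * ptM Xs * ptM Ys = 0 := by
    rw [ptM_mul, ptM_mul]; exact ptM_eq_zero _ ⟨j₂, by rw [vYs2, vXs j₂ h21 h23, mul_one, E2_sq]⟩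
  have cXY : ptM Xs * ptM Ys + ptM Ys * ptM Xs = ptM Ng := by
    rw [ptM_mul, ptM_mul]
    have e1 : (fun j => Xs j * Ys j) = Function.update Ng j₃ (F2 * E2) := by
      funext i
      by_cases a3 : i = j₃
      · subst a3; rw [Function.update_self, vXs3, vYs3]
      rw [Function.update_of_ne a3]
      by_cases a1 : i = j₁
      · subst a1; rw [vXs1, vYs i h13 h12, vNg1, mul_one]
      by_cases a2 : i = j₂
      · subst a2; rw [vXs i a1 a3, vYs2, vNg2, one_mul]
      rw [vXs i a1 a3, vYs i a3 a2, vNg i a1 a2, one_mul]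
    have e2 : (fun j => Ys j * Xs j) = Function.update Ng j₃ (E2 * F2) := by
      funext i
      by_cases a3 : i = j₃
      · subst a3; rw [Function.update_self, vXs3, vYs3]
      rw [Function.update_of_ne a3]
      by_cases a1 : i = j₁
      · subst a1; rw [vXs1, vYs i h13 h12, vNg1, one_mul]
      by_cases a2 : i = j₂
      · subst a2; rw [vXs i a1 a3, vYs2, vNg2, mul_one]
      rw [vXs i a1 a3, vYs i a3 a2, vNg i a1 a2, one_mul]
    rw [e1, e2, ← ptM_update_add, F2E2]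
    congr 1
    exact Function.update_eq_self_iff.mpr (vNg j₃ h31 h32).symm
  have cXYX' : ptM Xs' * ptM Ys' * ptM Xs' = 0 := by
    rw [ptM_mul, ptM_mul]; exact ptM_eq_zero _ ⟨j₁, by rw [vXs'1, vYs' j₁ h14 h12 h13, mul_one, E2_sq]⟩
  have cYXY' : ptM Ys' * ptM Xs' * ptM Ys' = 0 := by
    rw [ptM_mul, ptM_mul]; exact ptM_eq_zero _ ⟨j₂, by rw [vYs'2, vXs' j₂ h21 h24, mul_one, E2_sq]⟩
  have cXY' : ptM Xs' * ptM Ys' + ptM Ys' * ptM Xs' = ptM N3 := by
    rw [ptM_mul, ptM_mul]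
    have e1 : (fun j => Xs' j * Ys' j) = Function.update N3 j₄ (F2 * E2) := by
      funext i
      by_cases a4 : i = j₄
      · subst a4; rw [Function.update_self, vXs'4, vYs'4]
      rw [Function.update_of_ne a4]
      by_cases a1 : i = j₁
      · subst a1; rw [vXs'1, vYs' i h14 h12 h13, vN31, mul_one]
      by_cases a2 : i = j₂
      · subst a2; rw [vXs' i a1 a4, vYs'2, vN32, one_mul]
      by_cases a3 : i = j₃
      · subst a3; rw [vXs' i a1 a4, vYs'3, vN33, one_mul]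
      rw [vXs' i a1 a4, vYs' i a4 a2 a3, vN3 i a1 a2 a3, one_mul]
    have e2 : (fun j => Ys' j * Xs' j) = Function.update N3 j₄ (E2 * F2) := by
      funext i
      by_cases a4 : i = j₄
      · subst a4; rw [Function.update_self, vXs'4, vYs'4]
      rw [Function.update_of_ne a4]
      by_cases a1 : i = j₁
      · subst a1; rw [vXs'1, vYs' i h14 h12 h13, vN31, one_mul]
      by_cases a2 : i = j₂
      · subst a2; rw [vXs' i a1 a4, vYs'2, vN32, mul_one]
      by_cases a3 : i = j₃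
      · subst a3; rw [vXs' i a1 a4, vYs'3, vN33, mul_one]
      rw [vXs' i a1 a4, vYs' i a4 a2 a3, vN3 i a1 a2 a3, one_mul]
    rw [e1, e2, ← ptM_update_add, F2E2]
    congr 1
    exact Function.update_eq_self_iff.mpr (vN3 j₄ h41 h42 h43).symm
  -- membership in Ω
  have gΩ : invU h2 (ptM Ng) sqNg ∈ Geo.omegaGL Q := by
    rw [omegaGL_eq_commutator, invU_comm h2 (ptM Xs) (ptM Ys) (ptM Ng) sqXs sqYs sqNg cXYX cYXY cXY]
    exact Subgroup.commutator_mem_commutator isoXs isoYs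
  have g3Ω : invU h2 (ptM N3) sqN3 ∈ Geo.omegaGL Q := by
    rw [omegaGL_eq_commutator, invU_comm h2 (ptM Xs') (ptM Ys') (ptM N3) sqXs' sqYs' sqN3 cXYX' cYXY' cXY']
    exact Subgroup.commutator_mem_commutator isoXs' isoYs'
  -- `1 + e₁e₂` normalises `L`
  have updNg1 : Function.update Ng j₁ 1 = Function.update (fun _ => (1 : Matrix (Fin 2) (Fin 2) F)) j₂ E2 := by
    funext i
    by_cases a1 : i = j₁
    · subst a1; rw [Function.update_self, Function.update_of_ne h12]
    rw [Function.update_of_ne a1]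
    by_cases a2 : i = j₂
    · subst a2; rw [Function.update_self, vNg2]
    rw [Function.update_of_ne a2, vNg i a1 a2]
  have updNg2 : Function.update Ng j₂ 1 = Function.update (fun _ => (1 : Matrix (Fin 2) (Fin 2) F)) j₁ E2 := by
    funext i
    by_cases a2 : i = j₂
    · subst a2; rw [Function.update_self, Function.update_of_ne h21]
    rw [Function.update_of_ne a2]
    by_cases a1 : i = j₁
    · subst a1; rw [Function.update_self, vNg1]
    rw [Function.update_of_ne a1, vNg i a1 a2]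
  have gL : ∀ A ∈ Lsp F J, (1 + ptM Ng) * A * (1 + ptM Ng) ∈ Lsp F J := by
    apply conj_mem_Lsp
    · rw [mul_one, one_add_sq h2 _ sqNg]; exact one_mem_Lsp
    · intro j
      by_cases a1 : j = j₁
      · subst a1
        rw [conj_gen Ng j E2 j₂ h21 (by rw [vNg2, E2_sq]), vNg1, anti_E2_E2 h2, ptM_update_zero, add_zero]
        exact E_mem_Lsp j
      by_cases a2 : j = j₂
      · subst a2
        rw [conj_gen Ng j E2 j₁ h12 (by rw [vNg1, E2_sq]), vNg2, anti_E2_E2 h2, ptM_update_zero, add_zero]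
        exact E_mem_Lsp j
      rw [conj_gen Ng j E2 j₁ (Ne.symm a1) (by rw [vNg1, E2_sq]), vNg j a1 a2, anti_one h2, ptM_update_zero,
        add_zero]
      exact E_mem_Lsp j
    · intro j
      by_cases a1 : j = j₁
      · subst a1
        rw [conj_gen Ng j F2 j₂ h21 (by rw [vNg2, E2_sq]), vNg1, E2F2, updNg1]
        exact add_mem (F_mem_Lsp j) (E_mem_Lsp j₂)
      by_cases a2 : j = j₂
      · subst a2
        rw [conj_gen Ng j F2 j₁ h12 (by rw [vNg1, E2_sq]), vNg2, E2F2, updNg2]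
        exact add_mem (F_mem_Lsp j) (E_mem_Lsp j₁)
      rw [conj_gen Ng j F2 j₁ (Ne.symm a1) (by rw [vNg1, E2_sq]), vNg j a1 a2, anti_one h2, ptM_update_zero,
        add_zero]
      exact F_mem_Lsp j
  -- `1 + e₁e₂e₃` does not normalise `L`
  obtain ⟨a₀, ha₀⟩ : ∃ a₀ : J → Fin 2, a₀ = Function.update (Function.update (fun _ => 0) j₂ 1) j₃ 1 := ⟨_, rfl⟩
  have va2 : a₀ j₂ = 1 := by rw [ha₀, Function.update_of_ne h23, Function.update_self]
  have va3 : a₀ j₃ = 1 := by rw [ha₀, Function.update_self]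
  have va : ∀ i, i ≠ j₂ → i ≠ j₃ → a₀ i = 0 := by
    intro i hi2 hi3; rw [ha₀, Function.update_of_ne hi3, Function.update_of_ne hi2]
  have hφ : ∀ A ∈ Lsp F J, A a₀ (fun _ => 0) = 0 := by
    intro A hA
    have hle : Lsp F J ≤ LinearMap.ker (Matrix.entryLinearMap F F a₀ (fun _ => (0 : Fin 2))) := by
      unfold Lsp
      rw [Submodule.span_le]
      rintro x ((rfl | ⟨j, rfl⟩) | ⟨j, rfl⟩)
      · rw [SetLike.mem_coe, LinearMap.mem_ker, Matrix.entryLinearMap_apply, Matrix.one_apply, if_neg]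
        intro h; have := congrFun h j₂; rw [va2] at this; exact one_ne_zero this
      · rw [SetLike.mem_coe, LinearMap.mem_ker, Matrix.entryLinearMap_apply]
        show iota j E2 a₀ (fun _ => 0) = 0
        rw [iota_apply, if_neg, mul_zero]
        intro h
        by_cases a2 : j = j₂
        · have := h j₃ (by rw [a2]; exact h32); rw [va3] at this; exact one_ne_zero this
        · have := h j₂ (Ne.symm a2); rw [va2] at this; exact one_ne_zero this
      · rw [SetLike.mem_coe, LinearMap.mem_ker, Matrix.entryLinearMap_apply]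
        show iota j F2 a₀ (fun _ => 0) = 0
        rw [iota_apply, if_neg, mul_zero]
        intro h
        by_cases a2 : j = j₂
        · have := h j₃ (by rw [a2]; exact h32); rw [va3] at this; exact one_ne_zero this
        · have := h j₂ (Ne.symm a2); rw [va2] at this; exact one_ne_zero this
    have := hle hA
    rw [LinearMap.mem_ker, Matrix.entryLinearMap_apply] at this
    exact this
  have g3L : ¬ ((1 + ptM N3) * iota j₁ F2 * (1 + ptM N3) ∈ Lsp F J) := by
    intro hmem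
    rw [conj_gen N3 j₁ F2 j₂ h21 (by rw [vN32, E2_sq]), vN31, E2F2] at hmem
    have h0 := hφ _ hmem
    rw [Matrix.add_apply, hφ _ (F_mem_Lsp j₁), zero_add, ptM_apply] at h0
    have h1 : ∏ j, (Function.update N3 j₁ 1 j) (a₀ j) ((fun _ => (0 : Fin 2)) j) = (1 : F) := by
      apply Finset.prod_eq_one
      intro i _
      by_cases a1 : i = j₁
      · subst a1; rw [Function.update_self, va i h12 h13]; simp
      rw [Function.update_of_ne a1]
      by_cases a2 : i = j₂
      · subst a2; rw [vN32, va2]; simp [E2]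
      by_cases a3 : i = j₃
      · subst a3; rw [vN33, va3]; simp [E2]
      rw [vN3 i a1 a2 a3, va i a2 a3]; simp
    rw [h1] at h0
    exact one_ne_zero h0
  -- assembling
  refine ⟨normK Q, ?_, ?_⟩
  · rw [SetLike.lt_iff_le_and_exists]
    refine ⟨?_, invU h2 (ptM Ng) sqNg, ⟨gΩ, fun A hA => ⟨gL A hA, gL A hA⟩⟩, ?_⟩
    · intro h hh
      obtain ⟨hH, hΩ⟩ := Subgroup.mem_inf.mp hh
      refine ⟨hΩ, fun A hA => ⟨Ha h hH (hΩiso hΩ) A hA, ?_⟩⟩
      have := Ha h⁻¹ (inv_mem hH) (inv_mem (hΩiso hΩ)) A hA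
      rw [inv_inv] at this
      exact this
    · intro hg
      obtain ⟨hH, -⟩ := Subgroup.mem_inf.mp hg
      apply Hb _ hH
      rw [invU_val, hNg]
  · rw [SetLike.lt_iff_le_and_exists]
    refine ⟨fun g hg => hg.1, invU h2 (ptM N3) sqN3, g3Ω, ?_⟩
    intro hg
    exact g3L (hg.2 _ (F_mem_Lsp j₁)).1

end Cfsg.Agent.Lib.Helper94.Tw
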