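import Cfsg.Agent.Lib.Helper94.Tw5

set_option autoImplicit false

/-!
The normal form of the elements of the standard tensor wreath group, and the instance `k = 2` of the core theorem.
-/

namespace Cfsg.Agent.Lib.Helper94.Tw

open scoped Matrix commutatorElement
open Cfsg

set_option linter.unusedSectionVars false
set_option linter.unnecessarySimpa false
set_option linter.style.haveILetI false
set_option linter.unusedVariables false
set_option linter.unusedSimpArgs false
set_option maxHeartbeats 1000000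

variable {F : Type*} [Field F] {k t : ℕ}

/-- normal form: pure tensor times factor permutation -/
lemma wreath_normal_form (g : Matrix.GeneralLinearGroup (Fin t → Fin k) F)
    (hg : g ∈ Geo.tensorWreathStandard k t F) :
    ∃ (As : Fin t → Matrix.GeneralLinearGroup (Fin k) F) (σ : Equiv.Perm (Fin t)),
      (g : Matrix (Fin t → Fin k) (Fin t → Fin k) F) =
        ptM (fun i => (As i : Matrix (Fin k) (Fin k) F)) * permM σ := by
  unfold Geo.tensorWreathStandard at hg
  induction hg using Subgroup.closure_induction with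
  | mem x hx =>
    rcases hx with ⟨gs, hgs⟩ | ⟨σ, hσ⟩
    · refine ⟨gs, 1, ?_⟩
      rw [permM_one, mul_one]
      ext a b; rw [hgs]; rfl
    · refine ⟨fun _ => 1, σ, ?_⟩
      have : (fun i : Fin t => (((1 : Matrix.GeneralLinearGroup (Fin k) F)) : Matrix (Fin k) (Fin k) F)) =
          fun _ => 1 := by funext i; simp
      rw [this, ptM_one, one_mul]
      ext a b; rw [hσ]; rfl
  | one =>
    refine ⟨fun _ => 1, 1, ?_⟩
    have : (fun i : Fin t => (((1 : Matrix.GeneralLinearGroup (Fin k) F)) : Matrix (Fin k) (Fin k) F)) =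
        fun _ => 1 := by funext i; simp
    rw [this, ptM_one, permM_one, mul_one]; rfl
  | mul x y _ _ hx hy =>
    obtain ⟨As, σ, h1⟩ := hx
    obtain ⟨Bs, τ, h2⟩ := hy
    refine ⟨fun i => As i * Bs (σ.symm i), σ * τ, ?_⟩
    rw [Units.val_mul, h1, h2, mul_assoc, ← mul_assoc (permM σ), permM_mul_ptM, mul_assoc, permM_mul,
      ← mul_assoc, ptM_mul]
    congr 2
  | inv x _ hx =>
    obtain ⟨As, σ, h1⟩ := hx
    refine ⟨fun i => (As (σ i))⁻¹, σ⁻¹, ?_⟩
    apply Units.inv_eq_of_mul_eq_one_right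
    rw [h1, mul_assoc, ← mul_assoc (permM σ), permM_mul_ptM, mul_assoc, permM_mul, ← mul_assoc, ptM_mul,
      mul_inv_cancel, permM_one, mul_one]
    have : (fun j => (As j : Matrix (Fin k) (Fin k) F) *
        ((fun i => (((As (σ i))⁻¹ : Matrix.GeneralLinearGroup (Fin k) F) : Matrix (Fin k) (Fin k) F)) ∘ σ.symm) j) =
        fun _ => 1 := by
      funext j
      simp only [Function.comp_apply, Equiv.apply_symm_apply]
      rw [← Units.val_mul, mul_inv_cancel, Units.val_one]
    rw [this, ptM_one]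

/-- the conjugation action of an element in normal form on one-factor operators -/
lemma conj_iota (h : Matrix.GeneralLinearGroup (Fin t → Fin k) F)
    (As : Fin t → Matrix.GeneralLinearGroup (Fin k) F) (σ : Equiv.Perm (Fin t))
    (hh : (h : Matrix (Fin t → Fin k) (Fin t → Fin k) F) =
      ptM (fun i => (As i : Matrix (Fin k) (Fin k) F)) * permM σ)
    (j : Fin t) (A : Matrix (Fin k) (Fin k) F) :
    (h : Matrix (Fin t → Fin k) (Fin t → Fin k) F) * iota j A *
      ((h⁻¹ : Matrix.GeneralLinearGroup (Fin t → Fin k) F) : Matrix _ _ F) =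
      iota (σ j) ((As (σ j) : Matrix (Fin k) (Fin k) F) * A *
        (((As (σ j))⁻¹ : Matrix.GeneralLinearGroup (Fin k) F) : Matrix (Fin k) (Fin k) F)) := by
  have key : (h : Matrix (Fin t → Fin k) (Fin t → Fin k) F) * iota j A =
      iota (σ j) ((As (σ j) : Matrix (Fin k) (Fin k) F) * A *
        (((As (σ j))⁻¹ : Matrix.GeneralLinearGroup (Fin k) F) : Matrix (Fin k) (Fin k) F)) * h := by
    rw [hh, mul_assoc, permM_mul_iota, ← mul_assoc, ← mul_assoc, ptM_mul_iota, iota_mul_ptM]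
    congr 3
    rw [mul_assoc, mul_assoc, ← Units.val_mul, inv_mul_cancel, Units.val_one, mul_one]
  rw [key, mul_assoc, ← Units.val_mul, mul_inv_cancel, Units.val_one, mul_one]

/-- elements of the tensor wreath group map pure vectors to pure vectors -/
lemma wreath_pure (h : Matrix.GeneralLinearGroup (Fin t → Fin k) F)
    (hh : h ∈ Geo.tensorWreathStandard k t F) (vs : Fin t → Fin k → F) :
    ∃ ws : Fin t → Fin k → F, (h : Matrix (Fin t → Fin k) (Fin t → Fin k) F) *ᵥ pv vs = pv ws := by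
  obtain ⟨As, σ, h1⟩ := wreath_normal_form h hh
  rw [h1, ← Matrix.mulVec_mulVec, permM_mulVec_pv, ptM_mulVec_pv]
  exact ⟨_, rfl⟩

lemma iota_mem_Lsp {J : Type} [Fintype J] [DecidableEq J] (j : J) (X : Matrix (Fin 2) (Fin 2) F)
    (hX : X 0 0 = X 1 1) : iota j X ∈ Lsp F J := by
  have : X = X 0 0 • (1 : Matrix (Fin 2) (Fin 2) F) + X 1 0 • E2 + X 0 1 • F2 := by
    ext a b; fin_cases a <;> fin_cases b <;> simp [E2, F2, hX]
  rw [this, iota_add, iota_add, iota_smul, iota_smul, iota_smul, iota_one]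
  exact add_mem (add_mem (Submodule.smul_mem _ _ one_mem_Lsp) (Submodule.smul_mem _ _ (E_mem_Lsp j)))
    (Submodule.smul_mem _ _ (F_mem_Lsp j))

/-- three entries of the first column of `1 + e₁e₂` -/
lemma gE_col {J : Type} [Fintype J] [DecidableEq J] (j₁ j₂ : J) (h12 : j₁ ≠ j₂) :
    ((1 + ptM (fam2 j₁ (E2 : Matrix (Fin 2) (Fin 2) F) j₂ E2)) *ᵥ Pi.single (fun _ => 0) 1) (fun _ => 0) = 1 ∧
    ((1 + ptM (fam2 j₁ (E2 : Matrix (Fin 2) (Fin 2) F) j₂ E2)) *ᵥ Pi.single (fun _ => 0) 1)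
      (Function.update (Function.update (fun _ => 0) j₁ 1) j₂ 1) = 1 ∧
    ((1 + ptM (fam2 j₁ (E2 : Matrix (Fin 2) (Fin 2) F) j₂ E2)) *ᵥ Pi.single (fun _ => 0) 1)
      (Function.update (fun _ => 0) j₁ 1) = 0 := by
  have hcol : ∀ c : J → Fin 2,
      ((1 + ptM (fam2 j₁ (E2 : Matrix (Fin 2) (Fin 2) F) j₂ E2)) *ᵥ Pi.single (fun _ => 0) 1) c =
      (if c = (fun _ => 0) then 1 else 0) + ∏ i, fam2 j₁ (E2 : Matrix (Fin 2) (Fin 2) F) j₂ E2 i (c i) 0 := by
    intro c
    rw [Matrix.mulVec_single_one]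
    simp only [Matrix.col_apply, Matrix.add_apply, Matrix.one_apply, ptM_apply]
  have v1 : fam2 j₁ (E2 : Matrix (Fin 2) (Fin 2) F) j₂ E2 j₁ = E2 := by
    simp [fam2, fam1, Function.update_apply, h12]
  have v2 : fam2 j₁ (E2 : Matrix (Fin 2) (Fin 2) F) j₂ E2 j₂ = E2 := by
    simp [fam2, fam1, Function.update_apply]
  have v : ∀ i, i ≠ j₁ → i ≠ j₂ → fam2 j₁ (E2 : Matrix (Fin 2) (Fin 2) F) j₂ E2 i = 1 := by
    intro i hi1 hi2; simp [fam2, fam1, Function.update_apply, hi1, hi2]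
  refine ⟨?_, ?_, ?_⟩
  · rw [hcol, if_pos rfl, Finset.prod_eq_zero (Finset.mem_univ j₁), add_zero]
    rw [v1]; simp [E2]
  · rw [hcol, if_neg, zero_add]
    · apply Finset.prod_eq_one
      intro i _
      by_cases a2 : i = j₂
      · subst a2; rw [v2, Function.update_self]; simp [E2]
      rw [Function.update_of_ne a2]
      by_cases a1 : i = j₁
      · subst a1; rw [v1, Function.update_self]; simp [E2]
      rw [Function.update_of_ne a1, v i a1 a2]; simp
    · intro h
      have := congrFun h j₂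
      rw [Function.update_self] at this
      exact one_ne_zero this
  · rw [hcol, if_neg, zero_add]
    · apply Finset.prod_eq_zero (Finset.mem_univ j₂)
      rw [v2, Function.update_of_ne h12.symm]; simp [E2]
    · intro h
      have := congrFun h j₁
      rw [Function.update_self] at this
      exact one_ne_zero this

section two
variable (h2 : (2 : F) = 0)
include h2

lemma conj_trace_zero (B : Matrix.GeneralLinearGroup (Fin 2) F) (A : Matrix (Fin 2) (Fin 2) F)
    (hA : A 0 0 = A 1 1) :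
    ((B : Matrix (Fin 2) (Fin 2) F) * A * ((B⁻¹ : Matrix.GeneralLinearGroup (Fin 2) F) : Matrix (Fin 2) (Fin 2) F)) 0 0 =
    ((B : Matrix (Fin 2) (Fin 2) F) * A * ((B⁻¹ : Matrix.GeneralLinearGroup (Fin 2) F) : Matrix (Fin 2) (Fin 2) F)) 1 1 := by
  have htr := Matrix.trace_units_conj B A
  rw [Matrix.trace_fin_two, Matrix.trace_fin_two, hA] at htr
  have h11 : A 1 1 + A 1 1 = 0 := by rw [← two_mul, h2, zero_mul]
  rw [h11] at htr
  have := eq_neg_of_add_eq_zero_left htr
  rw [this]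
  have hneg : ∀ x : F, -x = x := by
    intro x
    have : x + x = 0 := by rw [← two_mul, h2, zero_mul]
    exact neg_eq_of_add_eq_zero_left this
  exact hneg _

/-- the instance `k = 2` -/
theorem inst2 {Q : ((Fin t → Fin 2) → F) → F} {c₀ : F} (M : Model Q c₀) (ht : 4 ≤ t) :
    ∃ K : Subgroup (Matrix.GeneralLinearGroup (Fin t → Fin 2) F),
      Geo.tensorWreathStandard 2 t F ⊓ Geo.omegaGL Q < K ∧ K < Geo.omegaGL Q := by
  have hne : ∀ a b : ℕ, a ≠ b → ∀ (ha : a < t) (hb : b < t), (⟨a, ha⟩ : Fin t) ≠ ⟨b, hb⟩ := by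
    intro a b hab ha hb h
    exact hab (Fin.mk.inj_iff.mp h)
  obtain ⟨j₁, hj₁⟩ : ∃ j : Fin t, j = ⟨0, by omega⟩ := ⟨_, rfl⟩
  obtain ⟨j₂, hj₂⟩ : ∃ j : Fin t, j = ⟨1, by omega⟩ := ⟨_, rfl⟩
  obtain ⟨j₃, hj₃⟩ : ∃ j : Fin t, j = ⟨2, by omega⟩ := ⟨_, rfl⟩
  obtain ⟨j₄, hj₄⟩ : ∃ j : Fin t, j = ⟨3, by omega⟩ := ⟨_, rfl⟩
  have h12 : j₁ ≠ j₂ := by rw [hj₁, hj₂]; exact hne 0 1 (by norm_num) _ _
  have h13 : j₁ ≠ j₃ := by rw [hj₁, hj₃]; exact hne 0 2 (by norm_num) _ _
  have h14 : j₁ ≠ j₄ := by rw [hj₁, hj₄]; exact hne 0 3 (by norm_num) _ _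
  have h23 : j₂ ≠ j₃ := by rw [hj₂, hj₃]; exact hne 1 2 (by norm_num) _ _
  have h24 : j₂ ≠ j₄ := by rw [hj₂, hj₄]; exact hne 1 3 (by norm_num) _ _
  have h34 : j₃ ≠ j₄ := by rw [hj₃, hj₄]; exact hne 2 3 (by norm_num) _ _
  apply core h2 M j₁ j₂ j₃ j₄ h12 h13 h14 h23 h24 h34
  · -- the wreath group normalises `L`
    intro h hh _
    obtain ⟨As, σ, h1⟩ := wreath_normal_form h hh
    apply conj_mem_Lsp
    · rw [mul_one, ← Units.val_mul, mul_inv_cancel, Units.val_one]; exact one_mem_Lsp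
    · intro j
      rw [conj_iota h As σ h1]
      exact iota_mem_Lsp _ _ (conj_trace_zero h2 _ _ (by simp [E2]))
    · intro j
      rw [conj_iota h As σ h1]
      exact iota_mem_Lsp _ _ (conj_trace_zero h2 _ _ (by simp [F2]))
  · -- `1 + e₁e₂` is not in the wreath group
    intro h hh heq
    obtain ⟨ws, hws⟩ := wreath_pure h hh (fun j => Pi.single ((fun _ => 0 : Fin t → Fin 2) j) 1)
    rw [← single_eq_pv, heq] at hws
    obtain ⟨c1, c2, c3⟩ := gE_col (F := F) j₁ j₂ h12
    rw [hws] at c1 c2 c3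
    have hex := pv_exchange ws (fun _ => 0) (Function.update (Function.update (fun _ => 0) j₁ 1) j₂ 1) j₁
    rw [c1, c2, Function.update_of_ne h12, Function.update_self, c3] at hex
    simp at hex
end two

end Cfsg.Agent.Lib.Helper94.Tw
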