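import Cfsg.Agent.Lib.Helper94.Tw6

set_option autoImplicit false

/-!
Local algebra for `k = 4`: the five-dimensional space `L₅` of `4 × 4` matrices normalised by the similitudes of the
antidiagonal symplectic form in characteristic two.
-/

namespace Cfsg.Agent.Lib.Helper94.Tw

open scoped Matrix
open Cfsg

set_option linter.unusedSectionVars false
set_option linter.unnecessarySimpa false
set_option linter.style.haveILetI false
set_option linter.unusedVariables false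
set_option linter.unusedSimpArgs false
set_option maxHeartbeats 1000000

variable {F : Type*} [Field F]

/-- binary digits of `Fin 4` -/
def b0 : Fin 4 ≃ (Fin 2 → Fin 2) where
  toFun v := ![⟨v.val % 2, Nat.mod_lt _ (by norm_num)⟩, ⟨v.val / 2, by omega⟩]
  invFun f := ⟨(f 0).val + 2 * (f 1).val, by omega⟩
  left_inv := by decide
  right_inv := by decide

def G4 : Matrix (Fin 4) (Fin 4) F := !![0, 0, 0, 1; 0, 0, 1, 0; 0, 1, 0, 0; 1, 0, 0, 0]

def L5mat (p b c d e : F) : Matrix (Fin 4) (Fin 4) F :=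
  !![p, b, d, 0; c, p, 0, d; e, 0, p, b; 0, e, c, p]

/-- the operator of `F⁴ = F² ⊗ F²` acting as `A` on the binary digit `s` -/
def lift4 (s : Fin 2) (A : Matrix (Fin 2) (Fin 2) F) : Matrix (Fin 4) (Fin 4) F :=
  fun u v => iota s A (b0 u) (b0 v)

lemma G4_eq (u v : Fin 4) : (G4 : Matrix (Fin 4) (Fin 4) F) u v = ∏ s, (G2 : Matrix (Fin 2) (Fin 2) F) (b0 u s) (b0 v s) := by
  fin_cases u <;> fin_cases v <;> simp [G4, G2, b0, Fin.prod_univ_two]

lemma lift4_0_E : lift4 0 (E2 : Matrix (Fin 2) (Fin 2) F) = L5mat 0 0 1 0 0 := by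
  ext u v; fin_cases u <;> fin_cases v <;> simp [lift4, iota_apply, b0, E2, L5mat, Fin.forall_fin_two]

lemma lift4_0_F : lift4 0 (F2 : Matrix (Fin 2) (Fin 2) F) = L5mat 0 1 0 0 0 := by
  ext u v; fin_cases u <;> fin_cases v <;> simp [lift4, iota_apply, b0, F2, L5mat, Fin.forall_fin_two]

lemma lift4_1_E : lift4 1 (E2 : Matrix (Fin 2) (Fin 2) F) = L5mat 0 0 0 0 1 := by
  ext u v; fin_cases u <;> fin_cases v <;> simp [lift4, iota_apply, b0, E2, L5mat, Fin.forall_fin_two]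

lemma lift4_1_F : lift4 1 (F2 : Matrix (Fin 2) (Fin 2) F) = L5mat 0 0 0 1 0 := by
  ext u v; fin_cases u <;> fin_cases v <;> simp [lift4, iota_apply, b0, F2, L5mat, Fin.forall_fin_two]

lemma L5mat_eq (p b c d e : F) : L5mat p b c d e = p • (1 : Matrix (Fin 4) (Fin 4) F) + b • lift4 0 F2 +
    c • lift4 0 E2 + d • lift4 1 F2 + e • lift4 1 E2 := by
  rw [lift4_0_E, lift4_0_F, lift4_1_E, lift4_1_F]
  ext u v; fin_cases u <;> fin_cases v <;> simp [L5mat]

/-- the bilinear form with Gram matrix `G4` -/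
def f4 (u v : Fin 4 → F) : F := u ⬝ᵥ (G4 : Matrix (Fin 4) (Fin 4) F) *ᵥ v

def alt4 (A : Matrix (Fin 4) (Fin 4) F) : Prop := ∀ y : Fin 4 → F, f4 y (A *ᵥ y) = 0

def sq4 (A : Matrix (Fin 4) (Fin 4) F) : Prop := ∃ s : F, A * A = s • 1

lemma f4_apply (u v : Fin 4 → F) : f4 u v = u 0 * v 3 + u 1 * v 2 + u 2 * v 1 + u 3 * v 0 := by
  simp [f4, G4, dotProduct, Matrix.mulVec, Fin.sum_univ_four]

section chartwo
variable (h2 : (2 : F) = 0)
include h2

lemma alt4_L5mat (p b c d e : F) : alt4 (L5mat p b c d e) := by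
  intro y
  rw [f4_apply]
  have e0 : (L5mat p b c d e *ᵥ y) 0 = p * y 0 + b * y 1 + d * y 2 := by
    simp [L5mat, Matrix.mulVec, dotProduct, Fin.sum_univ_four]
  have e1 : (L5mat p b c d e *ᵥ y) 1 = c * y 0 + p * y 1 + d * y 3 := by
    simp [L5mat, Matrix.mulVec, dotProduct, Fin.sum_univ_four]
  have e2 : (L5mat p b c d e *ᵥ y) 2 = e * y 0 + p * y 2 + b * y 3 := by
    simp [L5mat, Matrix.mulVec, dotProduct, Fin.sum_univ_four]
  have e3 : (L5mat p b c d e *ᵥ y) 3 = e * y 1 + c * y 2 + p * y 3 := by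
    simp [L5mat, Matrix.mulVec, dotProduct, Fin.sum_univ_four]
  rw [e0, e1, e2, e3]
  linear_combination (e * y 0 * y 1 + c * y 0 * y 2 + p * y 0 * y 3 + p * y 1 * y 2 + b * y 1 * y 3 + d * y 2 * y 3) * h2

lemma sq4_L5mat (p b c d e : F) : sq4 (L5mat p b c d e) := by
  refine ⟨p * p + b * c + d * e, ?_⟩
  ext u v
  fin_cases u <;> fin_cases v <;>
    simp [L5mat, Matrix.mul_apply, Fin.sum_univ_four] <;> ring_nf <;> simp [h2]

lemma char2_eq {a b : F} (h : a + b = 0) : a = b := by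
  have : b + b = 0 := by rw [← two_mul, h2, zero_mul]
  linear_combination h - this

omit h2 in
lemma mulVec4 (A : Matrix (Fin 4) (Fin 4) F) (y : Fin 4 → F) (r : Fin 4) :
    (A *ᵥ y) r = A r 0 * y 0 + A r 1 * y 1 + A r 2 * y 2 + A r 3 * y 3 := by
  simp [Matrix.mulVec, dotProduct, Fin.sum_univ_four]

/-- an alternating matrix whose square is a scalar has the shape `L5mat` -/
lemma L5_of_alt_sq (A : Matrix (Fin 4) (Fin 4) F) (hA : alt4 A) (hs : sq4 A) :
    ∃ p b c d e : F, A = L5mat p b c d e := by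
  have key : ∀ y0 y1 y2 y3 : F, f4 ![y0, y1, y2, y3] (A *ᵥ ![y0, y1, y2, y3]) =
      y0 * (A 3 0 * y0 + A 3 1 * y1 + A 3 2 * y2 + A 3 3 * y3) +
      y1 * (A 2 0 * y0 + A 2 1 * y1 + A 2 2 * y2 + A 2 3 * y3) +
      y2 * (A 1 0 * y0 + A 1 1 * y1 + A 1 2 * y2 + A 1 3 * y3) +
      y3 * (A 0 0 * y0 + A 0 1 * y1 + A 0 2 * y2 + A 0 3 * y3) := by
    intro y0 y1 y2 y3
    rw [f4_apply, mulVec4, mulVec4, mulVec4, mulVec4]
    simp
  have k0 := hA ![1, 0, 0, 0]
  have k1 := hA ![0, 1, 0, 0]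
  have k2 := hA ![0, 0, 1, 0]
  have k3 := hA ![0, 0, 0, 1]
  have k01 := hA ![1, 1, 0, 0]
  have k02 := hA ![1, 0, 1, 0]
  have k03 := hA ![1, 0, 0, 1]
  have k12 := hA ![0, 1, 1, 0]
  have k13 := hA ![0, 1, 0, 1]
  have k23 := hA ![0, 0, 1, 1]
  rw [key] at k0 k1 k2 k3 k01 k02 k03 k12 k13 k23
  have e30 : A 3 0 = 0 := by linear_combination k0
  have e21 : A 2 1 = 0 := by linear_combination k1
  have e12 : A 1 2 = 0 := by linear_combination k2
  have e03 : A 0 3 = 0 := by linear_combination k3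
  have e31 : A 3 1 = A 2 0 := char2_eq h2 (by linear_combination k01 - k0 - k1)
  have e32 : A 3 2 = A 1 0 := char2_eq h2 (by linear_combination k02 - k0 - k2)
  have e33 : A 3 3 = A 0 0 := char2_eq h2 (by linear_combination k03 - k0 - k3)
  have e22' : A 2 2 = A 1 1 := char2_eq h2 (by linear_combination k12 - k1 - k2)
  have e23 : A 2 3 = A 0 1 := char2_eq h2 (by linear_combination k13 - k1 - k3)
  have e13 : A 1 3 = A 0 2 := char2_eq h2 (by linear_combination k23 - k2 - k3)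
  obtain ⟨s, hs⟩ := hs
  have h00 := congrFun (congrFun hs 0) 0
  have h11 := congrFun (congrFun hs 1) 1
  simp only [Matrix.mul_apply, Fin.sum_univ_four, Matrix.smul_apply, Matrix.one_apply_eq, smul_eq_mul, mul_one]
    at h00 h11
  have hsq : (A 0 0 - A 1 1) ^ 2 = 0 := by
    linear_combination h00 - h11 - A 3 0 * e03 + A 2 1 * e12 + A 3 1 * e13 + A 0 2 * e31 +
      (A 1 1 * A 1 1 - A 0 0 * A 1 1) * h2
  have e11 : A 1 1 = A 0 0 := by
    have := pow_eq_zero_iff (n := 2) (by norm_num) |>.mp hsq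
    linear_combination -this
  have e22 : A 2 2 = A 0 0 := by rw [e22', e11]
  refine ⟨A 0 0, A 0 1, A 1 0, A 0 2, A 2 0, ?_⟩
  ext u v
  fin_cases u <;> fin_cases v <;> simp [L5mat, e03, e12, e21, e30, e11, e22, e33, e13, e23, e31, e32]

lemma alt4_conj (B B' : Matrix (Fin 4) (Fin 4) F) (hBB' : B * B' = 1) (C : F) (hC : C ≠ 0)
    (hsim : ∀ u v, f4 (B *ᵥ u) (B *ᵥ v) * C = f4 u v) (A : Matrix (Fin 4) (Fin 4) F) (hA : alt4 A) :
    alt4 (B * A * B') := by
  intro x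
  have hx : x = B *ᵥ (B' *ᵥ x) := by rw [Matrix.mulVec_mulVec, hBB', Matrix.one_mulVec]
  have e : (B * A * B') *ᵥ x = B *ᵥ (A *ᵥ (B' *ᵥ x)) := by
    rw [Matrix.mulVec_mulVec, Matrix.mulVec_mulVec, mul_assoc]
  rw [e]
  have := hsim (B' *ᵥ x) (A *ᵥ (B' *ᵥ x))
  rw [hA, ← hx] at this
  exact (mul_eq_zero.mp this).resolve_right hC

lemma sq4_conj (B B' : Matrix (Fin 4) (Fin 4) F) (hBB' : B * B' = 1) (hB'B : B' * B = 1)
    (A : Matrix (Fin 4) (Fin 4) F) (hA : sq4 A) : sq4 (B * A * B') := by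
  obtain ⟨s, hs⟩ := hA
  refine ⟨s, ?_⟩
  have : B * A * B' * (B * A * B') = B * (A * (B' * B) * A) * B' := by simp only [mul_assoc]
  rw [this, hB'B, mul_one, hs, Matrix.mul_smul, Matrix.smul_mul, mul_one, hBB']

/-- similitudes normalise `L₅` -/
lemma L5_conj (B B' : Matrix (Fin 4) (Fin 4) F) (hBB' : B * B' = 1) (hB'B : B' * B = 1) (C : F) (hC : C ≠ 0)
    (hsim : ∀ u v, f4 (B *ᵥ u) (B *ᵥ v) * C = f4 u v) (p b c d e : F) :
    ∃ p' b' c' d' e' : F, B * L5mat p b c d e * B' = L5mat p' b' c' d' e' :=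
  L5_of_alt_sq h2 _ (alt4_conj h2 B B' hBB' C hC hsim _ (alt4_L5mat h2 p b c d e))
    (sq4_conj h2 B B' hBB' hB'B _ (sq4_L5mat h2 p b c d e))

end chartwo

end Cfsg.Agent.Lib.Helper94.Tw
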