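import Cfsg.Agent.Lib.Helper94.Tw7

set_option autoImplicit false

/-!
The instance `k = 4` of the core theorem.
-/

namespace Cfsg.Agent.Lib.Helper94.Tw

open scoped Matrix
open Cfsg

set_option linter.unusedSectionVars false
set_option linter.unnecessarySimpa false
set_option linter.style.haveILetI false
set_option linter.unusedVariables false
set_option linter.unusedSimpArgs false
set_option maxHeartbeats 1000000

variable {F : Type*} [Field F] {t : ℕ}

variable (t) in
/-- regrouping `t` base-four digits into `2t` binary digits -/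
def beta : (Fin t → Fin 4) ≃ (Fin t × Fin 2 → Fin 2) where
  toFun a := fun p => b0 (a p.1) p.2
  invFun c := fun i => b0.symm (fun s => c (i, s))
  left_inv a := by funext i; simp
  right_inv c := by funext ⟨i, s⟩; simp

lemma beta_apply (a : Fin t → Fin 4) (i : Fin t) (s : Fin 2) : beta t a (i, s) = b0 (a i) s := rfl

lemma b0_beta_symm (c : Fin t × Fin 2 → Fin 2) (i : Fin t) :
    b0 ((beta t).symm c i) = fun s => c (i, s) := by
  simp [beta]

lemma beta_symm_eq_iff (c c' : Fin t × Fin 2 → Fin 2) (i : Fin t) :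
    (beta t).symm c i = (beta t).symm c' i ↔ ∀ s, c (i, s) = c' (i, s) := by
  constructor
  · intro h s
    have := congrArg b0 h
    rw [b0_beta_symm, b0_beta_symm] at this
    exact congrFun this s
  · intro h
    apply b0.injective
    rw [b0_beta_symm, b0_beta_symm]
    funext s; exact h s

/-- the one-factor operators correspond under regrouping -/
lemma Rm_iota (i : Fin t) (s : Fin 2) (A : Matrix (Fin 2) (Fin 2) F) :
    (iota i (lift4 s A)).submatrix (beta t).symm (beta t).symm = iota (i, s) A := by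
  ext a' b'
  rw [Matrix.submatrix_apply, iota_apply, iota_apply]
  unfold lift4
  rw [iota_apply, b0_beta_symm, b0_beta_symm, mul_assoc]
  congr 1
  have hiff : ((∀ s', s' ≠ s → (fun s => a' (i, s)) s' = (fun s => b' (i, s)) s') ∧
      (∀ i', i' ≠ i → (beta t).symm a' i' = (beta t).symm b' i')) ↔
      ∀ p, p ≠ (i, s) → a' p = b' p := by
    constructor
    · rintro ⟨hP, hQ⟩ ⟨i', s'⟩ hne
      by_cases hi : i' = i
      · subst hi
        have hs : s' ≠ s := fun h => hne (by rw [h])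
        exact hP s' hs
      · exact (beta_symm_eq_iff a' b' i').mp (hQ i' hi) s'
    · intro hR
      refine ⟨fun s' hs => hR (i, s') (fun h => hs (Prod.mk.inj h).2), fun i' hi => ?_⟩
      rw [beta_symm_eq_iff]
      intro s'
      exact hR (i', s') (fun h => hi (Prod.mk.inj h).1)
  by_cases hR : ∀ p, p ≠ (i, s) → a' p = b' p
  · rw [if_pos hR, if_pos (hiff.mpr hR).1, if_pos (hiff.mpr hR).2, mul_one]
  · rw [if_neg hR]
    by_cases hP : ∀ s', s' ≠ s → (fun s => a' (i, s)) s' = (fun s => b' (i, s)) s'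
    · rw [if_pos hP, if_neg, mul_zero]
      intro hQ; exact hR (hiff.mp ⟨hP, hQ⟩)
    · rw [if_neg hP, zero_mul]

lemma Rm_one : (1 : Matrix (Fin t → Fin 4) (Fin t → Fin 4) F).submatrix (beta t).symm (beta t).symm = 1 := by
  ext a b
  simp [Matrix.one_apply]

/-- transfer of the model -/
lemma model4to2 (Q : ((Fin t → Fin 4) → F) → F) (c₀ : F)
    (hsmul : ∀ (c : F) (x : (Fin t → Fin 4) → F), Q (c • x) = c ^ 2 * Q x)
    (hpol : ∀ x y, QuadraticMap.polar Q x y =
      c₀ * (x ⬝ᵥ (ptM (fun _ => (G4 : Matrix (Fin 4) (Fin 4) F)) : Matrix (Fin t → Fin 4) (Fin t → Fin 4) F) *ᵥ y))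
    (hpure : ∀ vs : Fin t → Fin 4 → F, Q (pv vs) = 0) :
    Model (Q ∘ (fun x : (Fin t × Fin 2 → Fin 2) → F => x ∘ beta t)) c₀ where
  smul c x := by
    show Q ((c • x) ∘ beta t) = c ^ 2 * Q (x ∘ beta t)
    rw [← hsmul]; rfl
  polar x y := by
    have h1 : QuadraticMap.polar (Q ∘ (fun x : (Fin t × Fin 2 → Fin 2) → F => x ∘ beta t)) x y =
        QuadraticMap.polar Q (x ∘ beta t) (y ∘ beta t) := rfl
    rw [h1, hpol]
    congr 1
    simp only [dotProduct, Matrix.mulVec, Function.comp_apply]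
    rw [← Equiv.sum_comp (beta t)]
    apply Finset.sum_congr rfl; intro a _
    congr 1
    rw [← Equiv.sum_comp (beta t)]
    apply Finset.sum_congr rfl; intro b _
    congr 1
    unfold GV
    rw [ptM_apply, ptM_apply, Fintype.prod_prod_type]
    apply Finset.prod_congr rfl; intro i _
    rw [G4_eq]
    rfl
  pure vs := by
    show Q (pv vs ∘ beta t) = 0
    have : pv vs ∘ beta t = pv (fun (i : Fin t) (u : Fin 4) => ∏ s, vs (i, s) (b0 u s)) := by
      funext a
      simp only [Function.comp_apply, pv_apply]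
      rw [Fintype.prod_prod_type]
      rfl
    rw [this, hpure]

lemma f4_single : f4 (Pi.single 0 (1 : F) : Fin 4 → F) (Pi.single 3 1 : Fin 4 → F) = 1 := by
  rw [f4_apply]; simp

/-- an isometry in normal form acts by similitudes on the factors -/
lemma wreath_similitudes (Q : ((Fin t → Fin 4) → F) → F) (c₀ : F) (hc₀ : c₀ ≠ 0)
    (hpol : ∀ x y, QuadraticMap.polar Q x y =
      c₀ * (x ⬝ᵥ (ptM (fun _ => (G4 : Matrix (Fin 4) (Fin 4) F)) : Matrix (Fin t → Fin 4) (Fin t → Fin 4) F) *ᵥ y))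
    (h : Matrix.GeneralLinearGroup (Fin t → Fin 4) F) (hiso : h ∈ Cfsg.isometryGroup F Q)
    (As : Fin t → Matrix (Fin 4) (Fin 4) F) (σ : Equiv.Perm (Fin t))
    (hh : (h : Matrix (Fin t → Fin 4) (Fin t → Fin 4) F) = ptM As * permM σ) (i₀ : Fin t) :
    ∃ C : F, C ≠ 0 ∧ ∀ u v, f4 (As i₀ *ᵥ u) (As i₀ *ᵥ v) * C = f4 u v := by
  rw [mem_iso_iff] at hiso
  have hpres : ∀ x y, QuadraticMap.polar Q ((h : Matrix _ _ F) *ᵥ x) ((h : Matrix _ _ F) *ᵥ y) =
      QuadraticMap.polar Q x y := by
    intro x y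
    unfold QuadraticMap.polar
    rw [← Matrix.mulVec_add, hiso, hiso, hiso]
  have hpv : ∀ a b : Fin t → Fin 4 → F, QuadraticMap.polar Q (pv a) (pv b) = c₀ * ∏ i, f4 (a i) (b i) := by
    intro a b
    rw [hpol, ptM_mulVec_pv, pv_dot_pv]; rfl
  have hact : ∀ us : Fin t → Fin 4 → F, (h : Matrix _ _ F) *ᵥ pv us = pv (fun i => As i *ᵥ us (σ.symm i)) := by
    intro us
    rw [hh, ← Matrix.mulVec_mulVec, permM_mulVec_pv, ptM_mulVec_pv]; rfl
  have key : ∀ u' v' : Fin t → Fin 4 → F,
      ∏ i, f4 (As i *ᵥ u' i) (As i *ᵥ v' i) = ∏ i, f4 (u' i) (v' i) := by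
    intro u' v'
    have h1 := hpres (pv (u' ∘ σ)) (pv (v' ∘ σ))
    rw [hact, hact, hpv, hpv] at h1
    have h2 := mul_left_cancel₀ hc₀ h1
    simp only [Function.comp_apply, Equiv.apply_symm_apply] at h2
    rw [h2]
    exact Equiv.prod_comp σ (fun i => f4 (u' i) (v' i))
  obtain ⟨d0, hd0⟩ : ∃ d0 : Fin 4 → F, d0 = Pi.single 0 1 := ⟨_, rfl⟩
  obtain ⟨d3, hd3⟩ : ∃ d3 : Fin 4 → F, d3 = Pi.single 3 1 := ⟨_, rfl⟩
  obtain ⟨C, hC⟩ : ∃ C, C = ∏ i ∈ Finset.univ.erase i₀,
      f4 (As i *ᵥ d0) (As i *ᵥ d3) := ⟨_, rfl⟩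
  have hsim : ∀ u v, f4 (As i₀ *ᵥ u) (As i₀ *ᵥ v) * C = f4 u v := by
    intro u v
    have h1 := key (Function.update (fun _ => d0) i₀ u)
      (Function.update (fun _ => d3) i₀ v)
    rw [← Finset.mul_prod_erase _ _ (Finset.mem_univ i₀), ← Finset.mul_prod_erase _ _ (Finset.mem_univ i₀),
      Function.update_self, Function.update_self] at h1
    have e1 : ∏ i ∈ Finset.univ.erase i₀,
        f4 (As i *ᵥ Function.update (fun _ => d0) i₀ u i)
          (As i *ᵥ Function.update (fun _ => d3) i₀ v i) = C := by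
      rw [hC]
      apply Finset.prod_congr rfl
      intro i hi
      rw [Function.update_of_ne (Finset.ne_of_mem_erase hi), Function.update_of_ne (Finset.ne_of_mem_erase hi)]
    have e2 : ∏ i ∈ Finset.univ.erase i₀,
        f4 (Function.update (fun _ => d0) i₀ u i)
          (Function.update (fun _ => d3) i₀ v i) = 1 := by
      apply Finset.prod_eq_one
      intro i hi
      rw [Function.update_of_ne (Finset.ne_of_mem_erase hi), Function.update_of_ne (Finset.ne_of_mem_erase hi)]
      rw [hd0, hd3]; exact f4_single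
    rw [e1, e2, mul_one] at h1
    exact h1
  refine ⟨C, ?_, hsim⟩
  intro h0
  have := hsim d0 d3
  rw [h0, mul_zero, hd0, hd3, f4_single] at this
  exact zero_ne_one this

end Cfsg.Agent.Lib.Helper94.Tw
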