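import Cfsg.Agent.Lib.Helper94.Tw8

set_option autoImplicit false

namespace Cfsg.Agent.Lib.Helper94.Tw

open scoped Matrix
open Cfsg

set_option linter.unusedSectionVars false
set_option linter.unnecessarySimpa false
set_option linter.style.haveILetI false
set_option linter.unusedVariables false
set_option linter.unusedSimpArgs false
set_option maxHeartbeats 1000000

variable {F : Type*} [Field F] {t : ℕ}

lemma b0_one (s : Fin 2) : b0 1 s = if s = 0 then 1 else 0 := by fin_cases s <;> rfl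

lemma b0_zero (s : Fin 2) : b0 0 s = 0 := by fin_cases s <;> rfl

lemma beta_zero : beta t (fun _ => 0) = fun _ => 0 := by
  funext ⟨i, s⟩
  rw [beta_apply, b0_zero]

lemma beta_upd1 (i₁ : Fin t) :
    beta t (Function.update (fun _ => 0) i₁ 1) = Function.update (fun _ => 0) (i₁, 0) 1 := by
  funext ⟨i, s⟩
  rw [beta_apply]
  simp only [Function.update_apply, Prod.mk.injEq]
  by_cases h1 : i = i₁ <;> by_cases hs : s = 0 <;> simp [h1, hs, b0_one, b0_zero]

lemma beta_upd2 (i₁ i₂ : Fin t) (h12 : i₁ ≠ i₂) :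
    beta t (Function.update (Function.update (fun _ => 0) i₁ 1) i₂ 1) =
      Function.update (Function.update (fun _ => 0) (i₁, 0) 1) (i₂, 0) 1 := by
  funext ⟨i, s⟩
  rw [beta_apply]
  simp only [Function.update_apply, Prod.mk.injEq]
  by_cases h2 : i = i₂ <;> by_cases h1 : i = i₁ <;> by_cases hs : s = 0 <;> simp [h1, h2, hs, b0_one, b0_zero]

lemma Rm_add {κ ι : Type} (e : ι → κ) (A B : Matrix κ κ F) :
    (A + B).submatrix e e = A.submatrix e e + B.submatrix e e := rfl

lemma Rm_smul {κ ι : Type} (e : ι → κ) (c : F) (A : Matrix κ κ F) :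
    (c • A).submatrix e e = c • A.submatrix e e := rfl

lemma glReindex_val {κ ι : Type} [Fintype κ] [DecidableEq κ] [Fintype ι] [DecidableEq ι] (e : κ ≃ ι)
    (g : Matrix.GeneralLinearGroup κ F) :
    ((Geo.glReindex (F := F) e g : Matrix.GeneralLinearGroup ι F) : Matrix ι ι F) =
      (g : Matrix κ κ F).submatrix e.symm e.symm := by
  simp [Geo.glReindex, Matrix.reindex_apply]

lemma glReindex_symm_apply {κ ι : Type} [Fintype κ] [DecidableEq κ] [Fintype ι] [DecidableEq ι] (e : κ ≃ ι)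
    (g : Matrix.GeneralLinearGroup κ F) :
    Geo.glReindex (F := F) e.symm (Geo.glReindex (F := F) e g) = g := by
  apply Units.ext
  rw [glReindex_val, glReindex_val]
  ext a b
  simp

section chartwo
variable (h2 : (2 : F) = 0)
include h2

/-- the instance `k = 4` -/
theorem inst4 {Q : ((Fin t → Fin 4) → F) → F} {c₀ : F} (hc₀ : c₀ ≠ 0)
    (hsmul : ∀ (c : F) (x : (Fin t → Fin 4) → F), Q (c • x) = c ^ 2 * Q x)
    (hpol : ∀ x y, QuadraticMap.polar Q x y =
      c₀ * (x ⬝ᵥ (ptM (fun _ => (G4 : Matrix (Fin 4) (Fin 4) F)) : Matrix (Fin t → Fin 4) (Fin t → Fin 4) F) *ᵥ y))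
    (hpure : ∀ vs : Fin t → Fin 4 → F, Q (pv vs) = 0) (ht : 2 ≤ t) :
    ∃ K : Subgroup (Matrix.GeneralLinearGroup (Fin t → Fin 4) F),
      Geo.tensorWreathStandard 4 t F ⊓ Geo.omegaGL Q < K ∧ K < Geo.omegaGL Q := by
  have hTsp := Tsp.reindex (F := F) (beta t)
  obtain ⟨H', hH'⟩ : ∃ H', H' = (Geo.tensorWreathStandard 4 t F).map
      (Geo.glReindex (F := F) (beta t)).toMonoidHom := ⟨_, rfl⟩
  have hmap : H'.map (Geo.glReindex (F := F) (beta t).symm).toMonoidHom = Geo.tensorWreathStandard 4 t F := by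
    rw [hH', Subgroup.map_map]
    convert Subgroup.map_id _
    ext g : 1
    exact glReindex_symm_apply (beta t) g
  have hbetween := hTsp.between Q H'
  rw [hmap] at hbetween
  apply hbetween
  have M := model4to2 Q c₀ hsmul hpol hpure
  obtain ⟨i₁, hi₁⟩ : ∃ i : Fin t, i = ⟨0, by omega⟩ := ⟨_, rfl⟩
  obtain ⟨i₂, hi₂⟩ : ∃ i : Fin t, i = ⟨1, by omega⟩ := ⟨_, rfl⟩
  have hi12 : i₁ ≠ i₂ := by
    rw [hi₁, hi₂]; intro h; have := Fin.mk.inj_iff.mp h; omega
  apply core h2 M (i₁, 0) (i₂, 0) (i₁, 1) (i₂, 1) (by simp [hi12]) (by simp) (by simp [hi12]) (by simp [hi12.symm])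
    (by simp) (by simp [hi12]) H'
  · -- the wreath group normalises `L`
    intro h hh hiso
    rw [hH'] at hh
    obtain ⟨h₄, hh₄, rfl⟩ := hh
    have hiso₄ : h₄ ∈ Cfsg.isometryGroup F Q := by
      rw [hTsp.iso Q]
      exact ⟨_, hiso, glReindex_symm_apply (beta t) h₄⟩
    obtain ⟨As, σ, h1⟩ := wreath_normal_form h₄ hh₄
    have hv : (((Geo.glReindex (F := F) (beta t)).toMonoidHom h₄ : Matrix.GeneralLinearGroup _ F) : Matrix _ _ F) =
        (h₄ : Matrix _ _ F).submatrix (beta t).symm (beta t).symm := glReindex_val (beta t) h₄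
    have hvi : ((((Geo.glReindex (F := F) (beta t)).toMonoidHom h₄)⁻¹ : Matrix.GeneralLinearGroup _ F) : Matrix _ _ F) =
        ((h₄⁻¹ : Matrix.GeneralLinearGroup _ F) : Matrix _ _ F).submatrix (beta t).symm (beta t).symm := by
      rw [← map_inv]; exact glReindex_val (beta t) h₄⁻¹
    rw [hv, hvi]
    have hgen : ∀ (i : Fin t) (s : Fin 2) (p b c d e : F),
        (h₄ : Matrix _ _ F).submatrix (beta t).symm (beta t).symm *
          (iota i (L5mat p b c d e)).submatrix (beta t).symm (beta t).symm *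
          ((h₄⁻¹ : Matrix.GeneralLinearGroup _ F) : Matrix _ _ F).submatrix (beta t).symm (beta t).symm ∈
          Lsp F (Fin t × Fin 2) := by
      intro i s p b c d e
      rw [Matrix.submatrix_mul_equiv, Matrix.submatrix_mul_equiv, conj_iota h₄ As σ h1]
      obtain ⟨C, hC, hsim⟩ := wreath_similitudes Q c₀ hc₀ hpol h₄ hiso₄ _ σ h1 (σ i)
      obtain ⟨p', b', c', d', e', hL⟩ := L5_conj h2 (As (σ i) : Matrix (Fin 4) (Fin 4) F)
        (((As (σ i))⁻¹ : Matrix.GeneralLinearGroup (Fin 4) F) : Matrix (Fin 4) (Fin 4) F)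
        (by rw [← Units.val_mul, mul_inv_cancel, Units.val_one])
        (by rw [← Units.val_mul, inv_mul_cancel, Units.val_one]) C hC hsim p b c d e
      rw [hL, L5mat_eq, iota_add, iota_add, iota_add, iota_add, iota_smul, iota_smul, iota_smul, iota_smul,
        iota_smul, iota_one, Rm_add, Rm_add, Rm_add, Rm_add, Rm_smul, Rm_smul, Rm_smul, Rm_smul, Rm_smul,
        Rm_iota, Rm_iota, Rm_iota, Rm_iota, Rm_one]
      exact add_mem (add_mem (add_mem (add_mem (Submodule.smul_mem _ _ one_mem_Lsp)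
        (Submodule.smul_mem _ _ (F_mem_Lsp _))) (Submodule.smul_mem _ _ (E_mem_Lsp _)))
        (Submodule.smul_mem _ _ (F_mem_Lsp _))) (Submodule.smul_mem _ _ (E_mem_Lsp _))
    apply conj_mem_Lsp
    · rw [mul_one, Matrix.submatrix_mul_equiv, ← Units.val_mul, mul_inv_cancel, Units.val_one, Rm_one]
      exact one_mem_Lsp
    · rintro ⟨i, s⟩
      rw [← Rm_iota]
      fin_cases s
      · show _ * (iota i (lift4 0 E2)).submatrix _ _ * _ ∈ _
        rw [lift4_0_E]; exact hgen i 0 _ _ _ _ _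
      · show _ * (iota i (lift4 1 E2)).submatrix _ _ * _ ∈ _
        rw [lift4_1_E]; exact hgen i 1 _ _ _ _ _
    · rintro ⟨i, s⟩
      rw [← Rm_iota]
      fin_cases s
      · show _ * (iota i (lift4 0 F2)).submatrix _ _ * _ ∈ _
        rw [lift4_0_F]; exact hgen i 0 _ _ _ _ _
      · show _ * (iota i (lift4 1 F2)).submatrix _ _ * _ ∈ _
        rw [lift4_1_F]; exact hgen i 1 _ _ _ _ _
  · -- `1 + e₁e₂` is not in the wreath group
    intro h hh heq
    rw [hH'] at hh
    obtain ⟨h₄, hh₄, rfl⟩ := hh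
    have hv : (((Geo.glReindex (F := F) (beta t)).toMonoidHom h₄ : Matrix.GeneralLinearGroup _ F) : Matrix _ _ F) =
        (h₄ : Matrix _ _ F).submatrix (beta t).symm (beta t).symm := glReindex_val (beta t) h₄
    rw [hv] at heq
    obtain ⟨ws, hws⟩ := wreath_pure h₄ hh₄ (fun j => Pi.single ((fun _ => 0 : Fin t → Fin 4) j) 1)
    rw [← single_eq_pv] at hws
    have hval : ∀ a : Fin t → Fin 4, pv ws a =
        ((1 + ptM (fam2 ((i₁, (0 : Fin 2)) : Fin t × Fin 2) (E2 : Matrix (Fin 2) (Fin 2) F) (i₂, 0) E2)) *ᵥ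
          Pi.single (fun _ => 0) 1) (beta t a) := by
      intro a
      rw [← hws, Matrix.mulVec_single_one, Matrix.mulVec_single_one, ← heq]
      simp only [Matrix.col_apply, Matrix.submatrix_apply, Equiv.symm_apply_apply]
      rw [← beta_zero, Equiv.symm_apply_apply]
    obtain ⟨c1, c2, c3⟩ := gE_col (F := F) ((i₁, (0 : Fin 2)) : Fin t × Fin 2) (i₂, 0) (by simp [hi12])
    have hex := pv_exchange ws (fun _ => 0) (Function.update (Function.update (fun _ => 0) i₁ 1) i₂ 1) i₁
    rw [Function.update_of_ne hi12, Function.update_self, hval, hval, hval, beta_zero, beta_upd2 i₁ i₂ hi12,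
      beta_upd1, c1, c2, c3] at hex
    simp at hex

end chartwo

end Cfsg.Agent.Lib.Helper94.Tw
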