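import Cfsg.Agent.Lib.Helper94.SLGen
import Cfsg.Agent.Lib.Helper8.WittHerm

set_option autoImplicit false

namespace Cfsg.Agent.Lib.Helper94

open scoped Matrix
open Cfsg

set_option linter.unusedSectionVars false
set_option linter.unnecessarySimpa false
set_option linter.style.haveILetI false
set_option linter.unusedVariables false

variable {ι : Type} [Fintype ι] [DecidableEq ι] {F : Type*} [Field F]

section uform
variable {σ : F ≃+* F} {f : (ι → F) → (ι → F) → F} (hf : Geo.IsUnitaryForm σ f)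
include hf

lemma uf_add_left (x y v : ι → F) : f (x + y) v = f x v + f y v := hf.add_left x y v
lemma uf_smul_left (c : F) (x v : ι → F) : f (c • x) v = c * f x v := hf.smul_left c x v
lemma uf_herm (v w : ι → F) : f v w = σ (f w v) := hf.herm v w
lemma uf_inv (a : F) : σ (σ a) = a := hf.involutive a

lemma uf_add_right (v x y : ι → F) : f v (x + y) = f v x + f v y := by
  rw [uf_herm hf, uf_add_left hf, map_add, ← uf_herm hf, ← uf_herm hf]

lemma uf_smul_right (c : F) (v x : ι → F) : f v (c • x) = σ c * f v x := by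
  rw [uf_herm hf, uf_smul_left hf, map_mul, ← uf_herm hf]

lemma uf_zero_left (v : ι → F) : f 0 v = 0 := by
  have := uf_smul_left hf 0 v v
  simpa using this

lemma uf_zero_right (v : ι → F) : f v 0 = 0 := by
  rw [uf_herm hf, uf_zero_left hf, map_zero]

lemma uf_neg_left (x v : ι → F) : f (-x) v = - f x v := by
  have := uf_smul_left hf (-1) x v
  simpa using this

lemma uf_neg_right (v x : ι → F) : f v (-x) = - f v x := by
  have := uf_smul_right hf (-1) v x
  simpa using this

lemma uf_sub_left (x y v : ι → F) : f (x - y) v = f x v - f y v := by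
  rw [sub_eq_add_neg, uf_add_left hf, uf_neg_left hf, sub_eq_add_neg]

lemma uf_sub_right (v x y : ι → F) : f v (x - y) = f v x - f v y := by
  rw [sub_eq_add_neg, uf_add_right hf, uf_neg_right hf, sub_eq_add_neg]

lemma uf_self_fixed (v : ι → F) : σ (f v v) = f v v := (uf_herm hf v v).symm

lemma uf_eq_zero_comm {v w : ι → F} (h : f v w = 0) : f w v = 0 := by
  rw [uf_herm hf, h, map_zero]

lemma uf_ext_right {a b : ι → F} (h : ∀ x, f x a = f x b) : a = b := by
  by_contra hne
  have hne' : a - b ≠ 0 := sub_ne_zero.2 hne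
  obtain ⟨⟨x, hx⟩, _⟩ := hf.nondegenerate (a - b) hne'
  apply hx
  rw [uf_sub_right hf, h x, sub_self]

lemma uf_exists_ne (u : ι → F) (hu : u ≠ 0) : ∃ z, f z u ≠ 0 := (hf.nondegenerate u hu).1

/-- the form as a Mathlib sesquilinear map (semilinear in the first variable) -/
noncomputable def ufB : (ι → F) →ₛₗ[(σ : F →+* F)] (ι → F) →ₗ[F] F :=
  LinearMap.mk₂'ₛₗ (σ : F →+* F) (RingHom.id F) (fun u v => f v u)
    (fun m₁ m₂ n => uf_add_right hf n m₁ m₂)
    (fun c m n => by simp only [smul_eq_mul]; exact uf_smul_right hf c n m)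
    (fun m n₁ n₂ => uf_add_left hf n₁ n₂ m)
    (fun c m n => by simp only [smul_eq_mul, RingHom.id_apply]; exact uf_smul_left hf c n m)

lemma ufB_apply (u v : ι → F) : ufB hf u v = f v u := rfl

lemma ufB_symm : (ufB hf).IsSymm := ⟨fun x y => by
  rw [ufB_apply, ufB_apply]
  exact (uf_herm hf x y).symm⟩

lemma ufB_nondeg : (ufB hf).Nondegenerate := by
  constructor
  · intro x hx
    by_contra hne
    obtain ⟨⟨y, hy⟩, _⟩ := hf.nondegenerate x hne
    exact hy (hx y)
  · intro y hy
    by_contra hne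
    obtain ⟨_, ⟨x, hx⟩⟩ := hf.nondegenerate y hne
    exact hx (hy x)

lemma uf_sigma_ne : (σ : F →+* F) ≠ RingHom.id F := by
  intro h
  apply hf.ne_refl
  ext a
  have := congrArg (fun φ : F →+* F => φ a) h
  simpa using this

/-- Riesz representation -/
lemma uf_riesz (φ : (ι → F) →ₗ[F] F) : ∃ a : ι → F, ∀ x, f x a = φ x := by
  obtain ⟨u, hu⟩ := Cfsg.Agent.Lib.Helper8.herm_riesz (σ : F →+* F) (uf_inv hf) (ufB hf) (ufB_nondeg hf) φ
  exact ⟨u, fun x => hu x⟩

/-- separation by the orthogonal complement -/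
lemma uf_exists_orth (X : Submodule F (ι → F)) (x : ι → F) (hx : x ∉ X) :
    ∃ u : ι → F, (∀ x' ∈ X, f x' u = 0) ∧ f x u ≠ 0 :=
  Cfsg.Agent.Lib.Helper8.herm_exists_orth_of_notMem (σ : F →+* F) (uf_inv hf) (ufB hf) (ufB_nondeg hf) X x hx

/-! ### field facts -/

lemma exists_moved : ∃ θ : F, σ θ ≠ θ := by
  by_contra hcon
  push_neg at hcon
  apply hf.ne_refl
  ext a
  exact hcon a

/-- a nonzero element of trace zero -/
lemma exists_trace_zero : ∃ d : F, d ≠ 0 ∧ σ d = -d := by
  obtain ⟨θ, hθ⟩ := exists_moved hf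
  refine ⟨θ - σ θ, sub_ne_zero.2 (Ne.symm hθ), ?_⟩
  rw [map_sub, uf_inv hf]
  ring

/-- an element of norm one different from one -/
lemma exists_norm_one : ∃ ε : F, ε ≠ 1 ∧ ε * σ ε = 1 := by
  obtain ⟨θ, hθ⟩ := exists_moved hf
  have hθ0 : θ ≠ 0 := by
    intro h0
    apply hθ
    rw [h0, map_zero]
  have hσθ0 : σ θ ≠ 0 := by
    intro h0
    apply hθ0
    have := uf_inv hf θ
    rw [h0, map_zero] at this
    exact this.symm
  refine ⟨θ / σ θ, ?_, ?_⟩
  · intro h1
    apply hθ
    rw [div_eq_one_iff_eq hσθ0] at h1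
    exact h1.symm
  · rw [map_div₀, uf_inv hf]
    field_simp

/-- the ratio of two trace-zero elements is fixed -/
lemma trace_zero_ratio {d e : F} (hd : σ d = -d) (he : σ e = -e) : σ (d / e) = d / e := by
  rw [map_div₀, hd, he, neg_div_neg_eq]

end uform

end Cfsg.Agent.Lib.Helper94
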