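import Cfsg.Agent.Lib.Helper94.UOrth

set_option autoImplicit false

namespace Cfsg.Agent.Lib.Helper94

open scoped Matrix
open Cfsg

set_option linter.unusedSectionVars false
set_option linter.unnecessarySimpa false
set_option linter.style.haveILetI false
set_option linter.unusedVariables false

variable {ι : Type} [Fintype ι] [DecidableEq ι] {F : Type*} [Field F] [Finite F]

section uiso
variable {σ : F ≃+* F} {f : (ι → F) → (ι → F) → F} (hf : Geo.IsUnitaryForm σ f)
include hf

lemma uf_smul_smul (c : F) (v : ι → F) : f (c • v) (c • v) = c * σ c * f v v := by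
  rw [uf_smul_left hf, uf_smul_right hf]; ring

/-- every vector orthogonal to `b` is a sum of two isotropic vectors orthogonal to `b` -/
lemma iso_sum (hn : 4 < Fintype.card ι) (b x : ι → F) (hxb : f x b = 0) :
    ∃ x1 x2 : ι → F, f x1 x1 = 0 ∧ f x2 x2 = 0 ∧ f x1 b = 0 ∧ f x2 b = 0 ∧ x = x1 + x2 := by
  by_cases hs : f x x = 0
  · exact ⟨x, 0, hs, uf_zero_left hf 0, hxb, uf_zero_left hf b, (add_zero x).symm⟩
  · have hfix : σ (-(f x x)) = -(f x x) := by rw [map_neg, uf_self_fixed hf]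
    obtain ⟨y, hy, hyy⟩ := exists_norm_orth hf ![b, x] (by simp; omega) (-(f x x)) hfix (neg_ne_zero.2 hs)
    have hyb : f y b = 0 := by simpa using hy 0
    have hyx : f y x = 0 := by simpa using hy 1
    have hxy : f x y = 0 := uf_eq_zero_comm hf hyx
    obtain ⟨ε, hε1, hεn⟩ := exists_norm_one hf
    have hε : ε - 1 ≠ 0 := sub_ne_zero.2 hε1
    have h1 : f (x + y) (x + y) = 0 := by
      rw [uf_add_left hf, uf_add_right hf, uf_add_right hf, hxy, hyx, hyy]; ring
    have h2 : f (x + ε • y) (x + ε • y) = 0 := by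
      rw [uf_add_left hf, uf_add_right hf, uf_add_right hf, uf_smul_left hf, uf_smul_left hf, uf_smul_right hf,
        uf_smul_right hf, hxy, hyx, hyy]
      linear_combination (-(f x x)) * hεn
    refine ⟨(ε / (ε - 1)) • (x + y), (-1 / (ε - 1)) • (x + ε • y), ?_, ?_, ?_, ?_, ?_⟩
    · rw [uf_smul_smul hf, h1, mul_zero]
    · rw [uf_smul_smul hf, h2, mul_zero]
    · rw [uf_smul_left hf, uf_add_left hf, hxb, hyb, add_zero, mul_zero]
    · rw [uf_smul_left hf, uf_add_left hf, uf_smul_left hf, hxb, hyb, mul_zero, add_zero, mul_zero]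
    · have e1 : ε / (ε - 1) + -1 / (ε - 1) = 1 := by field_simp; ring
      have e2 : ε / (ε - 1) + -1 / (ε - 1) * ε = 0 := by field_simp; ring
      calc x = (1 : F) • x + (0 : F) • y := by rw [one_smul, zero_smul, add_zero]
        _ = (ε / (ε - 1) + -1 / (ε - 1)) • x + (ε / (ε - 1) + -1 / (ε - 1) * ε) • y := by rw [e1, e2]
        _ = (ε / (ε - 1)) • (x + y) + (-1 / (ε - 1)) • (x + ε • y) := by
          simp only [smul_add, add_smul, smul_smul]; abel

/-- an isotropic vector orthogonal to `b1` and not orthogonal to `b2` -/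
lemma exists_iso_orth_ne (hn : 6 < Fintype.card ι) (b1 b2 : ι → F) (h : b2 ∉ Submodule.span F {b1}) :
    ∃ u : ι → F, f u u = 0 ∧ f u b1 = 0 ∧ f u b2 ≠ 0 := by
  obtain ⟨u0, hu0, hne⟩ := uf_exists_orth hf (Submodule.span F {b1}) b2 h
  have hub1 : f u0 b1 = 0 := uf_eq_zero_comm hf (hu0 b1 (Submodule.mem_span_singleton_self b1))
  have hub2 : f u0 b2 ≠ 0 := by
    intro h0
    exact hne (uf_eq_zero_comm hf h0)
  by_cases hs : f u0 u0 = 0
  · exact ⟨u0, hs, hub1, hub2⟩
  · have hfix : σ (-(f u0 u0)) = -(f u0 u0) := by rw [map_neg, uf_self_fixed hf]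
    obtain ⟨y, hy, hyy⟩ := exists_norm_orth hf ![b1, b2, u0] (by simp; omega) (-(f u0 u0)) hfix
      (neg_ne_zero.2 hs)
    have hyb1 : f y b1 = 0 := by simpa using hy 0
    have hyb2 : f y b2 = 0 := by simpa using hy 1
    have hyu : f y u0 = 0 := by simpa using hy 2
    have huy : f u0 y = 0 := uf_eq_zero_comm hf hyu
    refine ⟨u0 + y, ?_, ?_, ?_⟩
    · rw [uf_add_left hf, uf_add_right hf, uf_add_right hf, huy, hyu, hyy]; ring
    · rw [uf_add_left hf, hub1, hyb1, add_zero]
    · rw [uf_add_left hf, hyb2, add_zero]; exact hub2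

/-- an isotropic vector orthogonal to `b1`, `b2`, together with a witness that it is outside their span -/
lemma exists_iso_orth2 (hn : 6 < Fintype.card ι) (b1 b2 : ι → F) :
    ∃ z y1 : ι → F, f z z = 0 ∧ f z b1 = 0 ∧ f z b2 = 0 ∧ f b1 y1 = 0 ∧ f b2 y1 = 0 ∧ f z y1 ≠ 0 := by
  obtain ⟨y1, hy1, hy1n⟩ := exists_norm_orth hf ![b1, b2] (by simp; omega) 1 (map_one σ) one_ne_zero
  have hfix : σ (-(1 : F)) = -1 := by rw [map_neg, map_one]
  obtain ⟨y2, hy2, hy2n⟩ := exists_norm_orth hf ![b1, b2, y1] (by simp; omega) (-1) hfix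
    (neg_ne_zero.2 one_ne_zero)
  have h11 : f y1 b1 = 0 := by simpa using hy1 0
  have h12 : f y1 b2 = 0 := by simpa using hy1 1
  have h21 : f y2 b1 = 0 := by simpa using hy2 0
  have h22 : f y2 b2 = 0 := by simpa using hy2 1
  have h2y : f y2 y1 = 0 := by simpa using hy2 2
  have hy2' : f y1 y2 = 0 := uf_eq_zero_comm hf h2y
  refine ⟨y1 + y2, y1, ?_, ?_, ?_, uf_eq_zero_comm hf h11, uf_eq_zero_comm hf h12, ?_⟩
  · rw [uf_add_left hf, uf_add_right hf, uf_add_right hf, hy2', h2y, hy1n, hy2n]; ring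
  · rw [uf_add_left hf, h11, h21, add_zero]
  · rw [uf_add_left hf, h12, h22, add_zero]
  · rw [uf_add_left hf, h2y, add_zero, hy1n]; exact one_ne_zero

/-- an isotropic vector not orthogonal to either of two nonzero vectors -/
lemma exists_iso_both (hn : 6 < Fintype.card ι) (u u' : ι → F) (hu : u ≠ 0) (hu' : u' ≠ 0) :
    ∃ z : ι → F, f z z = 0 ∧ f z u ≠ 0 ∧ f z u' ≠ 0 := by
  have h0 : ∀ v : ι → F, v ≠ 0 → v ∉ Submodule.span F {(0 : ι → F)} := by
    intro v hv hmem
    rw [Submodule.span_zero_singleton, Submodule.mem_bot] at hmem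
    exact hv hmem
  obtain ⟨z1, hz1, _, h1⟩ := exists_iso_orth_ne hf hn 0 u (h0 u hu)
  obtain ⟨z2, hz2, _, h2⟩ := exists_iso_orth_ne hf hn 0 u' (h0 u' hu')
  by_cases h3 : f z1 u' = 0
  · by_cases h4 : f z2 u = 0
    · -- combine
      obtain ⟨d, hd0, hd⟩ := exists_trace_zero hf
      by_cases hκ : f z1 z2 = 0
      · refine ⟨z1 + z2, ?_, ?_, ?_⟩
        · rw [uf_add_left hf, uf_add_right hf, uf_add_right hf, hz1, hz2, hκ, uf_eq_zero_comm hf hκ]; ring
        · rw [uf_add_left hf, h4, add_zero]; exact h1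
        · rw [uf_add_left hf, h3, zero_add]; exact h2
      · have hσκ : σ (f z1 z2) ≠ 0 := fun h => hκ ((map_eq_zero σ).1 h)
        have hc0 : σ d / σ (f z1 z2) ≠ 0 := by
          apply div_ne_zero _ hσκ
          intro h
          exact hd0 ((map_eq_zero σ).1 h)
        refine ⟨z1 + (σ d / σ (f z1 z2)) • z2, ?_, ?_, ?_⟩
        · rw [uf_add_left hf, uf_add_right hf, uf_add_right hf, uf_smul_left hf, uf_smul_left hf,
            uf_smul_right hf, uf_smul_right hf, hz1, hz2, uf_herm hf z2 z1, map_div₀, uf_inv hf, uf_inv hf, hd]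
          field_simp
          ring
        · rw [uf_add_left hf, uf_smul_left hf, h4, mul_zero, add_zero]; exact h1
        · rw [uf_add_left hf, uf_smul_left hf, h3, zero_add]; exact mul_ne_zero hc0 h2
    · exact ⟨z2, hz2, h4, h2⟩
  · exact ⟨z1, hz1, h1, h3⟩

end uiso

end Cfsg.Agent.Lib.Helper94
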