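import Cfsg.Agent.Lib.Helper94.UWitt

set_option autoImplicit false

namespace Cfsg.Agent.Lib.Helper94

open scoped Matrix
open Cfsg

set_option linter.unusedSectionVars false
set_option linter.unnecessarySimpa false
set_option linter.style.haveILetI false
set_option linter.unusedVariables false

variable {ι : Type} [Fintype ι] [DecidableEq ι] {F : Type*} [Field F] [Finite F]

section umax
variable {σ : F ≃+* F} {f : (ι → F) → (ι → F) → F} (hf : Geo.IsUnitaryForm σ f)
  (H : Subgroup (Matrix.GeneralLinearGroup ι F))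
  (hM : Geo.similarityGroup f ⊓ Geo.specialLinear ι F ≤ H)
include hf hM

lemma isom_mem_H (g : Matrix.GeneralLinearGroup ι F) (hg : IsIsom f g) (hd : (g : Matrix ι ι F).det = 1) :
    g ∈ H := by
  apply hM
  refine ⟨⟨1, fun u v => ?_⟩, (mem_SL g).2 hd⟩
  rw [hg u v, Units.val_one, one_mul]

/-- the unitary transvections are in `H` -/
lemma good_self (u : ι → F) (e : F) (hu : f u u = 0) (he : σ e = -e) : Good hf H u (e • u) :=
  ⟨uf_self_smul hf u e hu, isom_mem_H hf H hM _ (UT_self_isom hf u e hu he) (UT_det hf _ _ _)⟩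

omit hM in
/-- independence from a separating vector -/
lemma indep_of_sep (w a y : ι → F) (hw : w ≠ 0) (hwy : f w y = 0) (hay : f a y ≠ 0) :
    LinearIndependent F ![w, a] := by
  rw [LinearIndependent.pair_iff]
  intro s t hst
  have h1 : f (s • w + t • a) y = 0 := by rw [hst, uf_zero_left hf]
  rw [uf_add_left hf, uf_smul_left hf, uf_smul_left hf, hwy, mul_zero, zero_add] at h1
  have ht : t = 0 := by
    rcases mul_eq_zero.1 h1 with h | h
    · exact h
    · exact absurd h hay
  rw [ht, zero_smul, add_zero] at hst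
  rcases smul_eq_zero.1 hst with h | h
  · exact ⟨h, ht⟩
  · exact absurd h hw

omit hM in
/-- independence from non-membership in the span -/
lemma indep_of_notMem (w a : ι → F) (hw : w ≠ 0) (ha : a ∉ Submodule.span F {w}) :
    LinearIndependent F ![w, a] := by
  rw [LinearIndependent.pair_iff' hw]
  intro c hc
  apply ha
  rw [Submodule.mem_span_singleton]
  exact ⟨c, hc⟩

/-- Step C: one good totally isotropic independent pair makes all of them good -/
lemma step_C (hn : 4 < Fintype.card ι) {w a : ι → F} (hg : Good hf H w a) (hi : LinearIndependent F ![w, a])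
    (hw : f w w = 0) (ha : f a a = 0) {w' a' : ι → F} (hi' : LinearIndependent F ![w', a'])
    (hw' : f w' w' = 0) (ha' : f a' a' = 0) (hwa' : f w' a' = 0) : Good hf H w' a' := by
  have hwa : f w a = 0 := hg.1
  obtain ⟨g, hg1, hg2, hg3, hg4⟩ := witt_pair hf hn w a w' a' hi hi' (by rw [hw, hw']) (by rw [ha, ha'])
    (by rw [hwa, hwa'])
  have := good_isom hf H hg (isom_mem_H hf H hM g hg1 hg2) hg1
  rw [hg3, hg4] at this
  exact this

section afterC
variable (hC : ∀ w' a' : ι → F, LinearIndependent F ![w', a'] → f w' w' = 0 → f a' a' = 0 → f w' a' = 0 →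
  Good hf H w' a')
include hC

omit hM in
/-- Step D -/
lemma step_D (hn : 6 < Fintype.card ι) (w : ι → F) (hw : f w w = 0) (e : F) : Good hf H w (e • w) := by
  by_cases hw0 : w = 0
  · rw [hw0]; exact good_zero_left hf H _
  · obtain ⟨z, y1, hzz, hzw, _, hwy, _, hzy⟩ := exists_iso_orth2 hf hn w w
    have hwz : f w z = 0 := uf_eq_zero_comm hf hzw
    have h1 : Good hf H w z := hC w z (indep_of_sep hf w z y1 hw0 hwy hzy) hw hzz hwz
    have h2 : Good hf H w (e • w - z) := by
      apply hC w (e • w - z)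
      · apply indep_of_sep hf w (e • w - z) y1 hw0 hwy
        rw [uf_sub_left hf, uf_smul_left hf, hwy, mul_zero, zero_sub]
        exact neg_ne_zero.2 hzy
      · exact hw
      · rw [uf_sub_left hf, uf_sub_right hf, uf_sub_right hf, uf_smul_left hf, uf_smul_left hf, uf_smul_right hf,
          uf_smul_right hf, hw, hwz, hzw, hzz]
        ring
      · rw [uf_sub_right hf, uf_smul_right hf, hw, hwz]
        ring
    have h3 := good_add_right hf H h1 h2
    rw [add_sub_cancel] at h3
    exact h3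

omit hM in
lemma step_E1 (hn : 6 < Fintype.card ι) (w a : ι → F) (hw : f w w = 0) (ha : f a a = 0) (hwa : f w a = 0) :
    Good hf H w a := by
  by_cases hw0 : w = 0
  · rw [hw0]; exact good_zero_left hf H _
  · by_cases hmem : a ∈ Submodule.span F {w}
    · obtain ⟨e, rfl⟩ := Submodule.mem_span_singleton.1 hmem
      exact step_D hf H hC hn w hw e
    · exact hC w a (indep_of_notMem hf w a hw0 hmem) hw ha hwa

omit hM in
lemma step_E2 (hn : 6 < Fintype.card ι) (w a : ι → F) (hw : f w w = 0) (hwa : f w a = 0) :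
    Good hf H w a := by
  obtain ⟨a1, a2, h1, h2, h3, h4, rfl⟩ := iso_sum hf (by omega) w a (uf_eq_zero_comm hf hwa)
  exact good_add_right hf H (step_E1 hf H hC hn w a1 hw h1 (uf_eq_zero_comm hf h3))
    (step_E1 hf H hC hn w a2 hw h2 (uf_eq_zero_comm hf h4))

omit hM in
lemma step_E3 (hn : 6 < Fintype.card ι) (w a : ι → F) (hwa : f w a = 0) : Good hf H w a := by
  obtain ⟨w1, w2, h1, h2, h3, h4, rfl⟩ := iso_sum hf (by omega) a w hwa
  exact good_add_left hf H (step_E2 hf H hC hn w1 a h1 h3) (step_E2 hf H hC hn w2 a h2 h4)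

omit hM in
lemma contains_trans (hn : 6 < Fintype.card ι) : ContainsTransvections H := by
  intro g w φ hφ hg
  obtain ⟨a, ha⟩ := uf_riesz hf φ
  have hwa : f w a = 0 := by rw [ha]; exact hφ
  obtain ⟨h, hmem⟩ := step_E3 hf H hC hn w a hwa
  have : g = UT hf w a h := by
    apply GL_ext
    intro x
    rw [hg, UT_mulVec, ha]
  rw [this]
  exact hmem

end afterC

/-- Step 5 (a1) -/
lemma step_5a1 (hn : 6 < Fintype.card ι) {w0 a0 : ι → F} (h0 : Good hf H w0 a0) (hw0 : w0 ≠ 0)
    (hiso : f w0 w0 = 0) (hnot : a0 ∉ Submodule.span F {w0}) :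
    ∃ w a : ι → F, Good hf H w a ∧ LinearIndependent F ![w, a] ∧ f w w = 0 ∧ f a a = 0 := by
  obtain ⟨d, hd0, hd⟩ := exists_trace_zero hf
  have hwa : f w0 a0 = 0 := h0.1
  obtain ⟨u, huu, huw, hua⟩ := exists_iso_orth_ne hf hn w0 a0 hnot
  have hwu : f w0 u = 0 := uf_eq_zero_comm hf huw
  have h1 := good_self hf H hM u d huu hd
  have h2 := good_conj hf H h0 h1
  rw [uf_smul_left hf, huw, mul_zero, zero_smul, sub_zero] at h2
  refine ⟨_, _, h2, ?_, ?_, ?_⟩
  · rw [LinearIndependent.pair_iff]
    intro s t hst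
    have e1 : f (s • (u + f u a0 • w0) + t • d • u) a0 = 0 := by rw [hst, uf_zero_left hf]
    rw [uf_add_left hf, uf_smul_left hf, uf_add_left hf, uf_smul_left hf, uf_smul_left hf, uf_smul_left hf,
      hwa, mul_zero, add_zero] at e1
    have e2 : s + t * d = 0 := by
      have : (s + t * d) * f u a0 = 0 := by linear_combination e1
      rcases mul_eq_zero.1 this with h | h
      · exact h
      · exact absurd h hua
    have e3 : (s * f u a0) • w0 = 0 := by
      have : s • (u + f u a0 • w0) + t • d • u = (s + t * d) • u + (s * f u a0) • w0 := by module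
      rw [this, e2, zero_smul, zero_add] at hst
      exact hst
    have hs : s = 0 := by
      rcases smul_eq_zero.1 e3 with h | h
      · rcases mul_eq_zero.1 h with h' | h'
        · exact h'
        · exact absurd h' hua
      · exact absurd h hw0
    rw [hs, zero_add] at e2
    rcases mul_eq_zero.1 e2 with h | h
    · exact ⟨hs, h⟩
    · exact absurd h hd0
  · rw [uf_add_left hf, uf_add_right hf, uf_add_right hf, uf_smul_left hf, uf_smul_left hf, uf_smul_right hf,
      uf_smul_right hf, huu, huw, hwu, hiso]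
    ring
  · rw [uf_smul_smul hf, huu, mul_zero]

/-- Step 5 (a) -/
lemma step_5a (hn : 6 < Fintype.card ι) {w0 a0 : ι → F} (h0 : Good hf H w0 a0) (hw0 : w0 ≠ 0)
    (hnot : a0 ∉ Submodule.span F {w0}) :
    ∃ w a : ι → F, Good hf H w a ∧ LinearIndependent F ![w, a] ∧ f w w = 0 ∧ f a a = 0 := by
  obtain ⟨d, hd0, hd⟩ := exists_trace_zero hf
  have hwa : f w0 a0 = 0 := h0.1
  have hnot' : w0 ∉ Submodule.span F {a0} := by
    intro hmem
    obtain ⟨c, hc⟩ := Submodule.mem_span_singleton.1 hmem
    have hc0 : c ≠ 0 := by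
      rintro rfl
      rw [zero_smul] at hc
      exact hw0 hc.symm
    apply hnot
    rw [Submodule.mem_span_singleton]
    exact ⟨c⁻¹, by rw [← hc, smul_smul, inv_mul_cancel₀ hc0, one_smul]⟩
  obtain ⟨u, huu, hua, huw⟩ := exists_iso_orth_ne hf hn a0 w0 hnot'
  have h1 := good_self hf H hM u d huu hd
  have h2 := good_conj hf H h0 h1
  rw [hua, zero_smul, add_zero, uf_smul_left hf] at h2
  have hu0 : u ≠ 0 := by
    rintro rfl
    exact huw (uf_zero_left hf _)
  apply step_5a1 hf H hM hn h2 hu0 huu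
  intro hmem
  obtain ⟨c, hc⟩ := Submodule.mem_span_singleton.1 hmem
  have h3 : (d * f u w0) • a0 = (d - c) • u := by
    rw [sub_smul, hc]; abel
  have h4 : f w0 ((d * f u w0) • a0) = f w0 ((d - c) • u) := by rw [h3]
  rw [uf_smul_right hf, uf_smul_right hf, hwa, mul_zero] at h4
  have hw0u : f w0 u ≠ 0 := fun h => huw (uf_eq_zero_comm hf h)
  have h5 : d - c = 0 := by
    rcases mul_eq_zero.1 h4.symm with h | h
    · exact (map_eq_zero σ).1 h
    · exact absurd h hw0u
  rw [h5, zero_smul] at h3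
  have h6 : a0 = 0 := by
    rcases smul_eq_zero.1 h3 with h | h
    · exact absurd h (mul_ne_zero hd0 huw)
    · exact h
  apply hnot
  rw [h6]
  exact Submodule.zero_mem _

/-- Step 5 (b) -/
lemma step_5b (hn : 6 < Fintype.card ι) {w0 : ι → F} {e0 : F} (h0 : Good hf H w0 (e0 • w0)) (hw0 : w0 ≠ 0)
    (hiso : f w0 w0 = 0) (he0 : e0 + σ e0 ≠ 0) :
    ∃ w a : ι → F, Good hf H w a ∧ LinearIndependent F ![w, a] ∧ f w w = 0 ∧ f a a = 0 := by
  obtain ⟨d, hd0, hd⟩ := exists_trace_zero hf
  obtain ⟨u, huu, huw, _⟩ := exists_iso_both hf hn w0 w0 hw0 hw0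
  have h1 := good_self hf H hM u d huu hd
  have h2 := good_conj hf H h0 h1
  rw [uf_smul_right hf, uf_smul_left hf] at h2
  have key : ∀ c : F, f (u + c • w0) w0 = f u w0 := by
    intro c
    rw [uf_add_left hf, uf_smul_left hf, hiso, mul_zero, add_zero]
  apply step_5a hf H hM hn h2
  · intro h
    have := key (σ e0 * f u w0)
    rw [h, uf_zero_left hf] at this
    exact huw this.symm
  · intro hmem
    obtain ⟨c, hc⟩ := Submodule.mem_span_singleton.1 hmem
    have h3 : f (c • (u + (σ e0 * f u w0) • w0)) w0 = f (d • u - (d * f u w0) • e0 • w0) w0 := by rw [hc]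
    rw [uf_smul_left hf, key, uf_sub_left hf, uf_smul_left hf, uf_smul_left hf, uf_smul_left hf, hiso] at h3
    have hcd : c = d := by
      have : (c - d) * f u w0 = 0 := by linear_combination h3
      rcases mul_eq_zero.1 this with h | h
      · exact sub_eq_zero.1 h
      · exact absurd h huw
    rw [hcd] at hc
    have h4 : (d * f u w0 * (e0 + σ e0)) • w0 = 0 := by
      have e1 : d • (u + (σ e0 * f u w0) • w0) - (d • u - (d * f u w0) • e0 • w0) =
          (d * f u w0 * (e0 + σ e0)) • w0 := by module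
      rw [← e1, hc, sub_self]
    rcases smul_eq_zero.1 h4 with h | h
    · exact absurd h (mul_ne_zero (mul_ne_zero hd0 huw) he0)
    · exact absurd h hw0

/-- Step 4: a non-similarity in `H` produces a transvection in `H` which is not unitary -/
lemma step_4 (hn : 6 < Fintype.card ι) (h : Matrix.GeneralLinearGroup ι F) (hh : h ∈ H)
    (hns : h ∉ Geo.similarityGroup f) :
    ∃ w0 a0 : ι → F, Good hf H w0 a0 ∧ w0 ≠ 0 ∧ ¬ ∃ e : F, σ e = -e ∧ a0 = e • w0 := by
  by_contra hcon
  push_neg at hcon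
  obtain ⟨d, hd0, hd⟩ := exists_trace_zero hf
  have key1 : ∀ u : ι → F, f u u = 0 → u ≠ 0 → ∃ l : F, σ l = l ∧ l ≠ 0 ∧
      ∀ y, f ((h : Matrix ι ι F) *ᵥ y) ((h : Matrix ι ι F) *ᵥ u) = l * f y u := by
    intro u huu hu0
    obtain ⟨a, ha⟩ := uf_riesz hf ((ufL hf (d • u)).comp
      (Matrix.mulVecLin (((h⁻¹ : Matrix.GeneralLinearGroup ι F)) : Matrix ι ι F)))
    simp only [LinearMap.comp_apply, Matrix.mulVecLin_apply, ufL_apply] at ha
    have hwa : f ((h : Matrix ι ι F) *ᵥ u) a = 0 := by
      rw [ha, inv_mulVec_mulVec, uf_smul_right hf, huu, mul_zero]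
    have hgood : Good hf H ((h : Matrix ι ι F) *ᵥ u) a := by
      refine good_of_eq hf H hwa (h * UT hf u (d • u) (uf_self_smul hf u d huu) * h⁻¹)
        (H.mul_mem (H.mul_mem hh (good_self hf H hM u d huu hd).2) (H.inv_mem hh)) ?_
      intro x
      rw [Units.val_mul, Units.val_mul, ← Matrix.mulVec_mulVec, ← Matrix.mulVec_mulVec, UT_mulVec,
        Matrix.mulVec_add, Matrix.mulVec_smul, mulVec_inv_mulVec, ha]
    have hhu : (h : Matrix ι ι F) *ᵥ u ≠ 0 := by
      intro h0
      apply hu0
      rw [← inv_mulVec_mulVec h u, h0, Matrix.mulVec_zero]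
    obtain ⟨e, he, hae⟩ := hcon _ _ hgood hhu
    have hy : ∀ y, e * f ((h : Matrix ι ι F) *ᵥ y) ((h : Matrix ι ι F) *ᵥ u) = d * f y u := by
      intro y
      have := ha ((h : Matrix ι ι F) *ᵥ y)
      rw [inv_mulVec_mulVec, hae, uf_smul_right hf, uf_smul_right hf, he, hd] at this
      linear_combination -this
    have he0 : e ≠ 0 := by
      rintro rfl
      obtain ⟨y, hy0⟩ := uf_exists_ne hf u hu0
      have := hy y
      rw [zero_mul] at this
      exact (mul_ne_zero hd0 hy0) this.symm
    refine ⟨d / e, trace_zero_ratio hf hd he, div_ne_zero hd0 he0, fun y => ?_⟩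
    field_simp
    linear_combination hy y
  choose lam hlam1 hlam2 hlam3 using key1
  have key2 : ∀ (u u' : ι → F) (hu : f u u = 0) (hu' : f u' u' = 0) (hu0 : u ≠ 0) (hu0' : u' ≠ 0),
      f u u' ≠ 0 → lam u hu hu0 = lam u' hu' hu0' := by
    intro u u' hu hu' hu0 hu0' hne
    have e1 := hlam3 u' hu' hu0' u
    have e2 := hlam3 u hu hu0 u'
    rw [uf_herm hf, e2, map_mul, hlam1, ← uf_herm hf] at e1
    exact mul_right_cancel₀ hne e1
  obtain ⟨u0, y0, hu0u0, _, _, _, _, hu0y0⟩ := exists_iso_orth2 hf hn (0 : ι → F) 0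
  have hu00 : u0 ≠ 0 := by
    rintro rfl
    exact hu0y0 (uf_zero_left hf _)
  have key3 : ∀ (u : ι → F) (hu : f u u = 0) (hu0 : u ≠ 0), lam u hu hu0 = lam u0 hu0u0 hu00 := by
    intro u hu hu0
    obtain ⟨z, hzz, hzu, hzu0⟩ := exists_iso_both hf hn u u0 hu0 hu00
    have hz0 : z ≠ 0 := by
      rintro rfl
      exact hzu (uf_zero_left hf _)
    rw [← key2 z u hzz hu hz0 hu0 hzu, ← key2 z u0 hzz hu0u0 hz0 hu00 hzu0]
  have key4 : ∀ (u : ι → F), f u u = 0 → ∀ y,
      f ((h : Matrix ι ι F) *ᵥ y) ((h : Matrix ι ι F) *ᵥ u) = lam u0 hu0u0 hu00 * f y u := by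
    intro u hu y
    by_cases hu0 : u = 0
    · rw [hu0, Matrix.mulVec_zero, uf_zero_right hf, uf_zero_right hf, mul_zero]
    · rw [hlam3 u hu hu0 y, key3 u hu hu0]
  apply hns
  refine ⟨Units.mk0 _ (hlam2 u0 hu0u0 hu00), fun y x => ?_⟩
  rw [Units.val_mk0]
  obtain ⟨x1, x2, h1, h2, _, _, rfl⟩ := iso_sum hf (by omega) (0 : ι → F) x (uf_zero_right hf x)
  rw [Matrix.mulVec_add, uf_add_right hf, uf_add_right hf, key4 x1 h1 y, key4 x2 h2 y]
  ring

/-- the main step: an overgroup which is not contained in the similarity group contains all transvections -/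
theorem contains_trans_of_notMem (hn : 6 < Fintype.card ι) (h : Matrix.GeneralLinearGroup ι F) (hh : h ∈ H)
    (hns : h ∉ Geo.similarityGroup f) : ContainsTransvections H := by
  obtain ⟨w0, a0, hgood, hw0, hnot⟩ := step_4 hf H hM hn h hh hns
  have hTI : ∃ w a : ι → F, Good hf H w a ∧ LinearIndependent F ![w, a] ∧ f w w = 0 ∧ f a a = 0 := by
    by_cases hmem : a0 ∈ Submodule.span F {w0}
    · obtain ⟨e0, rfl⟩ := Submodule.mem_span_singleton.1 hmem
      have he0 : e0 + σ e0 ≠ 0 := by
        intro h0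
        apply hnot
        exact ⟨e0, by linear_combination h0, rfl⟩
      have he00 : e0 ≠ 0 := by
        rintro rfl
        apply he0
        rw [map_zero, add_zero]
      have hiso : f w0 w0 = 0 := by
        have := hgood.1
        rw [uf_smul_right hf] at this
        rcases mul_eq_zero.1 this with h1 | h1
        · exact absurd ((map_eq_zero σ).1 h1) he00
        · exact h1
      exact step_5b hf H hM hn hgood hw0 hiso he0
    · exact step_5a hf H hM hn hgood hw0 hmem
  obtain ⟨w, a, hg, hi, hw, ha⟩ := hTI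
  exact contains_trans hf H (fun w' a' hi' hw' ha' hwa' => step_C hf H hM (by omega) hg hi hw ha hi' hw' ha' hwa') hn

omit hM in
/-- the similarity group does not contain the special linear group -/
lemma exists_SL_not_sim (hn : 6 < Fintype.card ι) :
    ∃ g : Matrix.GeneralLinearGroup ι F, g ∈ Geo.specialLinear ι F ∧ g ∉ Geo.similarityGroup f := by
  obtain ⟨w, y0, hww, _, _, _, _, hwy0⟩ := exists_iso_orth2 hf hn (0 : ι → F) 0
  have hw0 : w ≠ 0 := by
    rintro rfl
    exact hwy0 (uf_zero_left hf _)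
  obtain ⟨e, he⟩ := Cfsg.Agent.Lib.Helper8.exists_trace_one (σ : F →+* F) (uf_sigma_ne hf) (uf_inv hf)
  have he' : e + σ e = 1 := he
  obtain ⟨z, hz⟩ := uf_exists_ne hf w hw0
  have hwz : f w z ≠ 0 := fun h => hz (uf_eq_zero_comm hf h)
  refine ⟨UT hf w (e • w) (uf_self_smul hf w e hww), UT_mem_SL hf _ _ _, ?_⟩
  rintro ⟨c, hc⟩
  have h1 := hc z w
  rw [UT_mulVec, UT_mulVec, uf_self_smul hf w e hww, zero_smul, add_zero, uf_add_left hf, uf_smul_left hf, hww,
    mul_zero, add_zero] at h1
  have hc1 : (c : F) = 1 := by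
    have : ((c : F) - 1) * f z w = 0 := by linear_combination -h1
    rcases mul_eq_zero.1 this with h | h
    · linear_combination h
    · exact absurd h hz
  have h2 := hc z z
  rw [UT_mulVec, uf_add_left hf, uf_add_right hf, uf_add_right hf, uf_smul_left hf, uf_smul_left hf,
    uf_smul_right hf, uf_smul_right hf, uf_smul_right hf, hww, hc1, map_mul, uf_inv hf, ← uf_herm hf w z] at h2
  have h3 : (e + σ e) * (f z w * f w z) = 0 := by linear_combination h2
  rw [he', one_mul] at h3
  exact (mul_ne_zero hz hwz) h3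

end umax

end Cfsg.Agent.Lib.Helper94
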