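import Cfsg.Agent.Lib.Helper94.UForm

set_option autoImplicit false

namespace Cfsg.Agent.Lib.Helper94

open scoped Matrix
open Cfsg

set_option linter.unusedSectionVars false
set_option linter.unnecessarySimpa false
set_option linter.style.haveILetI false
set_option linter.unusedVariables false

variable {F : Type*} [Field F]

section norm
variable (σ : F ≃+* F)

/-- the automorphism on units -/
def sigU : Fˣ →* Fˣ := Units.map (σ : F →* F)

lemma sigU_val (x : Fˣ) : ((sigU σ x : Fˣ) : F) = σ (x : F) := rfl

/-- the norm map on units -/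
def normU : Fˣ →* Fˣ := MonoidHom.id Fˣ * sigU σ

lemma normU_val (x : Fˣ) : ((normU σ x : Fˣ) : F) = (x : F) * σ (x : F) := rfl

/-- the Hilbert 90 map on units -/
def h90U : Fˣ →* Fˣ := MonoidHom.id Fˣ * (sigU σ)⁻¹

lemma h90U_val (x : Fˣ) : ((h90U σ x : Fˣ) : F) = (x : F) * (σ (x : F))⁻¹ := by
  show ((x * (sigU σ x)⁻¹ : Fˣ) : F) = _
  rw [Units.val_mul, Units.val_inv_eq_inv_val, sigU_val]

lemma mem_ker_h90U (x : Fˣ) : x ∈ (h90U σ).ker ↔ σ (x : F) = (x : F) := by
  rw [MonoidHom.mem_ker, Units.ext_iff, h90U_val, Units.val_one]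
  have hx : σ (x : F) ≠ 0 := by
    intro h0
    exact x.ne_zero ((map_eq_zero σ).1 h0)
  constructor
  · intro h
    field_simp at h
    exact h.symm
  · intro h
    rw [h]
    exact mul_inv_cancel₀ x.ne_zero

variable (hinv : ∀ a : F, σ (σ a) = a) (hne : ∃ θ : F, σ θ ≠ θ)
include hinv hne

lemma ker_normU_eq : (normU σ).ker = (h90U σ).range := by
  ext x
  rw [MonoidHom.mem_ker, MonoidHom.mem_range]
  constructor
  · intro hx
    have hx' : (x : F) * σ (x : F) = 1 := by
      have := congrArg (fun u : Fˣ => (u : F)) hx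
      simpa [normU_val] using this
    by_cases h1 : (1 : F) + (x : F) = 0
    · -- `x = -1`
      obtain ⟨θ, hθ⟩ := hne
      have hd : θ - σ θ ≠ 0 := sub_ne_zero.2 (Ne.symm hθ)
      refine ⟨Units.mk0 _ hd, ?_⟩
      rw [Units.ext_iff, h90U_val, Units.val_mk0, map_sub, hinv]
      have hx1 : (x : F) = -1 := by linear_combination h1
      rw [hx1]
      have hd' : σ θ - θ ≠ 0 := sub_ne_zero.2 hθ
      field_simp
      ring
    · refine ⟨Units.mk0 _ h1, ?_⟩
      rw [Units.ext_iff, h90U_val, Units.val_mk0, map_add, map_one]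
      have hσ : (1 : F) + σ (x : F) ≠ 0 := by
        intro h0
        apply h1
        have := congrArg σ h0
        rw [map_add, map_one, hinv, map_zero] at this
        exact this
      field_simp
      linear_combination -hx'
  · rintro ⟨y, rfl⟩
    rw [Units.ext_iff, normU_val, h90U_val, Units.val_one, map_mul, map_inv₀, hinv]
    have hy : σ (y : F) ≠ 0 := by
      intro h0
      exact y.ne_zero ((map_eq_zero σ).1 h0)
    field_simp

lemma range_normU_le : (normU σ).range ≤ (h90U σ).ker := by
  rintro x ⟨y, rfl⟩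
  rw [mem_ker_h90U, normU_val, map_mul, hinv, mul_comm]

/-- the norm is surjective onto the fixed field, for finite fields -/
theorem norm_surjective [Finite F] (t : F) (ht : σ t = t) (ht0 : t ≠ 0) : ∃ l : F, l * σ l = t := by
  haveI : Finite Fˣ := inferInstance
  have h1 := Subgroup.card_mul_index (normU σ).ker
  have h2 := Subgroup.index_ker (normU σ)
  have h3 := Subgroup.card_mul_index (h90U σ).ker
  have h4 := Subgroup.index_ker (h90U σ)
  rw [h2] at h1
  rw [h4] at h3
  rw [ker_normU_eq σ hinv hne] at h1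
  have hpos : 0 < Nat.card (h90U σ).range := Nat.card_pos
  have hcard : Nat.card (normU σ).range = Nat.card (h90U σ).ker := by
    have : Nat.card (h90U σ).range * Nat.card (normU σ).range =
        Nat.card (h90U σ).range * Nat.card (h90U σ).ker := by
      rw [h1, mul_comm, h3]
    exact Nat.eq_of_mul_eq_mul_left hpos this
  have heq : (normU σ).range = (h90U σ).ker :=
    Subgroup.eq_of_le_of_card_ge (range_normU_le σ hinv hne) (by rw [hcard])
  have hmem : Units.mk0 t ht0 ∈ (h90U σ).ker := by
    rw [mem_ker_h90U]; exact ht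
  rw [← heq] at hmem
  obtain ⟨y, hy⟩ := hmem
  refine ⟨(y : F), ?_⟩
  have := congrArg (fun u : Fˣ => (u : F)) hy
  simpa [normU_val] using this

end norm

end Cfsg.Agent.Lib.Helper94
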