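import Cfsg.Agent.Lib.Helper94.UNorm

set_option autoImplicit false

namespace Cfsg.Agent.Lib.Helper94

open scoped Matrix
open Cfsg

set_option linter.unusedSectionVars false
set_option linter.unnecessarySimpa false
set_option linter.style.haveILetI false
set_option linter.unusedVariables false

variable {ι : Type} [Fintype ι] [DecidableEq ι] {F : Type*} [Field F]

section uorth
variable {σ : F ≃+* F} {f : (ι → F) → (ι → F) → F} (hf : Geo.IsUnitaryForm σ f)
include hf

/-- the linear functional `x ↦ f x a` -/
noncomputable def ufL (a : ι → F) : (ι → F) →ₗ[F] F where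
  toFun x := f x a
  map_add' x y := uf_add_left hf x y a
  map_smul' c x := by simp only [RingHom.id_apply, smul_eq_mul]; exact uf_smul_left hf c x a

lemma ufL_apply (a x : ι → F) : ufL hf a x = f x a := rfl

/-- the orthogonal complement of a subspace -/
noncomputable def uperp (S : Submodule F (ι → F)) : Submodule F (ι → F) where
  carrier := {y | ∀ s ∈ S, f y s = 0}
  add_mem' := by
    intro a b ha hb s hs
    rw [uf_add_left hf, ha s hs, hb s hs, add_zero]
  zero_mem' := by
    intro s _
    exact uf_zero_left hf s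
  smul_mem' := by
    intro c a ha s hs
    rw [uf_smul_left hf, ha s hs, mul_zero]

lemma mem_uperp {S : Submodule F (ι → F)} {y : ι → F} : y ∈ uperp hf S ↔ ∀ s ∈ S, f y s = 0 := Iff.rfl

lemma orth_span {k : ℕ} (b : Fin k → (ι → F)) (y : ι → F) (h : ∀ i, f y (b i) = 0) :
    y ∈ uperp hf (Submodule.span F (Set.range b)) := by
  rw [mem_uperp]
  intro s hs
  induction hs using Submodule.span_induction with
  | mem x hx =>
    obtain ⟨i, rfl⟩ := hx
    exact h i
  | zero => exact uf_zero_right hf y
  | add x z _ _ hx hz => rw [uf_add_right hf, hx, hz, add_zero]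
  | smul c x _ hx => rw [uf_smul_right hf, hx, mul_zero]

/-- lower bound for the dimension of the orthogonal complement of a spanned subspace -/
lemma finrank_uperp_span_ge {k : ℕ} (b : Fin k → (ι → F)) :
    Fintype.card ι ≤ Module.finrank F (uperp hf (Submodule.span F (Set.range b))) + k := by
  let Φ : (ι → F) →ₗ[F] (Fin k → F) := LinearMap.pi (fun i => ufL hf (b i))
  have hker : LinearMap.ker Φ ≤ uperp hf (Submodule.span F (Set.range b)) := by
    intro y hy
    apply orth_span
    intro i
    have := congrFun (LinearMap.mem_ker.1 hy) i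
    exact this
  have h1 := LinearMap.finrank_range_add_finrank_ker Φ
  have h2 : Module.finrank F (LinearMap.range Φ) ≤ k := by
    have := Submodule.finrank_le (LinearMap.range Φ)
    rwa [Module.finrank_fin_fun] at this
  have h3 := Submodule.finrank_mono hker
  have h4 : Module.finrank F (ι → F) = Fintype.card ι := Module.finrank_fintype_fun_eq_card F
  omega

lemma uperp_uperp_le (S : Submodule F (ι → F)) : uperp hf (uperp hf S) ≤ S := by
  intro x hx
  by_contra hxS
  obtain ⟨u, hu, hxu⟩ := uf_exists_orth hf S x hxS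
  apply hxu
  apply (mem_uperp hf).1 hx u
  rw [mem_uperp]
  intro s hs
  exact uf_eq_zero_comm hf (hu s hs)

/-- polarisation -/
lemma uf_polarize (Y : Submodule F (ι → F)) (hY : ∀ y ∈ Y, f y y = 0) : ∀ y ∈ Y, ∀ y' ∈ Y, f y y' = 0 := by
  intro y hy y' hy'
  obtain ⟨θ, hθ⟩ := exists_moved hf
  have key : ∀ l : F, σ l * f y y' + l * σ (f y y') = 0 := by
    intro l
    have h1 := hY _ (Y.add_mem hy (Y.smul_mem l hy'))
    rw [uf_add_left hf, uf_add_right hf, uf_add_right hf, uf_smul_left hf, uf_smul_left hf, uf_smul_right hf,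
      uf_smul_right hf, hY y hy, hY y' hy'] at h1
    have h2 : f y' y = σ (f y y') := uf_herm hf y' y
    rw [h2] at h1
    linear_combination h1
  have k1 := key 1
  have k2 := key θ
  rw [map_one, one_mul, one_mul] at k1
  have h3 : (σ θ - θ) * f y y' = 0 := by linear_combination k2 - θ * k1
  rcases mul_eq_zero.1 h3 with h4 | h4
  · exact absurd (sub_eq_zero.1 h4) hθ
  · exact h4

/-- a nonisotropic vector orthogonal to a small family -/
lemma exists_nonisotropic_orth {k : ℕ} (b : Fin k → (ι → F)) (hk : 2 * k < Fintype.card ι) :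
    ∃ y, (∀ i, f y (b i) = 0) ∧ f y y ≠ 0 := by
  by_contra hcon
  push_neg at hcon
  set S := Submodule.span F (Set.range b) with hS
  have hiso : ∀ y ∈ uperp hf S, f y y = 0 := by
    intro y hy
    apply hcon
    intro i
    exact (mem_uperp hf).1 hy _ (Submodule.subset_span ⟨i, rfl⟩)
  have hti := uf_polarize hf (uperp hf S) hiso
  have hle : uperp hf S ≤ S := by
    refine le_trans ?_ (uperp_uperp_le hf S)
    intro y hy
    rw [mem_uperp]
    intro s hs
    exact hti y hy s hs
  have h1 := Submodule.finrank_mono hle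
  have h2 := finrank_uperp_span_ge hf b
  rw [← hS] at h2
  have h3 : Module.finrank F S ≤ k := by
    have := finrank_range_le_card (R := F) b
    rw [Fintype.card_fin] at this
    exact this
  omega

/-- a vector of prescribed norm orthogonal to a small family -/
lemma exists_norm_orth [Finite F] {k : ℕ} (b : Fin k → (ι → F)) (hk : 2 * k < Fintype.card ι) (t : F)
    (ht : σ t = t) (ht0 : t ≠ 0) : ∃ y, (∀ i, f y (b i) = 0) ∧ f y y = t := by
  obtain ⟨y0, hy0, hn0⟩ := exists_nonisotropic_orth hf b hk
  have hfix : σ (t / f y0 y0) = t / f y0 y0 := by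
    rw [map_div₀, ht, uf_self_fixed hf]
  obtain ⟨l, hl⟩ := norm_surjective σ (uf_inv hf) (exists_moved hf) (t / f y0 y0) hfix (div_ne_zero ht0 hn0)
  refine ⟨l • y0, fun i => ?_, ?_⟩
  · rw [uf_smul_left hf, hy0 i, mul_zero]
  · rw [uf_smul_left hf, uf_smul_right hf, ← mul_assoc, hl]
    field_simp

end uorth

end Cfsg.Agent.Lib.Helper94
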