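import Cfsg.Agent.Lib.Helper94.UIso
import Cfsg.Agent.Lib.Helper94.SympForm
import Cfsg.Agent.Lib.Helper94.OQMax

set_option autoImplicit false

namespace Cfsg.Agent.Lib.Helper94

open scoped Matrix
open Cfsg

set_option linter.unusedSectionVars false
set_option linter.unnecessarySimpa false
set_option linter.style.haveILetI false
set_option linter.unusedVariables false

variable {ι : Type} [Fintype ι] [DecidableEq ι] {F : Type*} [Field F]

section utrans
variable {σ : F ≃+* F} {f : (ι → F) → (ι → F) → F} (hf : Geo.IsUnitaryForm σ f)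
include hf

lemma exists_UT (w a : ι → F) (h : f w a = 0) :
    ∃ g : Matrix.GeneralLinearGroup ι F, (g : Matrix ι ι F).det = 1 ∧
      ∀ x, (g : Matrix ι ι F) *ᵥ x = x + f x a • w := by
  have h1 : (1 : F) + (ufL hf a) w ≠ 0 := by
    rw [ufL_apply, h, add_zero]; exact one_ne_zero
  obtain ⟨g, hg1, hg2⟩ := exists_rank_one (ufL hf a) w h1
  refine ⟨g, ?_, ?_⟩
  · rw [hg1, ufL_apply, h, add_zero]
  · intro x
    rw [hg2 x, ufL_apply]

/-- the transvection `x ↦ x + f x a • w` -/
noncomputable def UT (w a : ι → F) (h : f w a = 0) : Matrix.GeneralLinearGroup ι F :=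
  Classical.choose (exists_UT hf w a h)

lemma UT_det (w a : ι → F) (h : f w a = 0) : (UT hf w a h : Matrix ι ι F).det = 1 :=
  (Classical.choose_spec (exists_UT hf w a h)).1

lemma UT_mulVec (w a : ι → F) (h : f w a = 0) (x : ι → F) :
    (UT hf w a h : Matrix ι ι F) *ᵥ x = x + f x a • w :=
  (Classical.choose_spec (exists_UT hf w a h)).2 x

lemma UT_mem_SL (w a : ι → F) (h : f w a = 0) : UT hf w a h ∈ Geo.specialLinear ι F := by
  rw [mem_SL]; exact UT_det hf w a h

lemma UT_inv_mulVec (w a : ι → F) (h : f w a = 0) (x : ι → F) :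
    (((UT hf w a h)⁻¹ : Matrix.GeneralLinearGroup ι F) : Matrix ι ι F) *ᵥ x = x - f x a • w := by
  have h1 : (UT hf w a h : Matrix ι ι F) *ᵥ (x - f x a • w) = x := by
    rw [UT_mulVec, uf_sub_left hf, uf_smul_left hf, h, mul_zero, sub_zero]
    abel
  rw [← h1, inv_mulVec_mulVec, h1]

lemma uf_self_smul (u : ι → F) (e : F) (hu : f u u = 0) : f u (e • u) = 0 := by
  rw [uf_smul_right hf, hu, mul_zero]

/-- unitary transvections are isometries -/
lemma UT_self_isom (u : ι → F) (e : F) (hu : f u u = 0) (he : σ e = -e) :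
    IsIsom f (UT hf u (e • u) (uf_self_smul hf u e hu)) := by
  intro x y
  rw [UT_mulVec, UT_mulVec, uf_add_left hf, uf_add_right hf, uf_add_right hf, uf_smul_left hf, uf_smul_left hf,
    uf_smul_right hf, uf_smul_right hf, uf_smul_right hf, uf_smul_right hf, hu, map_mul, uf_inv hf,
    ← uf_herm hf u y, he]
  ring

section good
variable (H : Subgroup (Matrix.GeneralLinearGroup ι F))

/-- the transvection attached to the pair lies in `H` -/
def Good (w a : ι → F) : Prop := ∃ h : f w a = 0, UT hf w a h ∈ H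

lemma good_of_eq {w a : ι → F} (h : f w a = 0) (g : Matrix.GeneralLinearGroup ι F) (hg : g ∈ H)
    (hgx : ∀ x, (g : Matrix ι ι F) *ᵥ x = x + f x a • w) : Good hf H w a := by
  refine ⟨h, ?_⟩
  have : UT hf w a h = g := by
    apply GL_ext
    intro x
    rw [UT_mulVec, hgx]
  rw [this]; exact hg

lemma good_zero_right (w : ι → F) : Good hf H w 0 := by
  refine good_of_eq hf H (uf_zero_right hf w) 1 H.one_mem ?_
  intro x
  rw [Units.val_one, Matrix.one_mulVec, uf_zero_right hf, zero_smul, add_zero]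

lemma good_zero_left (a : ι → F) : Good hf H 0 a := by
  refine good_of_eq hf H (uf_zero_left hf a) 1 H.one_mem ?_
  intro x
  rw [Units.val_one, Matrix.one_mulVec, smul_zero, add_zero]

lemma good_add_right {w a a' : ι → F} (h1 : Good hf H w a) (h2 : Good hf H w a') : Good hf H w (a + a') := by
  obtain ⟨e1, g1⟩ := h1
  obtain ⟨e2, g2⟩ := h2
  refine good_of_eq hf H (by rw [uf_add_right hf, e1, e2, add_zero]) _ (H.mul_mem g1 g2) ?_
  intro x
  rw [Units.val_mul, ← Matrix.mulVec_mulVec, UT_mulVec, UT_mulVec, uf_add_left hf, uf_smul_left hf, e1,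
    uf_add_right hf]
  simp only [mul_zero, add_zero]
  module

lemma good_add_left {w w' a : ι → F} (h1 : Good hf H w a) (h2 : Good hf H w' a) : Good hf H (w + w') a := by
  obtain ⟨e1, g1⟩ := h1
  obtain ⟨e2, g2⟩ := h2
  refine good_of_eq hf H (by rw [uf_add_left hf, e1, e2, add_zero]) _ (H.mul_mem g1 g2) ?_
  intro x
  rw [Units.val_mul, ← Matrix.mulVec_mulVec, UT_mulVec, UT_mulVec, uf_add_left hf, uf_smul_left hf, e2,
    smul_add]
  simp only [mul_zero, add_zero]
  module

lemma good_neg_right {w a : ι → F} (h1 : Good hf H w a) : Good hf H w (-a) := by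
  obtain ⟨e1, g1⟩ := h1
  refine good_of_eq hf H (by rw [uf_neg_right hf, e1, neg_zero]) _ (H.inv_mem g1) ?_
  intro x
  rw [UT_inv_mulVec, uf_neg_right hf, neg_smul, sub_eq_add_neg]

/-- conjugation by an isometry in `H` -/
lemma good_isom {w a : ι → F} (h1 : Good hf H w a) {g : Matrix.GeneralLinearGroup ι F} (hg : g ∈ H)
    (hgi : IsIsom f g) : Good hf H ((g : Matrix ι ι F) *ᵥ w) ((g : Matrix ι ι F) *ᵥ a) := by
  obtain ⟨e1, g1⟩ := h1
  refine good_of_eq hf H (by rw [hgi]; exact e1) _ (H.mul_mem (H.mul_mem hg g1) (H.inv_mem hg)) ?_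
  intro x
  rw [Units.val_mul, Units.val_mul, ← Matrix.mulVec_mulVec, ← Matrix.mulVec_mulVec, UT_mulVec,
    Matrix.mulVec_add, Matrix.mulVec_smul, mulVec_inv_mulVec]
  congr 2
  rw [← hgi, mulVec_inv_mulVec]

/-- conjugation by a transvection in `H` -/
lemma good_conj {w0 a0 w a : ι → F} (h0 : Good hf H w0 a0) (h1 : Good hf H w a) :
    Good hf H (w + f w a0 • w0) (a - f a w0 • a0) := by
  obtain ⟨e0, g0⟩ := h0
  obtain ⟨e1, g1⟩ := h1
  have hσ : σ (f a w0) = f w0 a := (uf_herm hf w0 a).symm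
  refine good_of_eq hf H ?_ _ (H.mul_mem (H.mul_mem g0 g1) (H.inv_mem g0)) ?_
  · rw [uf_add_left hf, uf_sub_right hf, uf_sub_right hf, uf_smul_left hf, uf_smul_right hf, uf_smul_right hf,
      uf_smul_left hf, e0, e1, hσ]
    ring
  · intro x
    rw [Units.val_mul, Units.val_mul, ← Matrix.mulVec_mulVec, ← Matrix.mulVec_mulVec, UT_inv_mulVec, UT_mulVec,
      UT_mulVec, uf_add_left hf, uf_smul_left hf, uf_sub_left hf, uf_smul_left hf,
      uf_sub_left hf, uf_smul_left hf, e0, uf_sub_right hf, uf_smul_right hf, hσ]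
    simp only [mul_zero, sub_zero]
    module

end good

end utrans

end Cfsg.Agent.Lib.Helper94
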