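import Mathlib
import Cfsg.Agent.Lib.Helper94.Un11

set_option autoImplicit false

/-!
Combinatorics for the minus type: partitions all of whose parts are even.
-/

namespace Cfsg.Agent.Lib.Helper94.Un

set_option linter.unusedSectionVars false
set_option linter.unusedVariables false

theorem four_dvd_sum_of_all_even (ν : Multiset ℕ) (h : ∀ x ∈ ν, Even x)
    (hev : ∀ e, Even e → Even (ν.count e)) : 4 ∣ ν.sum := by
  rw [Finset.sum_multiset_count]
  apply Finset.dvd_sum
  intro x hx
  rw [Multiset.mem_toFinset] at hx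
  obtain ⟨r, hr⟩ := h x hx
  obtain ⟨s, hs⟩ := hev x (h x hx)
  rw [hs, smul_eq_mul]
  refine ⟨s * r, ?_⟩
  rw [hr]; ring

theorem all_even_case (p : ℕ) (hpodd : Odd p) (μ : Multiset ℕ) (m : ℕ)
    (hμ : ∀ e ∈ μ, 0 < e ∧ e ≤ p) (hev : ∀ e, Even e → Even (μ.count e))
    (hall : ∀ e ∈ μ, Even e) (hne : μ ≠ 0) (hm4 : 4 ∣ m)
    (Hreal : ∀ μ' : Multiset ℕ, (∀ e ∈ μ', 0 < e ∧ e ≤ p) →
      (∀ e, Even e → Even (μ'.count e)) → μ'.sum = μ.sum → (∃ c ∈ μ', Odd c) →
      ∃ ν' : Multiset ℕ, ν' ≤ μ' ∧ ν'.sum = m ∧ ∀ e, Even e → Even (ν'.count e)) :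
    ∃ ν : Multiset ℕ, ν ≤ μ ∧ ν.sum = m ∧ ∀ e, Even e → Even (ν.count e) := by
  classical
  obtain ⟨e, he⟩ := Multiset.exists_mem_of_ne_zero hne
  have hee : Even e := hall e he
  have hc2 : 2 ≤ μ.count e := by
    have h1 : 0 < μ.count e := Multiset.count_pos.mpr he
    obtain ⟨r, hr⟩ := hev e hee
    omega
  have he' : e ∈ μ.erase e := by
    rw [← Multiset.count_pos, Multiset.count_erase_self]
    omega
  set μ₀ := (μ.erase e).erase e with hμ₀
  have hμeq : μ = e ::ₘ e ::ₘ μ₀ := by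
    rw [hμ₀, Multiset.cons_erase he', Multiset.cons_erase he]
  have hμ₀le : μ₀ ≤ μ := by
    rw [hμeq]
    exact (Multiset.le_cons_self _ _).trans (Multiset.le_cons_self _ _)
  have hall₀ : ∀ x ∈ μ₀, Even x := fun x hx => hall x (Multiset.mem_of_le hμ₀le hx)
  obtain ⟨r, hr⟩ := hee
  have hepos : 0 < e := (hμ e he).1
  have hep : e + 1 ≤ p := by
    have h1 := (hμ e he).2
    obtain ⟨t, ht⟩ := hpodd
    omega
  have hne1 : e + 1 ≠ e - 1 := by omega
  have hodd1 : ¬ Even (e + 1) := by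
    rw [Nat.not_even_iff_odd]; exact ⟨r, by omega⟩
  have hodd2 : ¬ Even (e - 1) := by
    rw [Nat.not_even_iff_odd]; exact ⟨r - 1, by omega⟩
  set μ' := (e + 1) ::ₘ (e - 1) ::ₘ μ₀ with hμ'
  have hsum' : μ'.sum = μ.sum := by
    rw [hμ', hμeq]
    simp only [Multiset.sum_cons]
    omega
  obtain ⟨ν', hν'le, hν'sum, hν'ev⟩ := Hreal μ'
    (by
      intro x hx
      rw [hμ'] at hx
      rcases Multiset.mem_cons.mp hx with rfl | hx
      · omega
      · rcases Multiset.mem_cons.mp hx with rfl | hx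
        · omega
        · exact hμ x (Multiset.mem_of_le hμ₀le hx))
    (by
      intro x hx
      have h1 : x ≠ e + 1 := by rintro rfl; exact hodd1 hx
      have h3 : x ≠ e - 1 := by rintro rfl; exact hodd2 hx
      rw [hμ', Multiset.count_cons_of_ne h1, Multiset.count_cons_of_ne h3]
      by_cases hxe : x = e
      · subst hxe
        rw [hμ₀, Multiset.count_erase_self, Multiset.count_erase_self]
        obtain ⟨s, hs⟩ := hev x hx
        exact ⟨s - 1, by omega⟩
      · rw [hμ₀, Multiset.count_erase_of_ne hxe, Multiset.count_erase_of_ne hxe]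
        exact hev x hx)
    hsum'
    ⟨e + 1, by rw [hμ']; exact Multiset.mem_cons_self _ _, Nat.not_even_iff_odd.mp hodd1⟩
  -- split `ν'` into its even and odd parts
  set ν₀ := ν'.filter (fun x => Even x) with hν₀
  set α := ν'.filter (fun x => ¬ Even x) with hα
  have hsplit : ν₀ + α = ν' := Multiset.filter_add_not _ _
  have hν₀le : ν₀ ≤ μ₀ := by
    have h1 : ν₀ ≤ μ'.filter (fun x => Even x) := Multiset.filter_le_filter _ hν'le
    have h3 : μ'.filter (fun x => Even x) = μ₀ := by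
      rw [hμ', Multiset.filter_cons_of_neg _ hodd1, Multiset.filter_cons_of_neg _ hodd2,
        Multiset.filter_eq_self]
      exact hall₀
    rwa [h3] at h1
  have hν₀all : ∀ x ∈ ν₀, Even x := fun x hx => (Multiset.mem_filter.mp hx).2
  have hν₀ev : ∀ x, Even x → Even (ν₀.count x) := by
    intro x hx
    rw [hν₀, Multiset.count_filter_of_pos hx]
    exact hν'ev x hx
  have h4ν₀ := four_dvd_sum_of_all_even ν₀ hν₀all hν₀ev
  have hαmem : ∀ x ∈ α, x = e + 1 ∨ x = e - 1 := by
    intro x hx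
    obtain ⟨hx1, hx2⟩ := Multiset.mem_filter.mp hx
    have := Multiset.mem_of_le hν'le hx1
    rw [hμ'] at this
    rcases Multiset.mem_cons.mp this with h | h
    · left; exact h
    · rcases Multiset.mem_cons.mp h with h | h
      · right; exact h
      · exact absurd (hall₀ x h) hx2
  have hαsum := sum_of_le_two_values α α (e + 1) (e - 1) hne1 le_rfl hαmem
  have hcp : α.count (e + 1) ≤ 1 := by
    have h1 : α.count (e + 1) ≤ μ'.count (e + 1) :=
      Multiset.count_le_of_le _ ((Multiset.filter_le _ _).trans hν'le)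
    have h3 : μ'.count (e + 1) = 1 := by
      rw [hμ', Multiset.count_cons_self, Multiset.count_cons_of_ne hne1,
        Multiset.count_eq_zero_of_notMem (fun h => hodd1 (hall₀ _ h))]
    omega
  have hcm : α.count (e - 1) ≤ 1 := by
    have h1 : α.count (e - 1) ≤ μ'.count (e - 1) :=
      Multiset.count_le_of_le _ ((Multiset.filter_le _ _).trans hν'le)
    have h3 : μ'.count (e - 1) = 1 := by
      rw [hμ', Multiset.count_cons_of_ne hne1.symm, Multiset.count_cons_self,
        Multiset.count_eq_zero_of_notMem (fun h => hodd2 (hall₀ _ h))]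
    omega
  have hmsum : ν₀.sum + α.sum = m := by
    rw [← hν'sum, ← hsplit, Multiset.sum_add]
  obtain ⟨q4, hq4⟩ := h4ν₀
  obtain ⟨m4, hm4'⟩ := hm4
  -- the two possible cases
  have hcases : (α.count (e + 1) = 0 ∧ α.count (e - 1) = 0) ∨
      (α.count (e + 1) = 1 ∧ α.count (e - 1) = 1) := by
    have h1 : α.count (e + 1) = 0 ∨ α.count (e + 1) = 1 := by omega
    have h3 : α.count (e - 1) = 0 ∨ α.count (e - 1) = 1 := by omega
    rcases h1 with h1 | h1 <;> rcases h3 with h3 | h3
    · left; exact ⟨h1, h3⟩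
    · exfalso
      rw [h1, h3] at hαsum
      omega
    · exfalso
      rw [h1, h3] at hαsum
      omega
    · right; exact ⟨h1, h3⟩
  rcases hcases with ⟨h1, h3⟩ | ⟨h1, h3⟩
  · refine ⟨ν₀, hν₀le.trans hμ₀le, ?_, hν₀ev⟩
    rw [h1, h3] at hαsum
    omega
  · refine ⟨e ::ₘ e ::ₘ ν₀, ?_, ?_, ?_⟩
    · rw [hμeq]
      exact Multiset.cons_le_cons _ (Multiset.cons_le_cons _ hν₀le)
    · rw [h1, h3] at hαsum
      simp only [Multiset.sum_cons]
      omega
    · intro x hx
      by_cases hxe : x = e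
      · subst hxe
        rw [Multiset.count_cons_self, Multiset.count_cons_self]
        obtain ⟨s, hs⟩ := hν₀ev x hx
        exact ⟨s + 1, by omega⟩
      · rw [Multiset.count_cons_of_ne hxe, Multiset.count_cons_of_ne hxe]
        exact hν₀ev x hx

end Cfsg.Agent.Lib.Helper94.Un
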