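import Cfsg.Agent.Lib.Helper94.TensorOmega3
import Cfsg.Agent.S5656

set_option autoImplicit false

namespace Cfsg.Agent.Lib.Helper94

open scoped Matrix Kronecker
open Cfsg

set_option linter.unusedSectionVars false
set_option linter.unnecessarySimpa false
set_option linter.style.haveILetI false
set_option linter.unusedVariables false

section uform
variable {κ : Type} [Fintype κ] [DecidableEq κ] {F : Type*} [Field F]
variable (h2 : (2 : F) = 0) (h4 : ∀ x : F, x ^ 4 = x) {f : (κ → F) → (κ → F) → F}
  (hf : Geo.IsUnitaryFormPow 2 f)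

include h2 hf in
lemma uf4_add_right (u v v' : κ → F) : f u (v + v') = f u v + f u v' := by
  rw [hf.herm u (v + v'), hf.add_left, S5656.sq_add' h2, ← hf.herm, ← hf.herm]

include hf in
lemma uf4_smul_right (c : F) (u v : κ → F) : f u (c • v) = c ^ 2 * f u v := by
  rw [hf.herm u (c • v), hf.smul_left, mul_pow, ← hf.herm]

include hf in
lemma uf4_zero_left (v : κ → F) : f 0 v = 0 := by
  have := hf.smul_left 0 0 v
  simpa using this

include hf in
lemma uf4_zero_right (v : κ → F) : f v 0 = 0 := by
  have := uf4_smul_right hf 0 v 0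
  simpa using this

include hf in
lemma uf_self_01 (v : κ → F) : f v v = 0 ∨ f v v = 1 := by
  have := hf.herm v v
  have h : f v v * (f v v - 1) = 0 := by rw [mul_sub, mul_one, ← sq, ← this, sub_self]
  rcases mul_eq_zero.mp h with h | h
  · left; exact h
  · right; exact sub_eq_zero.mp h

include h2 hf in
lemma uf_isSesq : IsSesq (fun x : F => x ^ 2) f :=
  ⟨hf.add_left, hf.smul_left, fun v x y => uf4_add_right h2 hf v x y, fun c v x => uf4_smul_right hf c v x⟩

include h2 hf in
lemma uf_exists_nonisotropic [Nonempty κ] (hw : ∃ w : F, w ≠ 0 ∧ w ≠ 1) : ∃ a : κ → F, f a a = 1 := by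
  by_contra hcon
  push Not at hcon
  have hiso : ∀ a, f a a = 0 := by
    intro a
    rcases uf_self_01 hf a with h | h
    · exact h
    · exact absurd h (hcon a)
  have hsym : ∀ u v, f u v = (f u v) ^ 2 := by
    intro u v
    have := hiso (u + v)
    rw [hf.add_left, uf4_add_right h2 hf, uf4_add_right h2 hf, hiso u, hiso v, zero_add, add_zero,
      hf.herm v u] at this
    have h' := S5656.add_self' h2 (f u v ^ 2)
    linear_combination this - h'
  have hzero : ∀ u v, f u v = 0 := by
    intro u v
    by_contra hne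
    obtain ⟨w, hw0, hw1⟩ := hw
    have e1 := hsym u v
    have e2 := hsym (w • u) v
    rw [hf.smul_left] at e2
    have h1 : f u v = 1 := by
      have : f u v * (f u v - 1) = 0 := by linear_combination -e1
      rcases mul_eq_zero.mp this with h | h
      · exact absurd h hne
      · exact sub_eq_zero.mp h
    rw [h1, mul_one] at e2
    have : w * (w - 1) = 0 := by linear_combination -e2
    rcases mul_eq_zero.mp this with h | h
    · exact hw0 h
    · exact hw1 (sub_eq_zero.mp h)
  obtain ⟨i⟩ := ‹Nonempty κ›
  obtain ⟨⟨x, hx⟩, _⟩ := hf.nondegenerate (Pi.single i 1)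
    (by intro h; have := congrFun h i; simp at this)
  exact hx (hzero _ _)

include h2 hf in
/-- a nonzero isotropic vector in dimension at least two -/
lemma uf_exists_isotropic (hw : ∃ w : F, w ≠ 0 ∧ w ≠ 1) (hcard : 2 ≤ Fintype.card κ) :
    ∃ s : κ → F, s ≠ 0 ∧ f s s = 0 := by
  haveI : Nonempty κ := by
    rw [← Fintype.card_pos_iff]; omega
  obtain ⟨b, hb⟩ := uf_exists_nonisotropic h2 hf hw
  have hb0 : b ≠ 0 := by
    intro h; rw [h, uf4_zero_left hf] at hb; exact zero_ne_one hb
  have hlt : Submodule.span F {b} < ⊤ := by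
    rw [lt_top_iff_ne_top]
    intro heq
    have h1 := finrank_span_singleton (K := F) hb0
    rw [heq, finrank_top, Module.finrank_fintype_fun_eq_card] at h1
    omega
  obtain ⟨y, -, hyn⟩ := SetLike.exists_of_lt hlt
  obtain ⟨y', hy'⟩ : ∃ y', y' = y + (f y b) • b := ⟨_, rfl⟩
  have hperp : f y' b = 0 := by
    rw [hy', hf.add_left, hf.smul_left, hb, mul_one, S5656.add_self' h2]
  have hy'0 : y' ≠ 0 := by
    intro h
    apply hyn
    rw [Submodule.mem_span_singleton]
    refine ⟨f y b, ?_⟩
    have h' : y + (f y b) • b + (f y b) • b = (f y b) • b := by rw [← hy', h, zero_add]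
    rw [add_assoc, ← add_smul, S5656.add_self' h2, zero_smul, add_zero] at h'
    exact h'.symm
  rcases uf_self_01 hf y' with h | h
  · exact ⟨y', hy'0, h⟩
  · refine ⟨b + y', ?_, ?_⟩
    · intro h0
      have : f (b + y') b = 0 := by rw [h0, uf4_zero_left hf]
      rw [hf.add_left, hb, hperp, add_zero] at this
      exact one_ne_zero this
    · rw [hf.add_left, uf4_add_right h2 hf, uf4_add_right h2 hf, hb, h, hperp, hf.herm b y', hperp]
      have := S5656.add_self' h2 (1 : F)
      linear_combination this

section dim2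
variable (hcard : Fintype.card κ = 2)

include h2 hf hcard in
lemma uf_L1 {a z : κ → F} (haa : f a a ≠ 0) (hza : f z a = 0) (hzz : f z z = 0) : z = 0 := by
  by_contra hz0
  have hli : LinearIndependent F ![a, z] := by
    rw [LinearIndependent.pair_iff]
    intro α β hab
    have h1 : f (α • a + β • z) a = 0 := by rw [hab, uf4_zero_left hf]
    rw [hf.add_left, hf.smul_left, hf.smul_left, hza, mul_zero, add_zero] at h1
    have hα : α = 0 := by
      rcases mul_eq_zero.mp h1 with h | h
      · exact h
      · exact absurd h haa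
    subst hα
    rw [zero_smul, zero_add] at hab
    rcases smul_eq_zero.mp hab with h | h
    · exact ⟨rfl, h⟩
    · exact absurd h hz0
  have hspan : Submodule.span F (Set.range ![a, z]) = ⊤ := by
    apply Submodule.eq_top_of_finrank_eq
    rw [finrank_span_eq_card hli, Module.finrank_fintype_fun_eq_card, hcard]; simp
  obtain ⟨⟨x, hx⟩, _⟩ := hf.nondegenerate z hz0
  have hxW : x ∈ Submodule.span F (Set.range ![a, z]) := by rw [hspan]; exact Submodule.mem_top
  have hr : Set.range ![a, z] = {a, z} := by
    ext y; simp [eq_comm, or_comm]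
  rw [hr, Submodule.mem_span_pair] at hxW
  obtain ⟨α, β, rfl⟩ := hxW
  apply hx
  rw [hf.add_left, hf.smul_left, hf.smul_left, hzz, hf.herm a z, hza]
  simp

include h2 hf hcard in
lemma uf_exists_perp {a : κ → F} (haa : f a a = 1) : ∃ a', f a' a = 0 ∧ f a' a' = 1 := by
  have ha0 : a ≠ 0 := by
    intro h; rw [h, uf4_zero_left hf] at haa; exact zero_ne_one haa
  have hlt : Submodule.span F {a} < ⊤ := by
    rw [lt_top_iff_ne_top]
    intro heq
    have h1 := finrank_span_singleton (K := F) ha0
    rw [heq, finrank_top, Module.finrank_fintype_fun_eq_card] at h1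
    omega
  obtain ⟨w, -, hwn⟩ := SetLike.exists_of_lt hlt
  have hperp : f (w + (f w a) • a) a = 0 := by
    rw [hf.add_left, hf.smul_left, haa, mul_one, S5656.add_self' h2]
  refine ⟨w + (f w a) • a, hperp, ?_⟩
  rcases uf_self_01 hf (w + (f w a) • a) with h | h
  · exfalso
    have hz := uf_L1 h2 hf hcard (by rw [haa]; exact one_ne_zero) hperp h
    apply hwn
    rw [Submodule.mem_span_singleton]
    refine ⟨f w a, ?_⟩
    have h' : w + (f w a) • a + (f w a) • a = (f w a) • a := by rw [hz, zero_add]
    rw [add_assoc, ← add_smul, S5656.add_self' h2, zero_smul, add_zero] at h'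
    exact h'.symm
  · exact h

include h2 h4 hf hcard in
lemma uf_L2 {a x : κ → F} (haa : f a a = 1) (hxx : f x x ≠ 0) (hxa : f x a ≠ 0) : x = (f x a) • a := by
  have hxx1 : f x x = 1 := by
    rcases uf_self_01 hf x with h | h
    · exact absurd h hxx
    · exact h
  have hc := S5656.cube_one h4 hxa
  have hz : x + (f x a) • a = 0 := by
    apply uf_L1 h2 hf hcard (a := a) (by rw [haa]; exact one_ne_zero)
    · rw [hf.add_left, hf.smul_left, haa, mul_one, S5656.add_self' h2]
    · rw [hf.add_left, uf4_add_right h2 hf, uf4_add_right h2 hf, hf.smul_left, hf.smul_left, uf4_smul_right hf,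
        uf4_smul_right hf, haa, hxx1, hf.herm a x]
      have e2 := S5656.add_self' h2 (1 : F)
      have e3 := S5656.add_self' h2 (f x a ^ 3)
      linear_combination (1 : F) * hc + e2 + e3
  have h' : x + (f x a) • a + (f x a) • a = (f x a) • a := by rw [hz, zero_add]
  rw [add_assoc, ← add_smul, S5656.add_self' h2, zero_smul, add_zero] at h'
  exact h'

include h2 h4 hf hcard in
/-- the unique orthonormal frame of a two-dimensional unitary space over the field with four elements -/
lemma uf_frame (hw : ∃ w : F, w ≠ 0 ∧ w ≠ 1) :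
    ∃ a : Fin 2 → (κ → F), (∀ j, f (a j) (a j) = 1) ∧ (∀ j j', j ≠ j' → f (a j) (a j') = 0) ∧
      ∀ x, f x x ≠ 0 → ∃ (j : Fin 2) (k : F), x = k • a j := by
  haveI : Nonempty κ := by
    rw [← Fintype.card_pos_iff]; omega
  obtain ⟨a₀, h00⟩ := uf_exists_nonisotropic h2 hf hw
  obtain ⟨a₁, h10, h11⟩ := uf_exists_perp h2 hf hcard h00
  have h01 : f a₀ a₁ = 0 := by rw [hf.herm, h10]; simp
  refine ⟨![a₀, a₁], ?_, ?_, ?_⟩
  · intro j; fin_cases j
    · exact h00
    · exact h11
  · intro j j' hjj
    fin_cases j <;> fin_cases j'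
    · exact absurd rfl hjj
    · exact h01
    · exact h10
    · exact absurd rfl hjj
  · intro x hxx
    by_cases hx0 : f x a₀ = 0
    · by_cases hx1 : f x a₁ = 0
      · exfalso
        have hxx1 : f x x = 1 := by
          rcases uf_self_01 hf x with h | h
          · exact absurd h hxx
          · exact h
        have hy : f (x + a₀ + a₁) (x + a₀ + a₁) ≠ 0 := by
          rw [hf.add_left, hf.add_left, uf4_add_right h2 hf, uf4_add_right h2 hf, uf4_add_right h2 hf,
            uf4_add_right h2 hf, uf4_add_right h2 hf, uf4_add_right h2 hf, hxx1, hx0, hx1, h00, h01, h10, h11,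
            hf.herm a₀ x, hf.herm a₁ x, hx0, hx1]
          have := S5656.add_self' h2 (1 : F)
          intro h
          have : (1 : F) = 0 := by linear_combination h - this
          exact one_ne_zero this
        have hy0 : f (x + a₀ + a₁) a₀ ≠ 0 := by
          rw [hf.add_left, hf.add_left, hx0, h00, h10]; simp
        have := uf_L2 h2 h4 hf hcard h00 hy hy0
        rw [hf.add_left, hf.add_left, hx0, h00, h10, zero_add, add_zero, one_smul] at this
        -- x + a₀ + a₁ = a₀
        have hxa : x = a₁ := by
          have h' : x + a₀ + a₁ + (a₀ + a₁) = a₀ + (a₀ + a₁) := by rw [this]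
          have e1 : x + a₀ + a₁ + (a₀ + a₁) = x + ((a₀ + a₀) + (a₁ + a₁)) := by abel
          have e2 : a₀ + (a₀ + a₁) = (a₀ + a₀) + a₁ := by abel
          rw [e1, e2, S5656.vadd_self' h2, S5656.vadd_self' h2] at h'
          simpa using h'
        rw [hxa, h11] at hx1
        exact one_ne_zero hx1
      · exact ⟨1, f x a₁, uf_L2 h2 h4 hf hcard h11 hxx hx1⟩
    · exact ⟨0, f x a₀, uf_L2 h2 h4 hf hcard h00 hxx hx0⟩

end dim2

end uform

end Cfsg.Agent.Lib.Helper94
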