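import Cfsg.Agent.Lib.Helper94.DecompUtil

set_option autoImplicit false

namespace Cfsg.Agent.Lib.Helper94

open scoped Matrix
open Cfsg

set_option linter.unusedSectionVars false
set_option linter.unnecessarySimpa false
set_option linter.style.haveILetI false
set_option linter.unusedVariables false

variable {ι : Type} [Fintype ι] [DecidableEq ι] {F : Type*} [Field F]

lemma mem_SL (g : Matrix.GeneralLinearGroup ι F) :
    g ∈ Geo.specialLinear ι F ↔ (g : Matrix ι ι F).det = 1 := by
  unfold Geo.specialLinear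
  rw [MonoidHom.mem_ker, Units.ext_iff]
  rfl

lemma one_add_vecMulVec_mulVec' (v c x : ι → F) :
    (1 + Matrix.vecMulVec v c) *ᵥ x = x + (c ⬝ᵥ x) • v := by
  rw [Matrix.add_mulVec, Matrix.one_mulVec, Matrix.vecMulVec_mulVec]
  congr 1
  ext i
  simp [mul_comm, MulOpposite.smul_eq_mul_unop]

lemma det_one_add_vecMulVec'' (v c : ι → F) : (1 + Matrix.vecMulVec v c).det = 1 + c ⬝ᵥ v := by
  rw [Matrix.vecMulVec_eq Unit, Matrix.det_one_add_replicateCol_mul_replicateRow]

/-- rank one perturbations of the identity -/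
lemma exists_rank_one (lam : (ι → F) →ₗ[F] F) (v : ι → F) (hdet : 1 + lam v ≠ 0) :
    ∃ g : Matrix.GeneralLinearGroup ι F, (g : Matrix ι ι F).det = 1 + lam v ∧
      ∀ x, (g : Matrix ι ι F) *ᵥ x = x + lam x • v := by
  let c : ι → F := fun k => lam (fun j => if k = j then 1 else 0)
  have hc : ∀ x : ι → F, c ⬝ᵥ x = lam x := by
    intro x
    rw [LinearMap.pi_apply_eq_sum_univ lam x]
    simp only [dotProduct, c, smul_eq_mul]
    exact Finset.sum_congr rfl fun i _ => mul_comm _ _
  have hd : (1 + Matrix.vecMulVec v c).det = 1 + lam v := by rw [det_one_add_vecMulVec'', hc]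
  refine ⟨Matrix.GeneralLinearGroup.mkOfDetNeZero (1 + Matrix.vecMulVec v c) (by rw [hd]; exact hdet), ?_, ?_⟩
  · show (1 + Matrix.vecMulVec v c).det = _
    exact hd
  · intro x
    show (1 + Matrix.vecMulVec v c) *ᵥ x = _
    rw [one_add_vecMulVec_mulVec', hc]

section wt
variable {t : ℕ} (D : Fin t → Submodule F (ι → F)) (h : DirectSum.IsInternal D)

/-- the number of nonzero components, as an element of the field -/
noncomputable def wtF (x : ι → F) : F := by
  classical
  exact ∑ i, if compL D h i x = 0 then (0 : F) else 1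

lemma wtF_def (x : ι → F) [∀ i, Decidable (compL D h i x = 0)] :
    wtF D h x = ∑ i, if compL D h i x = 0 then (0 : F) else 1 := by
  unfold wtF
  apply Finset.sum_congr rfl
  intro i _
  congr

/-- the stabiliser of the weight function -/
noncomputable def wtStab : Subgroup (Matrix.GeneralLinearGroup ι F) where
  carrier := {g | ∀ x, wtF D h ((g : Matrix ι ι F) *ᵥ x) = wtF D h x}
  mul_mem' {a b} ha hb := by
    intro x
    rw [Units.val_mul, ← Matrix.mulVec_mulVec, ha, hb]
  one_mem' := by
    intro x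
    simp
  inv_mem' {a} ha := by
    intro x
    have := ha (((a⁻¹ : Matrix.GeneralLinearGroup ι F) : Matrix ι ι F) *ᵥ x)
    rw [mulVec_inv_mulVec] at this
    exact this.symm

lemma mem_wtStab (g : Matrix.GeneralLinearGroup ι F) :
    g ∈ wtStab D h ↔ ∀ x, wtF D h ((g : Matrix ι ι F) *ᵥ x) = wtF D h x := Iff.rfl

lemma decStab_le_wtStab : Geo.decompositionStabilizer D ≤ wtStab D h := by
  classical
  intro g hg
  obtain ⟨σ, hσ⟩ := (mem_decStab' D g).1 hg
  rw [mem_wtStab]
  intro x
  rw [wtF_def, wtF_def, ← Equiv.sum_comp σ]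
  apply Finset.sum_congr rfl
  intro i _
  rw [compL_perm D h g σ hσ i x]
  by_cases h0 : compL D h i x = 0
  · rw [h0, Matrix.mulVec_zero]
  · have : (g : Matrix ι ι F) *ᵥ (compL D h i x) ≠ 0 := by
      intro hh
      apply h0
      have := inv_mulVec_mulVec g (compL D h i x)
      rw [hh, Matrix.mulVec_zero] at this
      exact this.symm
    rw [if_neg this, if_neg h0]

/-- the weight of a vector of a block -/
lemma wtF_block {i : Fin t} {a : ι → F} (ha : a ∈ D i) (ha0 : a ≠ 0) : wtF D h a = 1 := by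
  classical
  rw [wtF_def, Finset.sum_eq_single i]
  · rw [compL_same D h ha, if_neg ha0]
  · intro j _ hji
    rw [compL_ne D h ha (Ne.symm hji), if_pos rfl]
  · simp

lemma wtF_block2 {i j : Fin t} (hij : i ≠ j) {a b : ι → F} (ha : a ∈ D i) (ha0 : a ≠ 0) (hb : b ∈ D j)
    (hb0 : b ≠ 0) : wtF D h (a + b) = 2 := by
  classical
  rw [wtF_def]
  have : ∀ k, (if compL D h k (a + b) = 0 then (0 : F) else 1) =
      (if k = i then 1 else 0) + (if k = j then 1 else 0) := by
    intro k
    rw [map_add]
    by_cases hki : k = i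
    · subst hki
      rw [compL_same D h ha, compL_ne D h hb (Ne.symm hij), add_zero, if_neg ha0, if_pos rfl, if_neg hij, add_zero]
    · by_cases hkj : k = j
      · subst hkj
        rw [compL_same D h hb, compL_ne D h ha (Ne.symm hki), zero_add, if_neg hb0, if_neg hki, if_pos rfl, zero_add]
      · rw [compL_ne D h ha (Ne.symm hki), compL_ne D h hb (Ne.symm hkj), add_zero, if_pos rfl, if_neg hki,
          if_neg hkj, add_zero]
  rw [Finset.sum_congr rfl (fun k _ => this k), Finset.sum_add_distrib, Finset.sum_ite_eq', Finset.sum_ite_eq']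
  simp
  norm_num

/-- some element of the special linear group does not preserve the weight -/
lemma exists_SL_not_wtStab {i j : Fin t} (hij : i ≠ j) {a b : ι → F} (ha : a ∈ D i) (ha0 : a ≠ 0) (hb : b ∈ D j)
    (hb0 : b ≠ 0) : ∃ g : Matrix.GeneralLinearGroup ι F, g ∈ Geo.specialLinear ι F ∧ g ∉ wtStab D h := by
  obtain ⟨k, hk⟩ : ∃ k, a k ≠ 0 := by
    by_contra hcon
    push Not at hcon
    exact ha0 (funext hcon)
  let lam : (ι → F) →ₗ[F] F := (a k)⁻¹ • ((LinearMap.proj k : (ι → F) →ₗ[F] F) ∘ₗ compL D h i)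
  have hla : lam a = 1 := by
    simp only [lam, LinearMap.smul_apply, LinearMap.comp_apply, compL_same D h ha, LinearMap.proj_apply, smul_eq_mul]
    exact inv_mul_cancel₀ hk
  have hlb : lam b = 0 := by
    simp only [lam, LinearMap.smul_apply, LinearMap.comp_apply, compL_ne D h hb (Ne.symm hij), LinearMap.proj_apply,
      smul_eq_mul, Pi.zero_apply, mul_zero]
  obtain ⟨g, hgd, hgx⟩ := exists_rank_one lam b (by rw [hlb, add_zero]; exact one_ne_zero)
  refine ⟨g, by rw [mem_SL, hgd, hlb, add_zero], ?_⟩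
  intro hmem
  have := (mem_wtStab D h g).1 hmem a
  rw [hgx, hla, one_smul, wtF_block2 D h hij ha ha0 hb hb0, wtF_block D h ha ha0] at this
  have h1 : (1 : F) = 0 := by linear_combination this
  exact one_ne_zero h1

end wt

end Cfsg.Agent.Lib.Helper94
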